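import Mathlib
import Cfsg.Prelude.Def_BrauerPairs
import Cfsg.Agent.Lib.Helper2_BP2

set_option autoImplicit false

namespace Cfsg.Agent.Lib.Helper2_BP3

open Cfsg Cfsg.Agent.Lib.Helper2_BlockLocal Cfsg.Agent.Lib.Helper2_BlockOm
  Cfsg.Agent.Lib.Helper2_BlockOsima Cfsg.Agent.Lib.Helper2_BlockBasic
  Cfsg.Agent.Lib.Helper2_BlockOrtho Cfsg.Agent.Lib.Helper2_BlockMinMax
  Cfsg.Agent.Lib.Helper2_BlockInd Cfsg.Agent.Lib.Helper2_BlockDefect
  Cfsg.Agent.Lib.Helper2_BlockPCore Cfsg.Agent.Lib.Helper2_BlockNormal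
  Cfsg.Agent.Lib.Helper2_BlockBrauer Cfsg.Agent.Lib.Helper2_BlockFMT
  Cfsg.Agent.Lib.Helper2_BrauerPairs Cfsg.Agent.Lib.Helper2_SecondMain
  Cfsg.Agent.Lib.Helper2_BP1 Cfsg.Agent.Lib.Helper2_BP2 Cfsg.Agent.Lib.Helper2_BlockCover2
  Cfsg.Agent.Lib.CharBasic Cfsg.Agent.Lib.CharOrtho
  Cfsg.Agent.Lib.CharComplete Cfsg.Agent.Lib.CharIntegral Cfsg.Agent.Lib.CharMore
  Cfsg.Agent.Lib.CharPerm Cfsg.Agent.Lib.CharInd
open scoped ComplexConjugate Classical

universe u

variable {M : Ideal AlgInt} {p : ℕ} {G : Type u} [Group G]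

theorem centralizer_anti {Q P : Subgroup G} (h : Q ≤ P) :
    Subgroup.centralizer (P : Set G) ≤ Subgroup.centralizer (Q : Set G) :=
  Subgroup.centralizer_le h

/-- invariance of the idempotent of a stable block -/
theorem inv_of_stabilizes [Finite G] {K L : Subgroup G} {f : Set (IrrCharacter K)}
    (h : ∀ x ∈ L, StabilizesBlock K f x) : Inv L (subgroupBlockCoeff K f) :=
  fun y hy x => (stabilizes_iff_inv.mp (h y hy)).2 x

/-- a stable block with nonzero Brauer image value has value one -/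
theorem bo_sbc_idem [Fintype G] (hM : IsPModular p M) {P K : Subgroup G} (hP : IsPGroup p P)
    (hCK : Subgroup.centralizer (P : Set G) ≤ K) {f : Set (IrrCharacter K)} (hf : IsPBlock M f)
    (hst : Inv P (subgroupBlockCoeff K f))
    (ξ : IrrCharacter (Subgroup.centralizer (P : Set G)))
    (h0 : ¬ MemLocalIdeal M (brauerOmega P (subgroupBlockCoeff K f) (ξ : _ → ℂ))) :
    MemLocalIdeal M (brauerOmega P (subgroupBlockCoeff K f) (ξ : _ → ℂ) - 1) := by
  have hPr := isPrime_of_modular hM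
  have hC := inv_mono hCK (sbc_inv K f)
  have h1 := bo_mul hM hP hst hst hC hC (sbc_ring hPr hf) (sbc_ring hPr hf) ξ
  rw [sbc_idem] at h1
  exact sub_one_ideal_of_idem hPr (bo_ring P hPr hC (sbc_ring hPr hf) ξ) h1 h0

theorem normal_subpair_exists [Fintype G] (hM : IsPModular p M) {P Q : Subgroup G}
    {e : Set (IrrCharacter (Subgroup.centralizer (P : Set G)))} (hPe : IsBrauerPair p M P e)
    (hQP : Q ≤ P) (hPN : P ≤ Subgroup.normalizer (Q : Set G)) :
    ∃ f : Set (IrrCharacter (Subgroup.centralizer (Q : Set G))), IsNormalSubpair p M Q f P e := by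
  have hPr := isPrime_of_modular hM
  obtain ⟨hP, he⟩ := id hPe
  obtain ⟨ξ, hξ⟩ := block_nonempty hPr he
  have hPK := hPN.trans (normalizer_le_normalizer_centralizer Q)
  have hCK := centralizer_anti hQP
  letI := actOn (Subgroup.centralizer (Q : Set G)) P hPK
  have hsmul : ∀ (c : P) (w : Set (IrrCharacter (Subgroup.centralizer (Q : Set G)))),
      c • w = mapBlock (conjAut (Subgroup.centralizer (Q : Set G)) c (hPK c.2)) w := fun _ _ => rfl
  set μ : Set (IrrCharacter (Subgroup.centralizer (Q : Set G))) → ℂ := fun f =>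
    brauerOmega P (subgroupBlockCoeff (Subgroup.centralizer (Q : Set G)) f) (ξ : _ → ℂ) with hμ
  set F : Set (IrrCharacter (Subgroup.centralizer (Q : Set G))) → ℂ := fun f =>
    if IsPBlock M f then μ f else 0 with hF
  have hblk : ∀ (c : P) (w : Set (IrrCharacter (Subgroup.centralizer (Q : Set G)))),
      IsPBlock M (c • w) ↔ IsPBlock M w := by
    intro c w
    constructor
    · intro h
      have := isPBlock_mapBlock (M := M)
        (conjAut (Subgroup.centralizer (Q : Set G)) (c⁻¹ : P) (hPK (c⁻¹ : P).2)) h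
      rw [← hsmul, inv_smul_smul] at this
      exact this
    · intro h
      rw [hsmul]
      exact isPBlock_mapBlock _ h
  have hinv : ∀ (c : P) (w : Set (IrrCharacter (Subgroup.centralizer (Q : Set G)))),
      F (c • w) = F w := by
    intro c w
    simp only [hF, hblk]
    split_ifs
    · simp only [hμ]
      apply bo_congr
      intro x hx
      rw [hsmul, sbc_conjAut]
      congr 1
      have := (Subgroup.mem_centralizer_iff.mp hx) c c.2
      rw [mul_assoc, ← this, ← mul_assoc, inv_mul_cancel, one_mul]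
    · rfl
  have hR : ∀ w, MemLocalRing M (F w) := by
    intro w
    simp only [hF]
    split_ifs with h
    · exact bo_ring P hPr (inv_mono hCK (sbc_inv _ w)) (sbc_ring hPr h) ξ
    · exact ring_zero hPr
  have h1 := sum_fixed hM (Q := P) hP F hinv hR
  have hsum : ∑ w, F w = 1 := by
    simp only [hF]
    rw [← Finset.sum_filter]
    have : (Finset.univ.filter fun w : Set (IrrCharacter (Subgroup.centralizer (Q : Set G))) =>
        IsPBlock M w) = blocks M (Subgroup.centralizer (Q : Set G)) := by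
      ext w
      simp [mem_blocks]
    rw [this]
    simp only [hμ]
    rw [← bo_sum, sum_sbc hPr, bo_deltaOne]
  rw [hsum] at h1
  have h2 : ∃ w : Set (IrrCharacter (Subgroup.centralizer (Q : Set G))),
      (∀ q : P, q • w = w) ∧ ¬ MemLocalIdeal M (F w) := by
    by_contra hcon
    push Not at hcon
    apply not_ideal_one hPr
    have h3 : MemLocalIdeal M (∑ w ∈ Finset.univ.filter
        (fun w : Set (IrrCharacter (Subgroup.centralizer (Q : Set G))) => ∀ q : P, q • w = w),
        F w) := by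
      apply ideal_sum hPr
      intro w hw
      simp only [Finset.mem_filter] at hw
      exact hcon w hw.2
    have := ideal_add hPr h1 h3
    simpa using this
  obtain ⟨f, hfix, hf0⟩ := h2
  have hfb : IsPBlock M f := by
    by_contra h
    apply hf0
    simp only [hF, if_neg h]
    exact ideal_zero hPr
  simp only [hF, if_pos hfb, hμ] at hf0
  have hst : ∀ x ∈ P, StabilizesBlock (Subgroup.centralizer (Q : Set G)) f x := by
    intro x hx
    rw [stabilizes_iff]
    exact ⟨hPK hx, hfix ⟨x, hx⟩⟩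
  refine ⟨f, ⟨hP.to_le hQP, hfb⟩, hPe, hQP, hPN, hst, ?_⟩
  intro ξ' hξ'
  have h3 := bo_sbc_idem hM hP hCK hfb (inv_of_stabilizes hst) ξ hf0
  have h4 := bo_sameBlock P hPr (inv_mono hCK (sbc_inv _ f)) (sbc_ring hPr hfb) he hξ' hξ
  exact ideal_sub_trans hPr h4 h3

theorem normal_subpair_unique [Fintype G] (hM : IsPModular p M) {P Q : Subgroup G}
    {e : Set (IrrCharacter (Subgroup.centralizer (P : Set G)))}
    {f f' : Set (IrrCharacter (Subgroup.centralizer (Q : Set G)))}
    (h : IsNormalSubpair p M Q f P e) (h' : IsNormalSubpair p M Q f' P e) : f = f' := by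
  have hPr := isPrime_of_modular hM
  obtain ⟨⟨-, hf⟩, ⟨hP, he⟩, hQP, hPN, hst, hb⟩ := h
  obtain ⟨⟨-, hf'⟩, -, -, -, hst', hb'⟩ := h'
  obtain ⟨ξ, hξ⟩ := block_nonempty hPr he
  have hCK := centralizer_anti hQP
  by_contra hne
  have hdis : ∀ χ, χ ∈ f → χ ∉ f' := fun χ h1 h2 => hne (block_eq_of_mem hPr hf hf' h1 h2)
  have h1 := bo_mul hM hP (inv_of_stabilizes hst) (inv_of_stabilizes hst')
    (inv_mono hCK (sbc_inv _ f)) (inv_mono hCK (sbc_inv _ f')) (sbc_ring hPr hf)
    (sbc_ring hPr hf') ξ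
  rw [sbc_conv_disjoint _ hdis, bo_zero, zero_sub] at h1
  have h2 := hb ξ hξ
  have h3 := hb' ξ hξ
  apply not_ideal_one hPr
  set a := brauerOmega P (subgroupBlockCoeff (Subgroup.centralizer (Q : Set G)) f) (ξ : _ → ℂ)
  set b := brauerOmega P (subgroupBlockCoeff (Subgroup.centralizer (Q : Set G)) f') (ξ : _ → ℂ)
  have hbR : MemLocalRing M b := bo_ring P hPr (inv_mono hCK (sbc_inv _ f')) (sbc_ring hPr hf') ξ
  have h4 := ideal_mul_right hPr h2 hbR
  have h5 := ideal_add hPr (ideal_add hPr h1 h4) h3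
  have : -(a * b) + (a - 1) * b + (b - 1) = -1 := by ring
  rw [this] at h5
  have := ideal_neg h5
  simpa using this

end Cfsg.Agent.Lib.Helper2_BP3
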