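import Mathlib
import Cfsg.Prelude.Def_BrauerPairs
import Cfsg.Agent.Lib.Helper2_BP3

set_option autoImplicit false

namespace Cfsg.Agent.Lib.Helper2_BP4

open Cfsg Cfsg.Agent.Lib.Helper2_BlockLocal Cfsg.Agent.Lib.Helper2_BlockOm
  Cfsg.Agent.Lib.Helper2_BlockOsima Cfsg.Agent.Lib.Helper2_BlockBasic
  Cfsg.Agent.Lib.Helper2_BlockOrtho Cfsg.Agent.Lib.Helper2_BlockMinMax
  Cfsg.Agent.Lib.Helper2_BlockInd Cfsg.Agent.Lib.Helper2_BlockDefect
  Cfsg.Agent.Lib.Helper2_BlockPCore Cfsg.Agent.Lib.Helper2_BlockNormal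
  Cfsg.Agent.Lib.Helper2_BlockBrauer Cfsg.Agent.Lib.Helper2_BlockFMT
  Cfsg.Agent.Lib.Helper2_BrauerPairs Cfsg.Agent.Lib.Helper2_SecondMain
  Cfsg.Agent.Lib.Helper2_BP1 Cfsg.Agent.Lib.Helper2_BP2 Cfsg.Agent.Lib.Helper2_BP3
  Cfsg.Agent.Lib.Helper2_BlockCover2
  Cfsg.Agent.Lib.CharBasic Cfsg.Agent.Lib.CharOrtho
  Cfsg.Agent.Lib.CharComplete Cfsg.Agent.Lib.CharIntegral Cfsg.Agent.Lib.CharMore
  Cfsg.Agent.Lib.CharPerm Cfsg.Agent.Lib.CharInd
open scoped ComplexConjugate Classical

universe u

variable {M : Ideal AlgInt} {p : ℕ} {G : Type u} [Group G]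

theorem inv_sub {L : Subgroup G} {c d : G → ℂ} (hc : Inv L c) (hd : Inv L d) : Inv L (c - d) :=
  fun y hy x => by simp only [Pi.sub_apply, hc y hy x, hd y hy x]

theorem inv_add {L : Subgroup G} {c d : G → ℂ} (hc : Inv L c) (hd : Inv L d) : Inv L (c + d) :=
  fun y hy x => by simp only [Pi.add_apply, hc y hy x, hd y hy x]

theorem inv_smul {L : Subgroup G} (r : ℂ) {c : G → ℂ} (hc : Inv L c) : Inv L (r • c) :=
  fun y hy x => by simp only [Pi.smul_apply, hc y hy x]

theorem inv_sum {L : Subgroup G} {ι : Type*} (s : Finset ι) (f : ι → G → ℂ)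
    (h : ∀ i ∈ s, Inv L (f i)) : Inv L (∑ i ∈ s, f i) := by
  intro y hy x
  simp only [Finset.sum_apply]
  exact Finset.sum_congr rfl fun i hi => h i hi y hy x

theorem inv_ext_restrict {L K : Subgroup G} (hL : L ≤ Subgroup.normalizer (K : Set G))
    {a : G → ℂ} (ha : Inv L a) : Inv L (extendByZero K (fun k : K => a k)) := by
  intro y hy x
  have hn := Subgroup.mem_normalizer_iff.mp (hL hy) x
  by_cases hx : x ∈ K
  · rw [extendByZero_mem K _ hx, extendByZero_mem K _ (hn.mp hx)]
    exact ha y hy x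
  · rw [extendByZero_not_mem K _ hx, extendByZero_not_mem K _ (fun h => hx (hn.mpr h))]

theorem ext_deltaOne (K : Subgroup G) (r : ℂ) :
    extendByZero K (deltaOne r : K → ℂ) = (deltaOne r : G → ℂ) := by
  funext g
  unfold deltaOne
  by_cases hg : g ∈ K
  · rw [extendByZero_mem K _ hg]
    have : (⟨g, hg⟩ : K) = 1 ↔ g = 1 := by
      constructor
      · intro h; exact congrArg Subtype.val h
      · intro h; exact Subtype.ext h
    simp only [this]
  · rw [extendByZero_not_mem K _ hg, if_neg]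
    rintro rfl
    exact hg K.one_mem

theorem pw_ext [Fintype G] (K : Subgroup G) [Fintype K] (c : K → ℂ) (n : ℕ) :
    pw (extendByZero K c) n = extendByZero K (pw c n) := by
  induction n with
  | zero => exact (ext_deltaOne K 1).symm
  | succ n ih =>
    change conv (extendByZero K c) (pw (extendByZero K c) n) = extendByZero K (conv c (pw c n))
    rw [ih, conv_ext]

theorem ext_sub (K : Subgroup G) (c d : K → ℂ) :
    extendByZero K (c - d) = extendByZero K c - extendByZero K d := by
  funext g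
  by_cases hg : g ∈ K
  · simp [extendByZero_mem K _ hg]
  · simp [extendByZero_not_mem K _ hg]

theorem ext_smul (K : Subgroup G) (r : ℂ) (c : K → ℂ) :
    extendByZero K (r • c) = r • extendByZero K c := by
  funext g
  by_cases hg : g ∈ K
  · simp [extendByZero_mem K _ hg]
  · simp [extendByZero_not_mem K _ hg]

/-- Compatibility of the Brauer functionals along a normal inclusion of Brauer pairs. -/
theorem bo_transfer [Fintype G] (hM : IsPModular p M) {P Q : Subgroup G}
    {e : Set (IrrCharacter (Subgroup.centralizer (P : Set G)))}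
    {f : Set (IrrCharacter (Subgroup.centralizer (Q : Set G)))}
    (h : IsNormalSubpair p M Q f P e) {a : G → ℂ} (haP : Inv P a)
    (haC : Inv (Subgroup.centralizer (Q : Set G)) a) (haR : ∀ g, MemLocalRing M (a g))
    {ξ : IrrCharacter (Subgroup.centralizer (P : Set G))} (hξ : ξ ∈ e)
    {θ : IrrCharacter (Subgroup.centralizer (Q : Set G))} (hθ : θ ∈ f) :
    MemLocalIdeal M (brauerOmega P a (ξ : _ → ℂ) - brauerOmega Q a (θ : _ → ℂ)) := by
  have hPr := isPrime_of_modular hM
  obtain ⟨⟨hQ, hf⟩, ⟨hP, he⟩, hQP, hPN, hst, hb⟩ := h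
  have hPK := hPN.trans (normalizer_le_normalizer_centralizer Q)
  have hCK := centralizer_anti hQP
  haveI : Fintype (Subgroup.centralizer (Q : Set G)) := Fintype.ofFinite _
  set ε := subgroupBlockCoeff (Subgroup.centralizer (Q : Set G)) f with hε
  have hεR : ∀ g, MemLocalRing M (ε g) := sbc_ring hPr hf
  have hεP : Inv P ε := inv_of_stabilizes hst
  have hεK : Inv (Subgroup.centralizer (Q : Set G)) ε := sbc_inv _ f
  have hεC := inv_mono hCK hεK
  have haCP := inv_mono hCK haC
  set s := brauerOmega Q a (θ : _ → ℂ) with hs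
  have hsR : MemLocalRing M s := bo_ring Q hPr haC haR θ
  set aK : Subgroup.centralizer (Q : Set G) → ℂ := fun k => a k with haK
  have haKc : IsClassFunction _ aK := restrict_classFunction_of_inv haC
  have haKR : ∀ k, MemLocalRing M (aK k) := fun k => haR _
  set c' := conv aK (blockCoeff f) with hc'
  have hc'c : IsClassFunction _ c' := conv_classFunction haKc (blockCoeff_classFunction f)
  have hc'R : ∀ k, MemLocalRing M (c' k) := conv_ring hPr haKR (osima_block hPr hf)
  -- step 1
  have h1 := bo_mul hM hP haP hεP haCP hεC haR hεR ξ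
  have h1' : MemLocalIdeal M (brauerOmega P (conv a ε) (ξ : _ → ℂ) - brauerOmega P a (ξ : _ → ℂ)) := by
    have h2 := ideal_mul_left hPr (bo_ring P hPr haCP haR ξ) (hb ξ hξ)
    have := ideal_add hPr h1 h2
    convert this using 1
    ring
  -- step 2
  have h2 : MemLocalIdeal M (brauerOmega P (conv a ε) (ξ : _ → ℂ) -
      brauerOmega P (extendByZero _ c') (ξ : _ → ℂ)) := by
    rw [← bo_sub]
    apply bo_ideal P hPr (inv_sub (conv_inv haCP hεC) (inv_mono hCK (ext_inv _ hc'c)))
    intro g hg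
    have hgK := hCK hg
    have h3 := brauer_mul hM hQ le_rfl (inv_mono hQP haP) (inv_mono hQP hεP) haR hεR
      (⟨g, hgK⟩ : Subgroup.centralizer (Q : Set G))
    rw [trunc_centralizer, trunc_centralizer, trunc_centralizer] at h3
    have e1 : (fun x : Subgroup.centralizer (Q : Set G) => ε (x : G)) = blockCoeff f :=
      funext fun x => sbc_coe _ f x
    rw [e1] at h3
    simp only [Pi.sub_apply]
    rw [extendByZero_mem _ _ hgK]
    exact h3
  -- step 3
  set c'' := c' - s • blockCoeff f with hc''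
  have hc''c : IsClassFunction _ c'' :=
    classFunction_sub hc'c (classFunction_smul s (blockCoeff_classFunction f))
  have hc''R : ∀ k, MemLocalRing M (c'' k) := fun k =>
    ring_sub hPr (hc'R k) (ring_mul hPr hsR (osima_block hPr hf k))
  have hO : ∀ θ' : IrrCharacter (Subgroup.centralizer (Q : Set G)),
      MemLocalIdeal M (Om c'' (θ' : _ → ℂ)) := by
    intro θ'
    rw [hc'', Om_sub, Om_smul, hc', Om_conv (blockCoeff_classFunction f) θ'.2, Om_blockCoeff]
    by_cases hθ' : θ' ∈ f
    · rw [if_pos hθ', mul_one, mul_one, hs, bo_eq]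
      exact Om_congr hPr haKc haKR (irr_classFunction θ') (irr_classFunction θ)
        (sameBlock_of_mem hPr hf hθ' hθ)
    · rw [if_neg hθ', mul_zero, mul_zero, sub_zero]
      exact ideal_zero hPr
  obtain ⟨n, hn⟩ := exists_pw_ideal hM hc''c hc''R hO
  have hext : extendByZero _ c' = conv (extendByZero _ aK) ε := by
    rw [hε, sbc_eq_ext, conv_ext]
  have hc'P : Inv P (extendByZero _ c') := by
    rw [hext]
    exact conv_inv (inv_ext_restrict hPK haP) hεP
  have hC'' : extendByZero _ c'' = extendByZero _ c' - s • ε := by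
    rw [hc'', ext_sub, ext_smul, hε, sbc_eq_ext]
  have h3 : MemLocalIdeal M (brauerOmega P (extendByZero _ c'') (ξ : _ → ℂ)) := by
    apply bo_ideal_of_pw hM hP _ (inv_mono hCK (ext_inv _ hc''c)) (ext_ring _ hPr hc''R) ξ (n := n)
    · intro g
      rw [pw_ext]
      by_cases hg : g ∈ Subgroup.centralizer (Q : Set G)
      · rw [extendByZero_mem _ _ hg]; exact hn _
      · rw [extendByZero_not_mem _ _ hg]; exact ideal_zero hPr
    · rw [hC'']
      exact inv_sub hc'P (inv_smul s hεP)
  rw [hC'', bo_sub, bo_smul] at h3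
  have h4 := ideal_mul_left hPr hsR (hb ξ hξ)
  -- combine
  have h5 := ideal_add hPr (ideal_add hPr (ideal_sub hPr h2 h1') h3) h4
  convert h5 using 1
  ring

end Cfsg.Agent.Lib.Helper2_BP4
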