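import Mathlib
import Cfsg.Prelude.Def_BrauerPairs
import Cfsg.Agent.Lib.Helper2_BP4
import Cfsg.Agent.Lib.Helper4_Syl

set_option autoImplicit false

namespace Cfsg.Agent.Lib.Helper2_BP5

open Cfsg Cfsg.Agent.Lib.Helper2_BlockLocal Cfsg.Agent.Lib.Helper2_BlockOm
  Cfsg.Agent.Lib.Helper2_BlockOsima Cfsg.Agent.Lib.Helper2_BlockBasic
  Cfsg.Agent.Lib.Helper2_BlockOrtho Cfsg.Agent.Lib.Helper2_BlockMinMax
  Cfsg.Agent.Lib.Helper2_BlockInd Cfsg.Agent.Lib.Helper2_BlockDefect
  Cfsg.Agent.Lib.Helper2_BlockPCore Cfsg.Agent.Lib.Helper2_BlockNormal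
  Cfsg.Agent.Lib.Helper2_BlockBrauer Cfsg.Agent.Lib.Helper2_BlockFMT
  Cfsg.Agent.Lib.Helper2_BrauerPairs Cfsg.Agent.Lib.Helper2_SecondMain
  Cfsg.Agent.Lib.Helper2_BP1 Cfsg.Agent.Lib.Helper2_BP2 Cfsg.Agent.Lib.Helper2_BP3
  Cfsg.Agent.Lib.Helper2_BP4
  Cfsg.Agent.Lib.Helper2_BlockCover2
  Cfsg.Agent.Lib.CharBasic Cfsg.Agent.Lib.CharOrtho
  Cfsg.Agent.Lib.CharComplete Cfsg.Agent.Lib.CharIntegral Cfsg.Agent.Lib.CharMore
  Cfsg.Agent.Lib.CharPerm Cfsg.Agent.Lib.CharInd
open scoped ComplexConjugate Classical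
open Relation

universe u

variable {M : Ideal AlgInt} {p : ℕ} {G : Type u} [Group G]

theorem rtg_le {a b : BrauerPairIdx G} (h : ReflTransGen (NormalSubpairRel p M) a b) :
    a.1 ≤ b.1 := by
  induction h with
  | refl => exact le_rfl
  | tail _ hbc ih => exact ih.trans hbc.2.2.1

theorem rtg_isBrauerPair {a b : BrauerPairIdx G} (h : ReflTransGen (NormalSubpairRel p M) a b)
    (ha : IsBrauerPair p M a.1 a.2) : IsBrauerPair p M b.1 b.2 := by
  induction h with
  | refl => exact ha
  | tail _ hbc _ => exact hbc.2.1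

theorem rtg_isBrauerPair' {a b : BrauerPairIdx G} (h : ReflTransGen (NormalSubpairRel p M) a b)
    (hb : IsBrauerPair p M b.1 b.2) : IsBrauerPair p M a.1 a.2 := by
  induction h using ReflTransGen.head_induction_on with
  | refl => exact hb
  | head hac _ _ => exact hac.1

/-- the Brauer functionals on class functions agree along an inclusion of Brauer pairs -/
theorem bo_transfer_rtg [Fintype G] (hM : IsPModular p M) {a b : BrauerPairIdx G}
    (h : ReflTransGen (NormalSubpairRel p M) a b) (ha : IsBrauerPair p M a.1 a.2)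
    {c : G → ℂ} (hc : IsClassFunction G c) (hcR : ∀ g, MemLocalRing M (c g)) :
    ∀ ξ ∈ b.2, ∀ θ ∈ a.2,
      MemLocalIdeal M (brauerOmega b.1 c (ξ : _ → ℂ) - brauerOmega a.1 c (θ : _ → ℂ)) := by
  have hPr := isPrime_of_modular hM
  induction h with
  | refl =>
    intro ξ hξ θ hθ
    exact bo_sameBlock _ hPr (inv_of_classFunction hc _) hcR ha.2 hξ hθ
  | tail hab hbc ih =>
    intro ξ hξ θ hθ
    obtain ⟨θ', hθ'⟩ := block_nonempty hPr hbc.1.2
    have h1 := bo_transfer hM hbc (inv_of_classFunction hc _) (inv_of_classFunction hc _) hcR hξ hθ'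
    exact ideal_sub_trans hPr h1 (ih θ' hθ' θ hθ)

theorem brauerPairOf_iff_of_le [Fintype G] (hM : IsPModular p M) {P Q : Subgroup G}
    {e : Set (IrrCharacter (Subgroup.centralizer (P : Set G)))}
    {f : Set (IrrCharacter (Subgroup.centralizer (Q : Set G)))}
    (hPe : IsBrauerPair p M P e) (hQf : IsBrauerPair p M Q f) (hle : SubpairLE p M Q f P e)
    {B : Set (IrrCharacter G)} (hB : IsPBlock M B) :
    IsBrauerPairOf p M B P e ↔ IsBrauerPairOf p M B Q f := by
  have hPr := isPrime_of_modular hM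
  have key := bo_transfer_rtg hM hle hQf (blockCoeff_classFunction B) (osima_block hPr hB)
  obtain ⟨ξ0, hξ0⟩ := block_nonempty hPr hPe.2
  obtain ⟨θ0, hθ0⟩ := block_nonempty hPr hQf.2
  constructor
  · rintro ⟨-, -, h⟩
    refine ⟨hQf, hB, fun θ hθ => ?_⟩
    exact ideal_sub_trans hPr (ideal_sub_comm (key ξ0 hξ0 θ hθ)) (h ξ0 hξ0)
  · rintro ⟨-, -, h⟩
    refine ⟨hPe, hB, fun ξ hξ => ?_⟩
    exact ideal_sub_trans hPr (key ξ hξ θ0 hθ0) (h θ0 hθ0)

theorem eq_of_normal_same [Finite G] (hM : M.IsPrime) {P : Subgroup G}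
    {g e : Set (IrrCharacter (Subgroup.centralizer (P : Set G)))}
    (h : IsNormalSubpair p M P g P e) : g = e := by
  obtain ⟨⟨-, hg⟩, ⟨-, he⟩, -, -, -, hb⟩ := h
  obtain ⟨ξ, hξ⟩ := block_nonempty hM he
  have h1 := hb ξ hξ
  rw [bo_sbc] at h1
  have hmem : ξ ∈ g := by
    by_contra hn
    rw [if_neg hn, zero_sub] at h1
    apply not_ideal_one hM
    have := ideal_neg h1
    simpa using this
  exact block_eq_of_mem hM hg he hmem hξ

theorem rtg_cases [Finite G] (hM : M.IsPrime) {a b : BrauerPairIdx G}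
    (h : ReflTransGen (NormalSubpairRel p M) a b) :
    a = b ∨ ∃ c : BrauerPairIdx G, c.1 < b.1 ∧ ReflTransGen (NormalSubpairRel p M) a c ∧
      NormalSubpairRel p M c b := by
  induction h with
  | refl => exact Or.inl rfl
  | @tail b' b hab hbc ih =>
    by_cases heq : b'.1 = b.1
    · obtain ⟨R, g⟩ := b'
      obtain ⟨P, e⟩ := b
      simp only at heq
      subst heq
      have : g = e := eq_of_normal_same hM hbc
      subst this
      exact ih
    · exact Or.inr ⟨b', lt_of_le_of_ne hbc.2.2.1 heq, hab, hbc⟩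

/-- the Brauer functional and conjugation by a normalizing element -/
theorem bo_conjAut [Finite G] (R : Subgroup G) (u : G)
    (hu : u ∈ Subgroup.normalizer ((Subgroup.centralizer (R : Set G) : Subgroup G) : Set G))
    (c : G → ℂ) (ξ : IrrCharacter (Subgroup.centralizer (R : Set G))) :
    brauerOmega R (fun g => c (u⁻¹ * g * u))
      ((mapIrr (conjAut (Subgroup.centralizer (R : Set G)) u hu) ξ : IrrCharacter _) : _ → ℂ) =
    brauerOmega R c (ξ : _ → ℂ) := by
  haveI : Fintype (Subgroup.centralizer (R : Set G)) := Fintype.ofFinite _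
  rw [bo_eq, bo_eq]
  unfold Om
  have h1 : ((mapIrr (conjAut (Subgroup.centralizer (R : Set G)) u hu) ξ : IrrCharacter _) :
      Subgroup.centralizer (R : Set G) → ℂ) 1 = (ξ : Subgroup.centralizer (R : Set G) → ℂ) 1 := by
    conv_lhs => rw [← map_one (conjAut (Subgroup.centralizer (R : Set G)) u hu), mapIrr_apply]
  rw [h1]
  congr 1
  rw [← Equiv.sum_comp (conjAut (Subgroup.centralizer (R : Set G)) u hu).toEquiv]
  refine Finset.sum_congr rfl fun x _ => ?_
  simp only [MulEquiv.toEquiv_eq_coe, EquivLike.coe_coe]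
  rw [mapIrr_apply, conjAut_coe]
  congr 2
  group

theorem normalSubpair_conj [Finite G] {S R : Subgroup G}
    {h1 : Set (IrrCharacter (Subgroup.centralizer (S : Set G)))}
    {g : Set (IrrCharacter (Subgroup.centralizer (R : Set G)))}
    (h : IsNormalSubpair p M S h1 R g) {u : G} (huS : u ∈ Subgroup.normalizer (S : Set G))
    (huR : u ∈ Subgroup.normalizer (R : Set G)) :
    IsNormalSubpair p M S
      (mapBlock (conjAut _ u (normalizer_le_normalizer_centralizer S huS)) h1) R
      (mapBlock (conjAut _ u (normalizer_le_normalizer_centralizer R huR)) g) := by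
  obtain ⟨⟨hS, hh1⟩, ⟨hR, hg⟩, hSR, hRN, hst, hb⟩ := h
  refine ⟨⟨hS, isPBlock_mapBlock _ hh1⟩, ⟨hR, isPBlock_mapBlock _ hg⟩, hSR, hRN, ?_, ?_⟩
  · intro x hx
    rw [stabilizes_iff_inv]
    refine ⟨normalizer_le_normalizer_centralizer S (hRN hx), fun g' => ?_⟩
    rw [sbc_conjAut, sbc_conjAut]
    have hx' : u⁻¹ * x * u ∈ R := (conj_mem_iff huR x).mpr hx
    have := (stabilizes_iff_inv.mp (hst _ hx')).2 (u⁻¹ * g' * u)
    rw [← this]
    congr 1
    group
  · rintro _ ⟨ξ, hξ, rfl⟩
    have e1 : subgroupBlockCoeff (Subgroup.centralizer (S : Set G))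
        (mapBlock (conjAut _ u (normalizer_le_normalizer_centralizer S huS)) h1) =
        fun g' => subgroupBlockCoeff (Subgroup.centralizer (S : Set G)) h1 (u⁻¹ * g' * u) :=
      funext fun g' => sbc_conjAut _ _ _ _ _
    rw [e1, bo_conjAut]
    exact hb ξ hξ

/-- transitivity of normal inclusion when the smallest group is normalized by the largest -/
theorem normalSubpair_trans [Fintype G] (hM : IsPModular p M) {S R P : Subgroup G}
    {h1 : Set (IrrCharacter (Subgroup.centralizer (S : Set G)))}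
    {g : Set (IrrCharacter (Subgroup.centralizer (R : Set G)))}
    {e : Set (IrrCharacter (Subgroup.centralizer (P : Set G)))}
    (h : IsNormalSubpair p M S h1 R g) (h' : IsNormalSubpair p M R g P e)
    (hPS : P ≤ Subgroup.normalizer (S : Set G)) : IsNormalSubpair p M S h1 P e := by
  have hPr := isPrime_of_modular hM
  have hst : ∀ x ∈ P, StabilizesBlock (Subgroup.centralizer (S : Set G)) h1 x := by
    intro x hx
    have h2 := normalSubpair_conj h (hPS hx) (h'.2.2.2.1 hx)
    obtain ⟨hx', e1⟩ := stabilizes_iff.mp (h'.2.2.2.2.1 x hx)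
    rw [e1] at h2
    rw [stabilizes_iff]
    exact ⟨_, normal_subpair_unique hM h2 h⟩
  refine ⟨h.1, h'.2.1, h.2.2.1.trans h'.2.2.1, hPS, hst, ?_⟩
  intro ξ hξ
  obtain ⟨θ, hθ⟩ := block_nonempty hPr h.2.1.2
  have h3 := bo_transfer hM h' (inv_of_stabilizes hst)
    (inv_mono (centralizer_anti h.2.2.1) (sbc_inv _ h1)) (sbc_ring hPr h.1.2) hξ hθ
  exact ideal_sub_trans hPr h3 (h.2.2.2.2.2 θ hθ)

theorem subpair_exists [Fintype G] [Fact p.Prime] (hM : IsPModular p M) (n : ℕ) :
    ∀ {P Q : Subgroup G} {e : Set (IrrCharacter (Subgroup.centralizer (P : Set G)))},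
    IsBrauerPair p M P e → Q ≤ P → Nat.card P - Nat.card Q ≤ n →
    ∃ f : Set (IrrCharacter (Subgroup.centralizer (Q : Set G))), SubpairLE p M Q f P e := by
  induction n with
  | zero =>
    intro P Q e hPe hQP hn
    have : Q = P := Subgroup.eq_of_le_of_card_ge hQP (by omega)
    subst this
    exact ⟨e, ReflTransGen.refl⟩
  | succ n ih =>
    intro P Q e hPe hQP hn
    by_cases hne : Q = P
    · subst hne
      exact ⟨e, ReflTransGen.refl⟩
    · obtain ⟨x, hxP, hxQ, hxN⟩ :=
        Cfsg.Agent.Lib.Helper4_Syl.exists_mem_normalizer_not_mem hPe.1 hQP hne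
      set Q1 := P ⊓ Subgroup.normalizer (Q : Set G) with hQ1
      have hQQ1 : Q ≤ Q1 := le_inf hQP Subgroup.le_normalizer
      have hlt : Nat.card Q < Nat.card Q1 := by
        by_contra hcon
        have : Q = Q1 := Subgroup.eq_of_le_of_card_ge hQQ1 (by omega)
        apply hxQ
        rw [this]
        exact ⟨hxP, hxN⟩
      have hle1 : Nat.card Q1 ≤ Nat.card P := Subgroup.card_le_of_le inf_le_left
      obtain ⟨f1, hf1⟩ := ih (Q := Q1) hPe inf_le_left (by omega)
      have hQ1f1 : IsBrauerPair p M Q1 f1 := rtg_isBrauerPair' hf1 hPe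
      obtain ⟨f, hf⟩ := normal_subpair_exists hM hQ1f1 hQQ1 inf_le_right
      exact ⟨f, ReflTransGen.head (show NormalSubpairRel p M ⟨Q, f⟩ ⟨Q1, f1⟩ from hf) hf1⟩

theorem normalizer_inf_le (R R' : Subgroup G) :
    Subgroup.normalizer (R : Set G) ⊓ Subgroup.normalizer (R' : Set G) ≤
      Subgroup.normalizer ((R ⊓ R' : Subgroup G) : Set G) := by
  rintro x ⟨h1, h2⟩
  rw [Subgroup.mem_normalizer_iff]
  intro g
  have a1 := Subgroup.mem_normalizer_iff.mp h1 g
  have a2 := Subgroup.mem_normalizer_iff.mp h2 g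
  rw [Subgroup.mem_inf, Subgroup.mem_inf, a1, a2]

theorem subpair_unique [Fintype G] [Fact p.Prime] (hM : IsPModular p M) (n : ℕ) :
    ∀ (b : BrauerPairIdx G), Nat.card b.1 ≤ n → IsBrauerPair p M b.1 b.2 →
    ∀ (Q : Subgroup G) (f f' : Set (IrrCharacter (Subgroup.centralizer (Q : Set G)))),
    ReflTransGen (NormalSubpairRel p M) ⟨Q, f⟩ b → ReflTransGen (NormalSubpairRel p M) ⟨Q, f'⟩ b →
    f = f' := by
  have hPr := isPrime_of_modular hM
  induction n with
  | zero =>
    intro b hb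
    exact absurd hb (by have := Nat.card_pos (α := b.1); omega)
  | succ n ih =>
    intro b hbn hb Q f f' h1 h2
    rcases rtg_cases hPr h1 with h1 | ⟨c, hc, h1a, h1b⟩
    · rcases rtg_cases hPr h2 with h2 | ⟨c', hc', h2a, h2b⟩
      · have := h1.trans h2.symm
        simpa using this
      · exfalso
        have h3 := rtg_le h2a
        have h4 : Q = b.1 := congrArg Sigma.fst h1
        simp only at h3
        rw [h4] at h3
        exact absurd hc' (not_lt_of_ge h3)
    · rcases rtg_cases hPr h2 with h2 | ⟨c', hc', h2a, h2b⟩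
      · exfalso
        have h3 := rtg_le h1a
        have h4 : Q = b.1 := congrArg Sigma.fst h2
        simp only at h3
        rw [h4] at h3
        exact absurd hc (not_lt_of_ge h3)
      · obtain ⟨P, e⟩ := b
        obtain ⟨R, g⟩ := c
        obtain ⟨R', g'⟩ := c'
        simp only at hc hc' hbn hb
        have h1b' : IsNormalSubpair p M R g P e := h1b
        have h2b' : IsNormalSubpair p M R' g' P e := h2b
        have hPS : P ≤ Subgroup.normalizer ((R ⊓ R' : Subgroup G) : Set G) :=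
          (le_inf h1b'.2.2.2.1 h2b'.2.2.2.1).trans (normalizer_inf_le R R')
        obtain ⟨h, hh⟩ := normal_subpair_exists hM hb (inf_le_left.trans hc.le) hPS
        obtain ⟨k1, hk1⟩ := normal_subpair_exists hM h1b'.1 (inf_le_left : R ⊓ R' ≤ R)
          (hc.le.trans hPS)
        obtain ⟨k2, hk2⟩ := normal_subpair_exists hM h2b'.1 (inf_le_right : R ⊓ R' ≤ R')
          (hc'.le.trans hPS)
        have e1 : k1 = h := normal_subpair_unique hM (normalSubpair_trans hM hk1 h1b' hPS) hh
        have e2 : k2 = h := normal_subpair_unique hM (normalSubpair_trans hM hk2 h2b' hPS) hh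
        subst e1
        subst e2
        have hQS : Q ≤ R ⊓ R' := le_inf (rtg_le h1a) (rtg_le h2a)
        obtain ⟨f'', hf''⟩ := subpair_exists hM _ hh.1 hQS le_rfl
        have hcard : ∀ {R0 : Subgroup G}, R0 < P → Nat.card R0 ≤ n := by
          intro R0 hR0
          by_contra hcon
          have : R0 = P := Subgroup.eq_of_le_of_card_ge hR0.le (by omega)
          exact hR0.ne this
        have a1 := ih ⟨R, g⟩ (hcard hc) h1b'.1 Q f f'' h1a (ReflTransGen.tail hf'' hk1)
        have a2 := ih ⟨R', g'⟩ (hcard hc') h2b'.1 Q f' f'' h2a (ReflTransGen.tail hf'' hk2)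
        rw [a1, a2]

end Cfsg.Agent.Lib.Helper2_BP5
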