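import Mathlib
import Cfsg.Prelude.Def_BrauerPairs
import Cfsg.Agent.Lib.Helper2_BP5

set_option autoImplicit false

namespace Cfsg.Agent.Lib.Helper2_BP6

open Cfsg Cfsg.Agent.Lib.Helper2_BlockLocal Cfsg.Agent.Lib.Helper2_BlockOm
  Cfsg.Agent.Lib.Helper2_BlockOsima Cfsg.Agent.Lib.Helper2_BlockBasic
  Cfsg.Agent.Lib.Helper2_BlockOrtho Cfsg.Agent.Lib.Helper2_BlockMinMax
  Cfsg.Agent.Lib.Helper2_BlockInd Cfsg.Agent.Lib.Helper2_BlockDefect
  Cfsg.Agent.Lib.Helper2_BlockPCore Cfsg.Agent.Lib.Helper2_BlockNormal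
  Cfsg.Agent.Lib.Helper2_BlockBrauer Cfsg.Agent.Lib.Helper2_BlockFMT
  Cfsg.Agent.Lib.Helper2_BrauerPairs Cfsg.Agent.Lib.Helper2_SecondMain
  Cfsg.Agent.Lib.Helper2_BP1 Cfsg.Agent.Lib.Helper2_BP2 Cfsg.Agent.Lib.Helper2_BP3
  Cfsg.Agent.Lib.Helper2_BP4 Cfsg.Agent.Lib.Helper2_BP5
  Cfsg.Agent.Lib.Helper2_BlockCover2
  Cfsg.Agent.Lib.CharBasic Cfsg.Agent.Lib.CharOrtho
  Cfsg.Agent.Lib.CharComplete Cfsg.Agent.Lib.CharIntegral Cfsg.Agent.Lib.CharMore
  Cfsg.Agent.Lib.CharPerm Cfsg.Agent.Lib.CharInd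
open scoped ComplexConjugate Classical
open Relation

universe u

variable {M : Ideal AlgInt} {p : ℕ} {G : Type u} [Group G]

/-- indicator of the `L`-conjugacy class of `y` -/
noncomputable def clL (L : Subgroup G) (y : G) : G → ℂ :=
  fun g => if ∃ n ∈ L, n * y * n⁻¹ = g then 1 else 0

theorem clL_inv (L : Subgroup G) (y : G) : Inv L (clL L y) := by
  intro m hm g
  unfold clL
  have : (∃ n ∈ L, n * y * n⁻¹ = m * g * m⁻¹) ↔ ∃ n ∈ L, n * y * n⁻¹ = g := by
    constructor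
    · rintro ⟨n, hn, e⟩
      refine ⟨m⁻¹ * n, L.mul_mem (L.inv_mem hm) hn, ?_⟩
      calc m⁻¹ * n * y * (m⁻¹ * n)⁻¹ = m⁻¹ * (n * y * n⁻¹) * m := by group
        _ = g := by rw [e]; group
    · rintro ⟨n, hn, rfl⟩
      exact ⟨m * n, L.mul_mem hm hn, by group⟩
  simp only [this]

theorem clL_ring (hM : M.IsPrime) (L : Subgroup G) (y g : G) : MemLocalRing M (clL L y g) := by
  unfold clL
  split_ifs
  · exact ring_one hM
  · exact ring_zero hM

/-- `L`-conjugacy on a subgroup -/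
def conjSetoid (L K : Subgroup G) : Setoid K where
  r x x' := ∃ n ∈ L, n * (x : G) * n⁻¹ = x'
  iseqv := {
    refl := fun x => ⟨1, L.one_mem, by simp⟩
    symm := by
      rintro x x' ⟨n, hn, e⟩
      exact ⟨n⁻¹, L.inv_mem hn, by rw [← e]; group⟩
    trans := by
      rintro x x' x'' ⟨n, hn, e⟩ ⟨m, hm, e'⟩
      exact ⟨m * n, L.mul_mem hm hn, by rw [← e', ← e]; group⟩ }

theorem bo_ideal_of_classes [Finite G] (hM : M.IsPrime) {P L : Subgroup G}
    (hCL : Subgroup.centralizer (P : Set G) ≤ L) {c : G → ℂ} (hc : Inv L c)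
    (hcR : ∀ g, MemLocalRing M (c g)) (ξ : IrrCharacter (Subgroup.centralizer (P : Set G)))
    (h : ∀ y ∈ Subgroup.centralizer (P : Set G), MemLocalIdeal M (c y) ∨
      MemLocalIdeal M (brauerOmega P (clL L y) (ξ : _ → ℂ))) :
    MemLocalIdeal M (brauerOmega P c (ξ : _ → ℂ)) := by
  haveI : Fintype (Subgroup.centralizer (P : Set G)) := Fintype.ofFinite _
  rw [bo_eq]
  unfold Om
  rw [Finset.sum_div, Finset.sum_partition (conjSetoid L (Subgroup.centralizer (P : Set G)))]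
  apply ideal_sum hM
  intro xbar hx
  obtain ⟨y0, -, rfl⟩ := Finset.mem_image.mp hx
  have e1 : ∑ y ∈ Finset.univ.filter (fun y : Subgroup.centralizer (P : Set G) =>
      (Quotient.mk (conjSetoid L (Subgroup.centralizer (P : Set G))) y) = Quotient.mk _ y0),
      c y * (ξ : Subgroup.centralizer (P : Set G) → ℂ) y /
        (ξ : Subgroup.centralizer (P : Set G) → ℂ) 1 =
      c y0 * brauerOmega P (clL L y0) (ξ : _ → ℂ) := by
    rw [bo_eq]
    unfold Om
    rw [Finset.sum_div, Finset.mul_sum, Finset.sum_filter]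
    refine Finset.sum_congr rfl fun y _ => ?_
    by_cases hy : (Quotient.mk (conjSetoid L (Subgroup.centralizer (P : Set G))) y) =
        Quotient.mk _ y0
    · rw [if_pos hy]
      obtain ⟨n, hn, e⟩ : ∃ n ∈ L, n * (y0 : G) * n⁻¹ = y := Quotient.exact hy.symm
      have h1 : clL L (y0 : G) (y : G) = 1 := by
        unfold clL; rw [if_pos ⟨n, hn, e⟩]
      have h2 : c y = c y0 := by rw [← e, hc n hn]
      beta_reduce
      rw [h1, h2]
      ring
    · rw [if_neg hy]
      have h1 : clL L (y0 : G) (y : G) = 0 := by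
        unfold clL
        rw [if_neg]
        rintro ⟨n, hn, e⟩
        apply hy
        exact (Quotient.sound (s := conjSetoid L (Subgroup.centralizer (P : Set G)))
          (show (conjSetoid L _).r y0 y from ⟨n, hn, e⟩)).symm
      beta_reduce
      rw [h1]
      ring
  rw [e1]
  have hR := bo_ring P hM (inv_mono hCL (clL_inv L (y0 : G))) (clL_ring hM L y0) ξ
  rcases h y0 y0.2 with h1 | h1
  · exact ideal_mul_right hM h1 hR
  · exact ideal_mul_left hM (hcR _) h1

/-- a stable block whose idempotent does not vanish on `C(R)` extends to a pair on `R` -/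
theorem exists_normal_extension [Fintype G] (hM : IsPModular p M) {P R : Subgroup G}
    {e : Set (IrrCharacter (Subgroup.centralizer (P : Set G)))} (hPe : IsBrauerPair p M P e)
    (hR : IsPGroup p R) (hPR : P ≤ R) (hRN : R ≤ Subgroup.normalizer (P : Set G))
    (hst : ∀ x ∈ R, StabilizesBlock (Subgroup.centralizer (P : Set G)) e x) {y : G}
    (hy : y ∈ Subgroup.centralizer (R : Set G))
    (hy0 : ¬ MemLocalIdeal M (subgroupBlockCoeff (Subgroup.centralizer (P : Set G)) e y)) :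
    ∃ g : Set (IrrCharacter (Subgroup.centralizer (R : Set G))), IsNormalSubpair p M P e R g := by
  have hPr := isPrime_of_modular hM
  haveI : Fintype (Subgroup.centralizer (R : Set G)) := Fintype.ofFinite _
  have hCK := centralizer_anti hPR
  set ε := subgroupBlockCoeff (Subgroup.centralizer (P : Set G)) e with hε
  have hεR : ∀ g, MemLocalRing M (ε g) := sbc_ring hPr hPe.2
  have hεP : Inv R ε := inv_of_stabilizes hst
  have hεC := inv_mono hCK (sbc_inv _ e)
  set f0 : Subgroup.centralizer (R : Set G) → ℂ := fun x => ε x with hf0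
  have hf0c : IsClassFunction _ f0 := restrict_classFunction_of_inv hεC
  have hf0R : ∀ x, MemLocalRing M (f0 x) := fun _ => hεR _
  have hidem : ∀ g, MemLocalIdeal M (conv f0 f0 g - f0 g) := by
    intro g
    have h3 := brauer_mul hM hR le_rfl hεP hεP hεR hεR g
    rw [trunc_centralizer, trunc_centralizer, hε, sbc_idem] at h3
    exact ideal_sub_comm h3
  have hy0' : ¬ MemLocalIdeal M (f0 ⟨y, hy⟩) := hy0
  obtain ⟨ζ, hζ'⟩ := exists_Om_not_ideal hPr hf0c hf0R hidem hy0'
  have hζ : ¬ MemLocalIdeal M (brauerOmega R ε (ζ : _ → ℂ)) := by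
    rw [bo_eq]; exact hζ'
  have hg : IsPBlock M (blockOf M (ζ : Subgroup.centralizer (R : Set G) → ℂ)) := ⟨ζ, rfl⟩
  have h3 := bo_sbc_idem hM hR hCK hPe.2 hεP ζ hζ
  have key : ∀ ξ' ∈ blockOf M (ζ : Subgroup.centralizer (R : Set G) → ℂ),
      MemLocalIdeal M (brauerOmega R ε (ξ' : Subgroup.centralizer (R : Set G) → ℂ) - 1) := by
    intro ξ' hξ'
    have h4 := bo_sameBlock R hPr hεC hεR hg hξ' (self_mem_blockOf hPr ζ)
    exact ideal_sub_trans hPr h4 h3
  exact ⟨blockOf M (ζ : Subgroup.centralizer (R : Set G) → ℂ), hPe, ⟨hR, hg⟩, hPR, hRN, hst, key⟩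

end Cfsg.Agent.Lib.Helper2_BP6
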