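import Mathlib
import Cfsg.Prelude.Def_BrauerPairs
import Cfsg.Agent.Lib.Helper2_BP6

set_option autoImplicit false

namespace Cfsg.Agent.Lib.Helper2_BP7

open Cfsg Cfsg.Agent.Lib.Helper2_BlockLocal Cfsg.Agent.Lib.Helper2_BlockOm
  Cfsg.Agent.Lib.Helper2_BlockOsima Cfsg.Agent.Lib.Helper2_BlockBasic
  Cfsg.Agent.Lib.Helper2_BlockOrtho Cfsg.Agent.Lib.Helper2_BlockMinMax
  Cfsg.Agent.Lib.Helper2_BlockInd Cfsg.Agent.Lib.Helper2_BlockDefect
  Cfsg.Agent.Lib.Helper2_BlockPCore Cfsg.Agent.Lib.Helper2_BlockNormal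
  Cfsg.Agent.Lib.Helper2_BlockBrauer Cfsg.Agent.Lib.Helper2_BlockFMT
  Cfsg.Agent.Lib.Helper2_BrauerPairs Cfsg.Agent.Lib.Helper2_SecondMain
  Cfsg.Agent.Lib.Helper2_BP1 Cfsg.Agent.Lib.Helper2_BP2 Cfsg.Agent.Lib.Helper2_BP3
  Cfsg.Agent.Lib.Helper2_BP4 Cfsg.Agent.Lib.Helper2_BP5 Cfsg.Agent.Lib.Helper2_BP6
  Cfsg.Agent.Lib.Helper2_BlockCover2 Cfsg.Agent.Lib.Helper2_Basic
  Cfsg.Agent.Lib.CharBasic Cfsg.Agent.Lib.CharOrtho
  Cfsg.Agent.Lib.CharComplete Cfsg.Agent.Lib.CharIntegral Cfsg.Agent.Lib.CharMore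
  Cfsg.Agent.Lib.CharPerm Cfsg.Agent.Lib.CharInd
open scoped ComplexConjugate Classical
open Relation

universe u

variable {M : Ideal AlgInt} {p : ℕ} {G : Type u} [Group G]

/-- the Brauer functional of a `B`-pair is the central character of `B` on class functions -/
theorem bo_of_pairOf [Fintype G] (hM : IsPModular p M) {B : Set (IrrCharacter G)}
    {P : Subgroup G} {e : Set (IrrCharacter (Subgroup.centralizer (P : Set G)))}
    (h : IsBrauerPairOf p M B P e) {ξ : IrrCharacter (Subgroup.centralizer (P : Set G))}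
    (hξ : ξ ∈ e) {χ : IrrCharacter G} (hχ : χ ∈ B) {c : G → ℂ} (hc : IsClassFunction G c)
    (hcR : ∀ g, MemLocalRing M (c g)) :
    MemLocalIdeal M (brauerOmega P c (ξ : _ → ℂ) - Om c (χ : G → ℂ)) := by
  have hPr := isPrime_of_modular hM
  obtain ⟨B', hB', hBc⟩ := exists_block_of_pair hM h.1
  obtain ⟨χ', hχ'⟩ := block_nonempty hPr hB'
  have h1 := hBc ξ hξ χ' hχ' (blockCoeff B) (blockCoeff_classFunction B) (osima_block hPr h.2.1)
  rw [Om_blockCoeff] at h1
  have h2 := h.2.2 ξ hξ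
  have hmem : χ' ∈ B := by
    by_contra hn
    rw [if_neg hn, sub_zero] at h1
    apply not_ideal_one hPr
    have := ideal_sub hPr h1 h2
    simpa using this
  have : B' = B := block_eq_of_mem hPr hB' h.2.1 hχ' hmem
  subst this
  exact hBc ξ hξ χ hχ c hc hcR

variable [Finite G]

/-- conjugate of a set of characters of `C(P)` by an element of `N(P)` -/
noncomputable def cb (P : Subgroup G) (n : G) (hn : n ∈ Subgroup.normalizer (P : Set G))
    (e : Set (IrrCharacter (Subgroup.centralizer (P : Set G)))) :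
    Set (IrrCharacter (Subgroup.centralizer (P : Set G))) :=
  mapBlock (conjAut _ n (normalizer_le_normalizer_centralizer P hn)) e

theorem sbc_cb (P : Subgroup G) (n : G) (hn : n ∈ Subgroup.normalizer (P : Set G))
    (e : Set (IrrCharacter (Subgroup.centralizer (P : Set G)))) (g : G) :
    subgroupBlockCoeff _ (cb P n hn e) g = subgroupBlockCoeff _ e (n⁻¹ * g * n) :=
  sbc_conjAut _ _ _ _ _

theorem cb_one (P : Subgroup G) (e : Set (IrrCharacter (Subgroup.centralizer (P : Set G)))) :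
    cb P 1 (Subgroup.one_mem _) e = e := by
  apply sbc_injective
  funext g
  rw [sbc_cb]
  simp

theorem cb_cb (P : Subgroup G) {m n : G} (hm : m ∈ Subgroup.normalizer (P : Set G))
    (hn : n ∈ Subgroup.normalizer (P : Set G))
    (e : Set (IrrCharacter (Subgroup.centralizer (P : Set G)))) :
    cb P m hm (cb P n hn e) = cb P (m * n) (Subgroup.mul_mem _ hm hn) e := by
  apply sbc_injective
  funext g
  rw [sbc_cb, sbc_cb, sbc_cb]
  congr 1
  group

theorem cb_congr (P : Subgroup G) {m m' : G} (h : m = m')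
    (hm : m ∈ Subgroup.normalizer (P : Set G)) (hm' : m' ∈ Subgroup.normalizer (P : Set G))
    (e : Set (IrrCharacter (Subgroup.centralizer (P : Set G)))) : cb P m hm e = cb P m' hm' e := by
  subst h; rfl

/-- the `N(P)`-orbit -/
def orb (P : Subgroup G) (e : Set (IrrCharacter (Subgroup.centralizer (P : Set G)))) :
    Set (Set (IrrCharacter (Subgroup.centralizer (P : Set G)))) :=
  {w | ∃ n, ∃ hn : n ∈ Subgroup.normalizer (P : Set G), w = cb P n hn e}

theorem self_mem_orb (P : Subgroup G)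
    (e : Set (IrrCharacter (Subgroup.centralizer (P : Set G)))) : e ∈ orb P e :=
  ⟨1, Subgroup.one_mem _, (cb_one P e).symm⟩

theorem isPBlock_of_mem_orb {P : Subgroup G}
    {e w : Set (IrrCharacter (Subgroup.centralizer (P : Set G)))} (he : IsPBlock M e)
    (hw : w ∈ orb P e) : IsPBlock M w := by
  obtain ⟨n, hn, rfl⟩ := hw
  exact isPBlock_mapBlock _ he

theorem cb_mem_orb_iff {P : Subgroup G}
    {e w : Set (IrrCharacter (Subgroup.centralizer (P : Set G)))} {m : G}
    (hm : m ∈ Subgroup.normalizer (P : Set G)) : cb P m hm w ∈ orb P e ↔ w ∈ orb P e := by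
  constructor
  · rintro ⟨n, hn, h⟩
    refine ⟨m⁻¹ * n, Subgroup.mul_mem _ (Subgroup.inv_mem _ hm) hn, ?_⟩
    rw [← cb_cb P (Subgroup.inv_mem _ hm) hn, ← h, cb_cb,
      cb_congr P (inv_mul_cancel m) _ (Subgroup.one_mem _), cb_one]
  · rintro ⟨n, hn, rfl⟩
    exact ⟨m * n, Subgroup.mul_mem _ hm hn, cb_cb P hm hn e⟩


end Cfsg.Agent.Lib.Helper2_BP7

namespace Cfsg.Agent.Lib.Helper2_BP7

open Cfsg Cfsg.Agent.Lib.Helper2_BlockLocal Cfsg.Agent.Lib.Helper2_BlockOm
  Cfsg.Agent.Lib.Helper2_BlockOsima Cfsg.Agent.Lib.Helper2_BlockBasic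
  Cfsg.Agent.Lib.Helper2_BlockOrtho Cfsg.Agent.Lib.Helper2_BlockMinMax
  Cfsg.Agent.Lib.Helper2_BlockInd Cfsg.Agent.Lib.Helper2_BlockDefect
  Cfsg.Agent.Lib.Helper2_BlockPCore Cfsg.Agent.Lib.Helper2_BlockNormal
  Cfsg.Agent.Lib.Helper2_BlockBrauer Cfsg.Agent.Lib.Helper2_BlockFMT
  Cfsg.Agent.Lib.Helper2_BrauerPairs Cfsg.Agent.Lib.Helper2_SecondMain
  Cfsg.Agent.Lib.Helper2_BP1 Cfsg.Agent.Lib.Helper2_BP2 Cfsg.Agent.Lib.Helper2_BP3
  Cfsg.Agent.Lib.Helper2_BP4 Cfsg.Agent.Lib.Helper2_BP5 Cfsg.Agent.Lib.Helper2_BP6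
  Cfsg.Agent.Lib.Helper2_BlockCover2 Cfsg.Agent.Lib.Helper2_Basic
  Cfsg.Agent.Lib.CharBasic Cfsg.Agent.Lib.CharOrtho
  Cfsg.Agent.Lib.CharComplete Cfsg.Agent.Lib.CharIntegral Cfsg.Agent.Lib.CharMore
  Cfsg.Agent.Lib.CharPerm Cfsg.Agent.Lib.CharInd
open scoped ComplexConjugate Classical
open Relation

universe u

variable {M : Ideal AlgInt} {p : ℕ} {G : Type u} [Group G] [Fintype G]

/-- the orbit sum of the idempotents -/
noncomputable def eO (P : Subgroup G)
    (e : Set (IrrCharacter (Subgroup.centralizer (P : Set G)))) : G → ℂ :=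
  ∑ w : Set (IrrCharacter (Subgroup.centralizer (P : Set G))),
    if w ∈ orb P e then subgroupBlockCoeff _ w else 0

theorem eO_apply (P : Subgroup G)
    (e : Set (IrrCharacter (Subgroup.centralizer (P : Set G)))) (g : G) :
    eO P e g = ∑ w : Set (IrrCharacter (Subgroup.centralizer (P : Set G))),
      if w ∈ orb P e then subgroupBlockCoeff _ w g else 0 := by
  unfold eO
  rw [Finset.sum_apply]
  refine Finset.sum_congr rfl fun w _ => ?_
  split_ifs <;> rfl

theorem eO_ring (hM : M.IsPrime) {P : Subgroup G}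
    {e : Set (IrrCharacter (Subgroup.centralizer (P : Set G)))} (he : IsPBlock M e) (g : G) :
    MemLocalRing M (eO P e g) := by
  rw [eO_apply]
  apply ring_sum hM
  intro w _
  split_ifs with hw
  · exact sbc_ring hM (isPBlock_of_mem_orb he hw) g
  · exact ring_zero hM

theorem eO_inv (P : Subgroup G)
    (e : Set (IrrCharacter (Subgroup.centralizer (P : Set G)))) :
    Inv (Subgroup.normalizer (P : Set G)) (eO P e) := by
  intro m hm g
  letI := actOn (Subgroup.centralizer (P : Set G)) (Subgroup.normalizer (P : Set G))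
    (normalizer_le_normalizer_centralizer P)
  rw [eO_apply, eO_apply,
    ← Equiv.sum_comp (MulAction.toPerm (⟨m, hm⟩ : Subgroup.normalizer (P : Set G)))]
  refine Finset.sum_congr rfl fun w _ => ?_
  have e1 : (MulAction.toPerm (⟨m, hm⟩ : Subgroup.normalizer (P : Set G))) w = cb P m hm w := rfl
  rw [e1]
  simp only [cb_mem_orb_iff]
  split_ifs
  · rw [sbc_cb]
    congr 1
    group
  · rfl

theorem bo_eO (hM : M.IsPrime) {P : Subgroup G}
    {e : Set (IrrCharacter (Subgroup.centralizer (P : Set G)))} (he : IsPBlock M e)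
    {e' : Set (IrrCharacter (Subgroup.centralizer (P : Set G)))} (he' : IsPBlock M e')
    {ξ : IrrCharacter (Subgroup.centralizer (P : Set G))} (hξ : ξ ∈ e') :
    brauerOmega P (eO P e) (ξ : _ → ℂ) = if e' ∈ orb P e then 1 else 0 := by
  unfold eO
  rw [bo_sum]
  have h1 : ∀ w : Set (IrrCharacter (Subgroup.centralizer (P : Set G))),
      brauerOmega P (if w ∈ orb P e then subgroupBlockCoeff _ w else 0) (ξ : _ → ℂ) =
      if w = e' then (if e' ∈ orb P e then 1 else 0) else 0 := by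
    intro w
    by_cases hw : w ∈ orb P e
    · rw [if_pos hw, bo_sbc]
      by_cases hww : w = e'
      · subst hww
        rw [if_pos hξ, if_pos rfl, if_pos hw]
      · rw [if_neg hww, if_neg]
        intro h
        exact hww (block_eq_of_mem hM (isPBlock_of_mem_orb he hw) he' h hξ)
    · rw [if_neg hw, bo_zero]
      by_cases hww : w = e'
      · subst hww
        rw [if_pos rfl, if_neg hw]
      · rw [if_neg hww]
  simp only [h1]
  rw [Finset.sum_ite_eq' Finset.univ e']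
  simp

end Cfsg.Agent.Lib.Helper2_BP7
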