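import Mathlib
import Cfsg.Prelude.Def_BrauerPairs
import Cfsg.Agent.Lib.Helper2_BP7

set_option autoImplicit false

namespace Cfsg.Agent.Lib.Helper2_BP8

open Cfsg Cfsg.Agent.Lib.Helper2_BlockLocal Cfsg.Agent.Lib.Helper2_BlockOm
  Cfsg.Agent.Lib.Helper2_BlockOsima Cfsg.Agent.Lib.Helper2_BlockBasic
  Cfsg.Agent.Lib.Helper2_BlockOrtho Cfsg.Agent.Lib.Helper2_BlockMinMax
  Cfsg.Agent.Lib.Helper2_BlockInd Cfsg.Agent.Lib.Helper2_BlockDefect
  Cfsg.Agent.Lib.Helper2_BlockPCore Cfsg.Agent.Lib.Helper2_BlockNormal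
  Cfsg.Agent.Lib.Helper2_BlockBrauer Cfsg.Agent.Lib.Helper2_BlockFMT
  Cfsg.Agent.Lib.Helper2_BrauerPairs Cfsg.Agent.Lib.Helper2_SecondMain
  Cfsg.Agent.Lib.Helper2_BP1 Cfsg.Agent.Lib.Helper2_BP2 Cfsg.Agent.Lib.Helper2_BP3
  Cfsg.Agent.Lib.Helper2_BP4 Cfsg.Agent.Lib.Helper2_BP5 Cfsg.Agent.Lib.Helper2_BP6
  Cfsg.Agent.Lib.Helper2_BP7
  Cfsg.Agent.Lib.Helper2_BlockCover2 Cfsg.Agent.Lib.Helper2_Basic
  Cfsg.Agent.Lib.CharBasic Cfsg.Agent.Lib.CharOrtho
  Cfsg.Agent.Lib.CharComplete Cfsg.Agent.Lib.CharIntegral Cfsg.Agent.Lib.CharMore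
  Cfsg.Agent.Lib.CharPerm Cfsg.Agent.Lib.CharInd
open scoped ComplexConjugate Classical
open Relation

universe u

variable {M : Ideal AlgInt} {p : ℕ} {G : Type u} [Group G] [Fintype G]

/-- a pair without proper normal extension -/
def NoExt (p : ℕ) (M : Ideal AlgInt) (P : Subgroup G)
    (e : Set (IrrCharacter (Subgroup.centralizer (P : Set G)))) : Prop :=
  ∀ (R : Subgroup G) (g : Set (IrrCharacter (Subgroup.centralizer (R : Set G)))),
    IsNormalSubpair p M P e R g → R = P

theorem noExt_of_maximal (hM : IsPModular p M) {B : Set (IrrCharacter G)} {P : Subgroup G}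
    {e : Set (IrrCharacter (Subgroup.centralizer (P : Set G)))}
    (hmax : IsMaximalBrauerPair p M B P e) : NoExt p M P e := by
  intro R g h
  have hle : SubpairLE p M P e R g :=
    ReflTransGen.single (show NormalSubpairRel p M ⟨P, e⟩ ⟨R, g⟩ from h)
  exact hmax.2 R g ((brauerPairOf_iff_of_le hM h.2.1 h.1 hle hmax.1.2.1).mpr hmax.1) hle

theorem sylow_of_eO_coeff [Fact p.Prime] (hM : IsPModular p M) {P : Subgroup G}
    {e : Set (IrrCharacter (Subgroup.centralizer (P : Set G)))} (hPe : IsBrauerPair p M P e)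
    (hno : NoExt p M P e) {y : G} (hy : y ∈ Subgroup.centralizer (P : Set G))
    (hy0 : ¬ MemLocalIdeal M (eO P e y)) :
    Nat.card P = p ^ (Nat.card (Subgroup.centralizer ({y} : Set G))).factorization p := by
  have hPr := isPrime_of_modular hM
  obtain ⟨hP, he⟩ := id hPe
  have hPy : P ≤ Subgroup.centralizer ({y} : Set G) := le_centralizer_singleton_of_mem hy
  set C1 := Subgroup.centralizer ({y} : Set G) ⊓ Subgroup.normalizer (P : Set G) with hC1
  have hPC1 : P ≤ C1 := le_inf hPy Subgroup.le_normalizer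
  obtain ⟨S, hS⟩ := exists_sylow_sub_ge C1 hP hPC1
  set R := (S : Subgroup C1).map C1.subtype with hR
  have hRp : IsPGroup p R := S.2.map _
  have hRC1 : R ≤ C1 := by rintro _ ⟨a, -, rfl⟩; exact a.2
  have hRcard : Nat.card R = p ^ (Nat.card C1).factorization p := by
    rw [hR, Subgroup.card_map_of_injective (Subgroup.subtype_injective _),
      Sylow.card_eq_multiplicity]
  have hRN : R ≤ Subgroup.normalizer (P : Set G) := hRC1.trans inf_le_right
  have hRK := hRN.trans (normalizer_le_normalizer_centralizer P)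
  letI := actOn (Subgroup.centralizer (P : Set G)) R hRK
  have hsmul : ∀ (c : R) (w : Set (IrrCharacter (Subgroup.centralizer (P : Set G)))),
      c • w = cb P c (hRN c.2) w := fun _ _ => rfl
  set F : Set (IrrCharacter (Subgroup.centralizer (P : Set G))) → ℂ := fun w =>
    if w ∈ orb P e then subgroupBlockCoeff _ w y else 0 with hF
  have hinv : ∀ (c : R) (w : Set (IrrCharacter (Subgroup.centralizer (P : Set G)))),
      F (c • w) = F w := by
    intro c w
    simp only [hF, hsmul, cb_mem_orb_iff]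
    split_ifs
    · rw [sbc_cb]
      congr 1
      have := Subgroup.mem_centralizer_singleton_iff.mp (hRC1 c.2).1
      rw [mul_assoc, ← this, ← mul_assoc, inv_mul_cancel, one_mul]
    · rfl
  have hFR : ∀ w, MemLocalRing M (F w) := by
    intro w
    simp only [hF]
    split_ifs with h
    · exact sbc_ring hPr (isPBlock_of_mem_orb he h) y
    · exact ring_zero hPr
  have h1 := sum_fixed hM (Q := R) hRp F hinv hFR
  have hsum : ∑ w, F w = eO P e y := (eO_apply P e y).symm
  rw [hsum] at h1
  have h2 : ∃ w : Set (IrrCharacter (Subgroup.centralizer (P : Set G))),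
      (∀ q : R, q • w = w) ∧ ¬ MemLocalIdeal M (F w) := by
    by_contra hcon
    push Not at hcon
    apply hy0
    have h3 : MemLocalIdeal M (∑ w ∈ Finset.univ.filter
        (fun w : Set (IrrCharacter (Subgroup.centralizer (P : Set G))) => ∀ q : R, q • w = w),
        F w) := by
      apply ideal_sum hPr
      intro w hw
      simp only [Finset.mem_filter] at hw
      exact hcon w hw.2
    have := ideal_add hPr h1 h3
    simpa using this
  obtain ⟨w, hfix, hw0⟩ := h2
  have hwO : w ∈ orb P e := by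
    by_contra h
    apply hw0
    simp only [hF, if_neg h]
    exact ideal_zero hPr
  simp only [hF, if_pos hwO] at hw0
  obtain ⟨n, hn, rfl⟩ := hwO
  rw [sbc_cb] at hw0
  -- the conjugated data
  set R' := R.map (MulAut.conj n⁻¹).toMonoidHom with hR'
  have hmemR' : ∀ x, x ∈ R' ↔ n * x * n⁻¹ ∈ R := by
    intro x
    rw [hR', mem_cj]
    simp
  have hPR' : P ≤ R' := by
    intro x hx
    rw [hmemR']
    exact hS ((Subgroup.mem_normalizer_iff.mp hn x).mp hx)
  have hR'N : R' ≤ Subgroup.normalizer (P : Set G) := by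
    intro x hx
    have h3 := hRN ((hmemR' x).mp hx)
    have h4 := Subgroup.mul_mem _ (Subgroup.mul_mem _ (Subgroup.inv_mem _ hn) h3) hn
    convert h4 using 1
    group
  have hst : ∀ x ∈ R', StabilizesBlock (Subgroup.centralizer (P : Set G)) e x := by
    intro x hx
    rw [stabilizes_iff_inv]
    refine ⟨normalizer_le_normalizer_centralizer P (hR'N hx), fun g => ?_⟩
    have hu := (hmemR' x).mp hx
    have h3 : StabilizesBlock (Subgroup.centralizer (P : Set G)) (cb P n hn e) (n * x * n⁻¹) := by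
      rw [stabilizes_iff]
      exact ⟨hRK hu, hfix ⟨_, hu⟩⟩
    have h4 := (stabilizes_iff_inv.mp h3).2 (n * g * n⁻¹)
    rw [sbc_cb, sbc_cb] at h4
    convert h4 using 2 <;> group
  have hy' : n⁻¹ * y * n ∈ Subgroup.centralizer (R' : Set G) := by
    rw [Subgroup.mem_centralizer_iff]
    intro x hx
    have hu : n * x * n⁻¹ ∈ Subgroup.centralizer ({y} : Set G) := (hRC1 ((hmemR' x).mp hx)).1
    rw [Subgroup.mem_centralizer_singleton_iff] at hu
    calc x * (n⁻¹ * y * n) = n⁻¹ * (n * x * n⁻¹ * y) * n := by group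
      _ = n⁻¹ * (y * (n * x * n⁻¹)) * n := by rw [hu]
      _ = n⁻¹ * y * n * x := by group
  obtain ⟨g, hg⟩ := exists_normal_extension hM hPe (isPGroup_cj hRp _) hPR' hR'N hst hy' hw0
  have hRP := hno R' g hg
  have hcard : Nat.card P = p ^ (Nat.card C1).factorization p := by
    rw [← hRcard, ← hRP, hR', card_cj]
  exact sylow_of_sylow_normalizer hP hPy hcard

/-- a `B`-pair without proper normal extension has a defect group as first component -/
theorem defect_of_noExt [Fact p.Prime] (hM : IsPModular p M) {B : Set (IrrCharacter G)}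
    {P : Subgroup G} {e : Set (IrrCharacter (Subgroup.centralizer (P : Set G)))}
    (hBe : IsBrauerPairOf p M B P e) (hno : NoExt p M P e) : IsDefectGroup p M B P := by
  have hPr := isPrime_of_modular hM
  obtain ⟨hPe, hB, hb⟩ := id hBe
  obtain ⟨hP, he⟩ := id hPe
  obtain ⟨ξ, hξ⟩ := block_nonempty hPr he
  have h1 := bo_eO hPr he he hξ
  rw [if_pos (self_mem_orb P e)] at h1
  have h2 : ∃ y ∈ Subgroup.centralizer (P : Set G), ¬ MemLocalIdeal M (eO P e y) ∧
      ¬ MemLocalIdeal M (brauerOmega P (clL (Subgroup.normalizer (P : Set G)) y) (ξ : _ → ℂ)) := by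
    by_contra hcon
    push Not at hcon
    apply not_ideal_one hPr
    rw [← h1]
    apply bo_ideal_of_classes hPr (centralizer_le_normalizer' P) (eO_inv P e) (eO_ring hPr he) ξ
    intro y hy
    by_cases h : MemLocalIdeal M (eO P e y)
    · exact Or.inl h
    · exact Or.inr (hcon y hy h)
  obtain ⟨y, hy, hy0, hy1⟩ := h2
  have hcard := sylow_of_eO_coeff hM hPe hno hy hy0
  have hPy : P ≤ Subgroup.centralizer ({y} : Set G) := le_centralizer_singleton_of_mem hy
  have hω : ∀ χ ∈ B, ¬ MemLocalIdeal M (centralChar (χ : G → ℂ) y) := by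
    intro χ hχ
    have h3 := bo_of_pairOf hM hBe hξ hχ (classInd_classFunction y) (classInd_ring hPr y)
    rw [Om_classInd y (irr_classFunction χ)] at h3
    have h4 : brauerOmega P (classInd y) (ξ : _ → ℂ) =
        brauerOmega P (clL (Subgroup.normalizer (P : Set G)) y) (ξ : _ → ℂ) := by
      apply bo_congr
      intro x hx
      unfold classInd clL
      by_cases hc : IsConj y x
      · rw [if_pos hc, if_pos (conj_in_normalizer hP hx hPy hcard hc)]
      · rw [if_neg hc, if_neg]
        rintro ⟨n, -, hn⟩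
        exact hc (isConj_iff.mpr ⟨n, hn⟩)
    rw [h4] at h3
    exact not_ideal_of_sub hPr (ideal_sub_comm h3) hy1
  -- an element of C(P) with unit coefficient
  have h5 : ∃ y0 ∈ Subgroup.centralizer (P : Set G), ¬ MemLocalIdeal M (blockCoeff B y0) := by
    by_contra hcon
    push Not at hcon
    apply not_ideal_one hPr
    have h6 := bo_ideal P hPr (inv_of_classFunction (blockCoeff_classFunction B) _) hcon ξ
    have := ideal_sub hPr h6 (hb ξ hξ)
    simpa using this
  obtain ⟨y0, hy0C, hy0'⟩ := h5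
  obtain ⟨g0, hg0⟩ := exists_defectClass hPr hB
  obtain ⟨S⟩ : Nonempty (Sylow p (Subgroup.centralizer ({g0} : Set G))) := inferInstance
  set D := (S : Subgroup (Subgroup.centralizer ({g0} : Set G))).map
    (Subgroup.centralizer ({g0} : Set G)).subtype with hD
  have hDdef : IsDefectGroup p M B D := ⟨g0, hg0, S, rfl⟩
  have hDp : IsPGroup p D := S.2.map _
  have hDg0 : D ≤ Subgroup.centralizer ({g0} : Set G) := by rintro _ ⟨a, -, rfl⟩; exact a.2
  obtain ⟨x, hx⟩ := minmax_a hM hB g0 y0 hg0.2.2 hy0' S P hP (le_centralizer_singleton_of_mem hy0C)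
  obtain ⟨x', Q, hQ⟩ := minmax_b hM hB g0 y hω hg0.2.1 D hDp hDg0
  have hc1 : Nat.card D ≤ Nat.card P := by
    rw [hcard, ← card_cj x' D]
    calc _ ≤ Nat.card ((Q : Subgroup (Subgroup.centralizer ({y} : Set G))).map
          (Subgroup.centralizer ({y} : Set G)).subtype) :=
          Nat.card_le_card_of_injective _ (Subgroup.inclusion_injective hQ)
      _ = _ := by
          rw [Subgroup.card_map_of_injective (Subgroup.subtype_injective _),
            Sylow.card_eq_multiplicity]
  have heq : P = D.map (MulAut.conj x).toMonoidHom :=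
    Subgroup.eq_of_le_of_card_ge hx (by rw [card_cj]; exact hc1)
  rw [heq]
  exact isDefectGroup_conj hDdef x

end Cfsg.Agent.Lib.Helper2_BP8
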