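import Mathlib
import Cfsg.Prelude.Def_BrauerPairs
import Cfsg.Agent.Lib.Helper2_BP8

set_option autoImplicit false

namespace Cfsg.Agent.Lib.Helper2_BP9

open Cfsg Cfsg.Agent.Lib.Helper2_BlockLocal Cfsg.Agent.Lib.Helper2_BlockOm
  Cfsg.Agent.Lib.Helper2_BlockOsima Cfsg.Agent.Lib.Helper2_BlockBasic
  Cfsg.Agent.Lib.Helper2_BlockOrtho Cfsg.Agent.Lib.Helper2_BlockMinMax
  Cfsg.Agent.Lib.Helper2_BlockInd Cfsg.Agent.Lib.Helper2_BlockDefect
  Cfsg.Agent.Lib.Helper2_BlockPCore Cfsg.Agent.Lib.Helper2_BlockNormal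
  Cfsg.Agent.Lib.Helper2_BlockBrauer Cfsg.Agent.Lib.Helper2_BlockFMT
  Cfsg.Agent.Lib.Helper2_BrauerPairs Cfsg.Agent.Lib.Helper2_SecondMain
  Cfsg.Agent.Lib.Helper2_BP1 Cfsg.Agent.Lib.Helper2_BP2 Cfsg.Agent.Lib.Helper2_BP3
  Cfsg.Agent.Lib.Helper2_BP4 Cfsg.Agent.Lib.Helper2_BP5 Cfsg.Agent.Lib.Helper2_BP6
  Cfsg.Agent.Lib.Helper2_BP7 Cfsg.Agent.Lib.Helper2_BP8
  Cfsg.Agent.Lib.Helper2_BlockCover2 Cfsg.Agent.Lib.Helper2_Basic
  Cfsg.Agent.Lib.CharBasic Cfsg.Agent.Lib.CharOrtho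
  Cfsg.Agent.Lib.CharComplete Cfsg.Agent.Lib.CharIntegral Cfsg.Agent.Lib.CharMore
  Cfsg.Agent.Lib.CharPerm Cfsg.Agent.Lib.CharInd
open scoped ComplexConjugate Classical
open Relation

universe u

variable {M : Ideal AlgInt} {p : ℕ} {G : Type u} [Group G]

theorem conj_mem_centralizer_map {Q : Subgroup G} {x c : G} :
    x * c * x⁻¹ ∈ Subgroup.centralizer ((Q.map (MulAut.conj x).toMonoidHom : Subgroup G) : Set G) ↔
      c ∈ Subgroup.centralizer (Q : Set G) := by
  rw [Subgroup.mem_centralizer_iff, Subgroup.mem_centralizer_iff]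
  constructor
  · intro h q hq
    have h1 := h (x * q * x⁻¹) ⟨q, hq, by simp⟩
    have h2 : x * (q * c) * x⁻¹ = x * (c * q) * x⁻¹ := by
      calc x * (q * c) * x⁻¹ = x * q * x⁻¹ * (x * c * x⁻¹) := by group
        _ = x * c * x⁻¹ * (x * q * x⁻¹) := h1
        _ = _ := by group
    exact mul_left_cancel (mul_right_cancel h2)
  · rintro h _ ⟨q, hq, rfl⟩
    have h1 := h q hq
    simp only [MulEquiv.coe_toMonoidHom, MulAut.conj_apply]
    calc x * q * x⁻¹ * (x * c * x⁻¹) = x * (q * c) * x⁻¹ := by group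
      _ = x * (c * q) * x⁻¹ := by rw [h1]
      _ = _ := by group

theorem conj_mem_centralizer_map' {Q : Subgroup G} {x g : G} :
    g ∈ Subgroup.centralizer ((Q.map (MulAut.conj x).toMonoidHom : Subgroup G) : Set G) ↔
      x⁻¹ * g * x ∈ Subgroup.centralizer (Q : Set G) := by
  have h := conj_mem_centralizer_map (Q := Q) (x := x) (c := x⁻¹ * g * x)
  have e : x * (x⁻¹ * g * x) * x⁻¹ = g := by group
  rw [e] at h
  exact h

/-- conjugation between centralizers -/
def cEquiv (Q : Subgroup G) (x : G) : Subgroup.centralizer (Q : Set G) ≃*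
    Subgroup.centralizer ((Q.map (MulAut.conj x).toMonoidHom : Subgroup G) : Set G) where
  toFun c := ⟨x * c * x⁻¹, conj_mem_centralizer_map.mpr c.2⟩
  invFun c := ⟨x⁻¹ * c * x, conj_mem_centralizer_map'.mp c.2⟩
  left_inv c := by
    apply Subtype.ext
    simp [mul_assoc]
  right_inv c := by
    apply Subtype.ext
    simp [mul_assoc]
  map_mul' a b := by
    apply Subtype.ext
    show x * ((a : G) * (b : G)) * x⁻¹ = (x * (a : G) * x⁻¹) * (x * (b : G) * x⁻¹)
    group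

theorem cEquiv_coe (Q : Subgroup G) (x : G) (c : Subgroup.centralizer (Q : Set G)) :
    ((cEquiv Q x c : _) : G) = x * c * x⁻¹ := rfl

theorem cEquiv_symm_coe (Q : Subgroup G) (x : G)
    (c : Subgroup.centralizer ((Q.map (MulAut.conj x).toMonoidHom : Subgroup G) : Set G)) :
    (((cEquiv Q x).symm c : _) : G) = x⁻¹ * c * x := rfl

variable [Finite G]

theorem conjBlock_eq (Q : Subgroup G) (x : G)
    (f : Set (IrrCharacter (Subgroup.centralizer (Q : Set G)))) :
    conjBlock Q x f = mapBlock (cEquiv Q x) f := by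
  ext ξ'
  constructor
  · rintro ⟨ξ, hξ, h⟩
    refine ⟨ξ, hξ, ?_⟩
    apply Subtype.ext
    funext c'
    rw [mapIrr_coe]
    symm
    apply h
    rw [cEquiv_symm_coe]
    group
  · rintro ⟨ξ, hξ, rfl⟩
    refine ⟨ξ, hξ, ?_⟩
    intro c c' hc
    have : c' = cEquiv Q x c := Subtype.ext hc
    rw [this, mapIrr_apply]

theorem sbc_conjBlock (Q : Subgroup G) (x : G)
    (f : Set (IrrCharacter (Subgroup.centralizer (Q : Set G)))) (g : G) :
    subgroupBlockCoeff _ (conjBlock Q x f) g = subgroupBlockCoeff _ f (x⁻¹ * g * x) := by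
  rw [conjBlock_eq]
  by_cases hg : g ∈ Subgroup.centralizer ((Q.map (MulAut.conj x).toMonoidHom : Subgroup G) : Set G)
  · have h1 := sbc_coe _ (mapBlock (cEquiv Q x) f) ⟨g, hg⟩
    have h2 := sbc_coe _ f ((cEquiv Q x).symm ⟨g, hg⟩)
    rw [cEquiv_symm_coe] at h2
    simp only at h1 h2
    rw [h1, h2, blockCoeff_mapBlock']
  · rw [sbc_not_mem _ _ hg, sbc_not_mem _ _ (fun h => hg (conj_mem_centralizer_map'.mpr h))]

/-- the idempotent function of a pair -/
noncomputable def eps (a : BrauerPairIdx G) : G → ℂ := subgroupBlockCoeff _ a.2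

/-- conjugation of pairs -/
def cjPair (x : G) (a : BrauerPairIdx G) : BrauerPairIdx G :=
  ⟨a.1.map (MulAut.conj x).toMonoidHom, conjBlock a.1 x a.2⟩

theorem eps_cjPair (x : G) (a : BrauerPairIdx G) (g : G) :
    eps (cjPair x a) g = eps a (x⁻¹ * g * x) := sbc_conjBlock _ _ _ _

theorem pair_ext {a b : BrauerPairIdx G} (h1 : a.1 = b.1) (h2 : eps a = eps b) : a = b := by
  obtain ⟨Q, f⟩ := a
  obtain ⟨Q', f'⟩ := b
  simp only at h1
  subst h1
  have : f = f' := sbc_injective _ h2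
  rw [this]

theorem map_conj_mul (Q : Subgroup G) (x y : G) :
    (Q.map (MulAut.conj y).toMonoidHom).map (MulAut.conj x).toMonoidHom =
      Q.map (MulAut.conj (x * y)).toMonoidHom := by
  ext g
  rw [mem_cj, mem_cj, mem_cj]
  have : y⁻¹ * (x⁻¹ * g * x) * y = (x * y)⁻¹ * g * (x * y) := by group
  rw [this]

theorem map_conj_one (Q : Subgroup G) : Q.map (MulAut.conj (1 : G)).toMonoidHom = Q := by
  ext g
  rw [mem_cj]
  simp

theorem cjPair_mul (x y : G) (a : BrauerPairIdx G) :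
    cjPair x (cjPair y a) = cjPair (x * y) a := by
  apply pair_ext
  · exact map_conj_mul _ _ _
  · funext g
    rw [eps_cjPair, eps_cjPair, eps_cjPair]
    congr 1
    group

theorem cjPair_one (a : BrauerPairIdx G) : cjPair 1 a = a := by
  apply pair_ext
  · exact map_conj_one _
  · funext g
    rw [eps_cjPair]
    simp

theorem conj_mem_normalizer_map {Q : Subgroup G} {x u : G}
    (hu : u ∈ Subgroup.normalizer (Q : Set G)) :
    x * u * x⁻¹ ∈ Subgroup.normalizer ((Q.map (MulAut.conj x).toMonoidHom : Subgroup G) : Set G) := by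
  rw [Subgroup.mem_normalizer_iff]
  intro g
  rw [mem_cj, mem_cj, Subgroup.mem_normalizer_iff.mp hu (x⁻¹ * g * x)]
  have : x⁻¹ * (x * u * x⁻¹ * g * (x * u * x⁻¹)⁻¹) * x = u * (x⁻¹ * g * x) * u⁻¹ := by group
  rw [this]

theorem bo_cEquiv (P : Subgroup G) (x : G) (c : G → ℂ)
    (ξ : IrrCharacter (Subgroup.centralizer (P : Set G))) :
    brauerOmega (P.map (MulAut.conj x).toMonoidHom) (fun g => c (x⁻¹ * g * x))
      ((mapIrr (cEquiv P x) ξ : IrrCharacter _) : _ → ℂ) = brauerOmega P c (ξ : _ → ℂ) := by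
  haveI : Fintype (Subgroup.centralizer (P : Set G)) := Fintype.ofFinite _
  haveI : Fintype (Subgroup.centralizer
    ((P.map (MulAut.conj x).toMonoidHom : Subgroup G) : Set G)) := Fintype.ofFinite _
  rw [bo_eq, bo_eq]
  unfold Om
  have h1 : ((mapIrr (cEquiv P x) ξ : IrrCharacter _) : Subgroup.centralizer
      ((P.map (MulAut.conj x).toMonoidHom : Subgroup G) : Set G) → ℂ) 1 =
      (ξ : Subgroup.centralizer (P : Set G) → ℂ) 1 := by
    conv_lhs => rw [← map_one (cEquiv P x), mapIrr_apply]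
  rw [h1]
  congr 1
  rw [← Equiv.sum_comp (cEquiv P x).toEquiv]
  refine Finset.sum_congr rfl fun y _ => ?_
  simp only [MulEquiv.toEquiv_eq_coe, EquivLike.coe_coe]
  rw [mapIrr_apply, cEquiv_coe]
  congr 2
  group

theorem isBrauerPair_cjPair (x : G) {a : BrauerPairIdx G} (h : IsBrauerPair p M a.1 a.2) :
    IsBrauerPair p M (cjPair x a).1 (cjPair x a).2 := by
  refine ⟨isPGroup_cj h.1 x, ?_⟩
  show IsPBlock M (conjBlock a.1 x a.2)
  rw [conjBlock_eq]
  exact isPBlock_mapBlock _ h.2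

theorem normalSubpairRel_cjPair (x : G) {a b : BrauerPairIdx G}
    (h : NormalSubpairRel p M a b) : NormalSubpairRel p M (cjPair x a) (cjPair x b) := by
  obtain ⟨Q, f⟩ := a
  obtain ⟨P, e⟩ := b
  obtain ⟨hQf, hPe, hQP, hPN, hst, hb⟩ := h
  have hN : P.map (MulAut.conj x).toMonoidHom ≤
      Subgroup.normalizer ((Q.map (MulAut.conj x).toMonoidHom : Subgroup G) : Set G) := by
    rintro _ ⟨u, hu, rfl⟩
    exact conj_mem_normalizer_map (hPN hu)
  refine ⟨isBrauerPair_cjPair x (a := ⟨Q, f⟩) hQf, isBrauerPair_cjPair x (a := ⟨P, e⟩) hPe,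
    Subgroup.map_mono hQP, hN, ?_, ?_⟩
  · rintro _ ⟨u, hu, rfl⟩
    rw [stabilizes_iff_inv]
    refine ⟨normalizer_le_normalizer_centralizer _ (hN ⟨u, hu, rfl⟩), fun g => ?_⟩
    show subgroupBlockCoeff _ (conjBlock Q x f) _ = subgroupBlockCoeff _ (conjBlock Q x f) _
    rw [sbc_conjBlock, sbc_conjBlock]
    have := (stabilizes_iff_inv.mp (hst u hu)).2 (x⁻¹ * g * x)
    rw [← this]
    congr 1
    simp only [MulEquiv.coe_toMonoidHom, MulAut.conj_apply]
    group
  · intro ξ' hξ'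
    have hξ'' : ξ' ∈ mapBlock (cEquiv P x) e := by
      rw [← conjBlock_eq]; exact hξ'
    obtain ⟨ξ, hξ, rfl⟩ := hξ''
    have e1 : subgroupBlockCoeff _ (cjPair x ⟨Q, f⟩).2 =
        fun g' => subgroupBlockCoeff (Subgroup.centralizer (Q : Set G)) f (x⁻¹ * g' * x) :=
      funext fun g' => sbc_conjBlock _ _ _ _
    rw [e1]
    have := bo_cEquiv P x (subgroupBlockCoeff (Subgroup.centralizer (Q : Set G)) f) ξ
    show MemLocalIdeal M (brauerOmega (P.map (MulAut.conj x).toMonoidHom) _ _ - 1)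
    rw [this]
    exact hb ξ hξ

theorem rtg_cjPair (x : G) {a b : BrauerPairIdx G}
    (h : ReflTransGen (NormalSubpairRel p M) a b) :
    ReflTransGen (NormalSubpairRel p M) (cjPair x a) (cjPair x b) := by
  induction h with
  | refl => exact ReflTransGen.refl
  | tail _ h2 ih => exact ih.tail (normalSubpairRel_cjPair x h2)

theorem brauerPairOf_cjPair (x : G) {B : Set (IrrCharacter G)} {a : BrauerPairIdx G}
    (h : IsBrauerPairOf p M B a.1 a.2) : IsBrauerPairOf p M B (cjPair x a).1 (cjPair x a).2 := by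
  haveI : Fintype G := Fintype.ofFinite G
  obtain ⟨P, e⟩ := a
  obtain ⟨hPe, hB, hb⟩ := h
  refine ⟨isBrauerPair_cjPair x (a := ⟨P, e⟩) hPe, hB, ?_⟩
  intro ξ' hξ'
  have hξ'' : ξ' ∈ mapBlock (cEquiv P x) e := by
    rw [← conjBlock_eq]; exact hξ'
  obtain ⟨ξ, hξ, rfl⟩ := hξ''
  have e1 : blockCoeff B = fun g' => blockCoeff B (x⁻¹ * g' * x) := by
    funext g'
    have := blockCoeff_classFunction B g' x⁻¹
    rw [← this]
    simp
  rw [e1]
  have := bo_cEquiv P x (blockCoeff B) ξ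
  show MemLocalIdeal M (brauerOmega (P.map (MulAut.conj x).toMonoidHom) _ _ - 1)
  rw [this]
  exact hb ξ hξ

end Cfsg.Agent.Lib.Helper2_BP9
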