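import Mathlib
import Cfsg.Prelude.Def_BrauerPairs
import Cfsg.Agent.Lib.Helper2_BP9
import Cfsg.Agent.Lib.Helper2_BlockSection

set_option autoImplicit false

namespace Cfsg.Agent.Lib.Helper2_BP10

open Cfsg Cfsg.Agent.Lib.Helper2_BlockLocal Cfsg.Agent.Lib.Helper2_BlockOm
  Cfsg.Agent.Lib.Helper2_BlockOsima Cfsg.Agent.Lib.Helper2_BlockBasic
  Cfsg.Agent.Lib.Helper2_BlockOrtho Cfsg.Agent.Lib.Helper2_BlockMinMax
  Cfsg.Agent.Lib.Helper2_BlockInd Cfsg.Agent.Lib.Helper2_BlockDefect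
  Cfsg.Agent.Lib.Helper2_BlockPCore Cfsg.Agent.Lib.Helper2_BlockNormal
  Cfsg.Agent.Lib.Helper2_BlockBrauer Cfsg.Agent.Lib.Helper2_BlockFMT
  Cfsg.Agent.Lib.Helper2_BrauerPairs Cfsg.Agent.Lib.Helper2_SecondMain
  Cfsg.Agent.Lib.Helper2_BP1 Cfsg.Agent.Lib.Helper2_BP2 Cfsg.Agent.Lib.Helper2_BP3
  Cfsg.Agent.Lib.Helper2_BP4 Cfsg.Agent.Lib.Helper2_BP5 Cfsg.Agent.Lib.Helper2_BP6
  Cfsg.Agent.Lib.Helper2_BP7 Cfsg.Agent.Lib.Helper2_BP8 Cfsg.Agent.Lib.Helper2_BP9
  Cfsg.Agent.Lib.Helper2_BlockSection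
  Cfsg.Agent.Lib.Helper2_BlockCover2 Cfsg.Agent.Lib.Helper2_Basic
  Cfsg.Agent.Lib.CharBasic Cfsg.Agent.Lib.CharOrtho
  Cfsg.Agent.Lib.CharComplete Cfsg.Agent.Lib.CharIntegral Cfsg.Agent.Lib.CharMore
  Cfsg.Agent.Lib.CharPerm Cfsg.Agent.Lib.CharInd
open scoped ComplexConjugate Classical
open Relation

universe u

variable {M : Ideal AlgInt} {p : ℕ} {G : Type u} [Group G]

theorem bo_sub_ideal_of_classes [Finite G] (hM : M.IsPrime) {P L : Subgroup G}
    (hCL : Subgroup.centralizer (P : Set G) ≤ L) {c : G → ℂ} (hc : Inv L c)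
    (hcR : ∀ g, MemLocalRing M (c g)) (ξ ξ' : IrrCharacter (Subgroup.centralizer (P : Set G)))
    (h : ∀ y ∈ Subgroup.centralizer (P : Set G), MemLocalIdeal M (c y) ∨
      MemLocalIdeal M (brauerOmega P (clL L y) (ξ : _ → ℂ) -
        brauerOmega P (clL L y) (ξ' : _ → ℂ))) :
    MemLocalIdeal M (brauerOmega P c (ξ : _ → ℂ) - brauerOmega P c (ξ' : _ → ℂ)) := by
  haveI : Fintype (Subgroup.centralizer (P : Set G)) := Fintype.ofFinite _
  have e1 : ∀ (ξ : IrrCharacter (Subgroup.centralizer (P : Set G)))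
      (y0 : Subgroup.centralizer (P : Set G)),
      ∑ y ∈ Finset.univ.filter (fun y : Subgroup.centralizer (P : Set G) =>
      (Quotient.mk (conjSetoid L (Subgroup.centralizer (P : Set G))) y) = Quotient.mk _ y0),
      c y * (ξ : Subgroup.centralizer (P : Set G) → ℂ) y /
        (ξ : Subgroup.centralizer (P : Set G) → ℂ) 1 =
      c y0 * brauerOmega P (clL L y0) (ξ : _ → ℂ) := by
    intro ξ y0
    rw [bo_eq]
    unfold Om
    rw [Finset.sum_div, Finset.mul_sum, Finset.sum_filter]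
    refine Finset.sum_congr rfl fun y _ => ?_
    by_cases hy : (Quotient.mk (conjSetoid L (Subgroup.centralizer (P : Set G))) y) =
        Quotient.mk _ y0
    · rw [if_pos hy]
      obtain ⟨n, hn, e⟩ : ∃ n ∈ L, n * (y0 : G) * n⁻¹ = y := Quotient.exact hy.symm
      have h1 : clL L (y0 : G) (y : G) = 1 := by
        unfold clL; rw [if_pos ⟨n, hn, e⟩]
      have h2 : c y = c y0 := by rw [← e, hc n hn]
      beta_reduce
      rw [h1, h2]
      ring
    · rw [if_neg hy]
      have h1 : clL L (y0 : G) (y : G) = 0 := by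
        unfold clL
        rw [if_neg]
        rintro ⟨n, hn, e⟩
        apply hy
        exact (Quotient.sound (s := conjSetoid L (Subgroup.centralizer (P : Set G)))
          (show (conjSetoid L _).r y0 y from ⟨n, hn, e⟩)).symm
      beta_reduce
      rw [h1]
      ring
  rw [bo_eq, bo_eq]
  unfold Om
  rw [Finset.sum_div, Finset.sum_div,
    Finset.sum_partition (conjSetoid L (Subgroup.centralizer (P : Set G))),
    Finset.sum_partition (conjSetoid L (Subgroup.centralizer (P : Set G))),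
    ← Finset.sum_sub_distrib]
  apply ideal_sum hM
  intro xbar hx
  obtain ⟨y0, -, rfl⟩ := Finset.mem_image.mp hx
  rw [e1, e1, ← mul_sub]
  have hR := bo_ring P hM (inv_mono hCL (clL_inv L (y0 : G))) (clL_ring hM L y0) ξ
  have hR' := bo_ring P hM (inv_mono hCL (clL_inv L (y0 : G))) (clL_ring hM L y0) ξ'
  rcases h y0 y0.2 with h1 | h1
  · exact ideal_mul_right hM h1 (ring_sub hM hR hR')
  · exact ideal_mul_left hM (hcR _) h1

variable [Fintype G]

theorem mem_orb_of_pairs [Fact p.Prime] (hM : IsPModular p M) {B : Set (IrrCharacter G)}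
    {P : Subgroup G} {e e' : Set (IrrCharacter (Subgroup.centralizer (P : Set G)))}
    (hBe : IsBrauerPairOf p M B P e) (hno : NoExt p M P e)
    (hBe' : IsBrauerPairOf p M B P e') : e' ∈ orb P e := by
  have hPr := isPrime_of_modular hM
  obtain ⟨hPe, hB, hb⟩ := id hBe
  obtain ⟨hP, he⟩ := id hPe
  obtain ⟨ξ, hξ⟩ := block_nonempty hPr he
  obtain ⟨ξ', hξ'⟩ := block_nonempty hPr hBe'.1.2
  obtain ⟨χ, hχ⟩ := block_nonempty hPr hB
  by_contra hcon
  have h1 := bo_eO hPr he he hξ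
  rw [if_pos (self_mem_orb P e)] at h1
  have h2 := bo_eO hPr he hBe'.1.2 hξ'
  rw [if_neg hcon] at h2
  apply not_ideal_one hPr (M := M)
  have h3 := bo_sub_ideal_of_classes hPr (centralizer_le_normalizer' P) (eO_inv P e)
    (eO_ring hPr he) ξ ξ' ?_
  · rw [h1, h2] at h3
    simpa using h3
  intro y hy
  by_cases h : MemLocalIdeal M (eO P e y)
  · exact Or.inl h
  right
  have hcard := sylow_of_eO_coeff hM hPe hno hy h
  have hPy : P ≤ Subgroup.centralizer ({y} : Set G) := le_centralizer_singleton_of_mem hy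
  have h4 : ∀ ζ : IrrCharacter (Subgroup.centralizer (P : Set G)),
      brauerOmega P (classInd y) (ζ : _ → ℂ) =
      brauerOmega P (clL (Subgroup.normalizer (P : Set G)) y) (ζ : _ → ℂ) := by
    intro ζ
    apply bo_congr
    intro x hx
    unfold classInd clL
    by_cases hc : IsConj y x
    · rw [if_pos hc, if_pos (conj_in_normalizer hP hx hPy hcard hc)]
    · rw [if_neg hc, if_neg]
      rintro ⟨n, -, hn⟩
      exact hc (isConj_iff.mpr ⟨n, hn⟩)
  have h5 := bo_of_pairOf hM hBe hξ hχ (classInd_classFunction y) (classInd_ring hPr y)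
  have h6 := bo_of_pairOf hM hBe' hξ' hχ (classInd_classFunction y) (classInd_ring hPr y)
  rw [← h4, ← h4]
  exact ideal_sub_trans hPr h5 (ideal_sub_comm h6)

theorem exists_noExt_ge (hM : IsPModular p M) {B : Set (IrrCharacter G)} :
    ∀ (n : ℕ) (a : BrauerPairIdx G), Nat.card G - Nat.card a.1 ≤ n →
      IsBrauerPairOf p M B a.1 a.2 →
      ∃ b : BrauerPairIdx G, ReflTransGen (NormalSubpairRel p M) a b ∧
        IsBrauerPairOf p M B b.1 b.2 ∧ NoExt p M b.1 b.2 := by
  intro n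
  induction n with
  | zero =>
    intro a hn ha
    refine ⟨a, ReflTransGen.refl, ha, ?_⟩
    intro R g h
    have h1 : a.1 ≤ R := h.2.2.1
    have h2 : Nat.card R ≤ Nat.card G := Subgroup.card_le_card_group R
    exact (Subgroup.eq_of_le_of_card_ge h1 (by omega)).symm
  | succ n ih =>
    intro a hn ha
    by_cases hno : NoExt p M a.1 a.2
    · exact ⟨a, ReflTransGen.refl, ha, hno⟩
    unfold NoExt at hno
    push Not at hno
    obtain ⟨R, g, h, hne⟩ := hno
    have h1 : a.1 ≤ R := h.2.2.1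
    have hlt : Nat.card a.1 < Nat.card R := by
      by_contra hc
      exact hne (Subgroup.eq_of_le_of_card_ge h1 (by omega)).symm
    have h2 : Nat.card R ≤ Nat.card G := Subgroup.card_le_card_group R
    have hrel : NormalSubpairRel p M a ⟨R, g⟩ := h
    have hle : SubpairLE p M a.1 a.2 R g := ReflTransGen.single hrel
    have hRg : IsBrauerPairOf p M B R g :=
      (brauerPairOf_iff_of_le hM h.2.1 h.1 hle ha.2.1).mpr ha
    obtain ⟨b, hb1, hb2, hb3⟩ := ih ⟨R, g⟩ (by show Nat.card G - Nat.card R ≤ n; omega) hRg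
    exact ⟨b, ReflTransGen.head hrel hb1, hb2, hb3⟩

theorem cjPair_of_normalizer {P : Subgroup G} {n : G}
    (hn : n ∈ Subgroup.normalizer (P : Set G))
    (e : Set (IrrCharacter (Subgroup.centralizer (P : Set G)))) :
    cjPair n ⟨P, e⟩ = ⟨P, cb P n hn e⟩ := by
  apply pair_ext
  · show P.map (MulAut.conj n).toMonoidHom = P
    ext g
    rw [mem_cj]
    have := Subgroup.mem_normalizer_iff.mp (Subgroup.inv_mem _ hn) g
    rw [this]
    simp
  · funext g
    rw [eps_cjPair]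
    exact (sbc_cb P n hn e g).symm

theorem conj_into_noExt [Fact p.Prime] (hM : IsPModular p M) {B : Set (IrrCharacter G)}
    {P : Subgroup G} {e : Set (IrrCharacter (Subgroup.centralizer (P : Set G)))}
    (hBe : IsBrauerPairOf p M B P e) (hno : NoExt p M P e) {a : BrauerPairIdx G}
    (ha : IsBrauerPairOf p M B a.1 a.2) :
    ∃ x : G, ReflTransGen (NormalSubpairRel p M) (cjPair x a) ⟨P, e⟩ := by
  have hB := hBe.2.1
  obtain ⟨b, hb1, hb2, hb3⟩ := exists_noExt_ge hM _ a le_rfl ha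
  have hD := defect_of_noExt hM hBe hno
  have hD' := defect_of_noExt hM hb2 hb3
  obtain ⟨c, hc⟩ := defect_le_conj hM hB hD' hD
  have hPc : P = b.1.map (MulAut.conj c).toMonoidHom :=
    Subgroup.eq_of_le_of_card_ge hc (by rw [card_cj, card_defect_eq hM hB hD hD'])
  have hb4 := brauerPairOf_cjPair c hb2
  obtain ⟨⟨P2, e2⟩, hcb⟩ : ∃ w : BrauerPairIdx G, cjPair c b = w := ⟨_, rfl⟩
  have hP2 : P2 = P := by
    have : (cjPair c b).1 = P2 := by rw [hcb]
    rw [← this, hPc]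
    rfl
  subst hP2
  rw [hcb] at hb4
  obtain ⟨n, hn, rfl⟩ := mem_orb_of_pairs hM hBe hno hb4
  rw [← cjPair_of_normalizer hn] at hcb
  refine ⟨n⁻¹ * c, ?_⟩
  have h1 := rtg_cjPair (n⁻¹ * c) hb1
  have h2 : cjPair (n⁻¹ * c) b = ⟨P2, e⟩ := by
    rw [← cjPair_mul, hcb, cjPair_mul, inv_mul_cancel, cjPair_one]
  rw [h2] at h1
  exact h1

end Cfsg.Agent.Lib.Helper2_BP10
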