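import Mathlib
import Cfsg.Prelude.Def_BrauerPairs
import Cfsg.Agent.Lib.Helper2_BP10

set_option autoImplicit false

namespace Cfsg.Agent.Lib.Helper2_BP11

open Cfsg Cfsg.Agent.Lib.Helper2_BlockLocal Cfsg.Agent.Lib.Helper2_BlockOm
  Cfsg.Agent.Lib.Helper2_BlockOsima Cfsg.Agent.Lib.Helper2_BlockBasic
  Cfsg.Agent.Lib.Helper2_BlockOrtho Cfsg.Agent.Lib.Helper2_BlockMinMax
  Cfsg.Agent.Lib.Helper2_BlockInd Cfsg.Agent.Lib.Helper2_BlockDefect
  Cfsg.Agent.Lib.Helper2_BlockPCore Cfsg.Agent.Lib.Helper2_BlockNormal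
  Cfsg.Agent.Lib.Helper2_BlockBrauer Cfsg.Agent.Lib.Helper2_BlockFMT
  Cfsg.Agent.Lib.Helper2_BrauerPairs Cfsg.Agent.Lib.Helper2_SecondMain
  Cfsg.Agent.Lib.Helper2_BP1 Cfsg.Agent.Lib.Helper2_BP2 Cfsg.Agent.Lib.Helper2_BP3
  Cfsg.Agent.Lib.Helper2_BP4 Cfsg.Agent.Lib.Helper2_BP5 Cfsg.Agent.Lib.Helper2_BP6
  Cfsg.Agent.Lib.Helper2_BP7 Cfsg.Agent.Lib.Helper2_BP8 Cfsg.Agent.Lib.Helper2_BP9
  Cfsg.Agent.Lib.Helper2_BP10
  Cfsg.Agent.Lib.Helper2_BlockSection
  Cfsg.Agent.Lib.Helper2_BlockCover2 Cfsg.Agent.Lib.Helper2_Basic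
  Cfsg.Agent.Lib.CharBasic Cfsg.Agent.Lib.CharOrtho
  Cfsg.Agent.Lib.CharComplete Cfsg.Agent.Lib.CharIntegral Cfsg.Agent.Lib.CharMore
  Cfsg.Agent.Lib.CharPerm Cfsg.Agent.Lib.CharInd
open scoped ComplexConjugate Classical
open Relation

universe u

variable {M : Ideal AlgInt} {p : ℕ}

section map

variable {H H' : Type u} [Group H] [Group H'] [Finite H] [Finite H']

theorem centralChar_mapIrr (e : H ≃* H') (χ : IrrCharacter H) (g : H) :
    centralChar ((mapIrr e χ : IrrCharacter H') : H' → ℂ) (e g) = centralChar (χ : H → ℂ) g := by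
  rw [← centralChar_comp_equiv e]
  congr 1
  funext h
  simp [mapIrr_coe]

theorem isDefectClass_mapBlock (e : H ≃* H') {f : Set (IrrCharacter H)} {g : H}
    (hg : IsDefectClass M f g) : IsDefectClass M (mapBlock e f) (e g) := by
  obtain ⟨h1, h2, h3⟩ := hg
  refine ⟨by rw [blockCoeff_mapBlock]; exact h1, by rw [blockCoeff_mapBlock]; exact h2, ?_⟩
  rintro _ ⟨χ, hχ, rfl⟩
  rw [centralChar_mapIrr]
  exact h3 χ hχ

theorem card_centralizer_equiv (e : H ≃* H') (g : H) :
    Nat.card (Subgroup.centralizer ({e g} : Set H')) =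
      Nat.card (Subgroup.centralizer ({g} : Set H)) := by
  have h1 := index_centralizer_equiv e g
  have h2 := (Subgroup.centralizer ({g} : Set H)).card_mul_index
  have h3 := (Subgroup.centralizer ({e g} : Set H')).card_mul_index
  rw [h1, ← Nat.card_congr e.toEquiv, ← h2] at h3
  exact Nat.eq_of_mul_eq_mul_right (Nat.pos_of_ne_zero (Subgroup.index_ne_zero_of_finite)) h3

theorem isDefectGroup_mapBlock [Fact p.Prime] (e : H ≃* H') {f : Set (IrrCharacter H)}
    {D : Subgroup H} (hD : IsDefectGroup p M f D) :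
    IsDefectGroup p M (mapBlock e f) (D.map e.toMonoidHom) := by
  haveI : Fintype H := Fintype.ofFinite H
  haveI : Fintype H' := Fintype.ofFinite H'
  obtain ⟨g, hg, P, rfl⟩ := hD
  refine ⟨e g, isDefectClass_mapBlock e hg, ?_⟩
  set E := ((P : Subgroup (Subgroup.centralizer ({g} : Set H))).map
    (Subgroup.centralizer ({g} : Set H)).subtype) with hE
  have hEp : IsPGroup p E := P.2.map _
  have hEle : E.map e.toMonoidHom ≤ Subgroup.centralizer ({e g} : Set H') := by
    rintro _ ⟨_, ⟨a, -, rfl⟩, rfl⟩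
    have := a.2
    rw [Subgroup.mem_centralizer_singleton_iff] at this ⊢
    simp only [Subgroup.coe_subtype, MulEquiv.coe_toMonoidHom]
    rw [← map_mul, this, map_mul]
  obtain ⟨Q, hQ⟩ := exists_sylow_sub_ge _ (hEp.map _) hEle
  refine ⟨Q, ?_⟩
  apply Subgroup.eq_of_le_of_card_ge hQ
  rw [Subgroup.card_map_of_injective (Subgroup.subtype_injective _),
    Subgroup.card_map_of_injective (f := e.toMonoidHom) e.injective, hE,
    Subgroup.card_map_of_injective (Subgroup.subtype_injective _),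
    Sylow.card_eq_multiplicity, Sylow.card_eq_multiplicity, card_centralizer_equiv]

theorem le_defect_of_unit [Fact p.Prime] (hM : IsPModular p M) {f : Set (IrrCharacter H)}
    (hf : IsPBlock M f) {y : H} (hy : ¬ MemLocalIdeal M (blockCoeff f y)) {A : Subgroup H}
    (hA : IsPGroup p A) (hAy : A ≤ Subgroup.centralizer ({y} : Set H)) :
    ∃ D, IsDefectGroup p M f D ∧ A ≤ D := by
  haveI : Fintype H := Fintype.ofFinite H
  have hPr := isPrime_of_modular hM
  obtain ⟨g0, hg0⟩ := exists_defectClass hPr hf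
  obtain ⟨S⟩ : Nonempty (Sylow p (Subgroup.centralizer ({g0} : Set H))) := inferInstance
  obtain ⟨x, hx⟩ := minmax_a hM hf g0 y hg0.2.2 hy S A hA hAy
  exact ⟨_, isDefectGroup_conj ⟨g0, hg0, S, rfl⟩ x, hx⟩

end map

variable {G : Type u} [Group G]

/-- the subgroup of elements leaving a function invariant -/
def invSub (c : G → ℂ) : Subgroup G where
  carrier := {m | ∀ g, c (m * g * m⁻¹) = c g}
  one_mem' := by intro g; simp
  mul_mem' := by
    intro a b ha hb g
    have : a * b * g * (a * b)⁻¹ = a * (b * g * b⁻¹) * a⁻¹ := by group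
    rw [this, ha, hb]
  inv_mem' := by
    intro a ha g
    have := ha (a⁻¹ * g * a⁻¹⁻¹)
    rw [← this]
    congr 1
    group

theorem inv_iff_le {L : Subgroup G} {c : G → ℂ} : Inv L c ↔ L ≤ invSub c := Iff.rfl

theorem inv_sup {A A' : Subgroup G} {c : G → ℂ} (h : Inv A c) (h' : Inv A' c) :
    Inv (A ⊔ A') c := by
  rw [inv_iff_le] at *
  exact sup_le h h'

theorem mem_centralizer_of_le {R : Subgroup G} {y : G}
    (h : R ≤ Subgroup.centralizer ({y} : Set G)) : y ∈ Subgroup.centralizer (R : Set G) := by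
  rw [Subgroup.mem_centralizer_iff]
  intro a ha
  exact Subgroup.mem_centralizer_singleton_iff.mp (h ha)

theorem sbc_inv_self [Finite G] (Q : Subgroup G)
    (f : Set (IrrCharacter (Subgroup.centralizer (Q : Set G)))) :
    Inv Q (subgroupBlockCoeff (Subgroup.centralizer (Q : Set G)) f) := by
  intro q hq g
  by_cases hg : g ∈ Subgroup.centralizer (Q : Set G)
  · have := Subgroup.mem_centralizer_iff.mp hg q hq
    rw [this, mul_assoc, mul_inv_cancel, mul_one]
  · rw [sbc_not_mem _ _ hg, sbc_not_mem]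
    intro h
    apply hg
    have hq' := normalizer_le_normalizer_centralizer Q (Subgroup.le_normalizer hq)
    exact (Subgroup.mem_normalizer_iff.mp hq' g).mpr h

variable [Fintype G]

theorem normal_between [Fact p.Prime] (hM : IsPModular p M) {P Q R : Subgroup G}
    {e : Set (IrrCharacter (Subgroup.centralizer (P : Set G)))}
    {f : Set (IrrCharacter (Subgroup.centralizer (Q : Set G)))}
    (hPe : IsBrauerPair p M P e) (hle : SubpairLE p M Q f P e) (hQR : Q ≤ R) (hRP : R ≤ P)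
    (hRN : R ≤ Subgroup.normalizer (Q : Set G)) :
    ∃ g : Set (IrrCharacter (Subgroup.centralizer (R : Set G))),
      SubpairLE p M R g P e ∧ IsNormalSubpair p M Q f R g := by
  obtain ⟨g, hg⟩ := subpair_exists hM _ hPe hRP le_rfl
  have hRg : IsBrauerPair p M R g := rtg_isBrauerPair' hg hPe
  obtain ⟨f', hf'⟩ := normal_subpair_exists hM hRg hQR hRN
  have h1 : ReflTransGen (NormalSubpairRel p M) ⟨Q, f'⟩ ⟨P, e⟩ :=
    ReflTransGen.head (show NormalSubpairRel p M ⟨Q, f'⟩ ⟨R, g⟩ from hf') hg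
  have : f = f' := subpair_unique hM _ ⟨P, e⟩ le_rfl hPe Q f f' hle h1
  subst this
  exact ⟨g, hg, hf'⟩

theorem exists_unit_of_normalSubpair (hM : M.IsPrime) {Q R : Subgroup G}
    {f : Set (IrrCharacter (Subgroup.centralizer (Q : Set G)))}
    {g : Set (IrrCharacter (Subgroup.centralizer (R : Set G)))}
    (h : IsNormalSubpair p M Q f R g) :
    ∃ y ∈ Subgroup.centralizer (R : Set G),
      ¬ MemLocalIdeal M (subgroupBlockCoeff (Subgroup.centralizer (Q : Set G)) f y) := by
  by_contra hcon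
  push Not at hcon
  obtain ⟨ξ, hξ⟩ := block_nonempty hM h.2.1.2
  apply not_ideal_one hM
  have h6 := bo_ideal R hM (inv_mono (centralizer_anti h.2.2.1) (sbc_inv _ f)) hcon ξ
  have := ideal_sub hM h6 (h.2.2.2.2.2 ξ hξ)
  simpa using this

/-- `C_P(Q)` lies in a defect group of `f` -/
theorem centralizer_le_defect [Fact p.Prime] (hM : IsPModular p M) {P Q : Subgroup G}
    {e : Set (IrrCharacter (Subgroup.centralizer (P : Set G)))}
    {f : Set (IrrCharacter (Subgroup.centralizer (Q : Set G)))}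
    (hPe : IsBrauerPair p M P e) (hle : SubpairLE p M Q f P e) :
    ∃ D : Subgroup (Subgroup.centralizer (Q : Set G)), IsDefectGroup p M f D ∧
      (P ⊓ Subgroup.centralizer (Q : Set G)).subgroupOf (Subgroup.centralizer (Q : Set G)) ≤ D := by
  have hPr := isPrime_of_modular hM
  have hQP : Q ≤ P := rtg_le hle
  have hQf : IsBrauerPair p M Q f := rtg_isBrauerPair' hle hPe
  obtain ⟨g, -, hg⟩ := normal_between hM hPe hle
    (R := Q ⊔ (P ⊓ Subgroup.centralizer (Q : Set G))) le_sup_left (sup_le hQP inf_le_left)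
    (sup_le Subgroup.le_normalizer (inf_le_right.trans (centralizer_le_normalizer' Q)))
  obtain ⟨y, hy, hy0⟩ := exists_unit_of_normalSubpair hPr hg
  have hyQ : y ∈ Subgroup.centralizer (Q : Set G) := centralizer_anti le_sup_left hy
  have h1 := sbc_coe _ f ⟨y, hyQ⟩
  simp only at h1
  rw [h1] at hy0
  apply le_defect_of_unit hM hQf.2 hy0 ((hPe.1.to_le inf_le_left).comap_subtype)
  intro a ha
  rw [Subgroup.mem_comap] at ha
  rw [Subgroup.mem_centralizer_singleton_iff]
  apply Subtype.ext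
  exact Subgroup.mem_centralizer_iff.mp hy a (le_sup_right (a := Q) ha)

/-- some conjugate has `C_P(Q)` as defect group -/
theorem exists_conj_centralizer_defect [Fact p.Prime] (hM : IsPModular p M)
    {B : Set (IrrCharacter G)} {P Q : Subgroup G}
    {e : Set (IrrCharacter (Subgroup.centralizer (P : Set G)))}
    {f : Set (IrrCharacter (Subgroup.centralizer (Q : Set G)))}
    (hBe : IsBrauerPairOf p M B P e) (hno : NoExt p M P e) (hle : SubpairLE p M Q f P e) :
    ∃ x : G, SubpairLE p M (Q.map (MulAut.conj x).toMonoidHom) (conjBlock Q x f) P e ∧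
      IsDefectGroup p M (conjBlock Q x f)
        ((P ⊓ Subgroup.centralizer ((Q.map (MulAut.conj x).toMonoidHom) : Set G)).subgroupOf
          (Subgroup.centralizer ((Q.map (MulAut.conj x).toMonoidHom) : Set G))) := by
  have hPr := isPrime_of_modular hM
  have hPe := hBe.1
  have hQf : IsBrauerPair p M Q f := rtg_isBrauerPair' hle hPe
  have hBf : IsBrauerPairOf p M B Q f := (brauerPairOf_iff_of_le hM hPe hQf hle hBe.2.1).mp hBe
  obtain ⟨D, hD⟩ := exists_defectGroup (p := p) hPr hQf.2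
  obtain ⟨g0, hg0, S, hS⟩ := id hD
  have hDp : IsPGroup p D := by rw [hS]; exact S.2.map _
  set DG := D.map (Subgroup.centralizer (Q : Set G)).subtype with hDG
  have hDGC : DG ≤ Subgroup.centralizer (Q : Set G) := by rintro _ ⟨a, -, rfl⟩; exact a.2
  have hDGN := hDGC.trans (centralizer_le_normalizer' Q)
  have hRp : IsPGroup p (Q ⊔ DG : Subgroup G) :=
    hQf.1.to_sup_of_normal_left' (hDp.map _) hDGN
  have hRN : Q ⊔ DG ≤ Subgroup.normalizer (Q : Set G) := sup_le Subgroup.le_normalizer hDGN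
  have hinv : Inv (Q ⊔ DG) (subgroupBlockCoeff (Subgroup.centralizer (Q : Set G)) f) :=
    inv_sup (sbc_inv_self Q f) (inv_mono hDGC (sbc_inv _ f))
  have hst : ∀ x ∈ Q ⊔ DG, StabilizesBlock (Subgroup.centralizer (Q : Set G)) f x := by
    intro x hx
    rw [stabilizes_iff_inv]
    exact ⟨normalizer_le_normalizer_centralizer Q (hRN hx), hinv x hx⟩
  have hy : (g0 : G) ∈ Subgroup.centralizer ((Q ⊔ DG : Subgroup G) : Set G) := by
    apply mem_centralizer_of_le
    apply sup_le (le_centralizer_singleton_of_mem g0.2)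
    rintro _ ⟨a, ha, rfl⟩
    rw [hS] at ha
    obtain ⟨b, -, rfl⟩ := ha
    have := Subgroup.mem_centralizer_singleton_iff.mp b.2
    rw [Subgroup.mem_centralizer_singleton_iff]
    exact congrArg Subtype.val this
  have hy0 : ¬ MemLocalIdeal M (subgroupBlockCoeff (Subgroup.centralizer (Q : Set G)) f g0) := by
    rw [sbc_coe]; exact hg0.2.1
  obtain ⟨g, hg⟩ := exists_normal_extension hM hQf hRp le_sup_left hRN hst hy hy0
  have hrel : ReflTransGen (NormalSubpairRel p M) ⟨Q, f⟩ ⟨Q ⊔ DG, g⟩ :=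
    ReflTransGen.single (show NormalSubpairRel p M ⟨Q, f⟩ ⟨Q ⊔ DG, g⟩ from hg)
  have hBg : IsBrauerPairOf p M B (Q ⊔ DG) g :=
    (brauerPairOf_iff_of_le hM hg.2.1 hQf hrel hBe.2.1).mpr hBf
  obtain ⟨x, hx⟩ := conj_into_noExt hM hBe hno (a := ⟨Q ⊔ DG, g⟩) hBg
  have hle' : SubpairLE p M (Q.map (MulAut.conj x).toMonoidHom) (conjBlock Q x f) P e :=
    (rtg_cjPair x hrel).trans hx
  refine ⟨x, hle', ?_⟩
  obtain ⟨D', hD', hle2⟩ := centralizer_le_defect hM hPe hle'
  have hD2 : IsDefectGroup p M (conjBlock Q x f) (D.map (cEquiv Q x).toMonoidHom) := by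
    rw [conjBlock_eq]
    exact isDefectGroup_mapBlock _ hD
  have hf' : IsPBlock M (conjBlock Q x f) := (rtg_isBrauerPair' hle' hPe).2
  have hsub : D.map (cEquiv Q x).toMonoidHom ≤
      (P ⊓ Subgroup.centralizer ((Q.map (MulAut.conj x).toMonoidHom) : Set G)).subgroupOf
          (Subgroup.centralizer ((Q.map (MulAut.conj x).toMonoidHom) : Set G)) := by
    rintro _ ⟨d, hd, rfl⟩
    rw [Subgroup.mem_subgroupOf]
    refine ⟨?_, Subtype.property _⟩
    have h3 : (Q ⊔ DG).map (MulAut.conj x).toMonoidHom ≤ P := rtg_le hx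
    apply h3
    exact ⟨d, le_sup_right (a := Q) ⟨d, hd, rfl⟩, rfl⟩
  have heq := Subgroup.eq_of_le_of_card_ge hle2 (by
    rw [card_defect_eq hM hf' hD' hD2]
    exact Nat.card_le_card_of_injective _ (Subgroup.inclusion_injective hsub))
  rw [heq]
  exact hD'

end Cfsg.Agent.Lib.Helper2_BP11
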