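import Mathlib
import Cfsg.Prelude.Def_BrauerPairs
import Cfsg.Agent.Lib.Helper2_BP11

set_option autoImplicit false

namespace Cfsg.Agent.Lib.BlockIdemFMT

open Cfsg Cfsg.Agent.Lib.Helper2_BlockLocal Cfsg.Agent.Lib.Helper2_BlockOm
  Cfsg.Agent.Lib.Helper2_BlockOsima Cfsg.Agent.Lib.Helper2_BlockBasic
  Cfsg.Agent.Lib.Helper2_BlockOrtho Cfsg.Agent.Lib.Helper2_BlockMinMax
  Cfsg.Agent.Lib.Helper2_BlockInd Cfsg.Agent.Lib.Helper2_BlockDefect
  Cfsg.Agent.Lib.Helper2_BlockPCore Cfsg.Agent.Lib.Helper2_BlockNormal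
  Cfsg.Agent.Lib.Helper2_BlockBrauer Cfsg.Agent.Lib.Helper2_BlockFMT
  Cfsg.Agent.Lib.Helper2_BrauerPairs Cfsg.Agent.Lib.Helper2_SecondMain
  Cfsg.Agent.Lib.Helper2_BP1 Cfsg.Agent.Lib.Helper2_BP2 Cfsg.Agent.Lib.Helper2_BP11
  Cfsg.Agent.Lib.CharBasic Cfsg.Agent.Lib.CharOrtho
  Cfsg.Agent.Lib.CharComplete Cfsg.Agent.Lib.CharIntegral Cfsg.Agent.Lib.CharMore
  Cfsg.Agent.Lib.CharPerm Cfsg.Agent.Lib.CharInd
open scoped ComplexConjugate Classical

universe u

variable {G : Type u} [Group G] {M : Ideal AlgInt} {p : ℕ}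

theorem conv_ideal_left [Fintype G] (hM : M.IsPrime) {c d : G → ℂ}
    (hc : ∀ g, MemLocalIdeal M (c g)) (hd : ∀ g, MemLocalRing M (d g)) (g : G) :
    MemLocalIdeal M (conv c d g) :=
  ideal_sum hM _ _ fun _ _ => ideal_mul_right hM (hc _) (hd _)

theorem conv_ideal_right [Fintype G] (hM : M.IsPrime) {c d : G → ℂ}
    (hc : ∀ g, MemLocalRing M (c g)) (hd : ∀ g, MemLocalIdeal M (d g)) (g : G) :
    MemLocalIdeal M (conv c d g) :=
  ideal_sum hM _ _ fun _ _ => ideal_mul_left hM (hc _) (hd _)

/-- Two central idempotents modulo the ideal with congruent central character values are congruent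
coefficientwise. -/
theorem idem_congr [Fintype G] (hM : IsPModular p M) {x y : G → ℂ}
    (hx : IsClassFunction G x) (hy : IsClassFunction G y)
    (hxR : ∀ g, MemLocalRing M (x g)) (hyR : ∀ g, MemLocalRing M (y g))
    (hxx : ∀ g, MemLocalIdeal M (conv x x g - x g))
    (hyy : ∀ g, MemLocalIdeal M (conv y y g - y g))
    (hO : ∀ χ : IrrCharacter G, MemLocalIdeal M (Om x (χ : G → ℂ) - Om y (χ : G → ℂ))) (g : G) :
    MemLocalIdeal M (x g - y g) := by
  have hPr := isPrime_of_modular hM
  set z : G → ℂ := x - y with hz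
  have hzc : IsClassFunction G z := classFunction_sub hx hy
  have hzR : ∀ g, MemLocalRing M (z g) := fun g => ring_sub hPr (hxR g) (hyR g)
  obtain ⟨n, hn⟩ := exists_pw_ideal hM hzc hzR (fun χ => by rw [hz, Om_sub]; exact hO χ)
  set a : G → ℂ := conv x x - x with ha
  set b : G → ℂ := conv y y - y with hb
  have hac : IsClassFunction G a := classFunction_sub (conv_classFunction hx hx) hx
  have hbc : IsClassFunction G b := classFunction_sub (conv_classFunction hy hy) hy
  set u : G → ℂ := deltaOne 1 + x - (3 : ℂ) • y with hu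
  set v : G → ℂ := (3 : ℂ) • x - deltaOne 1 - y with hv
  have huc : IsClassFunction G u :=
    classFunction_sub (classFunction_add (deltaOne_classFunction 1) hx) (classFunction_smul 3 hy)
  have hvc : IsClassFunction G v :=
    classFunction_sub (classFunction_sub (classFunction_smul 3 hx) (deltaOne_classFunction 1)) hy
  have h3 : MemLocalRing M (3 : ℂ) := by exact_mod_cast ring_natCast hPr 3
  have huR : ∀ g, MemLocalRing M (u g) := fun g =>
    ring_sub hPr (ring_add hPr (deltaOne_ring hPr (ring_one hPr) g) (hxR g))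
      (ring_mul hPr h3 (hyR g))
  have hvR : ∀ g, MemLocalRing M (v g) := fun g =>
    ring_sub hPr (ring_sub hPr (ring_mul hPr h3 (hxR g)) (deltaOne_ring hPr (ring_one hPr) g))
      (hyR g)
  set w : G → ℂ := conv a u + conv b v with hw
  have hwc : IsClassFunction G w :=
    classFunction_add (conv_classFunction hac huc) (conv_classFunction hbc hvc)
  have hwI : ∀ g, MemLocalIdeal M (w g) := fun g =>
    ideal_add hPr (conv_ideal_left hPr hxx huR g) (conv_ideal_left hPr hyy hvR g)
  -- the key identity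
  have key : ∀ m : ℕ, pw z (m + 3) - pw z (m + 1) = conv w (pw z m) := by
    intro m
    apply eq_of_Om_eq (classFunction_sub (pw_classFunction hzc _) (pw_classFunction hzc _))
      (conv_classFunction hwc (pw_classFunction hzc _))
    intro χ
    have h1 := irr_degree_ne_zero χ.2
    rw [Om_sub, Om_pw hzc, Om_pw hzc, Om_conv (pw_classFunction hzc _) χ.2, Om_pw hzc, hw, Om_add,
      Om_conv huc χ.2, Om_conv hvc χ.2, ha, hb, hu, hv, hz]
    simp only [Om_sub, Om_add, Om_smul, Om_conv hx χ.2, Om_conv hy χ.2, Om_deltaOne 1 h1]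
    ring
  have hodd : ∀ k : ℕ, ∀ g, MemLocalIdeal M (pw z (2 * k + 1) g - z g) := by
    intro k
    induction k with
    | zero =>
      intro g
      have : pw z (2 * 0 + 1) = z := by
        change conv z (deltaOne 1) = z
        exact conv_deltaOne_right z
      rw [this, sub_self]
      exact ideal_zero hPr
    | succ k ih =>
      intro g
      have h1 := congrFun (key (2 * k)) g
      have h2 : MemLocalIdeal M (pw z (2 * k + 3) g - pw z (2 * k + 1) g) := by
        have : pw z (2 * k + 3) g - pw z (2 * k + 1) g = conv w (pw z (2 * k)) g := h1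
        rw [this]
        exact conv_ideal_left hPr hwI (pw_ring hPr hzR _) g
      exact ideal_sub_trans hPr h2 (ih g)
  have hge : ∀ j : ℕ, ∀ g, MemLocalIdeal M (pw z (j + n) g) := by
    intro j
    induction j with
    | zero => intro g; rw [Nat.zero_add]; exact hn g
    | succ j ih =>
      intro g
      have : pw z (j + 1 + n) = conv z (pw z (j + n)) := by
        rw [show j + 1 + n = (j + n) + 1 by ring]; rfl
      rw [this]
      exact conv_ideal_right hPr hzR ih g
  have h1 := hodd n g
  have h2 := hge (n + 1) g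
  rw [show n + 1 + n = 2 * n + 1 by ring] at h2
  have h3 := ideal_sub hPr h2 h1
  have : pw z (2 * n + 1) g - (pw z (2 * n + 1) g - z g) = x g - y g := by
    rw [hz]; simp
  rwa [this] at h3

theorem induced_unique (hM : M.IsPrime) {H : Subgroup G} {b : Set (IrrCharacter H)}
    {B B' : Set (IrrCharacter G)} (h : IsInducedBlock M H b B) (h' : IsInducedBlock M H b B') :
    B = B' := by
  obtain ⟨ξ, hξ⟩ := block_nonempty hM h.1
  obtain ⟨χ, hχ⟩ := block_nonempty hM h.2.1
  obtain ⟨χ', hχ'⟩ := block_nonempty hM h'.2.1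
  have h1 : SameBlock M (χ : G → ℂ) (χ' : G → ℂ) := fun g =>
    ideal_sub_trans hM (ideal_sub_comm (h.2.2 ξ hξ χ hχ g)) (h'.2.2 ξ hξ χ' hχ' g)
  have h2 : χ' ∈ B := by
    rw [block_eq_blockOf hM h.2.1 hχ]
    exact h1
  exact block_eq_of_mem hM h.2.1 h'.2.1 h2 hχ'

/-- First main theorem in idempotent form. -/
theorem fmt_coeff [Finite G] [Fact p.Prime] (hM : IsPModular p M) {D : Subgroup G}
    (hD : IsPGroup p D) {B : Set (IrrCharacter G)}
    {b : Set (IrrCharacter (Subgroup.normalizer (D : Set G)))}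
    (hd : IsDefectGroup p M b (D.subgroupOf (Subgroup.normalizer (D : Set G))))
    (hi : IsInducedBlock M (Subgroup.normalizer (D : Set G)) b B)
    (h : Subgroup.normalizer (D : Set G)) :
    MemLocalIdeal M (trunc D (Subgroup.normalizer (D : Set G)) (blockCoeff B) h -
      blockCoeff b h) := by
  haveI : Fintype G := Fintype.ofFinite G
  haveI : Fintype (Subgroup.normalizer (D : Set G)) := Fintype.ofFinite _
  have hPr := isPrime_of_modular hM
  have hDN : D ≤ Subgroup.normalizer (D : Set G) := Subgroup.le_normalizer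
  have hb := hi.1
  have hB := hi.2.1
  have haB := blockCoeff_classFunction B
  have haR := osima_block hPr hB
  refine idem_congr hM (trunc_classFunction le_rfl (inv_of_classFunction haB _))
    (blockCoeff_classFunction b) (trunc_ring hPr _ _ haR) (osima_block hPr hb) ?_ ?_ ?_ h
  · intro g
    have := brauer_mul hM hD (centralizer_le_normalizer' D) (inv_of_classFunction haB D)
      (inv_of_classFunction haB D) haR haR g
    rw [conv_blockCoeff_self] at this
    exact ideal_sub_comm this
  · intro g
    rw [conv_blockCoeff_self, sub_self]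
    exact ideal_zero hPr
  · intro ξ
    obtain ⟨B', hB', -, hBc⟩ := exists_brauer_block hM hD (centralizer_le_normalizer' D) le_rfl ξ
    obtain ⟨χ, hχ⟩ := block_nonempty hPr hB'
    have h1 := hBc χ hχ (blockCoeff B) haB haR
    rw [Om_blockCoeff] at h1
    rw [Om_blockCoeff]
    have hind : IsInducedBlock M (Subgroup.normalizer (D : Set G))
        (blockOf M (ξ : Subgroup.normalizer (D : Set G) → ℂ)) B' := by
      refine isInducedBlock_of_trunc hM hD hDN le_rfl ⟨ξ, rfl⟩ (self_mem_blockOf hPr ξ) hB' ?_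
      intro χ' hχ' g
      have := hBc χ' hχ' (classInd g) (classInd_classFunction g) (classInd_ring hPr g)
      rwa [Om_classInd g (irr_classFunction χ')] at this
    have hiff : χ ∈ B ↔ ξ ∈ b := by
      constructor
      · intro hχB
        have e := block_eq_of_mem hPr hB hB' hχB hχ
        subst e
        rw [fmt_unique hM hD hd hi hind]
        exact self_mem_blockOf hPr ξ
      · intro hξb
        have e := block_eq_blockOf hPr hb hξb
        rw [← e] at hind
        rw [induced_unique hPr hi hind]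
        exact hχ
    simp only [hiff] at h1
    exact h1

theorem fmt_coeff' [Finite G] [Fact p.Prime] (hM : IsPModular p M) {D : Subgroup G}
    (hD : IsPGroup p D) {B : Set (IrrCharacter G)}
    {b : Set (IrrCharacter (Subgroup.normalizer (D : Set G)))}
    (hd : IsDefectGroup p M b (D.subgroupOf (Subgroup.normalizer (D : Set G))))
    (hi : IsInducedBlock M (Subgroup.normalizer (D : Set G)) b B)
    {x : G} (hx : x ∈ Subgroup.centralizer (D : Set G)) :
    MemLocalIdeal M (blockCoeff B x - blockCoeff b ⟨x, centralizer_le_normalizer' D hx⟩) := by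
  have := fmt_coeff hM hD hd hi ⟨x, centralizer_le_normalizer' D hx⟩
  unfold trunc at this
  rwa [if_pos hx] at this

theorem conv_sub_right [Fintype G] (a c d : G → ℂ) : conv a (c - d) = conv a c - conv a d := by
  funext g
  simp [conv, mul_sub, Finset.sum_sub_distrib]

/-- Orthogonal idempotents with congruent Brauer images have Brauer image zero. -/
theorem brauer_orth [Fintype G] (hM : IsPModular p M) {P : Subgroup G} (hP : IsPGroup p P)
    {α α' : G → ℂ} (hα : Inv P α) (hα' : Inv P α') (hR : ∀ g, MemLocalRing M (α g))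
    (hR' : ∀ g, MemLocalRing M (α' g)) (hidem : conv α α = α) (horth : conv α α' = 0)
    (hcong : ∀ x ∈ Subgroup.centralizer (P : Set G), MemLocalIdeal M (α x - α' x))
    {x : G} (hx : x ∈ Subgroup.centralizer (P : Set G)) : MemLocalIdeal M (α x) := by
  have hPr := isPrime_of_modular hM
  haveI : Fintype (⊤ : Subgroup G) := Fintype.ofFinite _
  set t := trunc P ⊤ α with ht
  set t' := trunc P ⊤ α' with ht'
  have h1 := brauer_mul hM hP (H := ⊤) le_top hα hα hR hR ⟨x, trivial⟩
  have h2 := brauer_mul hM hP (H := ⊤) le_top hα hα' hR hR' ⟨x, trivial⟩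
  rw [hidem] at h1
  rw [horth] at h2
  have h3 : ∀ g, MemLocalIdeal M ((t - t') g) := by
    intro g
    simp only [Pi.sub_apply, ht, ht', trunc]
    split_ifs with hg
    · exact hcong _ hg
    · rw [sub_self]; exact ideal_zero hPr
  have h4 := conv_ideal_right hPr (trunc_ring hPr P ⊤ hR) h3 ⟨x, trivial⟩
  rw [conv_sub_right] at h4
  have h5 : trunc P ⊤ (0 : G → ℂ) ⟨x, trivial⟩ = 0 := by
    unfold trunc; simp
  rw [h5, zero_sub] at h2
  have h6 : trunc P ⊤ α ⟨x, trivial⟩ = α x := by
    unfold trunc; rw [if_pos hx]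
  rw [h6] at h1
  have h7 := ideal_add hPr (ideal_add hPr h1 h4) (ideal_neg h2)
  simp only [Pi.sub_apply] at h7
  have : α x - conv t t ⟨x, trivial⟩ + (conv t t ⟨x, trivial⟩ - conv t t' ⟨x, trivial⟩) +
      - -conv t t' ⟨x, trivial⟩ = α x := by ring
  rwa [this] at h7

end Cfsg.Agent.Lib.BlockIdemFMT
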