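import Mathlib
import Cfsg.Prelude.Def_BrauerPairs
import Cfsg.Agent.Lib.BlockIdemFMT
import Cfsg.Agent.Lib.Helper2_BlockDefOrder

set_option autoImplicit false

namespace Cfsg.Agent.Lib.BlockFong

open Cfsg Cfsg.Agent.Lib.Helper2_BlockLocal Cfsg.Agent.Lib.Helper2_BlockOm
  Cfsg.Agent.Lib.Helper2_BlockOsima Cfsg.Agent.Lib.Helper2_BlockBasic
  Cfsg.Agent.Lib.Helper2_BlockOrtho Cfsg.Agent.Lib.Helper2_BlockMinMax
  Cfsg.Agent.Lib.Helper2_BlockInd Cfsg.Agent.Lib.Helper2_BlockDefect
  Cfsg.Agent.Lib.Helper2_BlockPCore Cfsg.Agent.Lib.Helper2_BlockNormal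
  Cfsg.Agent.Lib.Helper2_BlockBrauer Cfsg.Agent.Lib.Helper2_BlockFMT
  Cfsg.Agent.Lib.Helper2_BlockCover Cfsg.Agent.Lib.Helper2_BlockCover2
  Cfsg.Agent.Lib.Helper2_BlockCover3 Cfsg.Agent.Lib.Helper2_BlockDefOrder
  Cfsg.Agent.Lib.Helper2_BP1 Cfsg.Agent.Lib.Helper2_BP2 Cfsg.Agent.Lib.Helper2_BP11
  Cfsg.Agent.Lib.BlockIdemFMT
  Cfsg.Agent.Lib.CharBasic Cfsg.Agent.Lib.CharOrtho
  Cfsg.Agent.Lib.CharComplete Cfsg.Agent.Lib.CharIntegral Cfsg.Agent.Lib.CharMore
  Cfsg.Agent.Lib.CharPerm Cfsg.Agent.Lib.CharInd Cfsg.Agent.Lib.CharClifford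
open scoped ComplexConjugate Classical

universe u

variable {G : Type u} [Group G] [Fintype G] {M : Ideal AlgInt} {p : ℕ} (N : Subgroup G)
  (hN : N.Normal) [Fintype N]

theorem Om_sum_classes' {H : Type u} [Group H] [Fintype H] [Fintype (ConjClasses H)]
    {c χ : H → ℂ} (hc : IsClassFunction H c) (hχ : IsClassFunction H χ) :
    Om c χ = ∑ C : ConjClasses H, c (rep C) * centralChar χ (rep C) :=
  (Om_eq_sum_classes hc hχ).trans (by congr!)

/-- The number of `N`-classes contained in the `G`-class of `x`. -/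
noncomputable def mm (x : N) : ℕ :=
  (Finset.univ.filter (fun C : ConjClasses N => IsConj (x : G) ((rep C : N) : G))).card

omit [Fintype G] [Fintype N] in
include hN in
theorem exists_conj_eq {x y : N} (h : IsConj (x : G) (y : G)) :
    ∃ g : G, y = @MulAut.conjNormal G _ N hN g x := by
  obtain ⟨g, hg⟩ := isConj_iff.mp h
  exact ⟨g, Subtype.ext hg.symm⟩

include hN in
theorem induced_congr (hM : M.IsPrime) {b : Set (IrrCharacter N)} (hb : IsPBlock M b)
    (hst : Stable N hN b) {θ : IrrCharacter N} (hθ : θ ∈ b) (x : N) :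
    MemLocalIdeal M (inducedCentralChar N (θ : N → ℂ) (x : G) -
      (mm N x : ℂ) * centralChar (θ : N → ℂ) x) := by
  rw [inducedCentralChar_eq_Om, Om_sum_classes'
    (restrict_classFunction N (classInd_classFunction (x : G))) (irr_classFunction θ)]
  have h1 : (mm N x : ℂ) * centralChar (θ : N → ℂ) x =
      ∑ C : ConjClasses N, classInd (x : G) ((rep C : N) : G) * centralChar (θ : N → ℂ) x := by
    unfold mm classInd
    simp only [ite_mul, one_mul, zero_mul]
    rw [← Finset.sum_filter, Finset.sum_const, nsmul_eq_mul]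
  rw [h1, ← Finset.sum_sub_distrib]
  refine ideal_sum hM _ _ fun C _ => ?_
  rw [← mul_sub]
  unfold classInd
  split_ifs with hC
  · rw [one_mul]
    obtain ⟨g, hg⟩ := exists_conj_eq N hN hC
    rw [hg, ← centralChar_comp_equiv, ← conjFun_eq_comp]
    exact sameBlock_of_mem hM hb (hst g θ hθ) hθ x
  · rw [zero_mul]; exact ideal_zero hM

include hN in
theorem index_eq (x : N) :
    (Subgroup.centralizer ({(x : G)} : Set G)).index =
      mm N x * (Subgroup.centralizer ({x} : Set N)).index := by
  have hone : IsClassFunction N (fun _ : N => (1 : ℂ)) := fun _ _ => rfl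
  have h1 := Om_sum_classes'
    (restrict_classFunction N (classInd_classFunction (x : G))) hone
  have h2 : Om (fun h : N => classInd (x : G) (h : G)) (fun _ : N => (1 : ℂ)) =
      ((Subgroup.centralizer ({(x : G)} : Set G)).index : ℂ) := by
    unfold Om
    have h3 := sum_classInd_mul (x : G) (F := fun _ : G => (1 : ℂ)) (fun _ _ => rfl)
    rw [sum_eq_sum_subgroup N _ (fun g hg => by rw [classInd_eq_zero N hN x hg, mul_zero])] at h3
    simp only [one_mul, mul_one, div_one] at h3 ⊢
    exact h3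
  rw [h2] at h1
  have h4 : ∑ C : ConjClasses N, classInd (x : G) ((rep C : N) : G) *
      centralChar (fun _ : N => (1 : ℂ)) (rep C) =
      (mm N x : ℂ) * ((Subgroup.centralizer ({x} : Set N)).index : ℂ) := by
    have : ∀ C : ConjClasses N, classInd (x : G) ((rep C : N) : G) *
        centralChar (fun _ : N => (1 : ℂ)) (rep C) =
        classInd (x : G) ((rep C : N) : G) * ((Subgroup.centralizer ({x} : Set N)).index : ℂ) := by
      intro C
      unfold classInd
      split_ifs with hC
      · obtain ⟨g, hg⟩ := exists_conj_eq N hN hC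
        rw [hg]
        unfold centralChar
        rw [index_centralizer_equiv]
        simp
      · simp
    rw [Finset.sum_congr rfl fun C _ => this C]
    unfold mm classInd
    simp only [ite_mul, one_mul, zero_mul]
    rw [← Finset.sum_filter, Finset.sum_const, nsmul_eq_mul]
  rw [h4] at h1
  exact_mod_cast h1

include hN in
/-- A unit value of a central character of `G` at `x ∈ N`. -/
theorem unit_down (hM : IsPModular p M) {b : Set (IrrCharacter N)} (hb : IsPBlock M b)
    (hst : Stable N hN b) {θ : IrrCharacter N} (hθ : θ ∈ b) {χ : IrrCharacter G}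
    (h : classInner (fun n : N => (χ : G → ℂ) n) (θ : N → ℂ) ≠ 0) (x : N)
    (hx : ¬ MemLocalIdeal M (centralChar (χ : G → ℂ) (x : G))) :
    ¬ p ∣ mm N x ∧ ¬ MemLocalIdeal M (centralChar (θ : N → ℂ) x) := by
  have hPr := isPrime_of_modular hM
  rw [centralChar_eq_induced_of_over N hN χ.2 θ.2 h x] at hx
  have h1 := induced_congr N hN hPr hb hst hθ x
  have h2 : ¬ MemLocalIdeal M ((mm N x : ℂ) * centralChar (θ : N → ℂ) x) :=
    not_ideal_of_sub hPr (ideal_sub_comm h1) hx
  constructor
  · intro hp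
    exact h2 (ideal_mul_right hPr ((ideal_natCast_iff hM _).mpr hp) (centralChar_ring hPr θ x))
  · intro hw
    exact h2 (ideal_mul_left hPr (ring_natCast hPr _) hw)

include hN in
theorem unit_up (hM : IsPModular p M) {b : Set (IrrCharacter N)} (hb : IsPBlock M b)
    (hst : Stable N hN b) {θ : IrrCharacter N} (hθ : θ ∈ b) {χ : IrrCharacter G}
    (h : classInner (fun n : N => (χ : G → ℂ) n) (θ : N → ℂ) ≠ 0) (x : N)
    (hm : ¬ p ∣ mm N x) (hx : ¬ MemLocalIdeal M (centralChar (θ : N → ℂ) x)) :
    ¬ MemLocalIdeal M (centralChar (χ : G → ℂ) (x : G)) := by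
  have hPr := isPrime_of_modular hM
  rw [centralChar_eq_induced_of_over N hN χ.2 θ.2 h x]
  have h1 := induced_congr N hN hPr hb hst hθ x
  refine not_ideal_of_sub hPr h1 (not_ideal_mul hPr (ring_natCast hPr _) (centralChar_ring hPr θ x)
    (fun h => hm ((ideal_natCast_iff hM _).mp h)) hx)

/-- `B` covers `b`. -/
def Covers (B : Set (IrrCharacter G)) (b : Set (IrrCharacter N)) : Prop :=
  ∃ χ ∈ B, ∃ θ ∈ b, classInner (fun n : N => (χ : G → ℂ) n) (θ : N → ℂ) ≠ 0

include hN in
theorem over_of_covers (hM : M.IsPrime) {b : Set (IrrCharacter N)} (hb : IsPBlock M b)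
    (hst : Stable N hN b) {B : Set (IrrCharacter G)} (hB : IsPBlock M B) (hcov : Covers N B b)
    {χ : IrrCharacter G} (hχ : χ ∈ B) {θ : IrrCharacter N}
    (h : classInner (fun n : N => (χ : G → ℂ) n) (θ : N → ℂ) ≠ 0) : θ ∈ b := by
  obtain ⟨χ0, hχ0, θ0, hθ0, h0⟩ := hcov
  exact cover_invariant N hN hM hst (osima_block hM hb) (sameBlock_of_mem hM hB hχ0 hχ) h0 h hθ0

omit [Fintype N] in
theorem extCoeff_ring (hM : M.IsPrime) {b : Set (IrrCharacter N)} (hb : IsPBlock M b) (g : G) :
    MemLocalRing M (extCoeff N b g) := by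
  unfold extCoeff
  by_cases hg : g ∈ N
  · rw [extendByZero_mem N _ hg]; exact osima_block hM hb _
  · rw [extendByZero_not_mem N _ hg]; exact ring_zero hM

include hN in
/-- The idempotent of a stable block is the sum of the idempotents of the blocks covering it. -/
theorem extCoeff_eq_sum (hM : M.IsPrime) {b : Set (IrrCharacter N)} (hb : IsPBlock M b)
    (hst : Stable N hN b) :
    extCoeff N b = ∑ B ∈ (blocks M G).filter (fun B => Covers N B b), blockCoeff B := by
  apply eq_of_Om_eq (extCoeff_classFunction N hN hst)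
    (classFunction_sum _ _ fun B _ => blockCoeff_classFunction B)
  intro χ
  obtain ⟨θ, hθ⟩ := exists_under N χ
  rw [Om_extCoeff N hN hst χ θ hθ, Om_sum]
  simp only [Om_blockCoeff]
  by_cases hθb : θ ∈ b
  · rw [if_pos hθb, Finset.sum_eq_single (blockOf M (χ : G → ℂ))]
    · rw [if_pos (self_mem_blockOf hM χ)]
    · intro B hB hne
      rw [if_neg]
      intro hχ
      exact hne (block_eq_blockOf hM (mem_blocks.mp (Finset.mem_filter.mp hB).1) hχ)
    · intro hn
      exfalso
      apply hn
      rw [Finset.mem_filter]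
      exact ⟨mem_blocks.mpr ⟨χ, rfl⟩, χ, self_mem_blockOf hM χ, θ, hθb, hθ⟩
  · rw [if_neg hθb]
    symm
    apply Finset.sum_eq_zero
    intro B hB
    rw [if_neg]
    intro hχ
    rw [Finset.mem_filter] at hB
    exact hθb (over_of_covers N hN hM hb hst (mem_blocks.mp hB.1) hB.2 hχ hθ)

include hN in
/-- There is a block covering the stable block `b` with a defect class in `N` that is also a defect
class of `b`. -/
theorem exists_regular_cover (hM : IsPModular p M) {b : Set (IrrCharacter N)} (hb : IsPBlock M b)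
    (hst : Stable N hN b) :
    ∃ (x : N) (B : Set (IrrCharacter G)), IsPBlock M B ∧ Covers N B b ∧ IsDefectClass M b x ∧
      IsDefectClass M B (x : G) ∧ ¬ p ∣ mm N x := by
  have hPr := isPrime_of_modular hM
  obtain ⟨θ0, hθ0⟩ := block_nonempty hPr hb
  obtain ⟨χ0, hχ0⟩ := exists_over N θ0
  have h1 := Om_extCoeff N hN hst χ0 θ0 hχ0
  rw [if_pos hθ0, Om_sum_classes' (extCoeff_classFunction N hN hst) (irr_classFunction χ0)] at h1
  have h2 : ∃ C : ConjClasses G,
      ¬ MemLocalIdeal M (extCoeff N b (rep C) * centralChar (χ0 : G → ℂ) (rep C)) := by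
    by_contra hcon
    push Not at hcon
    apply not_ideal_one hPr
    rw [← h1]
    exact ideal_sum hPr _ _ fun C _ => hcon C
  obtain ⟨C, hC⟩ := h2
  have h3 : ¬ MemLocalIdeal M (extCoeff N b (rep C)) :=
    fun h => hC (ideal_mul_right hPr h (centralChar_ring hPr χ0 _))
  have h4 : ¬ MemLocalIdeal M (centralChar (χ0 : G → ℂ) (rep C)) :=
    fun h => hC (ideal_mul_left hPr (extCoeff_ring N hPr hb _) h)
  have hxN : rep C ∈ N := by
    by_contra hx
    apply h3
    unfold extCoeff
    rw [extendByZero_not_mem N _ hx]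
    exact ideal_zero hPr
  set x : N := ⟨rep C, hxN⟩ with hx
  have hxc : (x : G) = rep C := rfl
  rw [← hxc] at h3 h4
  obtain ⟨hm, hw⟩ := unit_down N hN hM hb hst hθ0 hχ0 x h4
  have h5 : ¬ MemLocalIdeal M (blockCoeff b x) := by
    unfold extCoeff at h3
    rwa [extendByZero_coe] at h3
  have hdb : IsDefectClass M b x := by
    refine ⟨osima_block hPr hb _, h5, fun θ hθ => ?_⟩
    exact not_ideal_of_sub hPr (sameBlock_of_mem hPr hb hθ hθ0 x) hw
  rw [extCoeff_eq_sum N hN hPr hb hst, Finset.sum_apply] at h3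
  have h6 : ∃ B ∈ (blocks M G).filter (fun B => Covers N B b),
      ¬ MemLocalIdeal M (blockCoeff B (x : G)) := by
    by_contra hcon
    push Not at hcon
    exact h3 (ideal_sum hPr _ _ hcon)
  obtain ⟨B, hB, hBx⟩ := h6
  rw [Finset.mem_filter] at hB
  have hB1 := mem_blocks.mp hB.1
  refine ⟨x, B, hB1, hB.2, hdb, ⟨osima_block hPr hB1 _, hBx, fun χ hχ => ?_⟩, hm⟩
  obtain ⟨θ, hθ⟩ := exists_under N χ
  have hθb := over_of_covers N hN hPr hb hst hB1 hB.2 hχ hθ
  exact unit_up N hN hM hb hst hθb hθ x hm (hdb.2.2 θ hθb)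

omit [Fintype G] in
theorem exists_unit_of_defect [Finite G] [Fact p.Prime] {B : Set (IrrCharacter G)}
    {D : Subgroup G} (hBD : IsDefectGroup p M B D) :
    ∃ g0 ∈ Subgroup.centralizer (D : Set G), ¬ MemLocalIdeal M (blockCoeff B g0) := by
  obtain ⟨g0, hg0, hle, -⟩ := isDefectGroup_iff.mp hBD
  refine ⟨g0, ?_, hg0.2.1⟩
  rw [Subgroup.mem_centralizer_iff]
  intro a ha
  exact Subgroup.mem_centralizer_singleton_iff.mp (hle ha)

include hN in
theorem conv_extCoeff (hM : M.IsPrime) {b : Set (IrrCharacter N)} (hb : IsPBlock M b)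
    (hst : Stable N hN b) {B : Set (IrrCharacter G)} (hB : IsPBlock M B) (hcov : Covers N B b) :
    conv (blockCoeff B) (extCoeff N b) = blockCoeff B := by
  apply eq_of_Om_eq (conv_classFunction (blockCoeff_classFunction B)
    (extCoeff_classFunction N hN hst)) (blockCoeff_classFunction B)
  intro χ
  obtain ⟨θ, hθ⟩ := exists_under N χ
  rw [Om_conv (extCoeff_classFunction N hN hst) χ.2, Om_blockCoeff, Om_extCoeff N hN hst χ θ hθ]
  by_cases hχ : χ ∈ B
  · rw [if_pos hχ, if_pos (over_of_covers N hN hM hb hst hB hcov hχ hθ), mul_one]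
  · rw [if_neg hχ, zero_mul]

include hN in
/-- The intersection with `N` of a defect group of a block covering the stable block `b` lies in a
defect group of `b`. -/
theorem inf_le_defect [Fact p.Prime] (hM : IsPModular p M) {b : Set (IrrCharacter N)}
    (hb : IsPBlock M b) (hst : Stable N hN b) {B : Set (IrrCharacter G)} (hB : IsPBlock M B)
    (hcov : Covers N B b) {P : Subgroup G} (hP : IsDefectGroup p M B P) :
    ∃ D : Subgroup N, IsDefectGroup p M b D ∧ (P ⊓ N).subgroupOf N ≤ D := by
  have hPr := isPrime_of_modular hM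
  have hPp := isPGroup_of_defect hP
  obtain ⟨y, hy, hu⟩ := exists_unit_of_defect hP
  have hex : ∃ z ∈ Subgroup.centralizer (P : Set G), ¬ MemLocalIdeal M (extCoeff N b z) := by
    by_contra hcon
    push Not at hcon
    apply hu
    haveI : Fintype (⊤ : Subgroup G) := Fintype.ofFinite _
    have h1 := brauer_mul hM hPp (H := ⊤) le_top
      (inv_of_classFunction (blockCoeff_classFunction B) P)
      (inv_of_classFunction (extCoeff_classFunction N hN hst) P) (osima_block hPr hB)
      (extCoeff_ring N hPr hb) ⟨y, trivial⟩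
    rw [conv_extCoeff N hN hPr hb hst hB hcov] at h1
    have h2 : ∀ g, MemLocalIdeal M (trunc P ⊤ (extCoeff N b) g) := by
      intro g
      unfold trunc
      split_ifs with hg
      · exact hcon _ hg
      · exact ideal_zero hPr
    have h3 := conv_ideal_right hPr (trunc_ring hPr P ⊤ (osima_block hPr hB)) h2 ⟨y, trivial⟩
    have h4 := ideal_add hPr h1 h3
    rw [sub_add_cancel] at h4
    unfold trunc at h4
    rwa [if_pos hy] at h4
  obtain ⟨z, hz, hzu⟩ := hex
  have hzN : z ∈ N := by
    by_contra hx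
    apply hzu
    unfold extCoeff
    rw [extendByZero_not_mem N _ hx]
    exact ideal_zero hPr
  have hzu' : ¬ MemLocalIdeal M (blockCoeff b ⟨z, hzN⟩) := by
    unfold extCoeff at hzu
    rwa [extendByZero_mem N _ hzN] at hzu
  refine le_defect_of_unit hM hb hzu' ((hPp.to_le inf_le_left).comap_subtype) ?_
  intro a ha
  rw [Subgroup.mem_centralizer_singleton_iff]
  apply Subtype.ext
  have haP : (a : G) ∈ P := (Subgroup.mem_subgroupOf.mp ha).1
  exact ((Subgroup.mem_centralizer_iff.mp hz) a haP)

include hN in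
/-- The order formula for a class of `N` whose `G`-class splits into a number of `N`-classes. -/
theorem card_centralizer_mul (x : N) :
    Nat.card (Subgroup.centralizer ({(x : G)} : Set G)) * mm N x =
      Nat.card (Subgroup.centralizer ({x} : Set N)) * N.index := by
  have h1 := index_eq N hN x
  have h2 := (Subgroup.centralizer ({(x : G)} : Set G)).card_mul_index
  have h3 := (Subgroup.centralizer ({x} : Set N)).card_mul_index
  have h4 := N.card_mul_index
  have h5 : (Subgroup.centralizer ({x} : Set N)).index ≠ 0 := Subgroup.index_ne_zero_of_finite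
  apply Nat.eq_of_mul_eq_mul_right (Nat.pos_of_ne_zero h5)
  calc Nat.card (Subgroup.centralizer ({(x : G)} : Set G)) * mm N x *
        (Subgroup.centralizer ({x} : Set N)).index
      = Nat.card (Subgroup.centralizer ({(x : G)} : Set G)) *
        (Subgroup.centralizer ({(x : G)} : Set G)).index := by rw [h1]; ring
    _ = Nat.card N * N.index := by rw [h2, h4]
    _ = _ := by rw [← h3]; ring

end Cfsg.Agent.Lib.BlockFong
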