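import Mathlib
import Cfsg.Prelude.Def_Blocks
import Cfsg.Agent.Lib.BlockPC
import Cfsg.Agent.Lib.CharCover
import Cfsg.Agent.Lib.Helper2_BlockCover3

set_option autoImplicit false

namespace Cfsg.Agent.Lib.BlockFongCover

open Cfsg Cfsg.Agent.Lib.Helper2_BlockLocal Cfsg.Agent.Lib.Helper2_BlockOm
  Cfsg.Agent.Lib.Helper2_BlockOsima Cfsg.Agent.Lib.Helper2_BlockBasic
  Cfsg.Agent.Lib.Helper2_BlockQuot Cfsg.Agent.Lib.Helper2_BlockPCore
  Cfsg.Agent.Lib.Helper2_BlockCover2 Cfsg.Agent.Lib.Helper2_BlockCover3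
  Cfsg.Agent.Lib.CharBasic Cfsg.Agent.Lib.CharOrtho
  Cfsg.Agent.Lib.CharComplete Cfsg.Agent.Lib.CharIntegral Cfsg.Agent.Lib.CharMore
  Cfsg.Agent.Lib.CharClifford Cfsg.Agent.Lib.CharQuot Cfsg.Agent.Lib.CharCover
  Cfsg.Agent.Lib.BlockPC Cfsg.Agent.Lib.helper8_Defect
open scoped ComplexConjugate Classical

universe u

variable {M : Ideal AlgInt} {p : ℕ}

/-- Lifting a normal `p`-subgroup through a central extension. -/
theorem exists_normal_pGroup_lift {A A' : Type*} [Group A] [Finite A] [Group A'] [hp : Fact p.Prime]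
    (φ : A →* A') (hker : φ.ker ≤ Subgroup.center A)
    (P' : Subgroup A') [P'.Normal] (hP' : IsPGroup p P') (hle : P' ≤ φ.range) :
    ∃ P₁ : Subgroup A, P₁.Normal ∧ IsPGroup p P₁ ∧ P₁.map φ = P' := by
  set W : Subgroup A := P'.comap φ with hW
  haveI hWn : W.Normal := inferInstance
  haveI : Finite P' := by
    have : Finite φ.range := Finite.of_surjective φ.rangeRestrict φ.rangeRestrict_surjective
    exact Finite.of_injective (Subgroup.inclusion hle) (Subgroup.inclusion_injective hle)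
  haveI : Group.IsNilpotent P' := hP'.isNilpotent
  have hnil : Group.IsNilpotent W := by
    apply Subgroup.isNilpotent_of_ker_le_center (φ.subgroupComap P')
    intro w hw
    rw [Subgroup.mem_center_iff]
    intro v
    apply Subtype.ext
    have h1 : (w : A) ∈ φ.ker := by
      have := congrArg Subtype.val (MonoidHom.mem_ker.mp hw)
      exact this
    exact Subgroup.mem_center_iff.mp (hker h1) v
  let S : Sylow p W := default
  haveI hSn : (S : Subgroup W).Normal := inferInstance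
  haveI hSc : (S : Subgroup W).Characteristic := Sylow.characteristic_of_normal S hSn
  refine ⟨(S : Subgroup W).map W.subtype, inferInstance, S.2.map _, ?_⟩
  apply le_antisymm
  · rintro _ ⟨_, ⟨w, -, rfl⟩, rfl⟩
    exact w.2
  · intro u hu
    obtain ⟨w, rfl⟩ := hle hu
    obtain ⟨a, y, hxy, hc, ⟨k, hk⟩, hy⟩ := Cfsg.Agent.Lib.Helper2_PPart.exists_isPPart hp.1 w
    have hwW : w ∈ W := hu
    have hwa : w ^ a ∈ W := Subgroup.pow_mem _ hwW a
    have hyW : y ∈ W := by
      have : y = (w ^ a)⁻¹ * w := eq_inv_mul_of_mul_eq hxy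
      rw [this]
      exact Subgroup.mul_mem _ (Subgroup.inv_mem _ hwa) hwW
    have hy1 : φ y = 1 := by
      obtain ⟨j, hj⟩ := (IsPGroup.iff_orderOf.mp hP') ⟨φ y, hyW⟩
      rw [← Subgroup.orderOf_coe] at hj
      simp only at hj
      have h2 : orderOf (φ y) ∣ orderOf y := orderOf_map_dvd φ y
      rcases Nat.eq_zero_or_pos j with h0 | h0
      · rw [h0, pow_zero, orderOf_eq_one_iff] at hj
        exact hj
      · exfalso
        apply hy
        rw [hj] at h2
        exact (dvd_pow_self p h0.ne').trans h2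
    have hmem : (⟨w ^ a, hwa⟩ : W) ∈ (S : Subgroup W) := by
      have hpg : IsPGroup p (Subgroup.zpowers (⟨w ^ a, hwa⟩ : W)) := by
        apply IsPGroup.of_card (n := k)
        rw [Nat.card_zpowers, Subgroup.orderOf_mk, hk]
      obtain ⟨Q, hQ⟩ := hpg.exists_le_sylow
      have hQS : Q = S := by
        haveI := Sylow.unique_of_normal S hSn
        exact Subsingleton.elim _ _
      rw [← hQS]
      exact hQ (Subgroup.mem_zpowers _)
    refine ⟨w ^ a, ⟨⟨w ^ a, hwa⟩, hmem, rfl⟩, ?_⟩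
    conv_rhs => rw [← hxy, map_mul, hy1, mul_one]

/-- Block membership can be tested on `p`-regular elements centralizing a normal `p`-subgroup. -/
theorem sameBlock_of_centralizer {A : Type u} [Group A] [Finite A] (hM : IsPModular p M)
    (P₁ : Subgroup A) (hn : P₁.Normal) (hP : IsPGroup p P₁) (β₁ β₂ : IrrCharacter A)
    (h : ∀ y ∈ Subgroup.centralizer (P₁ : Set A), ¬ p ∣ orderOf y →
      MemLocalIdeal M (centralChar (β₁ : A → ℂ) y - centralChar (β₂ : A → ℂ) y)) :
    SameBlock M (β₁ : A → ℂ) (β₂ : A → ℂ) := by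
  haveI : Fintype A := Fintype.ofFinite A
  have hPr := isPrime_of_modular hM
  apply sameBlock_of_regular hM
  intro y hy
  by_cases hc : y ∈ Subgroup.centralizer (P₁ : Set A)
  · exact h y hc hy
  · exact ideal_sub hPr (centralChar_ideal_of_not_centralizing hM P₁ hn hP y hc β₁)
      (centralChar_ideal_of_not_centralizing hM P₁ hn hP y hc β₂)

theorem sameBlock_mul {Γ : Type u} [Group Γ] [Finite Γ] (hM : IsPModular p M) {β₁ β₂ τ : Γ → ℂ}
    (hτ : IsIrrCharacter Γ τ) (hdeg : ¬ p ∣ charDegree τ) (hs : SameBlock M β₁ β₂) :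
    SameBlock M (β₁ * τ) (β₂ * τ) := by
  have hPr := isPrime_of_modular hM
  obtain ⟨t0, t1, -⟩ := irr_charDegree hτ
  intro y
  have e : ∀ β : Γ → ℂ, centralChar (β * τ) y = centralChar β y * (τ y * (τ 1)⁻¹) := by
    intro β
    unfold centralChar
    simp only [Pi.mul_apply]
    rw [div_eq_mul_inv, div_eq_mul_inv, mul_inv]
    ring
  rw [e, e, ← sub_mul]
  apply ideal_mul_right hPr (hs y)
  rw [t1]
  exact ring_mul hPr (ring_of_isIntegral hPr (isIntegral_of_isCharacter (isCharacter_of_isIrr hτ) y))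
    (ring_inv_natCast hM hdeg)

theorem sameBlock_of_comp_surj {Γ G : Type u} [Group Γ] [Finite Γ] [Group G]
    (hM : IsPModular p M) (π : Γ →* G) (hπ : Function.Surjective π)
    (hker : ¬ p ∣ Nat.card π.ker) {χ ψ : G → ℂ} (hχ : IsClassFunction G χ)
    (hψ : IsClassFunction G ψ) (hs : SameBlock M (χ ∘ π) (ψ ∘ π)) : SameBlock M χ ψ := by
  let e : Γ ⧸ π.ker ≃* G := QuotientGroup.quotientKerEquivOfSurjective π hπ
  have hcl : ∀ {f : G → ℂ}, IsClassFunction G f → IsClassFunction (Γ ⧸ π.ker) (f ∘ e) := by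
    intro f hf a b
    simp only [Function.comp_apply, map_mul, map_inv]
    exact hf _ _
  have h1 : SameBlock M (χ ∘ e) (ψ ∘ e) := by
    apply sameBlock_deflate hM π.ker hker (hcl hχ) (hcl hψ)
    exact hs
  have h2 := sameBlock_comp_equiv e.symm h1
  have e1 : ∀ f : G → ℂ, (f ∘ e) ∘ e.symm = f := by
    intro f
    ext g
    simp
  rwa [e1, e1] at h2

section fong

variable {G : Type u} [Group G] [Fintype G] (N : Subgroup G) [hN : N.Normal] [Fintype N]

theorem card_ker_proj {n : ℕ} (ρ : Representation ℂ N (Fin n → ℂ)) [hρ : ρ.IsIrreducible]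
    (hp : p.Prime) (hNp : ¬ p ∣ Nat.card N) : ¬ p ∣ Nat.card (proj N hN ρ).ker := by
  haveI : Fact p.Prime := ⟨hp⟩
  intro hdvd
  obtain ⟨z, hz⟩ := exists_prime_orderOf_dvd_card' p hdvd
  have hzk : proj N hN ρ (z : Gam N hN ρ) = 1 := z.2
  obtain ⟨c, hc⟩ := exists_scalar_ker N hN ρ z hzk
  have h1 := (z : Gam N hN ρ).2.2
  rw [← taut_apply, hc, LinearMap.det_smul, map_one, mul_one, ← pow_mul] at h1
  have h2 : (z : Gam N hN ρ) ^ (Module.finrank ℂ (Fin n → ℂ) * Nat.card N) = 1 := by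
    apply ext_iff'
    · rw [map_pow, hc, map_one, smul_pow, one_pow, h1, one_smul]
    · rw [map_pow, hzk, one_pow, map_one]
  have h3 : orderOf (z : Gam N hN ρ) ∣ Module.finrank ℂ (Fin n → ℂ) * Nat.card N :=
    orderOf_dvd_of_pow_eq_one h2
  rw [Subgroup.orderOf_coe, hz] at h3
  obtain ⟨d0, d1, d2⟩ := irr_charDegree (isIrrCharacter_of_rep ρ hρ)
  have h4 : charDegree ρ.character = Module.finrank ℂ (Fin n → ℂ) := by
    apply charDegree_of_eq
    rw [Representation.char_one]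
  rw [h4] at d2
  rcases (Nat.Prime.dvd_mul hp).mp h3 with h5 | h5
  · exact hNp (h5.trans d2)
  · exact hNp h5

/-- **Fong**: if `θ` is an invariant character of the normal `p'`-subgroup `N` and `G ⧸ N` has a
self-centralizing normal `p`-subgroup, all characters over `θ` lie in one block. -/
theorem fong_sameBlock [Fact p.Prime] (hM : IsPModular p M) (hNp : ¬ p ∣ Nat.card N)
    (θ : IrrCharacter N) (hinv : ∀ g : G, conjFun N hN (θ : N → ℂ) g = θ)
    (P' : Subgroup (G ⧸ N)) [P'.Normal] (hP' : IsPGroup p P')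
    (hC : Subgroup.centralizer (P' : Set (G ⧸ N)) ≤ P')
    (χ₁ χ₂ : IrrCharacter G) (h₁ : classInner (fun n : N => (χ₁ : G → ℂ) n) (θ : N → ℂ) ≠ 0)
    (h₂ : classInner (fun n : N => (χ₂ : G → ℂ) n) (θ : N → ℂ) ≠ 0) :
    SameBlock M (χ₁ : G → ℂ) (χ₂ : G → ℂ) := by
  have hPr := isPrime_of_modular hM
  have hp : p.Prime := hM.1
  obtain ⟨θ, n, ρ, hirr, rfl⟩ := θ
  simp only at hinv h₁ h₂
  haveI := hirr
  haveI : Fintype (Gam N hN ρ) := Fintype.ofFinite _
  obtain ⟨β₁, b1, k1, m1⟩ := exists_beta N hN ρ χ₁.2 hinv h₁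
  obtain ⟨β₂, b2, k2, m2⟩ := exists_beta N hN ρ χ₂.2 hinv h₂
  have hπ := proj_surjective N hN ρ hinv
  have hτ : IsIrrCharacter (Gam N hN ρ) (taut N hN ρ).character :=
    isIrrCharacter_of_rep (taut N hN ρ) (taut_irreducible N hN ρ)
  -- the degree of `τ` is prime to `p`
  have hτdeg : ¬ p ∣ charDegree (taut N hN ρ).character := by
    obtain ⟨d0, d1, d2⟩ := irr_charDegree (isIrrCharacter_of_rep ρ hirr)
    have h4 : charDegree (taut N hN ρ).character = charDegree ρ.character := by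
      apply charDegree_of_eq
      rw [← d1, Representation.char_one, Representation.char_one]
    rw [h4]
    exact fun h => hNp (h.trans d2)
  apply sameBlock_of_comp_surj hM (proj N hN ρ) hπ (card_ker_proj N ρ hp hNp)
    (irr_classFunction χ₁) (irr_classFunction χ₂)
  rw [← m1, ← m2]
  apply sameBlock_mul hM hτ hτdeg
  -- now `β₁`, `β₂`
  set L : Subgroup (Gam N hN ρ) := (lift N hN ρ).range with hL
  haveI hLn : L.Normal := lift_range_normal N hN ρ
  obtain ⟨γ₁, c1, e1⟩ := exists_deflate_irr L b1 (by rintro _ ⟨m, rfl⟩; exact k1 m)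
  obtain ⟨γ₂, c2, e2⟩ := exists_deflate_irr L b2 (by rintro _ ⟨m, rfl⟩; exact k2 m)
  rw [e1, e2]
  apply sameBlock_inflate L hM (irr_classFunction ⟨γ₁, c1⟩) (irr_classFunction ⟨γ₂, c2⟩)
  have hLN : L ≤ N.comap (proj N hN ρ) := by
    rintro _ ⟨m, rfl⟩
    rw [Subgroup.mem_comap, proj_lift]
    exact m.2
  let φ : Gam N hN ρ ⧸ L →* G ⧸ N := QuotientGroup.map L N (proj N hN ρ) hLN
  have hφmk : ∀ y : Gam N hN ρ, φ (QuotientGroup.mk y) = QuotientGroup.mk (proj N hN ρ y) :=
    fun y => rfl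
  have hφs : Function.Surjective φ := by
    intro q
    obtain ⟨g, rfl⟩ := QuotientGroup.mk_surjective q
    obtain ⟨y, rfl⟩ := hπ g
    exact ⟨QuotientGroup.mk y, rfl⟩
  -- elements of the kernel come from the kernel of the projection
  have hkerφ : ∀ q : Gam N hN ρ ⧸ L, φ q = 1 →
      ∃ z : Gam N hN ρ, proj N hN ρ z = 1 ∧ q = QuotientGroup.mk z := by
    intro q hq
    obtain ⟨y, rfl⟩ := QuotientGroup.mk_surjective q
    rw [hφmk, QuotientGroup.eq_one_iff] at hq
    refine ⟨y * (lift N hN ρ ⟨_, hq⟩)⁻¹, ?_, ?_⟩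
    · rw [map_mul, map_inv, proj_lift, mul_inv_cancel]
    · rw [QuotientGroup.mk_mul, QuotientGroup.mk_inv,
        (QuotientGroup.eq_one_iff (N := L) (lift N hN ρ ⟨_, hq⟩)).mpr ⟨_, rfl⟩, inv_one, mul_one]
  have hcent : φ.ker ≤ Subgroup.center (Gam N hN ρ ⧸ L) := by
    intro q hq
    obtain ⟨z, hz, rfl⟩ := hkerφ q hq
    rw [Subgroup.mem_center_iff]
    intro r
    obtain ⟨y, rfl⟩ := QuotientGroup.mk_surjective r
    rw [← QuotientGroup.mk_mul, ← QuotientGroup.mk_mul, ker_central N hN ρ z hz y]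
  obtain ⟨P₁, hP1n, hP1p, hP1m⟩ := exists_normal_pGroup_lift φ hcent P' hP'
    (by rw [MonoidHom.range_eq_top.mpr hφs]; exact le_top)
  apply sameBlock_of_centralizer hM P₁ hP1n hP1p ⟨γ₁, c1⟩ ⟨γ₂, c2⟩
  intro q hq hqr
  -- `φ q` centralizes `P'`, so it lies in `P'`, and it is `p`-regular
  have h3 : φ q ∈ P' := by
    apply hC
    rw [Subgroup.mem_centralizer_iff]
    intro u hu
    rw [SetLike.mem_coe, ← hP1m] at hu
    obtain ⟨v, hv, rfl⟩ := hu
    rw [← map_mul, ← map_mul, (Subgroup.mem_centralizer_iff.mp hq) v hv]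
  have h4 : φ q = 1 := by
    obtain ⟨j, hj⟩ := (IsPGroup.iff_orderOf.mp hP') ⟨φ q, h3⟩
    rw [← Subgroup.orderOf_coe] at hj
    simp only at hj
    have h5 : orderOf (φ q) ∣ orderOf q := orderOf_map_dvd φ q
    rcases Nat.eq_zero_or_pos j with h0 | h0
    · rw [h0, pow_zero, orderOf_eq_one_iff] at hj
      exact hj
    · exfalso
      apply hqr
      rw [hj] at h5
      exact (dvd_pow_self p h0.ne').trans h5
  obtain ⟨z, hz, rfl⟩ := hkerφ q h4
  have key : ∀ (χ : IrrCharacter G) (β : Gam N hN ρ → ℂ) (γ : Gam N hN ρ ⧸ L → ℂ),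
      β * (taut N hN ρ).character = (χ : G → ℂ) ∘ proj N hN ρ →
      β = (fun y => γ (QuotientGroup.mk y)) →
      γ (QuotientGroup.mk z) * (taut N hN ρ).character z = γ 1 * (taut N hN ρ).character 1 := by
    intro χ β γ hm he
    have a1 := congrFun hm z
    have a2 := congrFun hm 1
    simp only [Pi.mul_apply, Function.comp_apply, hz, map_one] at a1 a2
    rw [he] at a1 a2
    rw [a1]
    exact a2.symm
  have k1' := key χ₁ β₁ γ₁ m1 e1
  have k2' := key χ₂ β₂ γ₂ m2 e2
  have g1 : γ₁ 1 ≠ 0 := irr_degree_ne_zero c1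
  have g2 : γ₂ 1 ≠ 0 := irr_degree_ne_zero c2
  have t1 : (taut N hN ρ).character 1 ≠ 0 := irr_degree_ne_zero hτ
  have tz : (taut N hN ρ).character z ≠ 0 := by
    intro h0
    rw [h0, mul_zero] at k1'
    exact mul_ne_zero g1 t1 k1'.symm
  have hfin : centralChar γ₁ (QuotientGroup.mk z) - centralChar γ₂ (QuotientGroup.mk z) = 0 := by
    unfold centralChar
    have a1 : γ₁ (QuotientGroup.mk z) = γ₁ 1 * (taut N hN ρ).character 1 /
        (taut N hN ρ).character z := by
      rw [← k1']; field_simp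
    have a2 : γ₂ (QuotientGroup.mk z) = γ₂ 1 * (taut N hN ρ).character 1 /
        (taut N hN ρ).character z := by
      rw [← k2']; field_simp
    rw [a1, a2]
    field_simp
    ring
  change MemLocalIdeal M (centralChar γ₁ _ - centralChar γ₂ _)
  rw [hfin]
  exact ideal_zero hPr

end fong

end Cfsg.Agent.Lib.BlockFongCover
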