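import Mathlib
import Cfsg.Prelude.Def_Blocks
import Cfsg.Prelude.Def_Local
import Cfsg.Prelude.Def_CaseTheorems
import Cfsg.Agent.Lib.BlockFongCover
import Cfsg.Agent.Lib.Helper4_PSol
import Cfsg.Agent.Lib.Helper3_PComp
import Cfsg.Agent.Lib.Helper2_BlockFMT
import Cfsg.Agent.Lib.Helper2_BlockDefOrder
import Cfsg.Agent.S0970

set_option autoImplicit false

namespace Cfsg.Agent.Lib.BlockFongMain

open Cfsg Cfsg.Agent.Lib.Helper2_BlockLocal Cfsg.Agent.Lib.Helper2_BlockOm
  Cfsg.Agent.Lib.Helper2_BlockOsima Cfsg.Agent.Lib.Helper2_BlockBasic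
  Cfsg.Agent.Lib.Helper2_BlockCover2 Cfsg.Agent.Lib.Helper2_BlockCover3
  Cfsg.Agent.Lib.CharBasic Cfsg.Agent.Lib.CharOrtho
  Cfsg.Agent.Lib.CharComplete Cfsg.Agent.Lib.CharIntegral Cfsg.Agent.Lib.CharMore
  Cfsg.Agent.Lib.CharClifford Cfsg.Agent.Lib.BlockFongCover Cfsg.Agent.Lib.helper8_Defect
open scoped ComplexConjugate Classical

universe u

variable {M : Ideal AlgInt} {p : ℕ}

theorem isPSolvable_quotient {G : Type*} [Group G] (hp : p.Prime) (N : Subgroup G) [N.Normal]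
    (h : IsPSolvable p G) : IsPSolvable p (G ⧸ N) := by
  obtain ⟨n, H, h0, hlast, hmono, hnorm, hstep⟩ := h
  refine ⟨n, fun i => (H i).map (QuotientGroup.mk' N), ?_, ?_, ?_, ?_, ?_⟩
  · simp only [h0, Subgroup.map_bot]
  · simp only [hlast]
    rw [← MonoidHom.range_eq_map, MonoidHom.range_eq_top]
    exact QuotientGroup.mk'_surjective N
  · intro i j hij
    exact Subgroup.map_mono (hmono hij)
  · intro i
    haveI := hnorm i
    exact Subgroup.Normal.map inferInstance _ (QuotientGroup.mk'_surjective N)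
  · intro i
    haveI := hnorm i.castSucc
    have hle : H i.castSucc ≤ H i.succ := hmono (Fin.castSucc_lt_succ).le
    have hdvd : ((H i.castSucc).map (QuotientGroup.mk' N)).relIndex
        ((H i.succ).map (QuotientGroup.mk' N)) ∣ (H i.castSucc).relIndex (H i.succ) := by
      rw [Subgroup.relIndex_map_map, QuotientGroup.ker_mk']
      have e : H i.succ ⊔ N = H i.succ ⊔ (H i.castSucc ⊔ N) := by
        rw [← sup_assoc, sup_eq_left.mpr hle]
      rw [e, Subgroup.relIndex_sup_right]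
      exact Subgroup.relIndex_dvd_of_le_left _ le_sup_left
    rcases hstep i with ⟨m, hm⟩ | hcop
    · left
      rw [hm] at hdvd
      obtain ⟨j, -, hj⟩ := (Nat.dvd_prime_pow hp).mp hdvd
      exact ⟨j, hj⟩
    · right
      exact Nat.Coprime.coprime_dvd_left hdvd hcop

theorem fong_block {G : Type u} [Group G] [Fintype G] [Fact p.Prime] (hM : IsPModular p M)
    (N : Subgroup G) [hN : N.Normal] [Fintype N] (hNp : ¬ p ∣ Nat.card N)
    (θ : IrrCharacter N) (hinv : ∀ g : G, conjFun N hN (θ : N → ℂ) g = θ)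
    (P' : Subgroup (G ⧸ N)) [P'.Normal] (hP' : IsPGroup p P')
    (hC : Subgroup.centralizer (P' : Set (G ⧸ N)) ≤ P') :
    ∃ B : Set (IrrCharacter G), IsPBlock M B ∧
      (∀ χ : IrrCharacter G, χ ∈ B ↔ classInner (fun n : N => (χ : G → ℂ) n) (θ : N → ℂ) ≠ 0) ∧
      (∀ P : Sylow p G, IsDefectGroup p M B (P : Subgroup G)) ∧
      ∀ D : Subgroup G, IsDefectGroup p M B D → ∃ P : Sylow p G, D = (P : Subgroup G) := by
  have hPr := isPrime_of_modular hM
  have hp : p.Prime := hM.1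
  obtain ⟨χ0, hχ0, hc0⟩ := Cfsg.Agent.Lib.CharCover.exists_over N θ.2
  set B := blockOf M χ0 with hBdef
  have hB : IsPBlock M B := ⟨⟨χ0, hχ0⟩, rfl⟩
  have hmem : ∀ χ : IrrCharacter G, χ ∈ B ↔
      classInner (fun n : N => (χ : G → ℂ) n) (θ : N → ℂ) ≠ 0 := by
    intro χ
    constructor
    · intro h
      exact over_of_sameBlock_pprime N hN hM hNp (χ := ⟨χ0, hχ0⟩) h θ hc0
    · intro h
      exact fong_sameBlock N hM hNp θ hinv P' hP' hC ⟨χ0, hχ0⟩ χ hc0 h
  -- the block `{θ}` of `N`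
  obtain ⟨d0, d1, d2⟩ := irr_charDegree θ.2
  have hdz : ¬ p ∣ Nat.card N / charDegree (θ : N → ℂ) :=
    fun h => hNp (h.trans (Nat.div_dvd_of_dvd d2))
  have hbθ := Cfsg.Agent.Lib.helper8_DefectZero.blockOf_eq_singleton hM θ hdz
  have hb : IsPBlock M ({θ} : Set (IrrCharacter N)) := ⟨θ, hbθ.symm⟩
  have hcard : ∀ D : Subgroup G, IsDefectGroup p M B D →
      Nat.card D = p ^ (Nat.card G).factorization p := by
    intro D hD
    have h1 := Cfsg.Agent.S0970.result p M hM N {θ} hb ?_ B hB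
      ⟨⟨χ0, hχ0⟩, self_mem_blockOf hPr ⟨χ0, hχ0⟩, θ, rfl, hc0⟩ ?_ D hD
    · rw [Cfsg.Agent.Lib.Helper2_BlockDefOrder.card_defectGroup hM hB hD, h1.2.2]
      congr 1
      have hN0 : (Nat.card N).factorization p = 0 := Nat.factorization_eq_zero_of_not_dvd hNp
      have e1 : blockDefect p ({θ} : Set (IrrCharacter N)) = 0 := by
        unfold blockDefect
        rw [hN0, Nat.zero_sub]
      have e2 := N.card_mul_index
      rw [e1, zero_add, ← e2, Nat.factorization_mul Nat.card_pos.ne'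
        Subgroup.index_ne_zero_of_finite, Finsupp.add_apply, hN0, zero_add]
    · intro g θ1 hθ1 θ' hθ'
      rw [Set.mem_singleton_iff] at hθ1 ⊢
      subst hθ1
      apply Subtype.ext
      rw [← hinv g]
      ext n
      rw [conjFun_apply]
      exact hθ' n
    · rintro B' hB' ⟨χ, hχ, θ1, hθ1, hc⟩
      rw [Set.mem_singleton_iff] at hθ1
      subst hθ1
      have h2 : χ ∈ B := (hmem χ).mpr hc
      have h3 : B' = B := by
        rw [block_eq_blockOf hPr hB' hχ, block_eq_blockOf hPr hB h2]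
      rw [h3]
  refine ⟨B, hB, hmem, ?_, ?_⟩
  · intro P
    obtain ⟨D, hD⟩ := Cfsg.Agent.Lib.Helper2_BlockFMT.exists_defectGroup (p := p) hPr hB
    let S₀ : Sylow p G := Sylow.ofCard D (hcard D hD)
    obtain ⟨g, hg⟩ := MulAction.exists_smul_eq G S₀ P
    have h1 := Cfsg.Agent.Lib.Helper2_BlockDefect.isDefectGroup_conj hD g
    have h2 : (P : Subgroup G) = D.map (MulAut.conj g).toMonoidHom := by
      rw [← hg, Sylow.coe_subgroup_smul]
      rfl
    rw [h2]
    exact h1
  · intro D hD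
    exact ⟨Sylow.ofCard D (hcard D hD), rfl⟩

end Cfsg.Agent.Lib.BlockFongMain
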