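import Mathlib
import Cfsg.Prelude.Def_Characters
import Cfsg.Agent.Lib.CharMore

/-!
# Burnside's vanishing lemma, prime-power classes, and the `p^a q^b` theorem
-/

set_option autoImplicit false

namespace Cfsg.Agent.Lib.CharBurnside

open Cfsg Representation Module Cfsg.Agent.Lib.CharBasic Cfsg.Agent.Lib.CharOrtho
  Cfsg.Agent.Lib.CharComplete Cfsg.Agent.Lib.CharIntegral Cfsg.Agent.Lib.CharMore
open scoped ComplexConjugate

universe u v

/-- An average of roots of unity which is an algebraic integer is `0` or has absolute value `1`. -/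
theorem avg_roots_of_unity_aux (K : Type) [Field K] [Algebra ℚ K] {n m : ℕ} [NeZero m]
    [IsCyclotomicExtension {m} ℚ K] (hn : 0 < n) (hm : 0 < m) (μ : Fin n → ℂ)
    (hμ : ∀ i, μ i ^ m = 1) (hint : IsIntegral ℤ ((∑ i, μ i) / (n : ℂ))) :
    (∑ i, μ i) = 0 ∨ ‖∑ i, μ i‖ = n := by
  classical
  let ζ : K := IsCyclotomicExtension.zeta m ℚ K
  have hζ : IsPrimitiveRoot ζ m := IsCyclotomicExtension.zeta_spec m ℚ K
  haveI : FiniteDimensional ℚ K := IsCyclotomicExtension.finiteDimensional {m} ℚ K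
  haveI : NumberField K := IsCyclotomicExtension.numberField {m} ℚ K
  let φ0 : K →ₐ[ℚ] ℂ := IsAlgClosed.lift
  have hζ' : IsPrimitiveRoot (φ0 ζ) m := hζ.map_of_injective φ0.injective
  have hk : ∀ i, ∃ k, (φ0 ζ) ^ k = μ i := by
    intro i
    obtain ⟨k, _, hk⟩ := hζ'.eq_pow_of_pow_eq_one (hμ i)
    exact ⟨k, hk⟩
  choose k hk using hk
  let a : K := (∑ i, ζ ^ k i) / (n : K)
  have hnC : (n : ℂ) ≠ 0 := by exact_mod_cast hn.ne'
  have hφ : ∀ σ : K →ₐ[ℚ] ℂ, σ a = (∑ i, (σ ζ) ^ k i) / (n : ℂ) := by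
    intro σ
    simp only [a, map_div₀, map_sum, map_pow, map_natCast]
  have hφ0 : φ0 a = (∑ i, μ i) / (n : ℂ) := by
    rw [hφ]; simp only [hk]
  have hbound : ∀ σ : K →ₐ[ℚ] ℂ, ‖σ a‖ ≤ 1 := by
    intro σ
    rw [hφ, norm_div, Complex.norm_natCast, div_le_one (by exact_mod_cast hn)]
    have h1 : ‖σ ζ‖ = 1 := by
      have : (σ ζ) ^ m = 1 := by rw [← map_pow, hζ.pow_eq_one, map_one]
      exact Complex.norm_eq_one_of_pow_eq_one this hm.ne'
    calc ‖∑ i, (σ ζ) ^ k i‖ ≤ ∑ i, ‖(σ ζ) ^ k i‖ := norm_sum_le _ _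
      _ = ∑ _i : Fin n, (1 : ℝ) := by simp [norm_pow, h1]
      _ = n := by simp
  have ha : IsIntegral ℤ a := by
    rw [← isIntegral_algHom_iff (φ0.restrictScalars ℤ) φ0.injective]
    change IsIntegral ℤ (φ0 a)
    rw [hφ0]; exact hint
  have hN : IsIntegral ℤ (Algebra.norm ℚ a) := Algebra.isIntegral_norm ℚ ha
  obtain ⟨z, hz⟩ := IsIntegrallyClosed.isIntegral_iff.mp hN
  have hprod : algebraMap ℚ ℂ (Algebra.norm ℚ a) = ∏ σ : K →ₐ[ℚ] ℂ, σ a :=
    Algebra.norm_eq_prod_embeddings ℚ ℂ a
  by_cases hlt : ‖∑ i, μ i‖ = n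
  · exact Or.inr hlt
  · left
    have hle : ‖φ0 a‖ ≤ 1 := hbound φ0
    have hlt' : ‖φ0 a‖ < 1 := by
      refine lt_of_le_of_ne hle ?_
      intro h1
      apply hlt
      rw [hφ0, norm_div, Complex.norm_natCast, div_eq_one_iff_eq (by exact_mod_cast hn.ne')] at h1
      exact h1
    have hnormlt : ‖∏ σ : K →ₐ[ℚ] ℂ, σ a‖ < 1 := by
      rw [norm_prod, ← Finset.mul_prod_erase Finset.univ _ (Finset.mem_univ φ0)]
      calc ‖φ0 a‖ * ∏ σ ∈ Finset.univ.erase φ0, ‖σ a‖ ≤ ‖φ0 a‖ * 1 := by
            apply mul_le_mul_of_nonneg_left _ (norm_nonneg _)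
            exact Finset.prod_le_one (fun _ _ => norm_nonneg _) (fun σ _ => hbound σ)
        _ < 1 := by rw [mul_one]; exact hlt'
    rw [← hprod, ← hz] at hnormlt
    have hz0 : z = 0 := by
      have h2 : ‖(z : ℂ)‖ < 1 := by simpa using hnormlt
      rw [Complex.norm_intCast] at h2
      have h3 : |z| < 1 := by exact_mod_cast h2
      exact Int.abs_lt_one_iff.mp h3
    rw [hz0] at hz
    have hnorm0 : Algebra.norm ℚ a = 0 := by rw [← hz]; simp
    have ha0 : a = 0 := Algebra.norm_eq_zero_iff.mp hnorm0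
    have : (∑ i, μ i) / (n : ℂ) = 0 := by rw [← hφ0, ha0, map_zero]
    rcases div_eq_zero_iff.mp this with h | h
    · exact h
    · exact absurd h hnC

theorem avg_roots_of_unity {n m : ℕ} (hn : 0 < n) (hm : 0 < m) (μ : Fin n → ℂ)
    (hμ : ∀ i, μ i ^ m = 1) (hint : IsIntegral ℤ ((∑ i, μ i) / (n : ℂ))) :
    (∑ i, μ i) = 0 ∨ ‖∑ i, μ i‖ = n := by
  haveI : NeZero m := ⟨hm.ne'⟩
  exact @avg_roots_of_unity_aux (CyclotomicField m ℚ) _ (CyclotomicField.algebra m ℚ) n m _
    (CyclotomicField.isCyclotomicExtension m ℚ) hn hm μ hμ hint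

theorem isIntegral_intCast (z : ℤ) : IsIntegral ℤ (z : ℂ) := by
  have := isIntegral_algebraMap (R := ℤ) (A := ℂ) (x := z)
  simpa using this

section vanish

variable {G : Type u} [Group G] [Fintype G] {V : Type v} [AddCommGroup V] [Module ℂ V]
  [FiniteDimensional ℂ V]

theorem vanish_or_scalar (ρ : Representation ℂ G V) [ρ.IsIrreducible] (g : G)
    (hcop : Nat.Coprime (finrank ℂ V) (Subgroup.centralizer ({g} : Set G)).index) :
    ρ.character g = 0 ∨ ‖ρ.character g‖ = (finrank ℂ V : ℝ) := by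
  have hpos := finrank_pos_of_irr ρ
  have hnC : (finrank ℂ V : ℂ) ≠ 0 := by exact_mod_cast hpos.ne'
  obtain ⟨b, μ, hμ, hb⟩ := exists_eigen ρ g
  have h1 : ρ.character g = ∑ i, μ i := trace_eq_sum_of_eigenbasis _ b μ hb
  obtain ⟨s, t, hst⟩ := Nat.isCoprime_iff_coprime.mpr hcop
  have hstC : (s : ℂ) * (finrank ℂ V : ℂ) + (t : ℂ) *
      ((Subgroup.centralizer ({g} : Set G)).index : ℂ) = 1 := by exact_mod_cast hst
  have h2 : ρ.character g / (finrank ℂ V : ℂ) = (s : ℂ) * ρ.character g + (t : ℂ) *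
      (((Subgroup.centralizer ({g} : Set G)).index : ℂ) * ρ.character g / (finrank ℂ V : ℂ)) := by
    field_simp
    linear_combination (-(ρ.character g)) * hstC
  have hint : IsIntegral ℤ (ρ.character g / (finrank ℂ V : ℂ)) := by
    rw [h2]
    exact ((isIntegral_intCast s).mul (char_isIntegral ρ g)).add
      ((isIntegral_intCast t).mul (central_char_isIntegral ρ g))
  rw [h1] at hint ⊢
  exact avg_roots_of_unity hpos (orderOf_pos g) μ hμ hint

end vanish

section primepower

variable {G : Type u} [Group G] [Fintype G]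

/-- In a non-abelian simple group, a nontrivial irreducible representation maps no nonidentity
element to a scalar. -/
theorem not_scalar_of_simple [IsSimpleGroup G] (hnc : ¬ ∀ a b : G, a * b = b * a) {n : ℕ}
    (ρ : Representation ℂ G (Fin n → ℂ)) (hρ : ρ.IsIrreducible) (hnt : ρ.character ≠ 1)
    (g : G) (hg : g ≠ 1) (ω : ℂ) (hω : ρ g = ω • LinearMap.id) : False := by
  -- the subgroup of elements acting as scalars
  let Z : Subgroup G :=
    { carrier := {x | ∃ c : ℂ, ρ x = c • LinearMap.id}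
      one_mem' := ⟨1, by simp; rfl⟩
      mul_mem' := by
        rintro x y ⟨c, hc⟩ ⟨d, hd⟩
        refine ⟨c * d, ?_⟩
        rw [map_mul, hc, hd, smul_mul_smul_comm]
        rfl
      inv_mem' := by
        rintro x ⟨c, hc⟩
        refine ⟨c⁻¹, ?_⟩
        have h1 : ρ x⁻¹ * ρ x = 1 := by rw [← map_mul, inv_mul_cancel, map_one]
        rcases eq_or_ne c 0 with h0 | h0
        · rw [hc, h0, zero_smul, mul_zero] at h1
          have : Subsingleton (Module.End ℂ (Fin n → ℂ)) := subsingleton_of_zero_eq_one h1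
          exact Subsingleton.elim _ _
        · rw [hc, mul_smul_comm] at h1
          have h2 : ρ x⁻¹ * (LinearMap.id : Module.End ℂ (Fin n → ℂ)) = ρ x⁻¹ := mul_one _
          rw [h2] at h1
          calc ρ x⁻¹ = c⁻¹ • (c • ρ x⁻¹) := by rw [smul_smul, inv_mul_cancel₀ h0, one_smul]
            _ = c⁻¹ • LinearMap.id := by rw [h1]; rfl }
  have hZn : Z.Normal := by
    constructor
    rintro x ⟨c, hc⟩ y
    refine ⟨c, ?_⟩
    rw [map_mul, map_mul, hc, mul_smul_comm, smul_mul_assoc]
    have h2 : ρ y * (LinearMap.id : Module.End ℂ (Fin n → ℂ)) = ρ y := mul_one _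
    rw [h2, ← map_mul, mul_inv_cancel, map_one]
    rfl
  have hZtop : Z = ⊤ := by
    rcases hZn.eq_bot_or_eq_top with h | h
    · exfalso
      have : g ∈ Z := ⟨ω, hω⟩
      rw [h, Subgroup.mem_bot] at this
      exact hg this
    · exact h
  have hscal : ∀ x : G, ∃ c : ℂ, ρ x = c • LinearMap.id := by
    intro x
    have : x ∈ Z := by rw [hZtop]; trivial
    exact this
  -- so the image is commutative and the kernel contains all commutators
  have hker : ρ.ker = ⊤ := by
    rcases (MonoidHom.normal_ker ρ).eq_bot_or_eq_top with h | h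
    · exfalso
      apply hnc
      intro a b
      have hinj : Function.Injective ρ := (MonoidHom.ker_eq_bot_iff ρ).mp h
      apply hinj
      obtain ⟨c, hc⟩ := hscal a
      obtain ⟨d, hd⟩ := hscal b
      rw [map_mul, map_mul, hc, hd]
      ext v
      simp [smul_smul, mul_comm]
    · exact h
  have htriv : ∀ x : G, ρ x = 1 := by
    intro x
    have : x ∈ ρ.ker := by rw [hker]; trivial
    exact this
  have hchar : ∀ x : G, ρ.character x = (n : ℂ) := by
    intro x
    simp [character, htriv x]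
  have hnorm := classInner_irr_self (isIrrCharacter_of_rep ρ hρ)
  have hG : (Nat.card G : ℂ) ≠ 0 := by exact_mod_cast Nat.card_pos.ne'
  unfold classInner at hnorm
  simp only [hchar, Complex.conj_natCast, Finset.sum_const, Finset.card_univ, nsmul_eq_mul,
    ← Nat.card_eq_fintype_card] at hnorm
  rw [← mul_assoc, inv_mul_cancel₀ hG, one_mul] at hnorm
  have hn1 : n * n = 1 := by exact_mod_cast hnorm
  have hn : n = 1 := by nlinarith [Nat.pos_of_ne_zero (fun h : n = 0 => by simp [h] at hn1)]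
  apply hnt
  ext x
  rw [hchar, hn]
  simp

theorem prime_card_of_prime_power_class [IsSimpleGroup G] (p k : ℕ) (hp : p.Prime) (g : G)
    (hg : g ≠ 1) (hclass : (Subgroup.centralizer ({g} : Set G)).index = p ^ k) :
    (Nat.card G).Prime := by
  classical
  by_cases hc : ∀ a b : G, a * b = b * a
  · letI : CommGroup G := { (inferInstance : Group G) with mul_comm := hc }
    exact IsSimpleGroup.prime_card
  exfalso
  -- every nontrivial irreducible character either vanishes at g or has degree divisible by p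
  have key : ∀ ψ : IrrCharacter G, (ψ : G → ℂ) ≠ 1 →
      ∃ c : ℕ, (ψ : G → ℂ) 1 * (ψ : G → ℂ) g = (p : ℂ) * ((c : ℂ) * (ψ : G → ℂ) g) := by
    rintro ⟨ψ, n, ρ, hρ, rfl⟩ hnt
    haveI := hρ
    simp only at hnt ⊢
    by_cases hpd : p ∣ finrank ℂ (Fin n → ℂ)
    · obtain ⟨c, hc'⟩ := hpd
      refine ⟨c, ?_⟩
      rw [char_one, hc']
      push_cast
      ring
    · refine ⟨0, ?_⟩
      have hcop : Nat.Coprime (finrank ℂ (Fin n → ℂ)) (Subgroup.centralizer ({g} : Set G)).index := by
        rw [hclass]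
        exact Nat.Coprime.pow_right _ ((Nat.Prime.coprime_iff_not_dvd hp).mpr hpd).symm
      rcases vanish_or_scalar ρ g hcop with h0 | h1
      · rw [h0]; simp
      · exfalso
        obtain ⟨ω, hω⟩ := (char_norm_eq_iff ρ g).mp h1
        exact not_scalar_of_simple hc ρ hρ hnt g hg ω hω
  choose c hcc using key
  have hreg := congrFun (regular_expansion (G := G)) g
  rw [regular_char, if_neg hg, Finset.sum_apply] at hreg
  simp only [Pi.smul_apply, smul_eq_mul] at hreg
  rw [← Finset.add_sum_erase _ _ (Finset.mem_univ (⟨1, isIrr_one⟩ : IrrCharacter G))] at hreg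
  simp only [Pi.one_apply, mul_one] at hreg
  have h2 : ∑ ψ ∈ Finset.univ.erase (⟨1, isIrr_one⟩ : IrrCharacter G),
      (ψ : G → ℂ) 1 * (ψ : G → ℂ) g =
      (p : ℂ) * ∑ ψ ∈ (Finset.univ.erase (⟨1, isIrr_one⟩ : IrrCharacter G)).attach,
        ((c ψ.1 (fun h => (Finset.mem_erase.mp ψ.2).1 (Subtype.ext h)) : ℂ) * (ψ.1 : G → ℂ) g) := by
    rw [← Finset.sum_attach, Finset.mul_sum]
    refine Finset.sum_congr rfl fun ψ _ => ?_
    exact hcc ψ.1 _
  rw [h2] at hreg
  set S := ∑ ψ ∈ (Finset.univ.erase (⟨1, isIrr_one⟩ : IrrCharacter G)).attach,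
        ((c ψ.1 (fun h => (Finset.mem_erase.mp ψ.2).1 (Subtype.ext h)) : ℂ) * (ψ.1 : G → ℂ) g) with hS
  have hSint : IsIntegral ℤ S := by
    refine IsIntegral.sum _ fun ψ _ => ?_
    refine IsIntegral.mul ?_ ?_
    · have := isIntegral_intCast (c ψ.1 (fun h => (Finset.mem_erase.mp ψ.2).1 (Subtype.ext h)) : ℤ)
      simpa using this
    · obtain ⟨n, ρ, _, hρ⟩ := ψ.1.2
      rw [← hρ]
      exact char_isIntegral ρ g
  have hpC : (p : ℂ) ≠ 0 := by exact_mod_cast hp.ne_zero
  have h3 : ((1 : ℕ) : ℂ) / (p : ℂ) = -S := by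
    field_simp
    push_cast
    linear_combination -hreg
  have h4 : IsIntegral ℤ (((1 : ℕ) : ℂ) / (p : ℂ)) := by rw [h3]; exact hSint.neg
  have h5 := dvd_of_isIntegral_div hp.ne_zero h4
  exact hp.one_lt.ne' (Nat.dvd_one.mp h5)

end primepower

section paqb

theorem dvd_form {p q a b d : ℕ} (hp : p.Prime) (hq : q.Prime) (h : d ∣ p ^ a * q ^ b) :
    ∃ a' b', d = p ^ a' * q ^ b' := by
  obtain ⟨k₁, k₂, h1, h2, rfl⟩ := (Nat.dvd_mul).mp h
  obtain ⟨m, _, rfl⟩ := (Nat.dvd_prime_pow hp).mp h1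
  obtain ⟨m', _, rfl⟩ := (Nat.dvd_prime_pow hq).mp h2
  exact ⟨m, m', rfl⟩

/-- A nontrivial Sylow `r`-subgroup of a group of order `s^a r^b` yields a class of `s`-power size. -/
theorem exists_prime_power_class {G : Type u} [Group G] [Finite G] {r s a b : ℕ} (hs : s.Prime)
    [Fact r.Prime] (hcard : Nat.card G = s ^ a * r ^ b) (R : Sylow r G)
    (hR : (R : Subgroup G) ≠ ⊥) :
    ∃ g : G, g ≠ 1 ∧ ∃ k, (Subgroup.centralizer ({g} : Set G)).index = s ^ k := by
  haveI : Nontrivial (R : Subgroup G) := (Subgroup.nontrivial_iff_ne_bot _).mpr hR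
  haveI := R.isPGroup'.center_nontrivial
  obtain ⟨z, hz⟩ := exists_ne (1 : Subgroup.center (R : Subgroup G))
  refine ⟨((z : (R : Subgroup G)) : G), ?_, ?_⟩
  · intro h
    apply hz
    apply Subtype.ext
    apply Subtype.ext
    exact h
  · have hle : (R : Subgroup G) ≤ Subgroup.centralizer ({((z : (R : Subgroup G)) : G)} : Set G) := by
      intro x hx
      rw [Subgroup.mem_centralizer_singleton_iff]
      have := Subgroup.mem_center_iff.mp z.2 ⟨x, hx⟩
      exact congrArg Subtype.val this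
    have h1 := Subgroup.index_dvd_of_le hle
    have h2 : (R : Subgroup G).index ∣ s ^ a * r ^ b := hcard ▸ (R : Subgroup G).index_dvd_card
    have h3 : Nat.Coprime (R : Subgroup G).index (r ^ b) :=
      Nat.Coprime.pow_right _ ((Nat.Prime.coprime_iff_not_dvd Fact.out).mpr R.not_dvd_index).symm
    have h4 : (R : Subgroup G).index ∣ s ^ a := h3.dvd_of_dvd_mul_right h2
    obtain ⟨k, _, hk⟩ := (Nat.dvd_prime_pow hs).mp (h1.trans h4)
    exact ⟨k, hk⟩

theorem burnside_aux (p q : ℕ) (hp : p.Prime) (hq : q.Prime) (n : ℕ) :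
    ∀ (G : Type u) [Group G] [Finite G], Nat.card G = n → (∃ a b, n = p ^ a * q ^ b) →
      Group.IsSolvable G := by
  induction n using Nat.strong_induction_on with
  | _ n ih =>
    intro G _ _ hn hform
    obtain ⟨a, b, hab⟩ := hform
    by_cases hsub : Subsingleton G
    · infer_instance
    haveI : Nontrivial G := not_subsingleton_iff_nontrivial.mp hsub
    by_cases hsimple : IsSimpleGroup G
    · haveI := Fintype.ofFinite G
      haveI : Fact p.Prime := ⟨hp⟩
      haveI : Fact q.Prime := ⟨hq⟩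
      have hex : ∃ g : G, g ≠ 1 ∧ ∃ (s : ℕ) (k : ℕ), s.Prime ∧
          (Subgroup.centralizer ({g} : Set G)).index = s ^ k := by
        let Q : Sylow q G := default
        by_cases hQ : (Q : Subgroup G) = ⊥
        · let P : Sylow p G := default
          have hP : (P : Subgroup G) ≠ ⊥ := by
            have hpd : p ∣ Nat.card G := by
              by_contra hpn
              have hqn : ¬ q ∣ Nat.card G := fun h => Q.ne_bot_of_dvd_card h hQ
              rw [hn, hab] at hpn hqn
              have ha0 : a = 0 := by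
                by_contra h0
                exact hpn (Dvd.dvd.mul_right (dvd_pow_self p h0) _)
              have hb0 : b = 0 := by
                by_contra h0
                exact hqn (Dvd.dvd.mul_left (dvd_pow_self q h0) _)
              rw [ha0, hb0] at hab
              have : Nat.card G = 1 := by rw [hn, hab]; simp
              exact hsub (Finite.card_le_one_iff_subsingleton.mp this.le)
            exact P.ne_bot_of_dvd_card hpd
          obtain ⟨g, hg, k, hk⟩ := exists_prime_power_class (r := p) (s := q) (a := b) (b := a) hq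
            (by rw [hn, hab, mul_comm]) P hP
          exact ⟨g, hg, q, k, hq, hk⟩
        · obtain ⟨g, hg, k, hk⟩ := exists_prime_power_class (r := q) (s := p) (a := a) (b := b) hp
            (by rw [hn, hab]) Q hQ
          exact ⟨g, hg, p, k, hp, hk⟩
      obtain ⟨g, hg, s, k, hs, hk⟩ := hex
      have hprime := prime_card_of_prime_power_class s k hs g hg hk
      haveI : Fact (Nat.card G).Prime := ⟨hprime⟩
      haveI : IsCyclic G := isCyclic_of_prime_card rfl
      exact Group.isSolvable_of_comm (fun x y => IsCyclic.commutative.is_comm.comm x y)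
    · have hex : ∃ N : Subgroup G, N.Normal ∧ N ≠ ⊥ ∧ N ≠ ⊤ := by
        by_contra hcon
        push Not at hcon
        apply hsimple
        exact ⟨fun N hN => by
          by_cases h0 : N = ⊥
          · exact Or.inl h0
          · exact Or.inr (hcon N hN h0)⟩
      obtain ⟨N, hN, hN0, hN1⟩ := hex
      have hmul := N.card_mul_index
      have hidx1 : N.index ≠ 1 := fun h => hN1 (Subgroup.index_eq_one.mp h)
      have hcard1 : Nat.card N ≠ 1 := fun h => hN0 (Subgroup.card_eq_one.mp h)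
      have hidx0 : N.index ≠ 0 := Subgroup.FiniteIndex.index_ne_zero
      have hcard0 : Nat.card N ≠ 0 := Nat.card_pos.ne'
      have hlt1 : Nat.card N < n := by
        rw [← hn, ← hmul]
        exact lt_mul_of_one_lt_right (Nat.pos_of_ne_zero hcard0) (by omega)
      have hlt2 : N.index < n := by
        rw [← hn, ← hmul]
        exact lt_mul_of_one_lt_left (Nat.pos_of_ne_zero hidx0) (by omega)
      haveI h1 : Group.IsSolvable N := ih _ hlt1 N rfl
        (dvd_form hp hq (hab ▸ hn ▸ (Dvd.intro _ hmul)))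
      haveI h2 : Group.IsSolvable (G ⧸ N) := ih _ hlt2 (G ⧸ N) (by rw [Subgroup.index])
        (dvd_form hp hq (hab ▸ hn ▸ (Dvd.intro_left _ hmul)))
      exact (Group.isSolvable_iff_subgroup_quotient N).mpr ⟨h1, h2⟩

theorem burnside {G : Type u} [Group G] [Finite G] (p q a b : ℕ) (hp : p.Prime) (hq : q.Prime)
    (hcard : Nat.card G = p ^ a * q ^ b) : Group.IsSolvable G :=
  burnside_aux p q hp hq _ G rfl ⟨a, b, hcard⟩

end paqb

end Cfsg.Agent.Lib.CharBurnside
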