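import Mathlib
import Cfsg.Prelude.Def_Characters
import Cfsg.Agent.Lib.CharLinear

/-!
# Extending invariant linear characters (via the transfer)
-/

set_option autoImplicit false

namespace Cfsg.Agent.Lib.CharLinExt

open Cfsg Subgroup Subgroup.leftTransversals MulAction Cfsg.Agent.Lib.CharLinear
open scoped Pointwise

universe u

theorem transfer_normal {G : Type*} [Group G] {A : Type*} [CommGroup A] (H N : Subgroup G)
    [H.FiniteIndex] (hN : N.Normal) (hNH : N ≤ H) (ν : H →* A)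
    (hinv : ∀ (g : G) (n : G) (hn : n ∈ N),
      ν ⟨g⁻¹ * n * g, hNH (by simpa using hN.conj_mem n hn g⁻¹)⟩ = ν ⟨n, hNH hn⟩)
    (n : G) (hn : n ∈ N) :
    MonoidHom.transfer ν n = ν ⟨n, hNH hn⟩ ^ H.index := by
  classical
  let T : H.LeftTransversal := default
  rw [MonoidHom.transfer_def ν T n]
  unfold diff
  simp only
  let _ := H.fintypeQuotientOfFiniteIndex
  have hfix : ∀ q : G ⧸ H, n⁻¹ • q = q := by
    intro q
    induction q using QuotientGroup.induction_on with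
    | H x =>
      change ((n⁻¹ * x : G) : G ⧸ H) = (x : G ⧸ H)
      rw [QuotientGroup.eq]
      apply hNH
      have := hN.conj_mem n hn x⁻¹
      simpa [mul_assoc] using this
  have : ∀ q : G ⧸ H, ν ⟨((T.2.leftQuotientEquiv q : G))⁻¹ * ((n • T).2.leftQuotientEquiv q : G),
        QuotientGroup.leftRel_apply.mp <|
          Quotient.exact' ((T.2.leftQuotientEquiv.symm_apply_apply q).trans
            ((n • T).2.leftQuotientEquiv.symm_apply_apply q).symm)⟩ = ν ⟨n, hNH hn⟩ := by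
    intro q
    rw [← hinv (T.2.leftQuotientEquiv q : G) n hn]
    congr 1
    apply Subtype.ext
    simp only
    rw [smul_apply_eq_smul_apply_inv_smul, hfix q, smul_eq_mul, mul_assoc]
  rw [Finset.prod_congr rfl (fun q _ => this q), Finset.prod_const, Finset.card_univ,
    Subgroup.index_eq_card, Nat.card_eq_fintype_card]

/-- The embedding of linear characters (as homs) into functions. -/
def toFun' (G : Type u) [Group G] : (G →* ℂˣ) →* (G → ℂ) where
  toFun f := fun g => ((f g : ℂˣ) : ℂ)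
  map_one' := by ext; simp
  map_mul' a b := by ext; simp

theorem toFun'_injective (G : Type u) [Group G] : Function.Injective (toFun' G) := by
  intro a b h
  ext g
  exact congrFun h g

theorem orderOf_toFun' {G : Type u} [Group G] (f : G →* ℂˣ) :
    orderOf (fun g => ((f g : ℂˣ) : ℂ)) = orderOf f :=
  orderOf_injective (toFun' G) (toFun'_injective G) f

theorem hom_pow_card {G : Type u} [Group G] [Finite G] (f : G →* ℂˣ) : f ^ Nat.card G = 1 := by
  ext g
  simp only [MonoidHom.pow_apply, MonoidHom.one_apply]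
  rw [← map_pow, pow_card_eq_one', map_one]

theorem orderOf_hom_pos {G : Type u} [Group G] [Finite G] (f : G →* ℂˣ) : 0 < orderOf f :=
  orderOf_pos_iff.mpr (isOfFinOrder_iff_pow_eq_one.mpr ⟨Nat.card G, Nat.card_pos, hom_pow_card f⟩)

variable {G : Type u} [Group G] [Finite G] (N : Subgroup G) (hN : N.Normal)

/-- The integers `k` such that `lam ^ k` extends to `G`. -/
def extSet (lam : N →* ℂˣ) : AddSubgroup ℤ where
  carrier := {k | ∃ μ : G →* ℂˣ, ∀ n : N, μ n = lam n ^ k}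
  add_mem' := by
    rintro a b ⟨μ, hμ⟩ ⟨μ', hμ'⟩
    exact ⟨μ * μ', fun n => by rw [MonoidHom.mul_apply, hμ, hμ', zpow_add]⟩
  zero_mem' := ⟨1, fun n => by simp⟩
  neg_mem' := by
    rintro a ⟨μ, hμ⟩
    exact ⟨μ⁻¹, fun n => by rw [MonoidHom.inv_apply, hμ, zpow_neg]⟩

include hN in
theorem index_mem_extSet (lam : N →* ℂˣ)
    (hinv : ∀ (g : G) (n : N), lam ⟨g * n * g⁻¹, hN.conj_mem n n.2 g⟩ = lam n)
    (H : Subgroup G) (hNH : N ≤ H) (ν : H →* ℂˣ) (hν : ∀ n : N, ν ⟨n, hNH n.2⟩ = lam n) :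
    (H.index : ℤ) ∈ extSet N lam := by
  refine ⟨MonoidHom.transfer ν, fun n => ?_⟩
  rw [transfer_normal H N hN hNH ν ?_ n n.2, hν, zpow_natCast]
  intro g m hm
  have h1 := hν ⟨m, hm⟩
  have h2 := hν ⟨g⁻¹ * m * g, by simpa using hN.conj_mem m hm g⁻¹⟩
  have h3 := hinv g⁻¹ ⟨m, hm⟩
  simp only [inv_inv] at h3
  rw [h1, h2, h3]

include hN in
/-- Isaacs 6.26/6.27 in one go. -/
theorem extend_linear (lam : N →* ℂˣ)
    (hinv : ∀ (g : G) (n : N), lam ⟨g * n * g⁻¹, hN.conj_mem n n.2 g⟩ = lam n)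
    (hsyl : ∀ p : ℕ, p.Prime → p ∣ orderOf lam → ∃ (H : Subgroup G) (hNH : N ≤ H) (ν : H →* ℂˣ),
      Nat.Coprime H.index p ∧ ∀ n : N, ν ⟨n, hNH n.2⟩ = lam n) :
    ∃ μ : G →* ℂˣ, ∀ n : N, μ n = lam n := by
  obtain ⟨a, ha⟩ := Int.subgroup_cyclic (extSet N lam)
  have hord : (orderOf lam : ℤ) ∈ extSet N lam := by
    refine ⟨1, fun n => ?_⟩
    rw [zpow_natCast, ← MonoidHom.pow_apply, pow_orderOf_eq_one]
    simp
  have hdvd : ∀ k ∈ extSet N lam, a ∣ k := by
    intro k hk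
    rw [ha, AddSubgroup.mem_closure_singleton] at hk
    obtain ⟨m, rfl⟩ := hk
    exact ⟨m, by rw [smul_eq_mul, mul_comm]⟩
  have h1 : a.natAbs = 1 := by
    by_contra hne
    obtain ⟨p, hp, hpa⟩ := Nat.exists_prime_and_dvd hne
    have hpa' : (p : ℤ) ∣ a := Int.natCast_dvd.mpr hpa
    have hpo : p ∣ orderOf lam := by exact_mod_cast hpa'.trans (hdvd _ hord)
    obtain ⟨H, hNH, ν, hcop, hν⟩ := hsyl p hp hpo
    have hpi : p ∣ H.index := by
      exact_mod_cast hpa'.trans (hdvd _ (index_mem_extSet N hN lam hinv H hNH ν hν))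
    have := Nat.Coprime.eq_one_of_dvd hcop.symm hpi
    exact hp.one_lt.ne' this
  have h2 : (1 : ℤ) ∈ extSet N lam := by
    have ham : a ∈ extSet N lam := by
      rw [ha]; exact AddSubgroup.mem_closure_singleton_self a
    rcases Int.natAbs_eq a with h | h
    · rw [h1] at h; rw [h] at ham; exact ham
    · rw [h1] at h
      have := (extSet N lam).neg_mem ham
      rw [h] at this
      simpa using this
  obtain ⟨μ, hμ⟩ := h2
  exact ⟨μ, fun n => by rw [hμ, zpow_one]⟩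

include hN in
theorem pow_index_eq_one_of_trivial (f : G →* ℂˣ) (hf : ∀ n : N, f n = 1) : f ^ N.index = 1 := by
  haveI := hN
  ext g
  simp only [MonoidHom.pow_apply, MonoidHom.one_apply]
  rw [← map_pow]
  have := hf ⟨g ^ N.index, Subgroup.pow_index_mem N g⟩
  simp only at this
  rw [this]

include hN in
theorem extend_linear_coprime (lam : N →* ℂˣ)
    (hinv : ∀ (g : G) (n : N), lam ⟨g * n * g⁻¹, hN.conj_mem n n.2 g⟩ = lam n)
    (hcop : Nat.Coprime N.index (orderOf lam)) :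
    ∃ μ : G →* ℂˣ, (∀ n : N, μ n = lam n) ∧ orderOf μ = orderOf lam ∧
      ∀ μ' : G →* ℂˣ, (∀ n : N, μ' n = lam n) → Nat.Coprime N.index (orderOf μ') → μ' = μ := by
  obtain ⟨μ₀, hμ₀⟩ := extend_linear N hN lam hinv (fun p hp hdvd =>
    ⟨N, le_refl N, lam, Nat.Coprime.coprime_dvd_right hdvd hcop, fun n => rfl⟩)
  set m := N.index with hm
  set o := orderOf lam with ho
  have hbez : (m : ℤ) * Nat.gcdA m o + (o : ℤ) * Nat.gcdB m o = 1 := by
    have := Nat.gcd_eq_gcd_ab m o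
    rw [hcop] at this
    exact_mod_cast this.symm
  set a := Nat.gcdA m o
  set b := Nat.gcdB m o
  have hlamo : ∀ n : N, lam n ^ (o : ℤ) = 1 := by
    intro n
    rw [zpow_natCast, ← MonoidHom.pow_apply, ho, pow_orderOf_eq_one]
    simp
  have hres : ∀ n : N, (μ₀ ^ ((m : ℤ) * a)) n = lam n := by
    intro n
    have h1 : (m : ℤ) * a = 1 - (o : ℤ) * b := by linarith
    rw [MonoidHom.zpow_apply, hμ₀, h1, zpow_sub, zpow_one, zpow_mul, hlamo, one_zpow, inv_one,
      mul_one]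
  have htriv : ∀ n : N, (μ₀ ^ o) n = 1 := by
    intro n
    rw [MonoidHom.pow_apply, hμ₀, ← zpow_natCast, hlamo]
  have hpow : (μ₀ ^ ((m : ℤ) * a)) ^ o = 1 := by
    have h1 := pow_index_eq_one_of_trivial N hN (μ₀ ^ o) htriv
    ext g
    have h2 := congrArg (fun f : G →* ℂˣ => f g) h1
    simp only [MonoidHom.pow_apply, MonoidHom.one_apply, MonoidHom.zpow_apply] at h2 ⊢
    have h3 : (μ₀ g ^ ((m : ℤ) * a)) ^ o = ((μ₀ g ^ o) ^ N.index) ^ a := by
      rw [← zpow_natCast, ← zpow_natCast, ← zpow_natCast, ← zpow_mul, ← zpow_mul, ← zpow_mul]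
      congr 1
      ring
    rw [h3, h2, one_zpow]
  have hord : orderOf (μ₀ ^ ((m : ℤ) * a)) = o := by
    apply Nat.dvd_antisymm (orderOf_dvd_of_pow_eq_one hpow)
    rw [ho]
    apply orderOf_dvd_of_pow_eq_one
    ext n
    have h2 := pow_orderOf_eq_one (μ₀ ^ ((m : ℤ) * a))
    have h3 := congrArg (fun f : G →* ℂˣ => f (n : G)) h2
    simp only [MonoidHom.pow_apply, MonoidHom.one_apply] at h3 ⊢
    rw [hres] at h3
    rw [h3]
  refine ⟨μ₀ ^ ((m : ℤ) * a), hres, hord, ?_⟩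
  intro μ' hμ' hcop'
  set μ := μ₀ ^ ((m : ℤ) * a) with hμ
  have h1 : (μ' * μ⁻¹) ^ m = 1 := by
    apply pow_index_eq_one_of_trivial N hN
    intro n
    rw [MonoidHom.mul_apply, MonoidHom.inv_apply, hμ', hres, mul_inv_cancel]
  have h2 : (μ' * μ⁻¹) ^ (orderOf μ' * o) = 1 := by
    ext g
    have e1 := congrArg (fun f : G →* ℂˣ => f g) (pow_orderOf_eq_one μ')
    have e2 := congrArg (fun f : G →* ℂˣ => f g) hpow
    simp only [MonoidHom.pow_apply, MonoidHom.one_apply, MonoidHom.mul_apply,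
      MonoidHom.inv_apply] at e1 e2 ⊢
    rw [mul_pow, pow_mul, e1, one_pow, one_mul, inv_pow, mul_comm (orderOf μ') o, pow_mul, e2,
      one_pow, inv_one]
  have h3 : orderOf (μ' * μ⁻¹) ∣ Nat.gcd m (orderOf μ' * o) :=
    Nat.dvd_gcd (orderOf_dvd_of_pow_eq_one h1) (orderOf_dvd_of_pow_eq_one h2)
  have h4 : Nat.gcd m (orderOf μ' * o) = 1 := Nat.Coprime.mul_right hcop' hcop
  rw [h4, Nat.dvd_one, orderOf_eq_one_iff] at h3
  exact mul_inv_eq_one.mp h3

end Cfsg.Agent.Lib.CharLinExt
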