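import Mathlib
import Cfsg.Prelude.Def_Characters
import Cfsg.Agent.Lib.CharCover
import Cfsg.Agent.Lib.CharLinExt

/-!
# Extension criteria via the central cover
-/

set_option autoImplicit false

namespace Cfsg.Agent.Lib.CharCover2

open Cfsg Representation Module Cfsg.Agent.Lib.CharBasic Cfsg.Agent.Lib.CharOrtho
  Cfsg.Agent.Lib.CharComplete Cfsg.Agent.Lib.CharIntegral Cfsg.Agent.Lib.CharMore
  Cfsg.Agent.Lib.CharInd Cfsg.Agent.Lib.CharClifford Cfsg.Agent.Lib.CharCorr
  Cfsg.Agent.Lib.CharIto Cfsg.Agent.Lib.CharKer Cfsg.Agent.Lib.CharGallagher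
  Cfsg.Agent.Lib.CharEquiv Cfsg.Agent.Lib.CharCenter Cfsg.Agent.Lib.CharQuot
  Cfsg.Agent.Lib.CharCover Cfsg.Agent.Lib.CharLinExt Cfsg.Agent.Lib.CharLinear
open scoped ComplexConjugate

universe u v w

/-- A linear character times an irreducible character is irreducible. -/
theorem isIrr_hom_mul {G : Type u} [Group G] [Fintype G] (lam : G →* ℂˣ) {χ : G → ℂ}
    (hχ : IsIrrCharacter G χ) : IsIrrCharacter G ((fun g => ((lam g : ℂˣ) : ℂ)) * χ) := by
  apply isIrr_of_norm_one (isCharacter_mul (isCharacter_hom lam) (isCharacter_of_isIrr hχ))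
  rw [← classInner_irr_self hχ]
  unfold classInner
  congr 1
  refine Finset.sum_congr rfl fun g _ => ?_
  simp only [Pi.mul_apply, map_mul]
  have h1 : ((lam g : ℂˣ) : ℂ) * conj ((lam g : ℂˣ) : ℂ) = 1 := by
    rw [Complex.mul_conj, Complex.normSq_eq_norm_sq, hom_norm]
    simp
  calc _ = (((lam g : ℂˣ) : ℂ) * conj ((lam g : ℂˣ) : ℂ)) * (χ g * conj (χ g)) := by ring
    _ = _ := by rw [h1, one_mul]

section scal

variable {G : Type u} [Group G] [Finite G] (N : Subgroup G) (hN : N.Normal)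
  {V : Type v} [AddCommGroup V] [Module ℂ V] [FiniteDimensional ℂ V] (ρ : Representation ℂ N V)
  [hρ : ρ.IsIrreducible]

include hρ in
theorem nontrivial_V : Nontrivial V := by
  haveI : Fintype N := Fintype.ofFinite N
  exact Module.nontrivial_of_finrank_pos (R := ℂ) (finrank_pos_of_irr ρ)

theorem smul_unit_inj [Nontrivial V] {H : Type*} [Group H] (R : Representation ℂ H V) (h : H)
    {c c' : ℂ} (hc : c • R h = c' • R h) : c = c' := by
  have h1 : (c • R h) * R h⁻¹ = (c' • R h) * R h⁻¹ := by rw [hc]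
  rw [smul_mul_assoc, smul_mul_assoc, ← map_mul, mul_inv_cancel, map_one] at h1
  obtain ⟨v, hv⟩ := exists_ne (0 : V)
  have h2 := LinearMap.congr_fun h1 v
  simp only [LinearMap.smul_apply, Module.End.one_apply] at h2
  exact smul_left_injective ℂ hv h2

/-- If `R` extends `ρ` to `P ≥ N` (on the same space), the tautological representation of the
cover differs from `R ∘ proj` by a linear character on the preimage of `P`. -/
theorem exists_scal (P : Subgroup G) (hNP : N ≤ P) (R : Representation ℂ P V)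
    (hR : ∀ n : N, R ⟨n, hNP n.2⟩ = ρ n) :
    ∃ s : (P.comap (proj N hN ρ)) →* ℂˣ, ∀ x : P.comap (proj N hN ρ),
      taut N hN ρ x = ((s x : ℂˣ) : ℂ) • R ⟨proj N hN ρ x, x.2⟩ := by
  haveI : Fintype N := Fintype.ofFinite N
  haveI := nontrivial_V N ρ
  have hex : ∀ x : P.comap (proj N hN ρ), ∃ c : ℂ,
      taut N hN ρ x = c • R ⟨proj N hN ρ x, x.2⟩ := by
    intro x
    set g : P := ⟨proj N hN ρ x, x.2⟩ with hg
    have hcomm : ∀ m : N, (R g⁻¹ * taut N hN ρ x) ∘ₗ ρ m = ρ m ∘ₗ (R g⁻¹ * taut N hN ρ x) := by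
      intro m
      have h1 := (x : Gam N hN ρ).2.1 m
      change (R g⁻¹ * taut N hN ρ x) * ρ m = ρ m * (R g⁻¹ * taut N hN ρ x)
      rw [mul_assoc, taut_apply, h1, ← hR, ← hR, ← mul_assoc, ← mul_assoc, ← map_mul, ← map_mul]
      congr 2
      apply Subtype.ext
      simp only [cj, hg, proj_apply, Subgroup.coe_mul, InvMemClass.coe_inv]
      group
    obtain ⟨c, h2⟩ : ∃ c : ℂ, R g⁻¹ * taut N hN ρ x = c • LinearMap.id :=
      ⟨_, schur_commute ρ _ hcomm⟩
    refine ⟨c, ?_⟩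
    calc taut N hN ρ x = R g * (R g⁻¹ * taut N hN ρ x) := by
          rw [← mul_assoc, ← map_mul, mul_inv_cancel, map_one, one_mul]
      _ = _ := by
          rw [h2]
          ext v
          simp
  choose c hc using hex
  have hc0 : ∀ x, c x ≠ 0 := by
    intro x h0
    have h1 := hc x
    rw [h0, zero_smul] at h1
    have h2 : taut N hN ρ x * taut N hN ρ (x : Gam N hN ρ)⁻¹ = 1 := by
      rw [← map_mul, mul_inv_cancel, map_one]
    rw [h1, zero_mul] at h2
    exact zero_ne_one h2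
  have hmul : ∀ x y, c (x * y) = c x * c y := by
    intro x y
    apply smul_unit_inj R ⟨proj N hN ρ (x * y : P.comap (proj N hN ρ)), (x * y).2⟩
    rw [← hc]
    have : (⟨proj N hN ρ (x * y : P.comap (proj N hN ρ)), (x * y).2⟩ : P) =
        ⟨proj N hN ρ x, x.2⟩ * ⟨proj N hN ρ y, y.2⟩ := by
      apply Subtype.ext
      simp
    rw [this, map_mul, Subgroup.coe_mul, map_mul, hc, hc, smul_mul_smul_comm]
  exact ⟨MonoidHom.mk' (fun x => Units.mk0 (c x) (hc0 x)) (fun x y => Units.ext (hmul x y)),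
    fun x => hc x⟩

end scal

section crit

variable {G : Type u} [Group G] [Finite G] (N : Subgroup G) (hN : N.Normal)
  {V : Type v} [AddCommGroup V] [Module ℂ V] [FiniteDimensional ℂ V] (ρ : Representation ℂ N V)
  [hρ : ρ.IsIrreducible]

theorem comap_normal : (N.comap (proj N hN ρ)).Normal := hN.comap _

variable (s : (N.comap (proj N hN ρ)) →* ℂˣ)
  (hs : ∀ x : N.comap (proj N hN ρ),
    taut N hN ρ x = ((s x : ℂˣ) : ℂ) • ρ ⟨proj N hN ρ x, x.2⟩)

include hρ hs in
theorem scal_invariant (x : Gam N hN ρ) (a : N.comap (proj N hN ρ)) :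
    s ⟨x * a * x⁻¹, (comap_normal N hN ρ).conj_mem a a.2 x⟩ = s a := by
  haveI := nontrivial_V N ρ
  apply Units.ext
  apply smul_unit_inj ρ ⟨proj N hN ρ (x * a * x⁻¹), (comap_normal N hN ρ).conj_mem a a.2 x⟩
  rw [← hs ⟨x * a * x⁻¹, (comap_normal N hN ρ).conj_mem a a.2 x⟩]
  simp only
  rw [map_mul, map_mul, hs a, mul_smul_comm, smul_mul_assoc]
  congr 1
  have h1 := x.2.1 ⟨proj N hN ρ a, a.2⟩
  rw [← taut_apply] at h1
  rw [h1, mul_assoc, ← map_mul, mul_inv_cancel, map_one, mul_one]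
  congr 1

include hρ hs in
theorem scal_eq_of_ext (P : Subgroup G) (hNP : N ≤ P) (R : Representation ℂ P V)
    (hR : ∀ n : N, R ⟨n, hNP n.2⟩ = ρ n) (sP : (P.comap (proj N hN ρ)) →* ℂˣ)
    (hsP : ∀ x : P.comap (proj N hN ρ),
      taut N hN ρ x = ((sP x : ℂˣ) : ℂ) • R ⟨proj N hN ρ x, x.2⟩)
    (a : N.comap (proj N hN ρ)) : sP ⟨a, Subgroup.comap_mono hNP a.2⟩ = s a := by
  haveI := nontrivial_V N ρ
  apply Units.ext
  apply smul_unit_inj ρ ⟨proj N hN ρ a, a.2⟩
  rw [← hs a, hsP ⟨a, Subgroup.comap_mono hNP a.2⟩, ← hR]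

include hρ hs in
theorem scal_lift (n : N) : s ⟨lift N hN ρ n, by
    show proj N hN ρ (lift N hN ρ n) ∈ N
    rw [proj_lift]; exact n.2⟩ = 1 := by
  haveI := nontrivial_V N ρ
  apply Units.ext
  apply smul_unit_inj ρ n
  have := hs ⟨lift N hN ρ n, by
    show proj N hN ρ (lift N hN ρ n) ∈ N
    rw [proj_lift]; exact n.2⟩
  simp only [taut_lift] at this
  rw [Units.val_one, one_smul]
  exact this.symm

include hs in
/-- If `s⁻¹` extends to the cover then `ρ.character` extends to `G`. -/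
theorem extends_of_lam (hinv : ∀ g : G, conjFun N hN ρ.character g = ρ.character)
    (lam : Gam N hN ρ →* ℂˣ) (hlam : ∀ a : N.comap (proj N hN ρ), lam a = (s a)⁻¹) :
    ∃ χ : G → ℂ, IsIrrCharacter G χ ∧ ∀ n : N, χ n = ρ.character n := by
  classical
  haveI : Fintype G := Fintype.ofFinite G
  haveI : Fintype (Gam N hN ρ) := Fintype.ofFinite _
  have hψ := isIrr_hom_mul lam (isIrrCharacter_of_rep (taut N hN ρ) (taut_irreducible N hN ρ))
  obtain ⟨χ, hχ, hχψ⟩ := exists_descent (proj N hN ρ) (proj_surjective N hN ρ hinv) hψ (by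
    intro z hz
    have hzA : z ∈ N.comap (proj N hN ρ) := by
      show proj N hN ρ z ∈ N
      rw [hz]; exact N.one_mem
    have h1 := hs ⟨z, hzA⟩
    have h2 := hlam ⟨z, hzA⟩
    simp only at h1 h2
    have h3 : (⟨proj N hN ρ z, hzA⟩ : N) = 1 := Subtype.ext hz
    rw [h3, map_one] at h1
    simp only [Pi.mul_apply, map_one, Units.val_one, one_mul]
    rw [h2]
    unfold Representation.character
    rw [h1, map_one, map_smul, smul_eq_mul, ← mul_assoc, Units.val_inv_eq_inv_val,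
      inv_mul_cancel₀ (Units.ne_zero _), one_mul])
  refine ⟨χ, hχ, fun n => ?_⟩
  have h1 := congrFun hχψ (lift N hN ρ n)
  simp only [Pi.mul_apply, Function.comp_apply, proj_lift] at h1
  rw [← h1, taut_char_lift]
  have h2 := hlam ⟨lift N hN ρ n, by
    show proj N hN ρ (lift N hN ρ n) ∈ N
    rw [proj_lift]; exact n.2⟩
  rw [scal_lift N hN ρ s hs n] at h2
  simp only at h2
  rw [h2]
  simp

end crit

section thms

variable {G : Type u} [Group G] [Finite G] (N : Subgroup G) (hN : N.Normal)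

/-- A character of `P ≥ N` extending the character of `ρ` is afforded by a representation on the
same space extending `ρ`. -/
theorem exists_rep_extending {V : Type v} [AddCommGroup V] [Module ℂ V] [FiniteDimensional ℂ V]
    (ρ : Representation ℂ N V) (P : Subgroup G) (hNP : N ≤ P) {η : P → ℂ} (hη : IsCharacter P η)
    (hres : ∀ n : N, η ⟨n, hNP n.2⟩ = ρ.character n) :
    ∃ R : Representation ℂ P V, R.character = η ∧ ∀ n : N, R ⟨n, hNP n.2⟩ = ρ n := by
  obtain ⟨m, R₀, rfl⟩ := hη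
  let R₀N : Representation ℂ N (Fin m → ℂ) := R₀.comp (Subgroup.inclusion hNP)
  have hchar : ρ.character = R₀N.character := by
    ext n
    rw [← hres n]
    rfl
  obtain ⟨e'⟩ := equiv_of_char_eq ρ R₀N hchar
  obtain ⟨e, he⟩ : ∃ E : V ≃ₗ[ℂ] (Fin m → ℂ), ∀ n : N, E.toLinearMap ∘ₗ ρ n = R₀N n ∘ₗ E.toLinearMap :=
    ⟨e'.toLinearEquiv, fun n => e'.isIntertwining' n⟩
  refine ⟨transport R₀ e.symm, (char_iso (transportEquiv R₀ e.symm)).symm, fun n => ?_⟩
  ext v
  rw [transport_apply]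
  have := LinearMap.congr_fun (he n) v
  simp only [LinearMap.comp_apply, LinearEquiv.coe_coe] at this
  simp only [LinearEquiv.symm_symm]
  have h2 : R₀ ⟨n, hNP n.2⟩ (e v) = R₀N n (e v) := rfl
  rw [h2, ← this, LinearEquiv.symm_apply_apply]

include hN in
/-- Isaacs 11.31. -/
theorem extends_of_sylow {θ : N → ℂ} (hθ : IsIrrCharacter N θ)
    (hinv : ∀ g : G, conjFun N hN θ g = θ)
    (hsyl : ∀ p : ℕ, p.Prime → ∃ (P : Subgroup G) (hNP : N ≤ P) (η : P → ℂ),
      Nat.Coprime P.index p ∧ IsCharacter P η ∧ ∀ n : N, η ⟨n, hNP n.2⟩ = θ n) :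
    ∃ χ : G → ℂ, IsIrrCharacter G χ ∧ ∀ n : N, χ n = θ n := by
  obtain ⟨d, ρ, hirr, rfl⟩ := hθ
  haveI := hirr
  obtain ⟨s, hs⟩ := exists_scal N hN ρ N le_rfl ρ (fun n => rfl)
  obtain ⟨lam, hlam⟩ := extend_linear (N.comap (proj N hN ρ)) (comap_normal N hN ρ) s⁻¹
    (fun x a => by
      rw [MonoidHom.inv_apply, MonoidHom.inv_apply, scal_invariant N hN ρ s hs x a])
    (fun p hp _ => by
      obtain ⟨P, hNP, η, hcop, hη, hres⟩ := hsyl p hp
      obtain ⟨R, -, hR⟩ := exists_rep_extending N ρ P hNP hη hres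
      obtain ⟨sP, hsP⟩ := exists_scal N hN ρ P hNP R hR
      refine ⟨P.comap (proj N hN ρ), Subgroup.comap_mono hNP, sP⁻¹, ?_, fun a => ?_⟩
      · rw [Subgroup.index_comap_of_surjective P (proj_surjective N hN ρ hinv)]
        exact hcop
      · rw [MonoidHom.inv_apply, MonoidHom.inv_apply,
          scal_eq_of_ext N hN ρ s hs P hNP R hR sP hsP a])
  exact extends_of_lam N hN ρ s hs hinv lam (fun a => by rw [hlam a, MonoidHom.inv_apply])

/-- Gallagher: if `θ(1)` is prime to `[G:N]` and `det θ` extends then `θ` extends. -/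
theorem extends_of_det {V : Type v} [AddCommGroup V] [Module ℂ V] [FiniteDimensional ℂ V]
    (ρ : Representation ℂ N V) [hρ : ρ.IsIrreducible]
    (hinv : ∀ g : G, conjFun N hN ρ.character g = ρ.character)
    (hcop : Nat.Coprime N.index (finrank ℂ V)) (μ : G →* ℂˣ)
    (hμ : ∀ n : N, ((μ n : ℂˣ) : ℂ) = LinearMap.det (ρ n)) :
    ∃ χ : G → ℂ, IsIrrCharacter G χ ∧ ∀ n : N, χ n = ρ.character n := by
  obtain ⟨s, hs⟩ := exists_scal N hN ρ N le_rfl ρ (fun n => rfl)
  have hinvν : ∀ (x : Gam N hN ρ) (a : N.comap (proj N hN ρ)),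
      s⁻¹ ⟨x * a * x⁻¹, (comap_normal N hN ρ).conj_mem a a.2 x⟩ = s⁻¹ a := fun x a => by
    rw [MonoidHom.inv_apply, MonoidHom.inv_apply, scal_invariant N hN ρ s hs x a]
  have h1 : ((N.comap (proj N hN ρ)).index : ℤ) ∈ extSet (N.comap (proj N hN ρ)) s⁻¹ :=
    index_mem_extSet _ (comap_normal N hN ρ) s⁻¹ hinvν _ le_rfl s⁻¹ (fun n => rfl)
  rw [Subgroup.index_comap_of_surjective N (proj_surjective N hN ρ hinv)] at h1
  have h2 : ((finrank ℂ V : ℕ) : ℤ) ∈ extSet (N.comap (proj N hN ρ)) s⁻¹ := by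
    let δ : Gam N hN ρ →* ℂˣ := ((LinearMap.det).comp (taut N hN ρ)).toHomUnits
    refine ⟨(μ.comp (proj N hN ρ)) * δ⁻¹, fun a => ?_⟩
    apply Units.ext
    have hδ : ((δ a : ℂˣ) : ℂ) = LinearMap.det (taut N hN ρ a) := rfl
    rw [hs a, LinearMap.det_smul, ← hμ] at hδ
    have hδ' : δ a = (s a) ^ finrank ℂ V * μ (proj N hN ρ a) := Units.ext (by
      rw [hδ]; simp)
    rw [MonoidHom.mul_apply, MonoidHom.inv_apply, MonoidHom.comp_apply, hδ', MonoidHom.inv_apply,
      zpow_natCast, inv_pow, mul_inv, mul_comm, mul_assoc, inv_mul_cancel, mul_one]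
  have hbez : (N.index : ℤ) * Nat.gcdA N.index (finrank ℂ V) +
      (finrank ℂ V : ℤ) * Nat.gcdB N.index (finrank ℂ V) = 1 := by
    have := Nat.gcd_eq_gcd_ab N.index (finrank ℂ V)
    rw [hcop] at this
    exact_mod_cast this.symm
  have h3 : (1 : ℤ) ∈ extSet (N.comap (proj N hN ρ)) s⁻¹ := by
    rw [← hbez]
    apply AddSubgroup.add_mem
    · have := AddSubgroup.zsmul_mem _ h1 (Nat.gcdA N.index (finrank ℂ V))
      rwa [smul_eq_mul, mul_comm] at this
    · have := AddSubgroup.zsmul_mem _ h2 (Nat.gcdB N.index (finrank ℂ V))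
      rwa [smul_eq_mul, mul_comm] at this
  obtain ⟨lam, hlam⟩ := h3
  exact extends_of_lam N hN ρ s hs hinv lam (fun a => by
    rw [hlam a, zpow_one, MonoidHom.inv_apply])

end thms

end Cfsg.Agent.Lib.CharCover2
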