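import Mathlib
import Cfsg.Prelude.Def_Characters
import Cfsg.Prelude.Def_CharExt
import Cfsg.Agent.Lib.CharCover2

/-!
# Determinantal characters and extension theorems
-/

set_option autoImplicit false

namespace Cfsg.Agent.Lib.CharDet

open Cfsg Representation Module Cfsg.Agent.Lib.CharBasic Cfsg.Agent.Lib.CharOrtho
  Cfsg.Agent.Lib.CharComplete Cfsg.Agent.Lib.CharIntegral Cfsg.Agent.Lib.CharMore
  Cfsg.Agent.Lib.CharInd Cfsg.Agent.Lib.CharClifford Cfsg.Agent.Lib.CharCorr
  Cfsg.Agent.Lib.CharIto Cfsg.Agent.Lib.CharKer Cfsg.Agent.Lib.CharGallagher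
  Cfsg.Agent.Lib.CharEquiv Cfsg.Agent.Lib.CharCenter Cfsg.Agent.Lib.CharQuot
  Cfsg.Agent.Lib.CharCover Cfsg.Agent.Lib.CharLinExt Cfsg.Agent.Lib.CharLinear
  Cfsg.Agent.Lib.CharCover2
open scoped ComplexConjugate

universe u v w

section basic

variable {G : Type u} [Group G] {V : Type v} [AddCommGroup V] [Module ℂ V]

/-- The determinant of a representation as a homomorphism. -/
noncomputable def detHom (ρ : Representation ℂ G V) : G →* ℂˣ :=
  ((LinearMap.det).comp ρ).toHomUnits

theorem detHom_apply (ρ : Representation ℂ G V) (g : G) :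
    ((detHom ρ g : ℂˣ) : ℂ) = LinearMap.det (ρ g) := rfl

/-- Twisting a representation by a linear character. -/
noncomputable def twist (lam : G →* ℂˣ) (ρ : Representation ℂ G V) : Representation ℂ G V where
  toFun g := ((lam g : ℂˣ) : ℂ) • ρ g
  map_one' := by simp
  map_mul' a b := by
    rw [map_mul, map_mul, Units.val_mul, smul_mul_smul_comm]

theorem twist_apply (lam : G →* ℂˣ) (ρ : Representation ℂ G V) (g : G) :
    twist lam ρ g = ((lam g : ℂˣ) : ℂ) • ρ g := rfl

theorem twist_char (lam : G →* ℂˣ) (ρ : Representation ℂ G V) :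
    (twist lam ρ).character = (fun g => ((lam g : ℂˣ) : ℂ)) * ρ.character := by
  ext g
  unfold Representation.character
  rw [twist_apply, map_smul]
  rfl

theorem detHom_twist (lam : G →* ℂˣ) (ρ : Representation ℂ G V) (g : G) :
    detHom (twist lam ρ) g = lam g ^ finrank ℂ V * detHom ρ g := by
  apply Units.ext
  rw [detHom_apply, twist_apply, LinearMap.det_smul]
  simp [detHom_apply]

variable [Finite G] [FiniteDimensional ℂ V]

theorem detChar_eq (ρ : Representation ℂ G V) :
    detChar ρ.character = fun g => ((detHom ρ g : ℂˣ) : ℂ) := by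
  have h : IsCharacter G ρ.character := isCharacter_of_rep ρ
  unfold detChar
  rw [dif_pos h]
  ext g
  have hspec := Classical.choose_spec (Classical.choose_spec h)
  set ρ₀ := Classical.choose (Classical.choose_spec h)
  obtain ⟨e'⟩ := equiv_of_char_eq ρ ρ₀ hspec.symm
  obtain ⟨e, he⟩ : ∃ E : V ≃ₗ[ℂ] (Fin (Classical.choose h) → ℂ),
      ∀ n : G, E.toLinearMap ∘ₗ ρ n = ρ₀ n ∘ₗ E.toLinearMap :=
    ⟨e'.toLinearEquiv, fun n => e'.isIntertwining' n⟩
  rw [detHom_apply, ← LinearMap.det_conj (ρ g) e]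
  congr 1
  rw [← LinearMap.comp_assoc, he g, LinearMap.comp_assoc]
  simp

theorem detChar_apply (ρ : Representation ℂ G V) (g : G) :
    detChar ρ.character g = LinearMap.det (ρ g) := by
  rw [detChar_eq]; rfl

end basic

section more

variable {G : Type u} [Group G] [Finite G]

/-- For a character `χ`, `detChar χ` comes from a homomorphism. -/
theorem exists_detHom {χ : G → ℂ} (hχ : IsCharacter G χ) :
    ∃ δ : G →* ℂˣ, detChar χ = fun g => ((δ g : ℂˣ) : ℂ) := by
  obtain ⟨n, ρ, rfl⟩ := hχ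
  exact ⟨detHom ρ, detChar_eq ρ⟩

theorem detChar_restrict (N : Subgroup G) {χ : G → ℂ} (hχ : IsCharacter G χ) (n : N) :
    detChar (fun n : N => χ n) n = detChar χ n := by
  obtain ⟨m, ρ, rfl⟩ := hχ
  let σ : Representation ℂ N (Fin m → ℂ) := ρ.comp N.subtype
  have h1 : (fun n : N => ρ.character n) = σ.character := rfl
  rw [h1, detChar_apply, detChar_apply]
  rfl

theorem detChar_hom_mul (lam : G →* ℂˣ) {χ : G → ℂ} (hχ : IsCharacter G χ) {d : ℕ}
    (hd : χ 1 = d) (g : G) :
    detChar ((fun g => ((lam g : ℂˣ) : ℂ)) * χ) g = ((lam g : ℂˣ) : ℂ) ^ d * detChar χ g := by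
  obtain ⟨m, ρ, rfl⟩ := hχ
  rw [Representation.char_one] at hd
  have hd' : finrank ℂ (Fin m → ℂ) = d := by exact_mod_cast hd
  rw [← twist_char, detChar_eq, detChar_eq]
  simp only
  rw [detHom_twist, hd']
  simp

theorem detChar_comp_equiv {H : Type u} [Group H] [Finite H] (e : H ≃* G) {χ : G → ℂ}
    (hχ : IsCharacter G χ) (h : H) : detChar (χ ∘ e) h = detChar χ (e h) := by
  obtain ⟨m, ρ, rfl⟩ := hχ
  let σ : Representation ℂ H (Fin m → ℂ) := ρ.comp e.toMonoidHom
  have h1 : ρ.character ∘ e = σ.character := rfl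
  rw [h1, detChar_apply, detChar_apply]
  rfl

end more

section ext

variable {G : Type u} [Group G] [Finite G] (N : Subgroup G) (hN : N.Normal)

theorem eq_one_of_pow_coprime {M : Type*} [Monoid M] {x : M} {m d : ℕ} (h : Nat.Coprime m d)
    (h1 : x ^ m = 1) (h2 : x ^ d = 1) : x = 1 := by
  have h3 : orderOf x ∣ Nat.gcd m d :=
    Nat.dvd_gcd (orderOf_dvd_of_pow_eq_one h1) (orderOf_dvd_of_pow_eq_one h2)
  rw [h, Nat.dvd_one, orderOf_eq_one_iff] at h3
  exact h3

include hN in
theorem pow_index_apply (f : G →* ℂˣ) (hf : ∀ n : N, f n = 1) (g : G) : f g ^ N.index = 1 := by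
  have := congrArg (fun F : G →* ℂˣ => F g) (pow_index_eq_one_of_trivial N hN f hf)
  simpa using this

include hN in
/-- Isaacs 6.25-type statement: extensions with prescribed determinant. -/
theorem existsUnique_ext_det {θ : N → ℂ} (hθ : IsIrrCharacter N θ) {d : ℕ} (hd : θ 1 = d)
    (hcop : Nat.Coprime N.index d) {η : G → ℂ} (hη : IsIrrCharacter G η)
    (hηN : ∀ n : N, η n = θ n) (μ : G →* ℂˣ) (hμ : ∀ n : N, ((μ n : ℂˣ) : ℂ) = detChar θ n) :
    ∃! χ : G → ℂ, IsIrrCharacter G χ ∧ (∀ n : N, χ n = θ n) ∧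
      detChar χ = fun g => ((μ g : ℂˣ) : ℂ) := by
  classical
  haveI : Fintype G := Fintype.ofFinite G
  haveI : Fintype N := Fintype.ofFinite N
  have hηc := isCharacter_of_isIrr hη
  have hres : (fun n : N => η n) = θ := funext hηN
  have hη1 : η 1 = d := by rw [← hd]; exact hηN 1
  have hd0 : (d : ℂ) ≠ 0 := by rw [← hd]; exact irr_degree_ne_zero hθ
  obtain ⟨δ, hδ⟩ := exists_detHom hηc
  have hδN : ∀ n : N, δ n = μ n := by
    intro n
    apply Units.ext
    rw [hμ n, ← hres, detChar_restrict N hηc n, hδ]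
  set ν := μ * δ⁻¹ with hν
  have hνN : ∀ n : N, ν n = 1 := by
    intro n
    rw [hν, MonoidHom.mul_apply, MonoidHom.inv_apply, hδN, mul_inv_cancel]
  have hbez : (N.index : ℤ) * Nat.gcdA N.index d + (d : ℤ) * Nat.gcdB N.index d = 1 := by
    have := Nat.gcd_eq_gcd_ab N.index d
    rw [hcop] at this
    exact_mod_cast this.symm
  set a := Nat.gcdA N.index d
  set b := Nat.gcdB N.index d
  set lam := ν ^ b with hlam
  have hlamd : ∀ g : G, lam g ^ d = ν g := by
    intro g
    have h1 : b * (d : ℤ) = 1 - (N.index : ℤ) * a := by linarith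
    rw [hlam, MonoidHom.zpow_apply, ← zpow_natCast, ← zpow_mul, h1, zpow_sub, zpow_one, zpow_mul,
      zpow_natCast, pow_index_apply N hN ν hνN g, one_zpow, inv_one, mul_one]
  have hlamN : ∀ n : N, lam n = 1 := by
    intro n
    rw [hlam, MonoidHom.zpow_apply, hνN, one_zpow]
  refine ⟨(fun g => ((lam g : ℂˣ) : ℂ)) * η, ⟨isIrr_hom_mul lam hη, fun n => ?_, ?_⟩, ?_⟩
  · rw [Pi.mul_apply, hlamN, Units.val_one, one_mul, hηN]
  · ext g
    rw [detChar_hom_mul lam hηc hη1, hδ]
    simp only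
    rw [← Units.val_pow_eq_pow_val, hlamd, hν, MonoidHom.mul_apply, MonoidHom.inv_apply,
      ← Units.val_mul, inv_mul_cancel_right]
  · rintro χ' ⟨hχ', hχ'N, hdet⟩
    have hres' : (fun n : N => χ' n) = θ := funext hχ'N
    obtain ⟨β, hβ, hβN, hβη⟩ := gallagher_exists N hN hη (by rw [hres]; exact hθ) hχ' (by
      rw [hres, hres', classInner_irr_self hθ]; exact one_ne_zero)
    have hβ1 : β 1 = 1 := by
      have h1 := congrFun hβη 1
      rw [Pi.mul_apply, hη1] at h1
      have h2 : χ' 1 = d := by rw [← hd]; exact hχ'N 1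
      rw [h2] at h1
      exact mul_right_cancel₀ hd0 (by rw [h1, one_mul])
    have hβc := isCharacter_of_isIrr hβ
    set lam' := homOfLinear hβc hβ1 with hlam'
    have hβfun : (fun g => ((lam' g : ℂˣ) : ℂ)) = β := funext fun g => homOfLinear_apply hβc hβ1 g
    have hlam'd : ∀ g : G, lam' g ^ d = ν g := by
      intro g
      have h1 := congrFun hdet g
      rw [← hβη, ← hβfun, detChar_hom_mul lam' hηc hη1, hδ] at h1
      simp only at h1
      apply Units.ext
      rw [hν, MonoidHom.mul_apply, MonoidHom.inv_apply, Units.val_mul, ← h1,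
        Units.val_pow_eq_pow_val, mul_assoc, ← Units.val_mul, mul_inv_cancel, Units.val_one, mul_one]
    have hlam'N : ∀ n : N, lam' n = 1 := by
      intro n
      apply Units.ext
      rw [hlam', homOfLinear_apply, hβN n n.2, hβ1, Units.val_one]
    have heq : ∀ g : G, lam' g = lam g := by
      intro g
      have h1 : (lam' * lam⁻¹) g ^ N.index = 1 := by
        apply pow_index_apply N hN
        intro n
        rw [MonoidHom.mul_apply, MonoidHom.inv_apply, hlam'N, hlamN, inv_one, mul_one]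
      have h2 : (lam' * lam⁻¹) g ^ d = 1 := by
        rw [MonoidHom.mul_apply, MonoidHom.inv_apply, mul_pow, inv_pow, hlam'd, hlamd,
          mul_inv_cancel]
      have h3 := eq_one_of_pow_coprime hcop h1 h2
      rw [MonoidHom.mul_apply, MonoidHom.inv_apply] at h3
      exact mul_inv_eq_one.mp h3
    rw [← hβη, ← hβfun]
    congr 1
    ext g
    rw [heq]

include hN in
/-- Gallagher's extension theorem (Isaacs 8.15), both directions. -/
theorem extends_iff_det {θ : N → ℂ} (hθ : IsIrrCharacter N θ)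
    (hinv : ∀ g : G, conjFun N hN θ g = θ) {d : ℕ} (hd : θ 1 = d)
    (hcop : Nat.Coprime N.index d) :
    (∃ χ : G → ℂ, IsIrrCharacter G χ ∧ (∀ n : N, χ n = θ n)) ↔
      ∃ μ : G →* ℂˣ, ∀ n : N, ((μ n : ℂˣ) : ℂ) = detChar θ n := by
  constructor
  · rintro ⟨χ, hχ, hχN⟩
    obtain ⟨δ, hδ⟩ := exists_detHom (isCharacter_of_isIrr hχ)
    refine ⟨δ, fun n => ?_⟩
    have hres : (fun n : N => χ n) = θ := funext hχN
    rw [← hres, detChar_restrict N (isCharacter_of_isIrr hχ) n, hδ]
  · rintro ⟨μ, hμ⟩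
    obtain ⟨m, ρ, hirr, rfl⟩ := hθ
    haveI := hirr
    rw [Representation.char_one] at hd
    have hd' : finrank ℂ (Fin m → ℂ) = d := by exact_mod_cast hd
    exact extends_of_det N hN ρ hinv (by rw [hd']; exact hcop) μ
      (fun n => by rw [hμ n, detChar_apply])

include hN in
/-- Isaacs 8.16. -/
theorem exists_ext_coprime {θ : N → ℂ} (hθ : IsIrrCharacter N θ)
    (hinv : ∀ g : G, conjFun N hN θ g = θ) {d : ℕ} (hd : θ 1 = d)
    (hcop : Nat.Coprime N.index (detOrder θ * d)) :
    ∃ χ : G → ℂ, (IsIrrCharacter G χ ∧ (∀ n : N, χ n = θ n) ∧ detOrder χ = detOrder θ) ∧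
      ∀ χ' : G → ℂ, IsIrrCharacter G χ' → (∀ n : N, χ' n = θ n) →
        Nat.Coprime N.index (detOrder χ') → χ' = χ := by
  have hθc := isCharacter_of_isIrr hθ
  obtain ⟨δ, hδ⟩ := exists_detHom hθc
  have hord : orderOf δ = detOrder θ := by
    unfold detOrder
    rw [hδ, orderOf_toFun']
  have hcop1 : Nat.Coprime N.index (orderOf δ) := by
    rw [hord]; exact Nat.Coprime.coprime_mul_right_right hcop
  have hcop2 : Nat.Coprime N.index d := Nat.Coprime.coprime_mul_left_right hcop
  have hδinv : ∀ (g : G) (n : N), δ ⟨g * n * g⁻¹, hN.conj_mem n n.2 g⟩ = δ n := by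
    intro g n
    apply Units.ext
    have h1 := detChar_comp_equiv (@MulAut.conjNormal G _ N hN g) hθc n
    rw [← conjFun_eq_comp, hinv g, hδ] at h1
    exact h1.symm
  obtain ⟨μ, hμN, hμo, huniq⟩ := extend_linear_coprime N hN δ hδinv hcop1
  have hμ : ∀ n : N, ((μ n : ℂˣ) : ℂ) = detChar θ n := by
    intro n
    rw [hμN n, hδ]
  obtain ⟨η, hη, hηN⟩ := (extends_iff_det N hN hθ hinv hd hcop2).mpr ⟨μ, hμ⟩
  obtain ⟨χ, ⟨hχ, hχN, hχdet⟩, hχuniq⟩ := existsUnique_ext_det N hN hθ hd hcop2 hη hηN μ hμ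
  refine ⟨χ, ⟨hχ, hχN, ?_⟩, ?_⟩
  · unfold detOrder
    rw [hχdet, orderOf_toFun', hμo, hδ, orderOf_toFun']
  · intro χ' hχ' hχ'N hcop'
    apply hχuniq
    refine ⟨hχ', hχ'N, ?_⟩
    obtain ⟨δ', hδ'⟩ := exists_detHom (isCharacter_of_isIrr hχ')
    have h1 : δ' = μ := by
      apply huniq
      · intro n
        apply Units.ext
        have hres : (fun n : N => χ' n) = θ := funext hχ'N
        have h2 := detChar_restrict N (isCharacter_of_isIrr hχ') n
        rw [hres, hδ, hδ'] at h2
        exact h2.symm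
      · have : orderOf δ' = detOrder χ' := by
          unfold detOrder
          rw [hδ', orderOf_toFun']
        rw [this]; exact hcop'
    rw [hδ', h1]

end ext

end Cfsg.Agent.Lib.CharDet
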