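import Mathlib
import Cfsg.Prelude.Def_Characters
import Cfsg.Agent.Lib.CharMore

/-!
# Galois action on character values
-/

set_option autoImplicit false

namespace Cfsg.Agent.Lib.CharGalois

open Cfsg Representation Module Cfsg.Agent.Lib.CharBasic Cfsg.Agent.Lib.CharOrtho
  Cfsg.Agent.Lib.CharComplete Cfsg.Agent.Lib.CharIntegral Cfsg.Agent.Lib.CharMore
open scoped ComplexConjugate

universe u v

section cyc

variable (n : ℕ) [NeZero n]

instance neQ : NeZero ((n : ℕ) : ℚ) := ⟨by exact_mod_cast NeZero.ne n⟩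

/-- the cyclotomic field -/
abbrev K := CyclotomicField n ℚ

instance cycK : IsCyclotomicExtension {n} ℚ (K n) := CyclotomicField.isCyclotomicExtension n ℚ

/-- a fixed embedding into `ℂ` -/
noncomputable def emb : K n →+* ℂ := Classical.arbitrary (K n →+* ℂ)

/-- the chosen primitive root in `K` -/
noncomputable def zet : K n := IsCyclotomicExtension.zeta n ℚ (K n)

theorem zet_spec : IsPrimitiveRoot (zet n) n := IsCyclotomicExtension.zeta_spec n ℚ (K n)

theorem emb_zet_spec : IsPrimitiveRoot (emb n (zet n)) n :=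
  (zet_spec n).map_of_injective (emb n).injective

/-- Every automorphism raises `ζ` to a power prime to `n`. -/
theorem exists_pow (τ : K n ≃ₐ[ℚ] K n) : ∃ k : ℕ, k.Coprime n ∧ τ (zet n) = zet n ^ k := by
  have h1 : IsPrimitiveRoot (τ (zet n)) n := (zet_spec n).map_of_injective τ.injective
  obtain ⟨k, _, hk⟩ := (zet_spec n).eq_pow_of_pow_eq_one h1.pow_eq_one
  refine ⟨k, ?_, hk.symm⟩
  rw [← hk] at h1
  exact ((zet_spec n).pow_iff_coprime (NeZero.pos n) k).mp h1

/-- For `k` prime to `n` there is an automorphism raising `ζ` to the `k`-th power. -/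
theorem exists_aut {k : ℕ} (hk : k.Coprime n) : ∃ τ : K n ≃ₐ[ℚ] K n, τ (zet n) = zet n ^ k :=
  ⟨IsCyclotomicExtension.fromZetaAut ((zet_spec n).pow_of_coprime k hk)
    (Polynomial.cyclotomic.irreducible_rat (NeZero.pos n)),
    IsCyclotomicExtension.fromZetaAut_spec _ _⟩

/-- Sums of `n`-th roots of unity lift to `K`, compatibly with power maps. -/
theorem exists_lift {ι : Type*} [Fintype ι] (μ : ι → ℂ) (hμ : ∀ i, μ i ^ n = 1) :
    ∃ a : K n, IsIntegral ℤ a ∧ ∀ (τ : K n ≃ₐ[ℚ] K n) (k : ℕ), τ (zet n) = zet n ^ k →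
      emb n (τ a) = ∑ i, μ i ^ k := by
  choose e _ he using fun i => (emb_zet_spec n).eq_pow_of_pow_eq_one (hμ i)
  refine ⟨∑ i, zet n ^ e i, ?_, ?_⟩
  · refine IsIntegral.sum _ fun i _ => IsIntegral.pow ?_ _
    exact (zet_spec n).isIntegral (NeZero.pos n)
  · intro τ k hτ
    rw [map_sum, map_sum]
    refine Finset.sum_congr rfl fun i _ => ?_
    rw [map_pow, hτ, map_pow, map_pow, ← he i, ← pow_mul, ← pow_mul, mul_comm]

end cyc

section char

variable {G : Type u} [Group G] [Finite G]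

instance : NeZero (Nat.card G) := ⟨Nat.card_pos.ne'⟩

/-- Character values lift to the cyclotomic field, with `τ` acting as a power map on `G`. -/
theorem exists_lift_char {χ : G → ℂ} (hχ : IsCharacter G χ) (g : G) :
    ∃ a : K (Nat.card G), IsIntegral ℤ a ∧
      ∀ (τ : K (Nat.card G) ≃ₐ[ℚ] K (Nat.card G)) (k : ℕ),
        τ (zet (Nat.card G)) = zet (Nat.card G) ^ k → emb (Nat.card G) (τ a) = χ (g ^ k) := by
  obtain ⟨m, ρ, rfl⟩ := hχ
  obtain ⟨b, μ, hμ, hb⟩ := exists_eigen ρ g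
  have hμ' : ∀ i, μ i ^ Nat.card G = 1 := by
    intro i
    obtain ⟨c, hc⟩ := orderOf_dvd_natCard g
    rw [hc, pow_mul, hμ i, one_pow]
  obtain ⟨a, ha, h⟩ := exists_lift (Nat.card G) μ hμ'
  refine ⟨a, ha, fun τ k hτ => ?_⟩
  rw [h τ k hτ]
  symm
  apply trace_eq_sum_of_eigenbasis _ b
  intro i
  rw [map_pow]
  clear hτ h
  induction k with
  | zero => simp
  | succ k ih =>
    rw [pow_succ, Module.End.mul_apply, hb i, map_smul, ih, smul_smul, pow_succ, mul_comm]

instance galK (n : ℕ) [NeZero n] : IsGalois ℚ (K n) := IsCyclotomicExtension.isGalois {n} ℚ (K n)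

instance fdK (n : ℕ) [NeZero n] : FiniteDimensional ℚ (K n) :=
  IsCyclotomicExtension.finiteDimensional {n} ℚ (K n)

theorem emb_algebraMap (n : ℕ) [NeZero n] (q : ℚ) : emb n (algebraMap ℚ (K n) q) = (q : ℂ) := by
  simp

/-- If `χ (g ^ k) = χ g` for all `k` prime to `|G|`, then `χ g` is a rational integer. -/
theorem int_of_fixed {χ : G → ℂ} (hχ : IsCharacter G χ) (g : G)
    (h : ∀ k : ℕ, k.Coprime (Nat.card G) → χ (g ^ k) = χ g) : ∃ z : ℤ, χ g = z := by
  obtain ⟨a, ha, hτ⟩ := exists_lift_char hχ g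
  have h1 : emb (Nat.card G) a = χ g := by
    have := hτ AlgEquiv.refl 1 (by simp)
    simpa using this
  have hfix : ∀ τ : K (Nat.card G) ≃ₐ[ℚ] K (Nat.card G), τ a = a := by
    intro τ
    obtain ⟨k, hk, hk'⟩ := exists_pow (Nat.card G) τ
    apply (emb (Nat.card G)).injective
    rw [hτ τ k hk', h k hk, h1]
  obtain ⟨q, hq⟩ := (IsGalois.mem_range_algebraMap_iff_fixed a).mpr hfix
  have hq' : IsIntegral ℤ q := by
    rw [← isIntegral_algebraMap_iff (algebraMap ℚ (K (Nat.card G))).injective, hq]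
    exact ha
  obtain ⟨z, hz⟩ := IsIntegrallyClosed.isIntegral_iff.mp hq'
  refine ⟨z, ?_⟩
  rw [← h1, ← hq, emb_algebraMap, ← hz]
  simp

/-- A rational character value is unchanged by coprime power maps. -/
theorem pow_of_rat {χ : G → ℂ} (hχ : IsCharacter G χ) (g : G) (q : ℚ) (hq : χ g = q) {k : ℕ}
    (hk : k.Coprime (Nat.card G)) : χ (g ^ k) = χ g := by
  obtain ⟨a, ha, hτ⟩ := exists_lift_char hχ g
  have h1 : emb (Nat.card G) a = χ g := by
    have := hτ AlgEquiv.refl 1 (by simp)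
    simpa using this
  have h2 : a = algebraMap ℚ (K (Nat.card G)) q := by
    apply (emb (Nat.card G)).injective
    rw [h1, hq, emb_algebraMap]
  obtain ⟨τ, hτk⟩ := exists_aut (Nat.card G) hk
  rw [← hτ τ k hτk, h2, AlgEquiv.commutes, ← h2, h1]

theorem card_le_sum_of_one_le_prod {ι : Type*} (s : Finset ι) (z : ι → ℝ) (hz : ∀ i ∈ s, 0 < z i)
    (h : 1 ≤ ∏ i ∈ s, z i) : (s.card : ℝ) ≤ ∑ i ∈ s, z i := by
  have h1 : 0 ≤ Real.log (∏ i ∈ s, z i) := Real.log_nonneg h
  rw [Real.log_prod (fun i hi => (hz i hi).ne')] at h1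
  have h2 : ∑ i ∈ s, Real.log (z i) ≤ ∑ i ∈ s, (z i - 1) :=
    Finset.sum_le_sum fun i hi => Real.log_le_sub_one_of_pos (hz i hi)
  rw [Finset.sum_sub_distrib, Finset.sum_const, nsmul_eq_mul, mul_one] at h2
  linarith

/-- exponent attached to an automorphism -/
noncomputable def expo (n : ℕ) [NeZero n] (τ : K n ≃ₐ[ℚ] K n) : ℕ := (exists_pow n τ).choose

theorem expo_coprime (n : ℕ) [NeZero n] (τ : K n ≃ₐ[ℚ] K n) : (expo n τ).Coprime n :=
  (exists_pow n τ).choose_spec.1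

theorem expo_spec (n : ℕ) [NeZero n] (τ : K n ≃ₐ[ℚ] K n) : τ (zet n) = zet n ^ expo n τ :=
  (exists_pow n τ).choose_spec.2

/-- If `χ g ≠ 0`, the average of `|χ (g ^ k)|²` over the Galois group is at least `1`. -/
theorem card_le_sum_normSq {χ : G → ℂ} (hχ : IsCharacter G χ) (g : G) (h0 : χ g ≠ 0) :
    (Fintype.card (K (Nat.card G) ≃ₐ[ℚ] K (Nat.card G)) : ℝ) ≤
      ∑ τ : K (Nat.card G) ≃ₐ[ℚ] K (Nat.card G), ‖χ (g ^ expo (Nat.card G) τ)‖ ^ 2 := by
  obtain ⟨a, ha, hτ⟩ := exists_lift_char hχ g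
  have h1 : emb (Nat.card G) a = χ g := by
    have := hτ AlgEquiv.refl 1 (by simp)
    simpa using this
  have ha0 : a ≠ 0 := by
    rintro rfl
    rw [map_zero] at h1
    exact h0 h1.symm
  have hval : ∀ τ : K (Nat.card G) ≃ₐ[ℚ] K (Nat.card G),
      χ (g ^ expo (Nat.card G) τ) = emb (Nat.card G) (τ a) :=
    fun τ => (hτ τ _ (expo_spec _ τ)).symm
  have hne : ∀ τ : K (Nat.card G) ≃ₐ[ℚ] K (Nat.card G), χ (g ^ expo (Nat.card G) τ) ≠ 0 := by
    intro τ
    rw [hval τ]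
    exact fun h => ha0 (by simpa using h)
  have hnorm := Algebra.norm_eq_prod_automorphisms ℚ a
  have hint : IsIntegral ℤ (Algebra.norm ℚ a) := Algebra.isIntegral_norm ℚ ha
  obtain ⟨z, hz⟩ := IsIntegrallyClosed.isIntegral_iff.mp hint
  have hz0 : z ≠ 0 := by
    rintro rfl
    rw [map_zero] at hz
    exact ha0 (Algebra.norm_eq_zero_iff.mp hz.symm)
  have hprod : ∏ τ : K (Nat.card G) ≃ₐ[ℚ] K (Nat.card G), χ (g ^ expo (Nat.card G) τ) = (z : ℂ) := by
    simp only [hval]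
    rw [← map_prod, ← hnorm, emb_algebraMap, ← hz]
    simp
  have hone : (1 : ℝ) ≤ ∏ τ : K (Nat.card G) ≃ₐ[ℚ] K (Nat.card G),
      ‖χ (g ^ expo (Nat.card G) τ)‖ ^ 2 := by
    rw [Finset.prod_pow, ← norm_prod, hprod, Complex.norm_intCast]
    have : (1 : ℝ) ≤ |(z : ℝ)| := by exact_mod_cast Int.one_le_abs hz0
    nlinarith
  have := card_le_sum_of_one_le_prod Finset.univ
    (fun τ : K (Nat.card G) ≃ₐ[ℚ] K (Nat.card G) => ‖χ (g ^ expo (Nat.card G) τ)‖ ^ 2)
    (fun τ _ => by positivity [norm_pos_iff.mpr (hne τ)]) hone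
  simpa using this

theorem sum_normSq [Fintype G] {χ : G → ℂ} (hχ : IsIrrCharacter G χ) :
    ∑ g : G, ‖χ g‖ ^ 2 = (Nat.card G : ℝ) := by
  have hG : (Nat.card G : ℂ) ≠ 0 := by exact_mod_cast Nat.card_pos.ne'
  have h1 := classInner_irr_self hχ
  unfold classInner at h1
  have h2 : ∑ g : G, χ g * conj (χ g) = (Nat.card G : ℂ) := by
    field_simp at h1
    exact h1
  have h3 : ((∑ g : G, ‖χ g‖ ^ 2 : ℝ) : ℂ) = (Nat.card G : ℂ) := by
    rw [← h2]
    push_cast
    refine Finset.sum_congr rfl fun g _ => ?_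
    rw [Complex.mul_conj, Complex.normSq_eq_norm_sq]
    push_cast
    rfl
  exact_mod_cast h3

/-- **Burnside**: a nonlinear irreducible character vanishes somewhere. -/
theorem exists_zero {χ : G → ℂ} (hχ : IsIrrCharacter G χ) {d : ℕ} (hd : χ 1 = d) (h1 : 1 < d) :
    ∃ g : G, χ g = 0 := by
  classical
  haveI := Fintype.ofFinite G
  by_contra hcon
  push Not at hcon
  have hch := isCharacter_of_isIrr hχ
  set Γ := K (Nat.card G) ≃ₐ[ℚ] K (Nat.card G) with hΓ
  have hΓpos : (0 : ℝ) < Fintype.card Γ := by exact_mod_cast Fintype.card_pos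
  have e1 : ∑ g : G, ∑ τ : Γ, ‖χ (g ^ expo (Nat.card G) τ)‖ ^ 2 =
      (Fintype.card Γ : ℝ) * (Nat.card G : ℝ) := by
    rw [Finset.sum_comm]
    have : ∀ τ : Γ, ∑ g : G, ‖χ (g ^ expo (Nat.card G) τ)‖ ^ 2 = (Nat.card G : ℝ) := by
      intro τ
      rw [← sum_normSq hχ]
      exact Equiv.sum_comp (powCoprime (expo_coprime (Nat.card G) τ).symm) (fun g => ‖χ g‖ ^ 2)
    simp only [this, Finset.sum_const, Finset.card_univ, nsmul_eq_mul]
  have e2 : (Fintype.card Γ : ℝ) * (d : ℝ) ^ 2 + (Fintype.card Γ : ℝ) * ((Nat.card G : ℝ) - 1) ≤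
      ∑ g : G, ∑ τ : Γ, ‖χ (g ^ expo (Nat.card G) τ)‖ ^ 2 := by
    rw [← Finset.add_sum_erase Finset.univ _ (Finset.mem_univ (1 : G))]
    apply add_le_add
    · simp only [one_pow, hd, Complex.norm_natCast, Finset.sum_const, Finset.card_univ,
        nsmul_eq_mul]
      exact le_refl _
    · have h3 : ∀ g ∈ Finset.univ.erase (1 : G), (Fintype.card Γ : ℝ) ≤
          ∑ τ : Γ, ‖χ (g ^ expo (Nat.card G) τ)‖ ^ 2 :=
        fun g _ => card_le_sum_normSq hch g (hcon g)
      have h4 := Finset.card_nsmul_le_sum _ _ _ h3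
      rw [Finset.card_erase_of_mem (Finset.mem_univ _), Finset.card_univ,
        ← Nat.card_eq_fintype_card, nsmul_eq_mul, Nat.cast_sub Nat.card_pos, Nat.cast_one] at h4
      linarith
  rw [e1] at e2
  have h5 : (d : ℝ) ^ 2 ≤ 1 := by
    have : (Fintype.card Γ : ℝ) * ((d : ℝ) ^ 2 - 1) ≤ 0 := by nlinarith
    nlinarith
  have h6 : (2 : ℝ) ≤ d := by exact_mod_cast h1
  nlinarith

/-- All irreducible characters are rational-valued iff every element is conjugate to its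
coprime powers. -/
theorem rational_iff :
    (∀ χ : IrrCharacter G, ∀ g : G, ∃ q : ℚ, (χ : G → ℂ) g = (q : ℂ)) ↔
      ∀ m : ℕ, m.Coprime (Nat.card G) → ∀ g : G, IsConj g (g ^ m) := by
  haveI := Fintype.ofFinite G
  constructor
  · intro h m hm g
    rw [isConj_iff_forall_irr]
    intro χ
    obtain ⟨q, hq⟩ := h χ g
    exact (pow_of_rat (isCharacter_of_isIrr χ.2) g q hq hm).symm
  · intro h χ g
    obtain ⟨z, hz⟩ := int_of_fixed (isCharacter_of_isIrr χ.2) g (fun k hk =>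
      ((isConj_iff_forall_irr g (g ^ k)).mp (h k hk g) χ).symm)
    exact ⟨z, by rw [hz]; simp⟩

end char

end Cfsg.Agent.Lib.CharGalois
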