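import Mathlib
import Cfsg.Prelude.Def_Characters
import Cfsg.Prelude.Def_CharExt
import Cfsg.Prelude.Def_Transfer
import Cfsg.Prelude.Def_Blocks
import Cfsg.Agent.Lib.CharDet
import Cfsg.Agent.Lib.Helper9_PResidual

/-!
# Thompson's theorem on character degrees divisible by `p` (Isaacs 12.1, 12.2)
-/

set_option autoImplicit false

namespace Cfsg.Agent.Lib.CharThompson

open Cfsg Representation Module MulAction Cfsg.Agent.Lib.CharBasic Cfsg.Agent.Lib.CharOrtho
  Cfsg.Agent.Lib.CharComplete Cfsg.Agent.Lib.CharIntegral Cfsg.Agent.Lib.CharMore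
  Cfsg.Agent.Lib.CharInd Cfsg.Agent.Lib.CharClifford Cfsg.Agent.Lib.CharCorr
  Cfsg.Agent.Lib.CharIto Cfsg.Agent.Lib.CharKer Cfsg.Agent.Lib.CharGallagher
  Cfsg.Agent.Lib.CharCover Cfsg.Agent.Lib.CharLinExt Cfsg.Agent.Lib.CharLinear
  Cfsg.Agent.Lib.CharCover2 Cfsg.Agent.Lib.CharDet Cfsg.Agent.Lib.Helper9_PResidual
open scoped ComplexConjugate

universe u v w

theorem card_lt_subtype (n : ℕ) : Nat.card {b : ℕ // b < n} = n := by
  rw [Nat.card_congr (Fin.equivSubtype (n := n)).symm]
  simp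

theorem card_under {ι : Type*} [Fintype ι] (D : ι → ℕ) :
    Nat.card {y : ι × ℕ // y.2 < D y.1} = ∑ x, D x := by
  rw [Nat.card_congr (Equiv.subtypeProdEquivSigmaSubtype (fun (a : ι) (b : ℕ) => b < D a))]
  have : ∀ a : ι, Finite {b : ℕ // b < D a} := fun a =>
    Finite.of_equiv _ (Fin.equivSubtype (n := D a))
  rw [Nat.card_sigma]
  simp only [card_lt_subtype]

theorem finite_under {ι : Type*} [Finite ι] (D : ι → ℕ) : Finite {y : ι × ℕ // y.2 < D y.1} := by
  have : ∀ a : ι, Finite {b : ℕ // b < D a} := fun a =>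
    Finite.of_equiv _ (Fin.equivSubtype (n := D a))
  exact Finite.of_equiv _ (Equiv.subtypeProdEquivSigmaSubtype (fun (a : ι) (b : ℕ) => b < D a)).symm

/-- Weighted fixed point congruence for `p`-group actions. -/
theorem sum_modEq_sum_fixed {P ι : Type*} [Group P] (p : ℕ) [Fact p.Prime] (hP : IsPGroup p P)
    [MulAction P ι] [Fintype ι] (D : ι → ℕ) (hD : ∀ (g : P) (x : ι), D (g • x) = D x)
    [DecidablePred fun x : ι => ∀ g : P, g • x = x] :
    ∑ x, D x ≡ ∑ x ∈ Finset.univ.filter (fun x : ι => ∀ g : P, g • x = x), D x [MOD p] := by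
  classical
  let X := {y : ι × ℕ // y.2 < D y.1}
  let _ : MulAction P X :=
    { smul := fun g y => ⟨(g • y.1.1, y.1.2), by simpa [hD] using y.2⟩
      one_smul := fun y => Subtype.ext (Prod.ext (one_smul P y.1.1) rfl)
      mul_smul := fun g h y => Subtype.ext (Prod.ext (mul_smul g h y.1.1) rfl) }
  have : Finite X := finite_under D
  have h1 := hP.card_modEq_card_fixedPoints X
  rw [card_under D] at h1
  let D' : ι → ℕ := fun x => if ∀ g : P, g • x = x then D x else 0
  have h2 : Nat.card (fixedPoints P X) = Nat.card {y : ι × ℕ // y.2 < D' y.1} := by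
    refine Nat.card_congr ⟨fun z => ⟨z.1.1, ?_⟩, fun w => ⟨⟨w.1, ?_⟩, ?_⟩, ?_, ?_⟩
    · have hz : ∀ g : P, g • z.1.1.1 = z.1.1.1 := fun g =>
        congrArg (fun y : X => y.1.1) (z.2 g)
      simp only [D', if_pos hz]
      exact z.1.2
    · have := w.2
      simp only [D'] at this
      split_ifs at this with h
      · exact this
      · exact absurd this (Nat.not_lt_zero _)
    · intro g
      have := w.2
      simp only [D'] at this
      split_ifs at this with h
      · exact Subtype.ext (Prod.ext (h g) rfl)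
      · exact absurd this (Nat.not_lt_zero _)
    · intro z; rfl
    · intro w; rfl
  rw [h2, card_under D'] at h1
  rw [Finset.sum_filter]
  exact h1

section action

variable {G : Type u} [Group G] [Finite G] (K : Subgroup G) (hK : K.Normal)

/-- The (left) action of `G` on the irreducible characters of a normal subgroup. -/
@[reducible] noncomputable def irrAction : MulAction G (IrrCharacter K) where
  smul g θ := ⟨conjFun K hK θ g⁻¹, isIrr_conjFun K hK θ.2 g⁻¹⟩
  one_smul θ := Subtype.ext (by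
    show conjFun K hK θ (1 : G)⁻¹ = θ
    rw [inv_one, conjFun_one])
  mul_smul g h θ := Subtype.ext (by
    show conjFun K hK θ (g * h)⁻¹ = conjFun K hK (conjFun K hK θ h⁻¹) g⁻¹
    rw [conjFun_mul, mul_inv_rev])

include hK in
/-- Weighted congruence for `G`-invariant weights on `Irr(K)`, `G/K` a `p`-group. -/
theorem sum_irr_modEq (p : ℕ) [hp : Fact p.Prime] {k : ℕ} (hidx : K.index = p ^ k)
    (D : IrrCharacter K → ℕ)
    (hD : ∀ (g : G) (θ θ' : IrrCharacter K), (θ' : K → ℂ) = conjFun K hK θ g → D θ' = D θ)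
    [Fintype (IrrCharacter K)]
    [DecidablePred fun θ : IrrCharacter K => ∀ g : G, conjFun K hK θ g = θ] :
    ∑ θ, D θ ≡ ∑ θ ∈ Finset.univ.filter
      (fun θ : IrrCharacter K => ∀ g : G, conjFun K hK θ g = θ), D θ [MOD p] := by
  classical
  let _ := irrAction K hK
  obtain ⟨P⟩ : Nonempty (Sylow p G) := inferInstance
  have h1 := sum_modEq_sum_fixed p P.2 (ι := IrrCharacter K) D
    (fun g θ => hD (g : G)⁻¹ θ _ rfl)
  have h2 : (Finset.univ.filter (fun x : IrrCharacter K => ∀ g : (P : Subgroup G), g • x = x)) =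
      Finset.univ.filter (fun θ : IrrCharacter K => ∀ g : G, conjFun K hK θ g = θ) := by
    ext θ
    simp only [Finset.mem_filter, Finset.mem_univ, true_and]
    constructor
    · intro h
      have hKT : K ≤ inertia K hK θ :=
        le_inertia K hK (isClassFunction_of_isCharacter (isCharacter_of_isIrr θ.2))
      have hPT : (P : Subgroup G) ≤ inertia K hK θ := by
        intro g hg
        rw [mem_inertia]
        have := congrArg Subtype.val (h ⟨g⁻¹, (P : Subgroup G).inv_mem hg⟩)
        have h3 : conjFun K hK θ (g⁻¹)⁻¹ = θ := this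
        rwa [inv_inv] at h3
      have h4 : (inertia K hK θ).index ∣ p ^ k := hidx ▸ Subgroup.index_dvd_of_le hKT
      have h5 : (inertia K hK θ).index ∣ (P : Subgroup G).index := Subgroup.index_dvd_of_le hPT
      obtain ⟨i, -, hi⟩ := (Nat.dvd_prime_pow hp.out).mp h4
      have h6 : inertia K hK θ = ⊤ := by
        rw [← Subgroup.index_eq_one, hi]
        cases i with
        | zero => rfl
        | succ i =>
          exfalso
          apply P.not_dvd_index
          refine dvd_trans ?_ h5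
          rw [hi]
          exact dvd_pow_self p (Nat.succ_ne_zero i)
      intro g
      rw [← mem_inertia, h6]
      exact Subgroup.mem_top g
    · intro h g
      exact Subtype.ext (h _)
  rw [h2] at h1
  exact h1

end action

section residual

variable (p : ℕ) [hp : Fact p.Prime]

include hp in
theorem hom_order_coprime {K : Type u} [Group K] [Finite K]
    (hK : Subgroup.closure {g : K | Nat.Coprime (orderOf g) p} = ⊤) (f : K →* ℂˣ) :
    Nat.Coprime (orderOf f) p := by
  have h1 : ∀ x : K, Nat.Coprime (orderOf (f x)) p := by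
    intro x
    have hx : x ∈ Subgroup.closure {g : K | Nat.Coprime (orderOf g) p} := hK ▸ Subgroup.mem_top x
    induction hx using Subgroup.closure_induction with
    | mem x hx => exact Nat.Coprime.coprime_dvd_left (orderOf_map_dvd f x) hx
    | one => simp
    | mul x y _ _ hx hy =>
      rw [map_mul]
      exact Nat.Coprime.coprime_dvd_left
        (((Commute.all (f x) (f y)).orderOf_mul_dvd_lcm).trans (Nat.lcm_dvd_mul _ _))
        (Nat.Coprime.mul_left hx hy)
    | inv x _ hx => rwa [map_inv, orderOf_inv]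
  have hc0 : Nat.card K ≠ 0 := Nat.card_pos.ne'
  have h2 : f ^ (ordCompl[p] (Nat.card K)) = 1 := by
    ext x
    simp only [MonoidHom.pow_apply, MonoidHom.one_apply]
    have h3 : orderOf (f x) ∣ ordProj[p] (Nat.card K) * ordCompl[p] (Nat.card K) := by
      rw [Nat.ordProj_mul_ordCompl_eq_self]
      exact (orderOf_map_dvd f x).trans (orderOf_dvd_natCard x)
    have h4 : orderOf (f x) ∣ ordCompl[p] (Nat.card K) :=
      Nat.Coprime.dvd_of_dvd_mul_left (Nat.Coprime.pow_right _ (h1 x)) h3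
    rw [orderOf_dvd_iff_pow_eq_one.mp h4]
  exact Nat.Coprime.coprime_dvd_left (orderOf_dvd_of_pow_eq_one h2)
    (Nat.coprime_ordCompl hp.out hc0).symm

theorem closure_residual (G : Type u) [Group G] :
    Subgroup.closure {g : ↥(pResidual p G) | Nat.Coprime (orderOf g) p} = ⊤ := by
  have h := Subgroup.closure_closure_coe_preimage (k := {g : G | Nat.Coprime (orderOf g) p})
  refine Eq.trans ?_ h
  congr 1
  ext x
  show Nat.Coprime (orderOf x) p ↔ Nat.Coprime (orderOf (x : G)) p
  rw [Subgroup.orderOf_coe]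

include hp in
theorem index_residual (G : Type u) [Group G] [Finite G] : ∃ k : ℕ, (pResidual p G).index = p ^ k := by
  have := pResidual_normal p G
  obtain ⟨j, hj⟩ := IsPGroup.iff_card.mp (isPGroup_quotient_pResidual p G)
  exact ⟨j, by rw [Subgroup.index_eq_card, hj]⟩

include hp in
theorem detOrder_coprime {G : Type u} [Group G] [Finite G] {θ : ↥(pResidual p G) → ℂ}
    (hθ : IsCharacter (pResidual p G) θ) : Nat.Coprime (detOrder θ) p := by
  obtain ⟨δ, hδ⟩ := exists_detHom hθ
  unfold detOrder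
  rw [hδ, orderOf_toFun']
  exact hom_order_coprime p (closure_residual p G) δ

include hp in
/-- An invariant character of `O^p(G)` of degree prime to `p` extends (canonically). -/
theorem exists_ext_residual {G : Type u} [Group G] [Finite G] {θ : ↥(pResidual p G) → ℂ}
    (hθ : IsIrrCharacter (pResidual p G) θ)
    (hinv : ∀ g : G, conjFun (pResidual p G) (pResidual_normal p G) θ g = θ) {d : ℕ}
    (hd : θ 1 = d) (hpd : ¬ p ∣ d) :
    ∃ χ : G → ℂ, (IsIrrCharacter G χ ∧ (∀ n : pResidual p G, χ n = θ n) ∧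
        detOrder χ = detOrder θ) ∧
      ∀ χ' : G → ℂ, IsIrrCharacter G χ' → (∀ n : pResidual p G, χ' n = θ n) →
        Nat.Coprime (pResidual p G).index (detOrder χ') → χ' = χ := by
  obtain ⟨k, hk⟩ := index_residual p G
  apply exists_ext_coprime (pResidual p G) (pResidual_normal p G) hθ hinv hd
  rw [hk]
  apply Nat.Coprime.pow_left
  exact Nat.Coprime.mul_right (detOrder_coprime p (isCharacter_of_isIrr hθ)).symm
    ((Nat.Prime.coprime_iff_not_dvd hp.out).mpr hpd)

include hp in
/-- Thompson (Isaacs 12.2). -/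
theorem thompson {G : Type u} [Group G] [Finite G]
    (hdeg : ∀ (χ : G → ℂ), IsIrrCharacter G χ → ∀ d : ℕ, χ 1 = d → d ≠ 1 → p ∣ d) :
    Nat.Coprime (Nat.card (pResidual p G)) p := by
  classical
  set K := pResidual p G with hKdef
  have hK : K.Normal := pResidual_normal p G
  haveI : Fintype K := Fintype.ofFinite K
  obtain ⟨k, hk⟩ := index_residual p G
  choose d hd0 hd hdvd using fun θ : IrrCharacter K => irr_degree θ.2
  have hdinv : ∀ (g : G) (θ θ' : IrrCharacter K), (θ' : K → ℂ) = conjFun K hK θ g → d θ' = d θ := by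
    intro g θ θ' h
    have h1 : (θ' : K → ℂ) 1 = (θ : K → ℂ) 1 := by
      rw [h, conjFun_apply]
      exact congrArg (θ : K → ℂ) (Subtype.ext (by simp))
    rw [hd, hd] at h1
    exact_mod_cast h1
  have A1 : Nat.card K = ∑ θ, d θ ^ 2 := by
    have := sum_sq_degree (G := K)
    simp only [hd] at this
    exact_mod_cast this.symm
  have A2 := sum_irr_modEq K hK p hk (fun θ => d θ ^ 2)
    (fun g θ θ' h => by simp only [hdinv g θ θ' h])
  have A3 := sum_irr_modEq K hK p hk (fun θ => if d θ = 1 then 1 else 0)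
    (fun g θ θ' h => by simp only [hdinv g θ θ' h])
  have A4 : ∑ θ ∈ Finset.univ.filter
      (fun θ : IrrCharacter K => ∀ g : G, conjFun K hK θ g = θ), d θ ^ 2 ≡
      ∑ θ ∈ Finset.univ.filter
      (fun θ : IrrCharacter K => ∀ g : G, conjFun K hK θ g = θ), (if d θ = 1 then 1 else 0)
      [MOD p] := by
    unfold Nat.ModEq
    rw [Finset.sum_nat_mod, Finset.sum_nat_mod (f := fun θ => if d θ = 1 then 1 else 0)]
    congr 1
    refine Finset.sum_congr rfl fun θ hθ => ?_
    have hinv := (Finset.mem_filter.mp hθ).2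
    by_cases h1 : d θ = 1
    · rw [if_pos h1, h1]; rfl
    · rw [if_neg h1]
      have hp' : p ∣ d θ := by
        by_contra hnd
        obtain ⟨χ, ⟨hχ, hχK, -⟩, -⟩ := exists_ext_residual p θ.2 hinv (hd θ) hnd
        exact hnd (hdeg χ hχ (d θ) (by rw [← hd θ]; exact hχK 1) h1)
      rw [Nat.zero_mod]
      exact Nat.mod_eq_zero_of_dvd (dvd_pow hp' two_ne_zero)
  have A5 : ∑ θ : IrrCharacter K, (if d θ = 1 then 1 else 0) = Nat.card (K →* ℂˣ) := by
    rw [← Nat.card_congr (linearEquiv (G := K)), Nat.card_eq_fintype_card, Fintype.card_subtype,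
      Finset.card_filter]
    refine Finset.sum_congr rfl fun θ _ => ?_
    have : d θ = 1 ↔ (θ : K → ℂ) 1 = 1 := by
      rw [hd]
      exact_mod_cast Iff.rfl
    simp only [this]
  have A6 : Nat.Coprime (Nat.card (K →* ℂˣ)) p := by
    haveI : Finite (K →* ℂˣ) := Finite.of_equiv _ (linearEquiv (G := K))
    rw [Nat.coprime_comm, Nat.Prime.coprime_iff_not_dvd hp.out]
    intro hdvd
    obtain ⟨f, hf⟩ := exists_prime_orderOf_dvd_card' p hdvd
    have := hom_order_coprime p (closure_residual p G) f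
    rw [hf] at this
    exact hp.out.one_lt.ne' (Nat.coprime_self p |>.mp this)
  have A7 : Nat.card K ≡ Nat.card (K →* ℂˣ) [MOD p] := by
    rw [A1, ← A5]
    exact A2.trans (A4.trans A3.symm)
  rw [Nat.coprime_comm, Nat.Prime.coprime_iff_not_dvd hp.out] at A6 ⊢
  intro h
  exact A6 ((Nat.ModEq.dvd_iff A7 (dvd_refl p)).mp h)

end residual

section count

theorem charDegree_eq {X : Type u} [Group X] {χ : X → ℂ} {d : ℕ} (h : χ 1 = d) :
    charDegree χ = d := by
  unfold charDegree
  rw [h]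
  simp

theorem charDegree_spec {X : Type u} [Group X] [Finite X] {χ : X → ℂ} (hχ : IsIrrCharacter X χ) :
    χ 1 = (charDegree χ : ℂ) := by
  haveI : Fintype X := Fintype.ofFinite X
  obtain ⟨n, -, hn, -⟩ := irr_degree hχ
  rw [charDegree_eq hn, hn]

theorem eq_of_constituent_of_degree_eq {X : Type u} [Group X] [Fintype X] {Φ θ : X → ℂ}
    (hΦ : IsCharacter X Φ) (hθ : IsIrrCharacter X θ) (hc : classInner Φ θ ≠ 0)
    (h1 : Φ 1 = θ 1) : Φ = θ := by
  classical
  obtain ⟨m, hm, hexp⟩ := exists_mult hΦ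
  choose d hd0 hd hdvd using fun ψ : IrrCharacter X => irr_degree ψ.2
  have hsum : ∑ ψ : IrrCharacter X, m ψ * d ψ = d ⟨θ, hθ⟩ := by
    have h2 := congrFun hexp 1
    rw [h1, Finset.sum_apply] at h2
    simp only [Pi.smul_apply, smul_eq_mul, hd] at h2
    have h3 := hd ⟨θ, hθ⟩
    simp only at h3
    rw [h3] at h2
    exact_mod_cast h2.symm
  have hmθ : m ⟨θ, hθ⟩ ≠ 0 := by
    intro h0
    apply hc
    rw [hm ⟨θ, hθ⟩, h0, Nat.cast_zero]
  rw [← Finset.add_sum_erase Finset.univ _ (Finset.mem_univ (⟨θ, hθ⟩ : IrrCharacter X))] at hsum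
  have h4 : d ⟨θ, hθ⟩ ≤ m ⟨θ, hθ⟩ * d ⟨θ, hθ⟩ := Nat.le_mul_of_pos_left _ (Nat.pos_of_ne_zero hmθ)
  have h5 : ∑ ψ ∈ Finset.univ.erase (⟨θ, hθ⟩ : IrrCharacter X), m ψ * d ψ = 0 := by omega
  have h6 : m ⟨θ, hθ⟩ * d ⟨θ, hθ⟩ = d ⟨θ, hθ⟩ := by omega
  have h7 : m ⟨θ, hθ⟩ = 1 := Nat.eq_of_mul_eq_mul_right (hd0 _) (by rw [h6, one_mul])
  rw [hexp, ← Finset.add_sum_erase Finset.univ _ (Finset.mem_univ (⟨θ, hθ⟩ : IrrCharacter X)), h7,
    Finset.sum_eq_zero, add_zero, Nat.cast_one, one_smul]
  intro ψ hψ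
  have := (Finset.sum_eq_zero_iff.mp h5) ψ hψ
  rcases Nat.mul_eq_zero.mp this with h | h
  · rw [h, Nat.cast_zero, zero_smul]
  · exact absurd h (hd0 ψ).ne'

variable (p : ℕ) [hp : Fact p.Prime] {G : Type u} [Group G] [Finite G]

include hp in
theorem restrict_irr_of_coprime (K : Subgroup G) (hK : K.Normal) {k : ℕ} (hk : K.index = p ^ k)
    {χ : G → ℂ} (hχ : IsIrrCharacter G χ) {c : ℕ} (hc : χ 1 = c) (hpc : ¬ p ∣ c) :
    IsIrrCharacter K (fun n : K => χ n) := by
  classical
  haveI : Fintype G := Fintype.ofFinite G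
  haveI : Fintype K := Fintype.ofFinite K
  have hres := isCharacter_restrict K (isCharacter_of_isIrr hχ)
  obtain ⟨θ, hθ⟩ := exists_constituent hres (by
    intro h0
    exact irr_degree_ne_zero hχ (congrFun h0 1))
  obtain ⟨e, he, hdvd⟩ := degree_ratio K hK θ.2 hχ hθ
  rw [hk] at hdvd
  obtain ⟨i, -, hi⟩ := (Nat.dvd_prime_pow hp.out).mp hdvd
  obtain ⟨t, -, ht, -⟩ := irr_degree θ.2
  have he1 : e = 1 := by
    cases i with
    | zero => simpa using hi
    | succ i =>
      exfalso
      apply hpc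
      rw [hc, ht] at he
      have : c = e * t := by exact_mod_cast he
      rw [this, hi]
      exact Dvd.dvd.mul_right (dvd_pow_self p (Nat.succ_ne_zero i)) t
  rw [he1, Nat.cast_one, one_mul] at he
  rw [eq_of_constituent_of_degree_eq hres θ.2 hθ he]
  exact θ.2

include hp in
/-- Isaacs 12.1. -/
theorem card_residual_modEq [Fintype (IrrCharacter G)]
    [DecidablePred fun χ : IrrCharacter G =>
      ¬ p ∣ charDegree (χ : G → ℂ) ∧ ¬ p ∣ detOrder (χ : G → ℂ)] :
    Nat.card (pResidual p G) ≡ ∑ χ ∈ Finset.univ.filter (fun χ : IrrCharacter G =>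
      ¬ p ∣ charDegree (χ : G → ℂ) ∧ ¬ p ∣ detOrder (χ : G → ℂ)),
      charDegree (χ : G → ℂ) ^ 2 [MOD p] := by
  classical
  set K := pResidual p G with hKdef
  have hK : K.Normal := pResidual_normal p G
  haveI : Fintype G := Fintype.ofFinite G
  haveI : Fintype K := Fintype.ofFinite K
  obtain ⟨k, hk⟩ := index_residual p G
  have hdinv : ∀ (g : G) (θ θ' : IrrCharacter K), (θ' : K → ℂ) = conjFun K hK θ g →
      charDegree (θ' : K → ℂ) = charDegree (θ : K → ℂ) := by
    intro g θ θ' h
    unfold charDegree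
    rw [h, conjFun_apply]
    congr 3
    exact congrArg (θ : K → ℂ) (Subtype.ext (by simp))
  have B1 : Nat.card K = ∑ θ : IrrCharacter K, charDegree (θ : K → ℂ) ^ 2 := by
    have := sum_sq_degree (G := K)
    simp only [fun θ : IrrCharacter K => charDegree_spec θ.2] at this
    exact_mod_cast this.symm
  have B2 := sum_irr_modEq K hK p hk (fun θ => charDegree (θ : K → ℂ) ^ 2)
    (fun g θ θ' h => by simp only [hdinv g θ θ' h])
  have B3 : ∑ θ ∈ Finset.univ.filter
      (fun θ : IrrCharacter K => ∀ g : G, conjFun K hK θ g = θ), charDegree (θ : K → ℂ) ^ 2 ≡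
      ∑ θ ∈ (Finset.univ.filter
      (fun θ : IrrCharacter K => ∀ g : G, conjFun K hK θ g = θ)).filter
        (fun θ : IrrCharacter K => ¬ p ∣ charDegree (θ : K → ℂ)), charDegree (θ : K → ℂ) ^ 2 [MOD p] := by
    rw [Finset.sum_filter (p := fun θ : IrrCharacter K => ¬ p ∣ charDegree (θ : K → ℂ))]
    unfold Nat.ModEq
    rw [Finset.sum_nat_mod, Finset.sum_nat_mod (f := fun θ : IrrCharacter K =>
      if ¬ p ∣ charDegree (θ : K → ℂ) then charDegree (θ : K → ℂ) ^ 2 else 0)]
    congr 1
    refine Finset.sum_congr rfl fun θ _ => ?_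
    by_cases h1 : p ∣ charDegree (θ : K → ℂ)
    · rw [if_neg (not_not.mpr h1), Nat.zero_mod]
      exact Nat.mod_eq_zero_of_dvd (dvd_pow h1 two_ne_zero)
    · rw [if_pos h1]
  have hirr : ∀ χ ∈ Finset.univ.filter (fun χ : IrrCharacter G =>
      ¬ p ∣ charDegree (χ : G → ℂ) ∧ ¬ p ∣ detOrder (χ : G → ℂ)),
      IsIrrCharacter K (fun n : K => (χ : G → ℂ) n) := by
    intro χ hχ
    exact restrict_irr_of_coprime p K hK hk χ.2 (charDegree_spec χ.2) (Finset.mem_filter.mp hχ).2.1
  have B4 : ∑ χ ∈ Finset.univ.filter (fun χ : IrrCharacter G =>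
      ¬ p ∣ charDegree (χ : G → ℂ) ∧ ¬ p ∣ detOrder (χ : G → ℂ)), charDegree (χ : G → ℂ) ^ 2 =
      ∑ θ ∈ (Finset.univ.filter
      (fun θ : IrrCharacter K => ∀ g : G, conjFun K hK θ g = θ)).filter
        (fun θ : IrrCharacter K => ¬ p ∣ charDegree (θ : K → ℂ)), charDegree (θ : K → ℂ) ^ 2 := by
    refine Finset.sum_bij (fun χ hχ => (⟨fun n : K => (χ : G → ℂ) n, hirr χ hχ⟩ : IrrCharacter K))
      ?_ ?_ ?_ ?_
    · intro χ hχ
      simp only [Finset.mem_filter, Finset.mem_univ, true_and]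
      refine ⟨invariant_of_extends K hK
        (isClassFunction_of_isCharacter (isCharacter_of_isIrr χ.2)), ?_⟩
      exact (Finset.mem_filter.mp hχ).2.1
    · intro χ hχ χ' hχ' heq
      have heq' : (fun n : K => (χ : G → ℂ) n) = fun n : K => (χ' : G → ℂ) n :=
        congrArg Subtype.val heq
      obtain ⟨χ₀, -, huniq⟩ := exists_ext_residual p (hirr χ hχ)
        (invariant_of_extends K hK (isClassFunction_of_isCharacter (isCharacter_of_isIrr χ.2)))
        (charDegree_spec χ.2) (Finset.mem_filter.mp hχ).2.1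
      have hcop : ∀ ψ : IrrCharacter G, ¬ p ∣ detOrder (ψ : G → ℂ) →
          Nat.Coprime (pResidual p G).index (detOrder (ψ : G → ℂ)) := by
        intro ψ hψ
        rw [hk]
        exact Nat.Coprime.pow_left _ ((Nat.Prime.coprime_iff_not_dvd hp.out).mpr hψ)
      apply Subtype.ext
      rw [huniq χ χ.2 (fun n => rfl) (hcop χ (Finset.mem_filter.mp hχ).2.2),
        huniq χ' χ'.2 (fun n => (congrFun heq' n).symm) (hcop χ' (Finset.mem_filter.mp hχ').2.2)]
    · intro θ hθ
      simp only [Finset.mem_filter, Finset.mem_univ, true_and] at hθ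
      obtain ⟨χ₀, ⟨h1, h2, h3⟩, -⟩ := exists_ext_residual p θ.2 hθ.1 (charDegree_spec θ.2) hθ.2
      have hdeg : charDegree χ₀ = charDegree (θ : K → ℂ) := by
        unfold charDegree
        rw [← h2 1]
        rfl
      refine ⟨⟨χ₀, h1⟩, ?_, ?_⟩
      · simp only [Finset.mem_filter, Finset.mem_univ, true_and]
        refine ⟨by rw [hdeg]; exact hθ.2, ?_⟩
        rw [h3]
        intro hdvd
        have := detOrder_coprime p (isCharacter_of_isIrr θ.2)
        exact hp.out.one_lt.ne' (Nat.Coprime.eq_one_of_dvd this.symm hdvd)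
      · exact Subtype.ext (funext h2)
    · intro χ hχ
      rfl
  rw [B1, B4]
  exact B2.trans B3

end count

end Cfsg.Agent.Lib.CharThompson
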