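import Mathlib
import Cfsg.Agent.Lib.CharCorr
import Cfsg.Agent.Lib.CharGallagher
import Cfsg.Agent.Lib.CharLinear
import Cfsg.Agent.Lib.CharCover2
import Cfsg.Agent.Lib.CharThompson

/-!
# Counting linear characters against characters induced from an extension
-/

set_option autoImplicit false

namespace Cfsg.Agent.Lib.CharLinCount

open Cfsg Cfsg.Agent.Lib.CharBasic Cfsg.Agent.Lib.CharOrtho
  Cfsg.Agent.Lib.CharComplete Cfsg.Agent.Lib.CharIntegral Cfsg.Agent.Lib.CharMore
  Cfsg.Agent.Lib.CharInd Cfsg.Agent.Lib.CharGallagher Cfsg.Agent.Lib.CharQuot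
  Cfsg.Agent.Lib.CharClifford Cfsg.Agent.Lib.CharCorr Cfsg.Agent.Lib.CharLinear
  Cfsg.Agent.Lib.CharCover2 Cfsg.Agent.Lib.CharThompson
open scoped ComplexConjugate

universe u

variable {G : Type u} [Group G] [Fintype G]

theorem card_constituents_le {Φ : G → ℂ} (hΦ : IsCharacter G Φ) {a : ℕ} (ha : Φ 1 = a)
    (S : Finset (IrrCharacter G)) (hS : ∀ ψ ∈ S, classInner Φ (ψ : G → ℂ) ≠ 0) : S.card ≤ a := by
  classical
  obtain ⟨m, hm, hexp⟩ := exists_mult hΦ
  choose d hd0 hd _ using fun ψ : IrrCharacter G => irr_degree ψ.2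
  have h1 : a = ∑ ψ : IrrCharacter G, m ψ * d ψ := by
    have h2 := congrFun hexp 1
    rw [ha, Finset.sum_apply] at h2
    have : (a : ℂ) = ((∑ ψ : IrrCharacter G, m ψ * d ψ : ℕ) : ℂ) := by
      rw [h2]
      push_cast
      refine Finset.sum_congr rfl fun ψ _ => ?_
      rw [Pi.smul_apply, hd, smul_eq_mul]
    exact_mod_cast this
  rw [h1]
  calc S.card = ∑ ψ ∈ S, 1 := by simp
    _ ≤ ∑ ψ ∈ S, m ψ * d ψ := by
        apply Finset.sum_le_sum
        intro ψ hψ
        have h2 : m ψ ≠ 0 := by
          intro h0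
          apply hS ψ hψ
          rw [hm, h0, Nat.cast_zero]
        exact Nat.mul_pos (Nat.pos_of_ne_zero h2) (hd0 ψ)
    _ ≤ ∑ ψ : IrrCharacter G, m ψ * d ψ :=
        Finset.sum_le_sum_of_subset (Finset.subset_univ _)

/-- A linear character is trivial on a perfect subgroup. -/
theorem linear_trivial_on {lam : G → ℂ} (hl : IsCharacter G lam) (h1 : lam 1 = 1) (N : Subgroup G)
    (hperf : ⁅N, N⁆ = N) (n : G) (hn : n ∈ N) : lam n = 1 := by
  have hle : ⁅N, N⁆ ≤ (homOfLinear hl h1).ker := by
    rw [Subgroup.commutator_le]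
    intro a _ b _
    rw [MonoidHom.mem_ker, map_commutatorElement]
    exact commutatorElement_eq_one_iff_mul_comm.mpr (mul_comm _ _)
  rw [hperf] at hle
  have h2 := hle hn
  rw [MonoidHom.mem_ker] at h2
  rw [← homOfLinear_apply hl h1, h2, Units.val_one]

variable (N I : Subgroup G) (hN : N.Normal) [Fintype N] [Fintype I]

theorem main (hperf : ⁅N, N⁆ = N) (φ : IrrCharacter N)
    (hT : ∀ g : G, g ∈ I ↔ conjFun N hN (φ : N → ℂ) g = (φ : N → ℂ)) (hNI : N ≤ I)
    (ψ : IrrCharacter I) (hψ : ∀ n : N, (ψ : I → ℂ) ⟨(n : G), hNI n.2⟩ = (φ : N → ℂ) n) :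
    Nat.card {χ : IrrCharacter G // charDegree (χ : G → ℂ) = 1} ≤
      I.index * Nat.card {χ : IrrCharacter G //
        charDegree (χ : G → ℂ) = charDegree (φ : N → ℂ) * I.index} := by
  classical
  haveI := hN
  -- data attached to a linear character
  have hlin1 : ∀ lam : {χ : IrrCharacter G // charDegree (χ : G → ℂ) = 1},
      (lam.1 : G → ℂ) 1 = 1 := by
    intro lam
    rw [charDegree_spec lam.1.2, lam.2, Nat.cast_one]
  let hom : {χ : IrrCharacter G // charDegree (χ : G → ℂ) = 1} → (I →* ℂˣ) := fun lam =>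
    (homOfLinear (isCharacter_of_isIrr lam.1.2) (hlin1 lam)).comp I.subtype
  have hhom : ∀ lam (x : I), ((hom lam x : ℂˣ) : ℂ) = (lam.1 : G → ℂ) x := fun lam x => rfl
  let res : {χ : IrrCharacter G // charDegree (χ : G → ℂ) = 1} → (I → ℂ) := fun lam =>
    fun x => ((hom lam x : ℂˣ) : ℂ)
  have hresirr : ∀ lam, IsIrrCharacter I (res lam) := fun lam => isIrr_hom (hom lam)
  have hprodirr : ∀ lam, IsIrrCharacter I (res lam * (ψ : I → ℂ)) := fun lam =>
    isIrr_hom_mul (hom lam) ψ.2
  have hresN : ∀ lam (n : G) (hn : n ∈ N), res lam ⟨n, hNI hn⟩ = 1 := by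
    intro lam n hn
    exact linear_trivial_on (isCharacter_of_isIrr lam.1.2) (hlin1 lam) N hperf n hn
  have hover : ∀ lam, classInner (indFun (N.subgroupOf I) (sub N I (φ : N → ℂ)))
      (res lam * (ψ : I → ℂ)) ≠ 0 := by
    intro lam
    rw [classInner_indFun_sub N I hNI _ _
      (isClassFunction_of_isCharacter (isCharacter_of_isIrr (hprodirr lam)))]
    have : (fun n : N => (res lam * (ψ : I → ℂ)) ⟨(n : G), hNI n.2⟩) = (φ : N → ℂ) := by
      ext n
      rw [Pi.mul_apply, hresN lam n n.2, one_mul, hψ]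
    rw [this, classInner_irr_self φ.2]
    exact one_ne_zero
  have hFirr : ∀ lam, IsIrrCharacter G (indFun I (res lam * (ψ : I → ℂ))) := fun lam =>
    corr_irr N I hN hNI φ.2 hT (hprodirr lam) (hover lam)
  have hFdeg : ∀ lam, charDegree (indFun I (res lam * (ψ : I → ℂ))) =
      charDegree (φ : N → ℂ) * I.index := by
    intro lam
    apply charDegree_eq
    rw [indFun_one, Pi.mul_apply]
    have h1 : res lam 1 = 1 := by
      show ((hom lam 1 : ℂˣ) : ℂ) = 1
      rw [map_one, Units.val_one]
    have h2 : (ψ : I → ℂ) 1 = (φ : N → ℂ) 1 := hψ 1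
    rw [h1, h2, charDegree_spec φ.2]
    push_cast
    ring
  let F : {χ : IrrCharacter G // charDegree (χ : G → ℂ) = 1} →
      {χ : IrrCharacter G // charDegree (χ : G → ℂ) = charDegree (φ : N → ℂ) * I.index} :=
    fun lam => ⟨⟨_, hFirr lam⟩, hFdeg lam⟩
  have hFeq : ∀ lam mu, F lam = F mu → res lam = res mu := by
    intro lam mu h
    have h1 : indFun I (res lam * (ψ : I → ℂ)) = indFun I (res mu * (ψ : I → ℂ)) :=
      congrArg (fun x => ((x.1 : IrrCharacter G) : G → ℂ)) h
    have h2 := corr_inj N I hN hNI φ.2 hT (hprodirr lam) (hprodirr mu) (hover lam) (hover mu) h1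
    have hN' : (N.subgroupOf I).Normal := inferInstance
    refine gallagher_mul_inj (N.subgroupOf I) hN' ψ.2 ?_ (hresirr lam) ?_ (hresirr mu) ?_ h2
    · have : (fun n : N.subgroupOf I => (ψ : I → ℂ) n) = sub N I (φ : N → ℂ) := by
        ext n
        exact hψ ⟨(n : I), Subgroup.mem_subgroupOf.mp n.2⟩
      rw [this]
      exact isIrr_sub N I hNI φ.2
    · intro n hn
      have h3 : res lam 1 = 1 := by
        show ((hom lam 1 : ℂˣ) : ℂ) = 1
        rw [map_one, Units.val_one]
      rw [h3]
      exact hresN lam n (Subgroup.mem_subgroupOf.mp hn)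
    · intro n hn
      have h3 : res mu 1 = 1 := by
        show ((hom mu 1 : ℂˣ) : ℂ) = 1
        rw [map_one, Units.val_one]
      rw [h3]
      exact hresN mu n (Subgroup.mem_subgroupOf.mp hn)
  rw [Nat.card_eq_fintype_card, Nat.card_eq_fintype_card]
  have key := Finset.card_le_mul_card_image_of_maps_to (f := F) (s := Finset.univ)
    (t := Finset.univ) (fun _ _ => Finset.mem_univ _) I.index ?_
  · exact key
  · intro b _
    by_cases hne : (Finset.univ.filter fun a => F a = b).Nonempty
    · obtain ⟨lam, hlam⟩ := hne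
      have hlam' : F lam = b := (Finset.mem_filter.mp hlam).2
      have hΦ : IsCharacter G (indFun I (res lam)) :=
        isCharacter_indFun I _ (isCharacter_of_isIrr (hresirr lam))
      have hΦ1 : indFun I (res lam) 1 = (I.index : ℂ) := by
        rw [indFun_one]
        have h3 : res lam 1 = 1 := by
          show ((hom lam 1 : ℂˣ) : ℂ) = 1
          rw [map_one, Units.val_one]
        rw [h3, mul_one]
      have := card_constituents_le hΦ hΦ1
        ((Finset.univ.filter fun a => F a = b).image (fun a => a.1)) (by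
          intro χ hχ
          obtain ⟨mu, hmu, rfl⟩ := Finset.mem_image.mp hχ
          have hmu' : F mu = b := (Finset.mem_filter.mp hmu).2
          have h4 := hFeq lam mu (hlam'.trans hmu'.symm)
          rw [frobenius_reciprocity I _ _
            (isClassFunction_of_isCharacter (isCharacter_of_isIrr mu.1.2))]
          have h5 : (fun h : I => (mu.1 : G → ℂ) h) = res mu := rfl
          rw [h5, ← h4, classInner_irr_self (hresirr lam)]
          exact one_ne_zero)
      rwa [Finset.card_image_of_injective _ Subtype.val_injective] at this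
    · rw [Finset.not_nonempty_iff_eq_empty.mp hne]
      simp

end Cfsg.Agent.Lib.CharLinCount
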