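import Mathlib
import Cfsg.Agent.Lib.CharGallagher
import Cfsg.Agent.Lib.CharQuot
import Cfsg.Agent.Lib.CharPerm
import Cfsg.Agent.Lib.helper8_FS

/-!
# Real characters and normal subgroups of odd index
-/

set_option autoImplicit false

namespace Cfsg.Agent.Lib.CharOddIndex

open Cfsg Cfsg.Agent.Lib.CharBasic Cfsg.Agent.Lib.CharOrtho
  Cfsg.Agent.Lib.CharComplete Cfsg.Agent.Lib.CharIntegral Cfsg.Agent.Lib.CharMore
  Cfsg.Agent.Lib.CharInd Cfsg.Agent.Lib.CharGallagher Cfsg.Agent.Lib.CharQuot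
  Cfsg.Agent.Lib.CharClifford Cfsg.Agent.Lib.CharPerm Cfsg.Agent.Lib.CharFS
  Cfsg.Agent.Lib.helper8_FS
open scoped ComplexConjugate

universe u

variable {G : Type u} [Group G] [Fintype G]

/-- The complex conjugate irreducible character. -/
noncomputable def conjIrr (β : IrrCharacter G) : IrrCharacter G :=
  ⟨fun g => conj ((β : G → ℂ) g), isIrr_conj β.2⟩

theorem conjIrr_apply (β : IrrCharacter G) (g : G) :
    (conjIrr β : G → ℂ) g = conj ((β : G → ℂ) g) := rfl

theorem conjIrr_conjIrr (β : IrrCharacter G) : conjIrr (conjIrr β) = β := by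
  apply Subtype.ext
  ext g
  rw [conjIrr_apply, conjIrr_apply, Complex.conj_conj]

theorem classInner_conjIrr {A : G → ℂ} (hA : IsCharacter G A) (hAr : ∀ g, conj (A g) = A g)
    (β : IrrCharacter G) :
    classInner A (conjIrr β : G → ℂ) = classInner A (β : G → ℂ) := by
  obtain ⟨n, hn⟩ := classInner_char_nat hA (isCharacter_of_isIrr β.2)
  have h1 : conj (classInner A (β : G → ℂ)) = classInner A (conjIrr β : G → ℂ) := by
    unfold classInner
    rw [map_mul, map_inv₀, Complex.conj_natCast, map_sum]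
    congr 1
    refine Finset.sum_congr rfl fun g _ => ?_
    rw [map_mul, hAr, conjIrr_apply]
  rw [← h1, hn, Complex.conj_natCast]

theorem parity_inner {A B : G → ℂ} (hA : IsCharacter G A) (hB : IsCharacter G B)
    (hAr : ∀ g, conj (A g) = A g) (hBr : ∀ g, conj (B g) = B g)
    (honly : ∀ β : IrrCharacter G, (∀ g, conj ((β : G → ℂ) g) = (β : G → ℂ) g) →
      classInner B (β : G → ℂ) ≠ 0 → (β : G → ℂ) = 1)
    {s a b : ℕ} (hs : classInner A B = s) (ha : classInner A 1 = a) (hb : classInner B 1 = b) :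
    (s : ZMod 2) = a * b := by
  classical
  obtain ⟨mA, hmA, -⟩ := exists_mult hA
  obtain ⟨mB, hmB, hBe⟩ := exists_mult hB
  have hsum : s = ∑ β : IrrCharacter G, mA β * mB β := by
    have : (s : ℂ) = ((∑ β : IrrCharacter G, mA β * mB β : ℕ) : ℂ) := by
      rw [← hs]
      conv_lhs => rw [hBe]
      rw [classInner_sum_right]
      push_cast
      refine Finset.sum_congr rfl fun β _ => ?_
      rw [classInner_smul_right, Complex.conj_natCast, hmA]
      ring
    exact_mod_cast this
  set one : IrrCharacter G := ⟨1, isIrr_one⟩ with hone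
  have ha' : mA one = a := by
    have := hmA one
    rw [show ((one : IrrCharacter G) : G → ℂ) = 1 from rfl, ha] at this
    exact_mod_cast this.symm
  have hb' : mB one = b := by
    have := hmB one
    rw [show ((one : IrrCharacter G) : G → ℂ) = 1 from rfl, hb] at this
    exact_mod_cast this.symm
  rw [hsum, ← Finset.add_sum_erase _ _ (Finset.mem_univ one), ha', hb']
  push_cast
  have hz : ∑ β ∈ Finset.univ.erase one, ((mA β : ZMod 2) * (mB β : ZMod 2)) = 0 := by
    have hmAc : ∀ β, mA (conjIrr β) = mA β := by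
      intro β
      have h1 := hmA (conjIrr β)
      rw [classInner_conjIrr hA hAr, hmA] at h1
      exact_mod_cast h1.symm
    have hmBc : ∀ β, mB (conjIrr β) = mB β := by
      intro β
      have h1 := hmB (conjIrr β)
      rw [classInner_conjIrr hB hBr, hmB] at h1
      exact_mod_cast h1.symm
    refine Finset.sum_involution (fun β _ => conjIrr β) ?_ ?_ ?_ ?_
    · intro β _
      rw [hmAc, hmBc]
      exact CharTwo.add_self_eq_zero _
    · intro β hβ hne heq
      have hβ1 : β ≠ one := (Finset.mem_erase.mp hβ).1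
      apply hβ1
      apply Subtype.ext
      apply honly β
      · intro g
        have := congrArg (fun x : IrrCharacter G => (x : G → ℂ) g) heq
        simpa [conjIrr_apply] using this
      · rw [hmB]
        intro h0
        apply hne
        have : mB β = 0 := by exact_mod_cast h0
        rw [this]; simp
    · intro β hβ
      refine Finset.mem_erase.mpr ⟨?_, Finset.mem_univ _⟩
      intro heq
      apply (Finset.mem_erase.mp hβ).1
      rw [← conjIrr_conjIrr β, heq]
      apply Subtype.ext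
      ext g
      rw [conjIrr_apply]
      simp [hone]
    · intro β _
      exact conjIrr_conjIrr β
  rw [hz, add_zero]

variable (N : Subgroup G) [hN : N.Normal] [Fintype N]

theorem mem_of_sq_mem (hodd : Odd N.index) {s : G} (h : s * s ∈ N) : s ∈ N := by
  rw [← QuotientGroup.eq_one_iff] at h ⊢
  rw [QuotientGroup.mk_mul, ← pow_two] at h
  have h1 := orderOf_dvd_of_pow_eq_one h
  have h2 : orderOf (s : G ⧸ N) ∣ N.index := orderOf_dvd_natCard _
  have h3 : Odd (orderOf (s : G ⧸ N)) := hodd.of_dvd_nat h2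
  rcases (Nat.dvd_prime Nat.prime_two).mp h1 with h4 | h4
  · exact orderOf_eq_one_iff.mp h4
  · rw [h4] at h3; exact absurd h3 (by decide)

theorem restrict_parity (hodd : Odd N.index) (χ₁ χ₂ : IrrCharacter G)
    (h1 : ∀ g, conj ((χ₁ : G → ℂ) g) = (χ₁ : G → ℂ) g)
    (h2 : ∀ g, conj ((χ₂ : G → ℂ) g) = (χ₂ : G → ℂ) g) {s : ℕ}
    (hs : classInner (fun n : N => (χ₁ : G → ℂ) n) (fun n : N => (χ₂ : G → ℂ) n) = s) :
    (s : ZMod 2) = if χ₁ = χ₂ then 1 else 0 := by
  classical
  have hA : IsCharacter G ((χ₁ : G → ℂ) * (χ₂ : G → ℂ)) :=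
    isCharacter_mul (isCharacter_of_isIrr χ₁.2) (isCharacter_of_isIrr χ₂.2)
  have hB : IsCharacter G (indFun N (1 : N → ℂ)) :=
    isCharacter_indFun N _ (isCharacter_of_isIrr isIrr_one)
  have hAr : ∀ g, conj (((χ₁ : G → ℂ) * (χ₂ : G → ℂ)) g) = ((χ₁ : G → ℂ) * (χ₂ : G → ℂ)) g := by
    intro g
    rw [Pi.mul_apply, map_mul, h1, h2]
  have hBr : ∀ g, conj (indFun N (1 : N → ℂ) g) = indFun N (1 : N → ℂ) g := by
    intro g
    have := congrFun (indFun_conj N (1 : N → ℂ)) g
    simp only [Pi.one_apply, map_one] at this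
    exact this
  have hAB : classInner ((χ₁ : G → ℂ) * (χ₂ : G → ℂ)) (indFun N (1 : N → ℂ)) = s := by
    rw [← classInner_conj_symm, frobenius_reciprocity N _ _ (isClassFunction_of_isCharacter hA),
      ← hs]
    unfold classInner
    rw [map_mul, map_inv₀, Complex.conj_natCast, map_sum]
    congr 1
    refine Finset.sum_congr rfl fun n _ => ?_
    simp only [Pi.one_apply, one_mul, Complex.conj_conj, Pi.mul_apply, h2]
  have hA1 : classInner ((χ₁ : G → ℂ) * (χ₂ : G → ℂ)) 1 = ((if χ₁ = χ₂ then 1 else 0 : ℕ) : ℂ) := by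
    have : classInner ((χ₁ : G → ℂ) * (χ₂ : G → ℂ)) 1 = classInner (χ₁ : G → ℂ) (χ₂ : G → ℂ) := by
      unfold classInner
      congr 1
      refine Finset.sum_congr rfl fun g _ => ?_
      simp only [Pi.one_apply, map_one, mul_one, Pi.mul_apply, h2]
    rw [this, classInner_irr χ₁.2 χ₂.2]
    by_cases h : χ₁ = χ₂
    · rw [if_pos h, if_pos (congrArg Subtype.val h)]; simp
    · rw [if_neg h, if_neg (fun hh => h (Subtype.ext hh))]; simp
  have hB1 : classInner (indFun N (1 : N → ℂ)) 1 = ((1 : ℕ) : ℂ) := by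
    rw [frobenius_reciprocity N _ _ (isClassFunction_of_isCharacter (isCharacter_of_isIrr isIrr_one))]
    have : (fun h : N => (1 : G → ℂ) h) = (1 : N → ℂ) := rfl
    rw [this, classInner_irr_self isIrr_one, Nat.cast_one]
  have key := parity_inner hA hB hAr hBr ?_ hAB hA1 hB1
  · rw [key]
    by_cases h : χ₁ = χ₂ <;> simp [h]
  · intro β hβr hβ
    have hker := (classInner_ind_one_ne_zero_iff N hN β.2).mp hβ
    obtain ⟨β', hβ', he⟩ := exists_deflate_irr N β.2 hker
    haveI := Fintype.ofFinite (G ⧸ N)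
    have h3 := real_irr_eq_one_of_odd (G := G ⧸ N) hodd ⟨β', hβ'⟩ (by
      intro q
      obtain ⟨g, rfl⟩ := QuotientGroup.mk_surjective q
      have h4 := hβr g
      rw [he] at h4
      exact Complex.conj_eq_iff_im.mp h4)
    rw [he]
    ext g
    exact congrFun h3 _

/-- Uniqueness of the real character over a given irreducible character of `N`. -/
theorem real_unique (hodd : Odd N.index) (χ₁ χ₂ : IrrCharacter G)
    (h1 : ∀ g, conj ((χ₁ : G → ℂ) g) = (χ₁ : G → ℂ) g)
    (h2 : ∀ g, conj ((χ₂ : G → ℂ) g) = (χ₂ : G → ℂ) g) (φ : IrrCharacter N)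
    (hc1 : classInner (fun n : N => (χ₁ : G → ℂ) n) (φ : N → ℂ) ≠ 0)
    (hc2 : classInner (fun n : N => (χ₂ : G → ℂ) n) (φ : N → ℂ) ≠ 0) : χ₁ = χ₂ := by
  classical
  obtain ⟨e₁, he₁⟩ := classInner_char_nat (isCharacter_restrict N (isCharacter_of_isIrr χ₁.2))
    (isCharacter_of_isIrr φ.2)
  obtain ⟨e₂, he₂⟩ := classInner_char_nat (isCharacter_restrict N (isCharacter_of_isIrr χ₂.2))
    (isCharacter_of_isIrr φ.2)
  have c1 := clifford N hN χ₁.2 φ.2 hc1
  have c2 := clifford N hN χ₂.2 φ.2 hc2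
  set S := Finset.univ.filter (fun ψ : IrrCharacter N => ∃ g : G, (ψ : N → ℂ) = conjFun N hN φ g)
    with hS
  set O : N → ℂ := ∑ ψ ∈ S, (ψ : N → ℂ) with hO
  have hOO : classInner O O = (S.card : ℂ) := by
    rw [hO, classInner_sum_left]
    have : ∀ ψ ∈ S, classInner (ψ : N → ℂ) (∑ ψ' ∈ S, (ψ' : N → ℂ)) = 1 := by
      intro ψ hψ
      rw [classInner_sum_right, Finset.sum_eq_single ψ]
      · exact classInner_irr_self ψ.2
      · intro b _ hb
        exact classInner_irr_ne ψ.2 b.2 (fun h => hb (Subtype.ext h.symm))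
      · intro h; exact absurd hψ h
    rw [Finset.sum_congr rfl this]
    simp
  rw [he₁] at c1
  rw [he₂] at c2
  have f : ∀ (a b : ℕ), classInner ((a : ℂ) • O) ((b : ℂ) • O) = ((a * b * S.card : ℕ) : ℂ) := by
    intro a b
    rw [classInner_smul_left, classInner_smul_right, hOO, Complex.conj_natCast]
    push_cast; ring
  have p11 := restrict_parity N hodd χ₁ χ₁ h1 h1 (s := e₁ * e₁ * S.card) (by rw [c1]; exact f _ _)
  have p22 := restrict_parity N hodd χ₂ χ₂ h2 h2 (s := e₂ * e₂ * S.card) (by rw [c2]; exact f _ _)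
  have p12 := restrict_parity N hodd χ₁ χ₂ h1 h2 (s := e₁ * e₂ * S.card) (by rw [c1, c2]; exact f _ _)
  rw [if_pos rfl] at p11 p22
  push_cast at p11 p22 p12
  by_contra hne
  rw [if_neg hne] at p12
  have key : ∀ a b c : ZMod 2, a * a * c = 1 → b * b * c = 1 → a * b * c = 0 → False := by decide
  exact key _ _ _ p11 p22 p12

theorem card_sqrt (hodd : Odd N.index) (n : N) :
    Nat.card {s : G // s * s = (n : G)} = Nat.card {s : N // s * s = n} := by
  symm
  apply Nat.card_congr
  refine Equiv.ofBijective (fun s => ⟨(s.1 : G), by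
    have := congrArg Subtype.val s.2
    simpa using this⟩) ⟨?_, ?_⟩
  · intro a b hab
    apply Subtype.ext
    apply Subtype.ext
    exact congrArg (fun x : {s : G // s * s = (n : G)} => (x : G)) hab
  · rintro ⟨s, hs⟩
    have hsN : s ∈ N := mem_of_sq_mem N hodd (by rw [hs]; exact n.2)
    exact ⟨⟨⟨s, hsN⟩, Subtype.ext hs⟩, rfl⟩

/-- `∑ ν(χ) [χ_N, φ] = ν(φ)` for odd index. -/
theorem sum_fsInd (hodd : Odd N.index) (φ : IrrCharacter N) :
    ∑ χ : IrrCharacter G, fsInd (χ : G → ℂ) *
      classInner (fun n : N => (χ : G → ℂ) n) (φ : N → ℂ) = fsInd (φ : N → ℂ) := by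
  classical
  have h1 : (fun n : N => ∑ χ : IrrCharacter G, fsInd (χ : G → ℂ) * (χ : G → ℂ) n) =
      fun n : N => ∑ ψ : IrrCharacter N, fsInd (ψ : N → ℂ) * (ψ : N → ℂ) n := by
    ext n
    rw [← sqrt_count, ← sqrt_count, card_sqrt N hodd]
  have h2 : (fun n : N => ∑ χ : IrrCharacter G, fsInd (χ : G → ℂ) * (χ : G → ℂ) n) =
      ∑ χ : IrrCharacter G, fsInd (χ : G → ℂ) • (fun n : N => (χ : G → ℂ) n) := by
    ext n
    rw [Finset.sum_apply]
    rfl
  have h3 : (fun n : N => ∑ ψ : IrrCharacter N, fsInd (ψ : N → ℂ) * (ψ : N → ℂ) n) =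
      ∑ ψ : IrrCharacter N, fsInd (ψ : N → ℂ) • (ψ : N → ℂ) := by
    ext n
    rw [Finset.sum_apply]
    rfl
  have h4 := congrArg (fun F => classInner F (φ : N → ℂ)) (h2.symm.trans (h1.trans h3))
  simp only [classInner_sum_left, classInner_smul_left] at h4
  rw [h4, Finset.sum_eq_single φ]
  · rw [classInner_irr_self φ.2, mul_one]
  · intro b _ hb
    rw [classInner_irr_ne b.2 φ.2 (fun h => hb (Subtype.ext h)), mul_zero]
  · intro h; exact absurd (Finset.mem_univ _) h

theorem real_of_fsInd {X : Type u} [Group X] [Fintype X] {χ : X → ℂ} (hχ : IsIrrCharacter X χ)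
    (h : fsInd χ ≠ 0) : ∀ g, conj (χ g) = χ g := by
  by_contra hcon
  exact h (fsInd_not_real hχ hcon)

theorem existsUnique_fs (hodd : Odd N.index) (φ : IrrCharacter N) (hφ : fsInd (φ : N → ℂ) = 1) :
    ∃! χ : IrrCharacter G, fsInd (χ : G → ℂ) = 1 ∧
      classInner (fun n : N => (χ : G → ℂ) n) (φ : N → ℂ) ≠ 0 := by
  classical
  have hex : ∃ χ : IrrCharacter G, fsInd (χ : G → ℂ) = 1 ∧
      classInner (fun n : N => (χ : G → ℂ) n) (φ : N → ℂ) ≠ 0 := by
    by_contra hcon
    push Not at hcon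
    have hs := sum_fsInd N hodd φ
    rw [hφ] at hs
    choose ε hε1 hε2 hε3 using fun χ : IrrCharacter G => fsInd_int χ.2
    choose e he using fun χ : IrrCharacter G =>
      classInner_char_nat (isCharacter_restrict N (isCharacter_of_isIrr χ.2))
        (isCharacter_of_isIrr φ.2)
    have h1 : ∑ χ : IrrCharacter G, ε χ * (e χ : ℤ) = 1 := by
      have : ((∑ χ : IrrCharacter G, ε χ * (e χ : ℤ) : ℤ) : ℂ) = ((1 : ℤ) : ℂ) := by
        push_cast
        rw [← hs]
        refine Finset.sum_congr rfl fun χ _ => ?_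
        rw [hε1, he]
      exact_mod_cast this
    have h2 : ∑ χ : IrrCharacter G, ε χ * (e χ : ℤ) ≤ 0 := by
      apply Finset.sum_nonpos
      intro χ _
      rcases hε2 χ with h | h | h
      · rw [h]; simp
      · have h3 := hcon χ (by rw [hε1, h]; simp)
        rw [he] at h3
        have : e χ = 0 := by exact_mod_cast h3
        rw [this]; simp
      · rw [h]; simp
    omega
  obtain ⟨χ, hχ1, hχ2⟩ := hex
  refine ⟨χ, ⟨hχ1, hχ2⟩, ?_⟩
  rintro χ' ⟨h1, h2⟩
  exact real_unique N hodd χ' χ (real_of_fsInd χ'.2 (by rw [h1]; exact one_ne_zero))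
    (real_of_fsInd χ.2 (by rw [hχ1]; exact one_ne_zero)) φ h2 hχ2

end Cfsg.Agent.Lib.CharOddIndex
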