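import Mathlib
import Cfsg.Prelude.Def_Characters
import Cfsg.Agent.Lib.CharGen

/-!
# helper3: more on generalized characters
-/

set_option autoImplicit false

namespace Cfsg.Agent.Lib.Helper3_CharGen

open Cfsg Cfsg.Agent.Lib.CharBasic Cfsg.Agent.Lib.CharOrtho Cfsg.Agent.Lib.CharComplete
  Cfsg.Agent.Lib.CharMore Cfsg.Agent.Lib.CharGen
open scoped ComplexConjugate

universe u

variable {G : Type u} [Group G] [Fintype G]

/-- A generalized character of norm `1` is an irreducible character up to sign. -/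
theorem pm_irr_of_norm_one {θ : G → ℂ} (h : IsGeneralizedCharacter G θ)
    (hn : classInner θ θ = 1) :
    ∃ α : IrrCharacter G, θ = (α : G → ℂ) ∨ θ = -(α : G → ℂ) := by
  classical
  obtain ⟨z, hz, hexp⟩ := exists_int_mult h
  rw [norm_eq_sum_sq h z hz] at hn
  have hs : ∑ ψ : IrrCharacter G, z ψ * z ψ = 1 := by exact_mod_cast hn
  have hnn : ∀ ψ : IrrCharacter G, 0 ≤ z ψ * z ψ := fun ψ => mul_self_nonneg _
  have hex : ∃ α : IrrCharacter G, z α ≠ 0 := by
    by_contra hcon
    push Not at hcon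
    simp [hcon] at hs
  obtain ⟨α, hα⟩ := hex
  have hs1 := Finset.add_sum_erase Finset.univ (fun ψ => z ψ * z ψ) (Finset.mem_univ α)
  rw [hs] at hs1
  have hr1 : 0 ≤ ∑ ψ ∈ Finset.univ.erase α, z ψ * z ψ := Finset.sum_nonneg fun ψ _ => hnn ψ
  have hα1 : z α * z α = 1 := by
    have h4 : 0 < z α * z α := mul_self_pos.mpr hα
    have h3 : z α * z α ≤ 1 := by linarith
    linarith
  have hs2 : ∑ ψ ∈ Finset.univ.erase α, z ψ * z ψ = 0 := by linarith
  have hzero : ∀ ψ : IrrCharacter G, ψ ≠ α → z ψ = 0 := by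
    intro ψ h1
    have := (Finset.sum_eq_zero_iff_of_nonneg (fun ψ _ => hnn ψ)).mp hs2 ψ
      (Finset.mem_erase.mpr ⟨h1, Finset.mem_univ _⟩)
    exact mul_self_eq_zero.mp this
  have hθ : θ = (z α : ℂ) • (α : G → ℂ) := by
    conv_lhs => rw [hexp]
    rw [← Finset.add_sum_erase Finset.univ _ (Finset.mem_univ α)]
    rw [Finset.sum_eq_zero, add_zero]
    intro ψ hψ
    rw [hzero ψ (Finset.mem_erase.mp hψ).1]
    simp
  have hzα : z α = 1 ∨ z α = -1 := by
    have : (z α - 1) * (z α + 1) = 0 := by ring_nf; linarith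
    rcases mul_eq_zero.mp this with h | h
    · left; linarith
    · right; linarith
  refine ⟨α, ?_⟩
  rcases hzα with h | h
  · left; rw [hθ, h]; simp
  · right; rw [hθ, h]; simp

end Cfsg.Agent.Lib.Helper3_CharGen
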