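import Mathlib
import Cfsg.Prelude.Def_Characters
import Cfsg.Agent.Lib.helper8_Brauer

set_option autoImplicit false

namespace Cfsg.Agent.Lib.helper8_BrauerInd

open Cfsg Cfsg.Agent.Lib.CharBasic Cfsg.Agent.Lib.CharOrtho
  Cfsg.Agent.Lib.CharComplete Cfsg.Agent.Lib.CharIntegral Cfsg.Agent.Lib.CharMore
  Cfsg.Agent.Lib.CharInd Cfsg.Agent.Lib.CharGen Cfsg.Agent.Lib.helper8_Brauer1
  Cfsg.Agent.Lib.helper8_Brauer2 Cfsg.Agent.Lib.helper8_Brauer3 Cfsg.Agent.Lib.CharGallagher
  Cfsg.Agent.Lib.CharMono Cfsg.Agent.Lib.helper8_Brauer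
open scoped ComplexConjugate Classical

universe u

theorem isNilpotent_of_isElementary {p : ℕ} (hp : p.Prime) {E : Type u} [Group E] [Finite E]
    (h : IsElementary p E) : Group.IsNilpotent E := by
  obtain ⟨x, hx, -, k, hk⟩ := h
  have : Fact p.Prime := ⟨hp⟩
  have hle : Subgroup.zpowers x ≤ Subgroup.center E := by
    rw [Subgroup.zpowers_le]; exact hx
  have hn : (Subgroup.zpowers x).Normal := by
    constructor
    intro z hz g
    have := Subgroup.mem_center_iff.mp (hle hz) g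
    rw [this, mul_inv_cancel_right]
    exact hz
  have hq : IsPGroup p (E ⧸ Subgroup.zpowers x) := IsPGroup.of_card (n := k) hk
  have := hq.isNilpotent
  apply Subgroup.isNilpotent_of_ker_le_center (QuotientGroup.mk' (Subgroup.zpowers x))
  rw [QuotientGroup.ker_mk']
  exact hle

theorem isElementary_subgroup {p : ℕ} (hp : p.Prime) {E : Type u} [Group E] [Finite E]
    (h : IsElementary p E) (K : Subgroup E) : IsElementary p K := by
  obtain ⟨x, hx, ho, k, hk⟩ := h
  set Z := Subgroup.zpowers x with hZ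
  have hle : Z ≤ Subgroup.center E := by
    rw [hZ, Subgroup.zpowers_le]; exact hx
  have hn : Z.Normal := by
    constructor
    intro z hz g
    have := Subgroup.mem_center_iff.mp (hle hz) g
    rw [this, mul_inv_cancel_right]
    exact hz
  have hcyc : IsCyclic (Z ⊓ K : Subgroup E) := Subgroup.isCyclic_of_le (inf_le_left : Z ⊓ K ≤ Z)
  obtain ⟨z0, hz0⟩ := (Subgroup.isCyclic_iff_exists_zpowers_eq_top (Z ⊓ K)).mp hcyc
  have hz0m : z0 ∈ Z ⊓ K := hz0 ▸ Subgroup.mem_zpowers z0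
  refine ⟨⟨z0, hz0m.2⟩, ?_, ?_, ?_⟩
  · rw [Subgroup.mem_center_iff]
    intro e
    exact Subtype.ext (Subgroup.mem_center_iff.mp (hle hz0m.1) e)
  · rw [Subgroup.orderOf_mk]
    refine Nat.Coprime.coprime_dvd_left ?_ ho
    rw [← Nat.card_zpowers, ← Nat.card_zpowers x, hz0]
    exact Subgroup.card_dvd_of_le inf_le_left
  · have h1 : Subgroup.zpowers (⟨z0, hz0m.2⟩ : K) = (Z ⊓ K).subgroupOf K := by
      ext y
      rw [Subgroup.mem_subgroupOf, ← hz0, Subgroup.mem_zpowers_iff, Subgroup.mem_zpowers_iff]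
      constructor
      · rintro ⟨j, rfl⟩; exact ⟨j, by simp⟩
      · rintro ⟨j, hj⟩; exact ⟨j, Subtype.ext (by simpa using hj)⟩
    rw [h1]
    change ∃ k, (Z ⊓ K).relIndex K = p ^ k
    rw [Subgroup.inf_relIndex_right]
    have h2 : Z.relIndex K ∣ Z.index := Subgroup.relIndex_dvd_index_of_normal Z K
    rw [hk] at h2
    obtain ⟨j, -, hj⟩ := (Nat.dvd_prime_pow hp).mp h2
    exact ⟨j, hj⟩

variable {G : Type u} [Group G] [Fintype G]

/-- The additive group generated by the functions induced from linear characters of elementary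
subgroups. -/
def L (G : Type u) [Group G] [Fintype G] : AddSubgroup (G → ℂ) :=
  AddSubgroup.closure {f | ∃ (E : Subgroup G) (lam : E →* ℂˣ), FE G E ∧
    f = indFun E (fun e => ((lam e : ℂˣ) : ℂ))}

theorem I_le_L : I (FE G) ≤ L G := by
  apply (AddSubgroup.closure_le _).mpr
  rintro f ⟨E, φ, ⟨p, hp, hE⟩, hφ, rfl⟩
  have := Fintype.ofFinite E
  have hnil := isNilpotent_of_isElementary hp hE
  obtain ⟨m, -, hexp⟩ := exists_mult hφ
  rw [hexp, indFun_sum]
  refine AddSubgroup.sum_mem _ fun ψ _ => ?_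
  rw [indFun_smul, Nat.cast_smul_eq_nsmul]
  refine AddSubgroup.nsmul_mem _ ?_ _
  obtain ⟨K, μ, hμ⟩ := monomial_of_nilpotent ψ.2
  rw [hμ, indFun_trans']
  refine AddSubgroup.subset_closure ⟨K.map E.subtype,
    μ.comp (K.equivMapOfInjective E.subtype E.subtype_injective).symm.toMonoidHom,
    ⟨p, hp, isElementary_equiv (K.equivMapOfInjective E.subtype E.subtype_injective)
      (isElementary_subgroup hp hE K)⟩, rfl⟩

theorem neg_list_sum (l : List ((E : Subgroup G) × ((E →* ℂˣ) × ℤ))) :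
    -(l.map fun t => (t.2.2 : ℂ) • indFun t.1 (fun e => (t.2.1 e : ℂ))).sum =
      ((l.map fun t => (⟨t.1, t.2.1, -t.2.2⟩ : (E : Subgroup G) × ((E →* ℂˣ) × ℤ))).map
        fun t => (t.2.2 : ℂ) • indFun t.1 (fun e => (t.2.1 e : ℂ))).sum := by
  induction l with
  | nil => simp
  | cons a l ih =>
    simp only [List.map_cons, List.sum_cons, neg_add, ih]
    congr 1
    simp

/-- **Brauer's induction theorem.** -/
theorem induction_theorem {χ : G → ℂ} (hχ : IsGeneralizedCharacter G χ) :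
    ∃ l : List ((E : Subgroup G) × ((E →* ℂˣ) × ℤ)),
      (∀ t ∈ l, ∃ p : ℕ, p.Prime ∧ IsElementary p t.1) ∧
      χ = (l.map fun t => (t.2.2 : ℂ) • indFun t.1 (fun e => (t.2.1 e : ℂ))).sum := by
  have h := I_le_L (gen_mem_FE hχ)
  clear hχ
  induction h using AddSubgroup.closure_induction with
  | mem x hx =>
    obtain ⟨E, lam, hE, rfl⟩ := hx
    refine ⟨[⟨E, lam, 1⟩], ?_, by simp⟩
    intro t ht
    rw [List.mem_singleton] at ht
    subst ht
    exact hE
  | zero => exact ⟨[], by simp, by simp⟩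
  | add x y _ _ hx hy =>
    obtain ⟨l1, h1, rfl⟩ := hx
    obtain ⟨l2, h2, rfl⟩ := hy
    refine ⟨l1 ++ l2, ?_, by simp⟩
    intro t ht
    rcases List.mem_append.mp ht with h | h
    · exact h1 t h
    · exact h2 t h
  | neg x _ hx =>
    obtain ⟨l, h1, rfl⟩ := hx
    refine ⟨l.map fun t => ⟨t.1, t.2.1, -t.2.2⟩, ?_, ?_⟩
    · intro t ht
      obtain ⟨s, hs, rfl⟩ := List.mem_map.mp ht
      exact h1 s hs
    · exact neg_list_sum l

end Cfsg.Agent.Lib.helper8_BrauerInd
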