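import Mathlib
import Cfsg.Prelude.Def_Characters
import Cfsg.Agent.Lib.helper8_BrauerInd
import Cfsg.Agent.Lib.Helper3_CharGen

/-!
# Galois conjugates of characters via power maps: `g ↦ χ (g ^ k)` for `k` prime to `|G|`
-/

set_option autoImplicit false

namespace Cfsg.Agent.Lib.CharPow

open Cfsg Cfsg.Agent.Lib.CharBasic Cfsg.Agent.Lib.CharOrtho
  Cfsg.Agent.Lib.CharComplete Cfsg.Agent.Lib.CharIntegral Cfsg.Agent.Lib.CharMore
  Cfsg.Agent.Lib.CharInd Cfsg.Agent.Lib.CharGen Cfsg.Agent.Lib.helper8_BrauerInd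
  Cfsg.Agent.Lib.Helper3_CharGen Cfsg.Agent.Lib.CharLinear
open scoped ComplexConjugate

universe u

variable {G : Type u} [Group G] [Fintype G]

/-- The `k`-th power twist of a function. -/
def powFun (χ : G → ℂ) (k : ℕ) : G → ℂ := fun g => χ (g ^ k)

omit [Fintype G] in
theorem powFun_apply (χ : G → ℂ) (k : ℕ) (g : G) : powFun χ k g = χ (g ^ k) := rfl

omit [Fintype G] in
theorem mem_of_pow_mem [Finite G] (H : Subgroup G) {k : ℕ} (hk : k.Coprime (Nat.card G)) {y : G}
    (hy : y ^ k ∈ H) : y ∈ H := by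
  have hc : k.Coprime (orderOf y) := Nat.Coprime.coprime_dvd_right (orderOf_dvd_natCard y) hk
  obtain ⟨m, hm⟩ := exists_pow_eq_self_of_coprime hc
  rw [← hm]
  exact H.pow_mem hy m

theorem indFun_hom_pow (H : Subgroup G) (lam : H →* ℂˣ) {k : ℕ} (hk : k.Coprime (Nat.card G)) :
    powFun (indFun H (fun e => ((lam e : ℂˣ) : ℂ))) k =
      indFun H (fun e => (((lam ^ k) e : ℂˣ) : ℂ)) := by
  ext g
  unfold powFun indFun
  congr 1
  refine Finset.sum_congr rfl fun x _ => ?_
  have h1 : x⁻¹ * g ^ k * x = (x⁻¹ * g * x) ^ k := by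
    have := conj_pow (a := x⁻¹) (b := g) (i := k)
    simpa using this.symm
  rw [h1]
  by_cases hy : x⁻¹ * g * x ∈ H
  · rw [extendByZero_mem H _ hy, extendByZero_mem H _ (H.pow_mem hy k)]
    have : (⟨(x⁻¹ * g * x) ^ k, H.pow_mem hy k⟩ : H) = (⟨x⁻¹ * g * x, hy⟩ : H) ^ k := rfl
    rw [this, map_pow, MonoidHom.pow_apply]
  · rw [extendByZero_not_mem H _ hy, extendByZero_not_mem H _ (fun h => hy (mem_of_pow_mem H hk h))]

theorem isGen_powFun {χ : G → ℂ} (hχ : IsGeneralizedCharacter G χ) {k : ℕ}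
    (hk : k.Coprime (Nat.card G)) : IsGeneralizedCharacter G (powFun χ k) := by
  obtain ⟨l, -, rfl⟩ := induction_theorem hχ
  clear hχ
  induction l with
  | nil => exact isGen_zero (G := G)
  | cons t l ih =>
    simp only [List.map_cons, List.sum_cons]
    have h1 : powFun ((t.2.2 : ℂ) • indFun t.1 (fun e => ((t.2.1 e : ℂˣ) : ℂ)) +
        (l.map fun t => (t.2.2 : ℂ) • indFun t.1 (fun e => ((t.2.1 e : ℂˣ) : ℂ))).sum) k =
        (t.2.2 : ℂ) • powFun (indFun t.1 (fun e => ((t.2.1 e : ℂˣ) : ℂ))) k +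
        powFun (l.map fun t => (t.2.2 : ℂ) • indFun t.1 (fun e => ((t.2.1 e : ℂˣ) : ℂ))).sum k := rfl
    rw [h1, indFun_hom_pow _ _ hk]
    exact isGen_add (isGen_zsmul (isGen_indFun _ (isGen_of_isCharacter (isCharacter_hom _))) _) ih

theorem sum_pow {M : Type*} [AddCommMonoid M] (F : G → M) {k : ℕ} (hk : k.Coprime (Nat.card G)) :
    ∑ g : G, F (g ^ k) = ∑ g : G, F g :=
  Equiv.sum_comp (powCoprime hk.symm) F

theorem classInner_powFun (a b : G → ℂ) {k : ℕ} (hk : k.Coprime (Nat.card G)) :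
    classInner (powFun a k) (powFun b k) = classInner a b := by
  unfold classInner powFun
  congr 1
  exact sum_pow (fun g => a g * conj (b g)) hk

/-- Galois conjugates of irreducible characters are irreducible characters. -/
theorem isIrr_powFun {χ : G → ℂ} (hχ : IsIrrCharacter G χ) {k : ℕ}
    (hk : k.Coprime (Nat.card G)) : IsIrrCharacter G (powFun χ k) := by
  have h1 := isGen_powFun (isGen_of_isCharacter (isCharacter_of_isIrr hχ)) hk
  have h2 : classInner (powFun χ k) (powFun χ k) = 1 := by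
    rw [classInner_powFun _ _ hk, classInner_irr_self hχ]
  obtain ⟨α, h | h⟩ := pm_irr_of_norm_one h1 h2
  · rw [h]; exact α.2
  · exfalso
    have h3 := congrFun h 1
    rw [powFun_apply, one_pow, Pi.neg_apply] at h3
    obtain ⟨n, hn, hn1, -⟩ := irr_degree hχ
    obtain ⟨m, hm, hm1, -⟩ := irr_degree α.2
    rw [hn1, hm1] at h3
    have h4 : ((n + m : ℕ) : ℂ) = 0 := by push_cast; rw [h3]; ring
    have h5 : n + m = 0 := by exact_mod_cast h4
    omega

theorem isCharacter_powFun {χ : G → ℂ} (hχ : IsCharacter G χ) {k : ℕ}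
    (hk : k.Coprime (Nat.card G)) : IsCharacter G (powFun χ k) := by
  obtain ⟨m, hm, hexp⟩ := exists_mult hχ
  have : powFun χ k = ∑ ψ : IrrCharacter G, m ψ • powFun (ψ : G → ℂ) k := by
    ext g
    rw [powFun_apply, hexp]
    simp [powFun_apply, Finset.sum_apply]
  rw [this]
  exact isCharacter_sum _ _ fun ψ _ => isCharacter_nsmul (isCharacter_of_isIrr (isIrr_powFun ψ.2 hk)) _

end Cfsg.Agent.Lib.CharPow
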