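import Mathlib
import Cfsg.Prelude.Def_Characters
import Cfsg.Agent.Lib.CharPow
import Cfsg.Agent.Lib.CharThompson

/-!
# Galois conjugates (power twists) and normal subgroups
-/

set_option autoImplicit false

namespace Cfsg.Agent.Lib.CharPow2

open Cfsg Cfsg.Agent.Lib.CharBasic Cfsg.Agent.Lib.CharOrtho
  Cfsg.Agent.Lib.CharComplete Cfsg.Agent.Lib.CharIntegral Cfsg.Agent.Lib.CharMore
  Cfsg.Agent.Lib.CharInd Cfsg.Agent.Lib.CharGen Cfsg.Agent.Lib.CharPow
  Cfsg.Agent.Lib.CharClifford Cfsg.Agent.Lib.CharIto Cfsg.Agent.Lib.CharThompson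
open scoped ComplexConjugate

universe u

section basic

variable {G : Type u} [Group G]

theorem powFun_powFun (χ : G → ℂ) (a b : ℕ) : powFun (powFun χ a) b = powFun χ (b * a) := by
  ext g
  simp only [powFun_apply, pow_mul]

theorem powFun_one (χ : G → ℂ) : powFun χ 1 = χ := by
  ext g
  simp only [powFun_apply, pow_one]

theorem powFun_congr [Finite G] (χ : G → ℂ) {a b : ℕ} (h : a ≡ b [MOD Nat.card G]) :
    powFun χ a = powFun χ b := by
  ext g
  rw [powFun_apply, powFun_apply, pow_eq_pow_iff_modEq.mpr (h.of_dvd (orderOf_dvd_natCard g))]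

theorem powFun_iterate (χ : G → ℂ) (k n : ℕ) :
    (fun ψ : G → ℂ => powFun ψ k)^[n] χ = powFun χ (k ^ n) := by
  induction n with
  | zero => simp [powFun_one]
  | succ n ih =>
    rw [Function.iterate_succ_apply', ih, powFun_powFun, pow_succ, mul_comm]

theorem powFun_conjFun (N : Subgroup G) (hN : N.Normal) (θ : N → ℂ) (g : G) (k : ℕ) :
    powFun (conjFun N hN θ g) k = conjFun N hN (powFun θ k) g := by
  ext n
  rw [powFun_apply, conjFun_apply, conjFun_apply, powFun_apply]
  refine congrArg θ (Subtype.ext ?_)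
  simp [conj_pow]

theorem coprime_card_subgroup [Finite G] (N : Subgroup G) {k : ℕ} (hk : k.Coprime (Nat.card G)) :
    k.Coprime (Nat.card N) :=
  Nat.Coprime.coprime_dvd_right (Subgroup.card_subgroup_dvd_card N) hk

end basic

section normal

variable {G : Type u} [Group G] [Fintype G] (N : Subgroup G) [Fintype N] (hN : N.Normal)

include hN in
/-- If `χ` is fixed by a Galois element of `p`-power order and `p ∤ |G : N|`, every irreducible
constituent of `χ_N` is fixed. -/
theorem constituent_fixed (p : ℕ) [Fact p.Prime] (hidx : ¬ p ∣ N.index) {k e : ℕ}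
    (hk : k.Coprime (Nat.card G)) (hke : k ^ (p ^ e) ≡ 1 [MOD Nat.card G]) {χ : G → ℂ}
    (hχ : IsIrrCharacter G χ) (hfix : powFun χ k = χ) {θ : N → ℂ} (hθ : IsIrrCharacter N θ)
    (hc : classInner (fun n : N => χ n) θ ≠ 0) : powFun θ k = θ := by
  classical
  have hkN := coprime_card_subgroup N hk
  letI := irrAction N hN
  set θ' : IrrCharacter N := ⟨θ, hθ⟩ with hθ'
  have hres : powFun (fun n : N => χ n) k = fun n : N => χ n := by
    ext n
    exact congrFun hfix n
  have hmem : ∀ ψ : IrrCharacter N, ψ ∈ MulAction.orbit G θ' →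
      (⟨powFun (ψ : N → ℂ) k, isIrr_powFun ψ.2 hkN⟩ : IrrCharacter N) ∈ MulAction.orbit G θ' := by
    rintro _ ⟨g, rfl⟩
    have h1 : classInner (fun n : N => χ n) (powFun θ k) ≠ 0 := by
      rw [← hres, classInner_powFun _ _ hkN]; exact hc
    obtain ⟨x, hx⟩ := clifford_conj N hN hχ hθ (isIrr_powFun hθ hkN) hc h1
    refine ⟨g * x⁻¹, Subtype.ext ?_⟩
    change conjFun N hN θ (g * x⁻¹)⁻¹ = powFun (conjFun N hN θ g⁻¹) k
    rw [powFun_conjFun, hx, conjFun_mul, mul_inv_rev, inv_inv]
  let f : Function.End (MulAction.orbit G θ') := fun ψ => ⟨_, hmem ψ.1 ψ.2⟩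
  have hfn : ∀ (n : ℕ) (ψ : MulAction.orbit G θ'),
      (((f ^ n) ψ : MulAction.orbit G θ').1 : N → ℂ) = powFun (ψ.1 : N → ℂ) (k ^ n) := by
    intro n
    induction n with
    | zero =>
      intro ψ
      rw [pow_zero, pow_zero, powFun_one]
      rfl
    | succ n ih =>
      intro ψ
      rw [pow_succ']
      change powFun (((f ^ n) ψ : MulAction.orbit G θ').1 : N → ℂ) k = _
      rw [ih, powFun_powFun, pow_succ']
  have hf : f ^ p ^ e = 1 := by
    funext ψ
    apply Subtype.ext
    apply Subtype.ext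
    rw [hfn, powFun_congr _ (hke.of_dvd (Subgroup.card_subgroup_dvd_card N)), powFun_one]
    rfl
  have hmod := Equiv.Perm.card_fixedPoints_modEq (p := p) hf
  have hcard : Fintype.card (MulAction.orbit G θ') = (MulAction.stabilizer G θ').index := by
    rw [← Nat.card_eq_fintype_card, MulAction.index_stabilizer]
    rfl
  have hNle : N ≤ MulAction.stabilizer G θ' := by
    intro x hx
    rw [MulAction.mem_stabilizer_iff]
    apply Subtype.ext
    change conjFun N hN θ x⁻¹ = θ
    exact (mem_inertia N hN θ x⁻¹).mp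
      (le_inertia N hN (isClassFunction_of_isCharacter (isCharacter_of_isIrr hθ)) (N.inv_mem hx))
  have hnd : ¬ p ∣ Fintype.card (MulAction.orbit G θ') := by
    rw [hcard]
    exact fun h => hidx (h.trans (Subgroup.index_dvd_of_le hNle))
  have hpos : Fintype.card (Function.fixedPoints f) ≠ 0 := by
    intro h0
    rw [h0] at hmod
    exact hnd ((Nat.modEq_zero_iff_dvd).mp hmod)
  obtain ⟨⟨⟨ψ, g, rfl⟩, hψ⟩⟩ := Fintype.card_pos_iff.mp (Nat.pos_of_ne_zero hpos)
  have h2 : powFun (conjFun N hN θ g⁻¹) k = conjFun N hN θ g⁻¹ :=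
    congrArg (fun z : MulAction.orbit G θ' => (z.1 : N → ℂ)) hψ
  rw [powFun_conjFun] at h2
  have h3 := congrArg (fun a => conjFun N hN a g) h2
  simp only [conjFun_mul, inv_mul_cancel, conjFun_one] at h3
  exact h3

end normal

end Cfsg.Agent.Lib.CharPow2
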