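import Mathlib
import Cfsg.Prelude.Def_Transfer
import Cfsg.Agent.S0065
import Cfsg.Agent.S0012

/-!
# `p`-groups with an extraspecial subgroup of index `p`: basic facts
-/

set_option autoImplicit false

namespace Cfsg.Agent.Lib.Helper1_ExtraIdx

open Subgroup

variable {S : Type*} [Group S] [Finite S] {p : ℕ} [Fact p.Prime]

theorem normal_of_index_p (hS : IsPGroup p S) (Q : Subgroup S) (hQi : Q.index = p) : Q.Normal := by
  apply Subgroup.normal_of_index_eq_minFac_card
  obtain ⟨n, hn⟩ := IsPGroup.iff_card.mp hS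
  have hn0 : n ≠ 0 := by
    rintro rfl
    rw [pow_zero] at hn
    have h1 : Q.index ∣ Nat.card S := Subgroup.index_dvd_card Q
    rw [hn, hQi] at h1
    exact (Fact.out : p.Prime).one_lt.ne' (Nat.dvd_one.mp h1)
  rw [hQi, hn, Nat.Prime.pow_minFac Fact.out hn0]

theorem eq_top_of_lt (Q K : Subgroup S) (hQi : Q.index = p) (hlt : Q < K) : K = ⊤ := by
  have h1 : K.index ∣ Q.index := Subgroup.index_dvd_of_le hlt.le
  rw [hQi] at h1
  rcases (Nat.dvd_prime Fact.out).mp h1 with h | h
  · exact Subgroup.index_eq_one.mp h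
  · exfalso
    have h2 := Subgroup.relIndex_mul_index hlt.le
    rw [h, hQi] at h2
    have h3 : Q.relIndex K = 1 := by
      have hp : 0 < p := (Fact.out : p.Prime).pos
      exact Nat.eq_of_mul_eq_mul_right hp (by rw [h2, one_mul])
    exact hlt.not_ge (Subgroup.relIndex_eq_one.mp h3)

/-- the centre of a normal subgroup is normal -/
theorem center_map_normal (Q : Subgroup S) [hQ : Q.Normal] : ((center Q).map Q.subtype).Normal := by
  constructor
  rintro _ ⟨z, hz, rfl⟩ g
  refine ⟨⟨g * z * g⁻¹, hQ.conj_mem z z.2 g⟩, ?_, rfl⟩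
  rw [SetLike.mem_coe, mem_center_iff]
  intro y
  have h1 := mem_center_iff.mp hz ⟨g⁻¹ * y * g, by simpa using hQ.conj_mem y y.2 g⁻¹⟩
  have h2 : (g⁻¹ * y * g) * (z : S) = z * (g⁻¹ * y * g) := congrArg Subtype.val h1
  apply Subtype.ext
  show (y : S) * (g * z * g⁻¹) = g * z * g⁻¹ * y
  calc (y : S) * (g * z * g⁻¹) = g * ((g⁻¹ * y * g) * z) * g⁻¹ := by group
    _ = g * (z * (g⁻¹ * y * g)) * g⁻¹ := by rw [h2]
    _ = g * z * g⁻¹ * y := by group

theorem le_center_of_card_prime (hS : IsPGroup p S) (N : Subgroup S) [N.Normal] (hN : Nat.card N = p) :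
    N ≤ center S := by
  haveI : Group.IsNilpotent S := hS.isNilpotent
  have hne : N ≠ ⊥ := by
    rintro rfl
    rw [Subgroup.card_bot] at hN
    exact (Fact.out : p.Prime).one_lt.ne hN
  have h1 := Cfsg.Agent.S0065.result N hne
  have h2 : Nat.card (N ⊓ center S : Subgroup S) ∣ Nat.card N := Subgroup.card_dvd_of_le inf_le_left
  rw [hN] at h2
  rcases (Nat.dvd_prime Fact.out).mp h2 with h | h
  · exact absurd (Subgroup.card_eq_one.mp h) h1
  · have : N ⊓ center S = N := Subgroup.eq_of_le_of_card_ge inf_le_left (by rw [h, hN])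
    exact this ▸ inf_le_right

theorem center_map_le_center (hS : IsPGroup p S) (Q : Subgroup S) (hQ : Cfsg.IsExtraspecial p ↥Q)
    (hQi : Q.index = p) : (center Q).map Q.subtype ≤ center S := by
  haveI := normal_of_index_p hS Q hQi
  haveI := center_map_normal Q
  apply le_center_of_card_prime hS
  rw [Subgroup.card_map_of_injective Q.subtype_injective, hQ.2]

end Cfsg.Agent.Lib.Helper1_ExtraIdx
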