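import Mathlib
import Cfsg.Prelude.Def_Solvable
import Cfsg.Agent.Lib.Helper1_Basic

set_option autoImplicit false

namespace Cfsg.Agent.Lib.Helper1_Frob

open Subgroup Cfsg Cfsg.Agent.Lib.Helper1_Basic
open scoped Pointwise

variable {G : Type*} [Group G]

/-- malnormality in two-sided form -/
theorem mem_of_conj_inter {H : Subgroup G} (hTI : ∀ g : G, g ∉ H → H ⊓ (MulAut.conj g • H) = ⊥)
    {a b x : G} (hx1 : x ≠ 1) (ha : x ∈ MulAut.conj a • H) (hb : x ∈ MulAut.conj b • H) :
    a⁻¹ * b ∈ H := by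
  by_contra hcon
  have h1 := hTI _ hcon
  rw [mem_conj_smul] at ha hb
  have h2 : a⁻¹ * x * a ∈ H ⊓ (MulAut.conj (a⁻¹ * b) • H) := by
    refine ⟨ha, ?_⟩
    show _ ∈ MulAut.conj (a⁻¹ * b) • H
    rw [mem_conj_smul]
    have : (a⁻¹ * b)⁻¹ * (a⁻¹ * x * a) * (a⁻¹ * b) = b⁻¹ * x * b := by group
    rw [this]; exact hb
  rw [h1, mem_bot] at h2
  apply hx1
  have : x = a * (a⁻¹ * x * a) * a⁻¹ := by group
  rw [this, h2]; group

theorem conj_smul_eq_of_mul_mem {H : Subgroup G} {a b : G} (h : a⁻¹ * b ∈ H) :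
    MulAut.conj a • H = MulAut.conj b • H := by
  have : b = a * (a⁻¹ * b) := by group
  rw [this, map_mul, mul_smul, conj_smul_eq_self_of_mem h]

/-- The complement of the Frobenius kernel has `|G:H| (|H|-1)` elements. -/
theorem ncard_compl_kernel [Finite G] {H : Subgroup G}
    (hTI : ∀ g : G, g ∉ H → H ⊓ (MulAut.conj g • H) = ⊥) :
    (frobeniusKernel H)ᶜ.ncard = H.index * (Nat.card H - 1) := by
  classical
  let ψ : (G ⧸ H) × {h : H // h ≠ 1} → G := fun z => z.1.out * z.2.1.1 * z.1.out⁻¹
  have hinj : Function.Injective ψ := by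
    rintro ⟨q, h, hh⟩ ⟨q', h', hh'⟩ he
    have he' : q.out * h.1 * q.out⁻¹ = q'.out * h'.1 * q'.out⁻¹ := he
    have hne : q.out * h.1 * q.out⁻¹ ≠ 1 := by
      intro h0
      apply hh
      apply Subtype.ext
      have : h.1 = q.out⁻¹ * (q.out * h.1 * q.out⁻¹) * q.out := by group
      rw [this, h0]; simp
    have h1 : q.out⁻¹ * q'.out ∈ H :=
      mem_of_conj_inter hTI hne (conj_mem_conj_smul h.2) (he' ▸ conj_mem_conj_smul h'.2)
    have h2 : q = q' := by
      rw [← QuotientGroup.out_eq' q, ← QuotientGroup.out_eq' q', QuotientGroup.eq]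
      exact h1
    subst h2
    have h3 : h.1 = h'.1 := by
      have := congrArg (fun z => q.out⁻¹ * z * q.out) he'
      simpa [mul_assoc] using this
    have h4 : h = h' := Subtype.ext h3
    subst h4
    rfl
  have hrange : Set.range ψ = (frobeniusKernel H)ᶜ := by
    ext x
    simp only [Set.mem_range, Set.mem_compl_iff, frobeniusKernel, Set.mem_ofPred_eq, not_or,
      not_forall, not_not]
    constructor
    · rintro ⟨⟨q, h, hh⟩, rfl⟩
      refine ⟨?_, q.out, conj_mem_conj_smul h.2⟩
      intro h0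
      apply hh
      apply Subtype.ext
      have h0' : q.out * h.1 * q.out⁻¹ = 1 := h0
      have : h.1 = q.out⁻¹ * (q.out * h.1 * q.out⁻¹) * q.out := by group
      rw [this, h0']; simp
    · rintro ⟨hx1, g, hg⟩
      have h1 : (QuotientGroup.mk g : G ⧸ H).out⁻¹ * g ∈ H := by
        rw [← QuotientGroup.eq, QuotientGroup.out_eq']
      rw [← conj_smul_eq_of_mul_mem h1, mem_conj_smul] at hg
      refine ⟨⟨QuotientGroup.mk g, ⟨_, hg⟩, ?_⟩, ?_⟩
      · intro h0
        apply hx1
        have h0' := congrArg Subtype.val h0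
        simp only [OneMemClass.coe_one] at h0'
        set o := (QuotientGroup.mk g : G ⧸ H).out
        have : x = o * (o⁻¹ * x * o) * o⁻¹ := by group
        rw [this, h0']; group
      · show _ * _ * _ = x
        group
  rw [← hrange, ← Nat.card_coe_set_eq, Nat.card_range_of_injective hinj, Nat.card_prod]
  congr 1
  have : Nat.card {h : H // h ≠ 1} = ({1}ᶜ : Set H).ncard := by
    rw [← Nat.card_coe_set_eq]; rfl
  rw [this, Set.ncard_compl, Set.ncard_singleton]

theorem ncard_kernel [Finite G] {H : Subgroup G}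
    (hTI : ∀ g : G, g ∉ H → H ⊓ (MulAut.conj g • H) = ⊥) :
    (frobeniusKernel H).ncard = H.index := by
  have h1 := Set.ncard_add_ncard_compl (frobeniusKernel H)
  rw [ncard_compl_kernel hTI, ← card_mul_index H] at h1
  have h2 : 0 < Nat.card H := Nat.card_pos
  obtain ⟨k, hk⟩ : ∃ k, Nat.card H = k + 1 := ⟨Nat.card H - 1, by omega⟩
  rw [hk] at h1
  simp only [Nat.add_sub_cancel] at h1
  nlinarith

/-- `|G:H| ≡ 1 (mod |H|)` for a malnormal subgroup. -/
theorem index_mod_card [Finite G] {H : Subgroup G}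
    (hTI : ∀ g : G, g ∉ H → H ⊓ (MulAut.conj g • H) = ⊥) :
    H.index % Nat.card H = 1 % Nat.card H := by
  classical
  have : Fintype H := Fintype.ofFinite H
  have : Fintype (G ⧸ H) := Fintype.ofFinite _
  have : Fintype (Quotient (MulAction.orbitRel H (G ⧸ H))) := Fintype.ofFinite _
  have hB := MulAction.sum_card_fixedBy_eq_card_orbits_mul_card_group H (G ⧸ H)
  have hfix : ∀ a : H, Fintype.card (MulAction.fixedBy (G ⧸ H) a) =
      1 + (if a = 1 then H.index - 1 else 0) := by
    intro a
    by_cases ha : a = 1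
    · subst ha
      rw [if_pos rfl]
      have h1 : MulAction.fixedBy (G ⧸ H) (1 : H) = Set.univ := by
        ext q; simp
      have h2 : Fintype.card (MulAction.fixedBy (G ⧸ H) (1 : H)) = H.index := by
        rw [← Nat.card_eq_fintype_card, h1, Nat.card_coe_set_eq, Set.ncard_univ]; rfl
      rw [h2]
      have : 0 < H.index := Nat.pos_of_ne_zero index_ne_zero_of_finite
      omega
    · rw [if_neg ha, add_zero]
      have h1 : MulAction.fixedBy (G ⧸ H) a = {(QuotientGroup.mk 1 : G ⧸ H)} := by
        ext q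
        induction q using QuotientGroup.induction_on with | H g => ?_
        rw [MulAction.mem_fixedBy, Set.mem_singleton_iff]
        constructor
        · intro h
          have h' : (QuotientGroup.mk (a.1 * g) : G ⧸ H) = QuotientGroup.mk g := h
          rw [eq_comm, QuotientGroup.eq] at h'
          have h2 : a.1 ∈ MulAut.conj g • H := by
            rw [mem_conj_smul]; simpa [mul_assoc] using h'
          have h3 : a.1 ∈ MulAut.conj (1 : G) • H := by simp
          have h4 := mem_of_conj_inter hTI (fun h0 => ha (Subtype.ext h0)) h3 h2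
          rw [eq_comm, QuotientGroup.eq]
          exact h4
        · intro h
          rw [h]
          show (QuotientGroup.mk (a.1 * 1) : G ⧸ H) = QuotientGroup.mk 1
          rw [eq_comm, QuotientGroup.eq]
          simp
      rw [← Nat.card_eq_fintype_card, h1, Nat.card_coe_set_eq, Set.ncard_singleton]
  simp only [hfix, Finset.sum_add_distrib, Finset.sum_const, Finset.card_univ, smul_eq_mul, mul_one,
    Finset.sum_ite_eq', Finset.mem_univ, if_true] at hB
  rw [← Nat.card_eq_fintype_card] at hB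
  have hpos : 0 < H.index := Nat.pos_of_ne_zero index_ne_zero_of_finite
  have h5 : H.index + Nat.card H = Fintype.card (Quotient (MulAction.orbitRel H (G ⧸ H))) * Nat.card H + 1 := by
    omega
  have h6 := congrArg (· % Nat.card H) h5
  simp only [Nat.add_mod_right] at h6
  rw [h6, Nat.mul_add_mod_self_right]

theorem two_mul_index_le [Finite G] {H : Subgroup G} (hH : H ≠ ⊥) : 2 * H.index ≤ Nat.card G := by
  rw [← card_mul_index H]
  apply Nat.mul_le_mul_right
  have : Nontrivial H := (nontrivial_iff_ne_bot H).mpr hH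
  exact Finite.one_lt_card

/-- Two Frobenius complements have conjugates meeting nontrivially. -/
theorem exists_conj_inter_ne_bot [Finite G] {H₁ H₂ : Subgroup G}
    (h₁ : IsFrobeniusComplement H₁) (h₂ : IsFrobeniusComplement H₂) :
    ∃ g : G, H₁ ⊓ MulAut.conj g • H₂ ≠ ⊥ := by
  by_contra hcon
  push Not at hcon
  have hsub : (frobeniusKernel H₁)ᶜ ⊆ frobeniusKernel H₂ \ {1} := by
    intro x hx
    simp only [Set.mem_compl_iff, frobeniusKernel, Set.mem_ofPred_eq, not_or,
      not_forall, not_not] at hx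
    obtain ⟨hx1, a, ha⟩ := hx
    refine ⟨Or.inr ?_, hx1⟩
    intro b hb
    apply hx1
    rw [mem_conj_smul] at ha hb
    have h3 : a⁻¹ * x * a ∈ H₁ ⊓ MulAut.conj (a⁻¹ * b) • H₂ := by
      refine ⟨ha, ?_⟩
      show _ ∈ MulAut.conj (a⁻¹ * b) • H₂
      rw [mem_conj_smul]
      have : (a⁻¹ * b)⁻¹ * (a⁻¹ * x * a) * (a⁻¹ * b) = b⁻¹ * x * b := by group
      rw [this]; exact hb
    rw [hcon, mem_bot] at h3
    have : x = a * (a⁻¹ * x * a) * a⁻¹ := by group
    rw [this, h3]; group
  have h4 := Set.ncard_le_ncard hsub (Set.toFinite _)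
  have h1mem : (1 : G) ∈ frobeniusKernel H₂ := Or.inl rfl
  rw [Set.ncard_sdiff_singleton_of_mem h1mem, ncard_kernel h₂.2.2] at h4
  have h5 := Set.ncard_add_ncard_compl (frobeniusKernel H₁)
  rw [ncard_kernel h₁.2.2] at h5
  have h6 := two_mul_index_le h₁.1
  have h7 := two_mul_index_le h₂.1
  have hpos : 0 < H₂.index := Nat.pos_of_ne_zero index_ne_zero_of_finite
  omega

end Cfsg.Agent.Lib.Helper1_Frob
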