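import Mathlib

set_option autoImplicit false

namespace Cfsg.Agent.Lib.Helper1_HomCount

open Subgroup

/-- a group of prime order embeds in `ℂˣ` -/
theorem exists_injective_hom {C : Type*} [CommGroup C] (hC : (Nat.card C).Prime) :
    ∃ ι : C →* ℂˣ, Function.Injective ι := by
  haveI : Finite C := Nat.finite_of_card_ne_zero hC.ne_zero
  haveI : Fact (Nat.card C).Prime := ⟨hC⟩
  haveI : Nontrivial C := Finite.one_lt_card_iff_nontrivial.1 hC.one_lt
  obtain ⟨a, ha⟩ := exists_ne (1 : C)
  haveI : NeZero (Monoid.exponent C) := ⟨Monoid.exponent_ne_zero_of_finite⟩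
  haveI : NeZero ((Monoid.exponent C : ℕ) : ℂ) := ⟨by exact_mod_cast Monoid.exponent_ne_zero_of_finite⟩
  obtain ⟨φ, hφ⟩ := CommGroup.exists_apply_ne_one_of_hasEnoughRootsOfUnity C ℂ ha
  refine ⟨φ, ?_⟩
  rw [← MonoidHom.ker_eq_bot_iff]
  rcases (φ.ker).eq_bot_or_eq_top_of_prime_card with h | h
  · exact h
  · exfalso
    apply hφ
    have : a ∈ φ.ker := by rw [h]; trivial
    exact this

/-- the number of homomorphisms into a group of prime order -/
theorem card_hom_le {X C : Type*} [Group X] [Finite X] [CommGroup C] (hC : (Nat.card C).Prime) :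
    Nat.card (X →* C) ≤ (commutator X).index := by
  obtain ⟨ι, hι⟩ := exists_injective_hom hC
  haveI : NeZero ((Monoid.exponent (Abelianization X) : ℕ) : ℂ) :=
    ⟨by exact_mod_cast Monoid.exponent_ne_zero_of_finite⟩
  have h1 : Nat.card (Abelianization X →* ℂˣ) = Nat.card (Abelianization X) :=
    CommGroup.card_monoidHom_of_hasEnoughRootsOfUnity (Abelianization X) ℂ
  haveI : Finite (Abelianization X →* ℂˣ) := by
    apply Nat.finite_of_card_ne_zero
    rw [h1]
    exact Nat.card_pos.ne'
  have h2 : Nat.card (X →* C) ≤ Nat.card (Abelianization X →* ℂˣ) := by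
    apply Nat.card_le_card_of_injective (fun f : X →* C => ι.comp (Abelianization.lift f))
    intro f g hfg
    apply Abelianization.lift.injective
    ext x
    have := congrArg (fun F : Abelianization X →* ℂˣ => F (Abelianization.of x)) hfg
    apply hι
    simpa using this
  rw [h1] at h2
  exact h2

theorem card_hom_le' {X C : Type*} [Group X] [Finite X] [inst : Group C]
    (hcomm : ∀ a b : C, a * b = b * a) (hC : (Nat.card C).Prime) :
    Nat.card (X →* C) ≤ (commutator X).index := by
  letI : CommGroup C := { inst with mul_comm := hcomm }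
  exact card_hom_le hC

theorem finite_hom (X C : Type*) [Group X] [Finite X] [Group C] [Finite C] : Finite (X →* C) :=
  Finite.of_injective (fun f : X →* C => (f : X → C)) DFunLike.coe_injective

/-- homomorphisms into a group of prime order killing a normal subgroup `M` -/
theorem card_hom_ker_le {X C : Type*} [Group X] [Finite X] [Group C]
    (hcomm : ∀ a b : C, a * b = b * a) (hC : (Nat.card C).Prime) (M : Subgroup X) [M.Normal] :
    Nat.card {f : X →* C // M ≤ f.ker} ≤ M.index := by
  haveI : Finite C := Nat.finite_of_card_ne_zero hC.ne_zero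
  haveI := finite_hom (X ⧸ M) C
  have h1 : Nat.card {f : X →* C // M ≤ f.ker} ≤ Nat.card (X ⧸ M →* C) := by
    apply Nat.card_le_card_of_injective
      (fun f : {f : X →* C // M ≤ f.ker} => QuotientGroup.lift M f.1 (fun x hx => f.2 hx))
    intro f g hfg
    apply Subtype.ext
    ext x
    have := congrArg (fun F : X ⧸ M →* C => F (QuotientGroup.mk x)) hfg
    simpa using this
  have h2 := card_hom_le' (X := X ⧸ M) hcomm hC
  have h3 : (commutator (X ⧸ M)).index ≤ Nat.card (X ⧸ M) :=
    Nat.le_of_dvd Nat.card_pos (index_dvd_card _)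
  exact h1.trans (h2.trans h3)

end Cfsg.Agent.Lib.Helper1_HomCount
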