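import Mathlib

/-! Crossed homomorphisms into an abelian normal subgroup, corestriction, Gaschütz' theorem. -/

namespace Cfsg.Agent.Lib.Helper7_Gaschutz

open scoped IsMulCommutative Pointwise

variable {G : Type*} [Group G]

/-- `c` is a crossed homomorphism on `H` with values in the normal subgroup `A`,
restricting to the `k`-th power map on `A`. -/
def IsCross (A H : Subgroup G) [A.Normal] (c : G → A) (k : ℤ) : Prop :=
  (∀ g ∈ H, ∀ h ∈ H, c (g * h) = c g * MulAut.conjNormal g (c h)) ∧ (∀ a : A, c a = a ^ k)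

theorem conjNormal_self (A : Subgroup G) [A.Normal] [IsMulCommutative A] (a b : A) :
    MulAut.conjNormal (a : G) b = b := by
  apply Subtype.ext
  rw [MulAut.conjNormal_apply]
  have h : a * b = b * a := mul_comm' a b
  have h' : (a : G) * b = b * a := by exact_mod_cast congrArg Subtype.val h
  rw [h', mul_inv_cancel_right]

theorem exists_cross_of_complement (A H K : Subgroup G) [A.Normal] [IsMulCommutative A]
    (hKA : K ⊓ A = ⊥) (hsup : K ⊔ A = H) :
    ∃ c : G → A, IsCross A H c 1 ∧ ∀ g ∈ H, (c g = 1 ↔ g ∈ K) := by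
  classical
  have hex : ∀ g ∈ H, ∃ a : A, (a : G)⁻¹ * g ∈ K := by
    intro g hg
    rw [← hsup, sup_comm, Subgroup.mem_sup_of_normal_left] at hg
    obtain ⟨a, ha, k, hk, rfl⟩ := hg
    exact ⟨⟨a, ha⟩, by simpa using hk⟩
  have huniq : ∀ g : G, ∀ a b : A, (a : G)⁻¹ * g ∈ K → (b : G)⁻¹ * g ∈ K → a = b := by
    intro g a b ha hb
    have h1 : (a : G)⁻¹ * b ∈ K := by
      have := K.mul_mem ha (K.inv_mem hb)
      simpa [mul_assoc] using this
    have h2 : (a : G)⁻¹ * b ∈ A := A.mul_mem (A.inv_mem a.2) b.2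
    have h3 : (a : G)⁻¹ * b ∈ K ⊓ A := ⟨h1, h2⟩
    rw [hKA, Subgroup.mem_bot] at h3
    apply Subtype.ext
    exact (inv_mul_eq_one.mp h3)
  let c : G → A := fun g => if h : ∃ a : A, (a : G)⁻¹ * g ∈ K then h.choose else 1
  have hc : ∀ g : G, ∀ a : A, (a : G)⁻¹ * g ∈ K → c g = a := by
    intro g a ha
    have h : ∃ a : A, (a : G)⁻¹ * g ∈ K := ⟨a, ha⟩
    have : c g = h.choose := dif_pos h
    rw [this]
    exact huniq g _ _ h.choose_spec ha
  refine ⟨c, ⟨?_, ?_⟩, ?_⟩
  · intro g hg h hh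
    obtain ⟨a, ha⟩ := hex g hg
    obtain ⟨b, hb⟩ := hex h hh
    rw [hc g a ha, hc h b hb]
    apply hc
    have h1 : ((a * MulAut.conjNormal g b : A) : G) = (MulAut.conjNormal g b : A) * a := by
      rw [mul_comm' a]; rfl
    rw [h1, MulAut.conjNormal_apply]
    have := K.mul_mem ha hb
    convert this using 1
    group
  · intro a
    rw [zpow_one]
    apply hc
    simp
  · intro g hg
    constructor
    · intro h1
      obtain ⟨a, ha⟩ := hex g hg
      have := hc g a ha
      rw [h1] at this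
      rw [← this] at ha
      simpa using ha
    · intro hk
      apply hc
      simpa using hk

theorem cross_one (A H : Subgroup G) [A.Normal] (c : G → A) (k : ℤ) (hc : IsCross A H c k) :
    c 1 = 1 := by
  have := hc.2 1
  simpa using this

/-- The kernel of a crossed homomorphism. -/
def kerCross (A : Subgroup G) [A.Normal] (c : G → A) (k : ℤ) (hc : IsCross A ⊤ c k) :
    Subgroup G where
  carrier := {g | c g = 1}
  one_mem' := cross_one A ⊤ c k hc
  mul_mem' := by
    intro a b ha hb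
    have ha' : c a = 1 := ha
    have hb' : c b = 1 := hb
    show c (a * b) = 1
    rw [hc.1 a trivial b trivial, ha', hb']
    simp
  inv_mem' := by
    intro a ha
    have ha' : c a = 1 := ha
    show c a⁻¹ = 1
    have h1 := hc.1 a trivial a⁻¹ trivial
    rw [mul_inv_cancel, cross_one A ⊤ c k hc, ha', one_mul] at h1
    have h2 : MulAut.conjNormal a (c a⁻¹) = MulAut.conjNormal a 1 := by rw [← h1]; simp
    exact (MulAut.conjNormal a).injective h2

theorem mem_kerCross (A : Subgroup G) [A.Normal] (c : G → A) (k : ℤ) (hc : IsCross A ⊤ c k)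
    (g : G) : g ∈ kerCross A c k hc ↔ c g = 1 := Iff.rfl

theorem isComplement'_kerCross (A : Subgroup G) [A.Normal] [IsMulCommutative A] (c : G → A)
    (hc : IsCross A ⊤ c 1) : Subgroup.IsComplement' A (kerCross A c 1 hc) := by
  apply Subgroup.isComplement'_of_disjoint_and_mul_eq_univ
  · rw [Subgroup.disjoint_def]
    intro x hxA hx
    rw [mem_kerCross] at hx
    have := hc.2 ⟨x, hxA⟩
    rw [zpow_one] at this
    have h2 : c x = ⟨x, hxA⟩ := this
    rw [hx] at h2
    exact (congrArg Subtype.val h2).symm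
  · rw [Set.eq_univ_iff_forall]
    intro g
    refine Set.mem_mul.mpr ⟨c g, (c g).2, ((c g : A) : G)⁻¹ * g, ?_, by group⟩
    show c (((c g : A) : G)⁻¹ * g) = 1
    rw [hc.1 _ trivial _ trivial]
    have h1 : c (((c g : A) : G)⁻¹) = (c g)⁻¹ := by
      have := hc.2 (c g)⁻¹
      rw [zpow_one] at this
      exact this
    rw [h1]
    have h2 : MulAut.conjNormal (((c g : A) : G)⁻¹) (c g) = c g :=
      conjNormal_self A (c g)⁻¹ (c g)
    rw [h2]
    simp

theorem cross_mul (A H : Subgroup G) [A.Normal] [IsMulCommutative A] (c d : G → A) (k l : ℤ)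
    (hc : IsCross A H c k) (hd : IsCross A H d l) :
    IsCross A H (fun g => c g * d g) (k + l) := by
  refine ⟨?_, ?_⟩
  · intro g hg h hh
    show c (g * h) * d (g * h) = c g * d g * MulAut.conjNormal g (c h * d h)
    rw [hc.1 g hg h hh, hd.1 g hg h hh, map_mul]
    exact mul_mul_mul_comm _ _ _ _
  · intro a
    show c a * d a = a ^ (k + l)
    rw [hc.2, hd.2, zpow_add]

theorem cross_zpow (A H : Subgroup G) [A.Normal] [IsMulCommutative A] (c : G → A) (k n : ℤ)
    (hc : IsCross A H c k) : IsCross A H (fun g => c g ^ n) (k * n) := by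
  refine ⟨?_, ?_⟩
  · intro g hg h hh
    show c (g * h) ^ n = c g ^ n * MulAut.conjNormal g (c h ^ n)
    rw [hc.1 g hg h hh, map_zpow, mul_zpow]
  · intro a
    show c a ^ n = a ^ (k * n)
    rw [hc.2, zpow_mul]

theorem cross_congr (A H : Subgroup G) [A.Normal] (c : G → A) (k l : ℤ)
    (hc : IsCross A H c k) (h : ∀ a : A, a ^ k = a ^ l) : IsCross A H c l :=
  ⟨hc.1, fun a => (hc.2 a).trans (h a)⟩

theorem out_mem (H : Subgroup G) (g : G) (x : G ⧸ H) :
    ((g • x).out)⁻¹ * (g * x.out) ∈ H := by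
  rw [← QuotientGroup.eq, QuotientGroup.out_eq']
  conv_lhs => rw [← QuotientGroup.out_eq' x]
  rfl

/-- Corestriction of a crossed homomorphism. -/
theorem exists_cores (A H : Subgroup G) [A.Normal] [IsMulCommutative A] [H.FiniteIndex]
    (hAH : A ≤ H) (α : G → A) (k : ℤ) (hα : IsCross A H α k) :
    ∃ c : G → A, IsCross A ⊤ c (k * H.index) := by
  classical
  haveI : Fintype (G ⧸ H) := Fintype.ofFinite _
  let β : G → G ⧸ H → A := fun g x =>
    MulAut.conjNormal ((g • x).out) (α (((g • x).out)⁻¹ * (g * x.out)))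
  have hβ : ∀ g g' : G, ∀ x : G ⧸ H,
      β (g * g') x = β g (g' • x) * MulAut.conjNormal g (β g' x) := by
    intro g g' x
    show MulAut.conjNormal (((g * g') • x).out) (α ((((g * g') • x).out)⁻¹ * ((g * g') * x.out)))
      = MulAut.conjNormal ((g • (g' • x)).out)
          (α (((g • (g' • x)).out)⁻¹ * (g * (g' • x).out)))
        * MulAut.conjNormal g (MulAut.conjNormal ((g' • x).out)
          (α (((g' • x).out)⁻¹ * (g' * x.out))))
    rw [mul_smul]
    have h1 := out_mem H g (g' • x)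
    have h2 := out_mem H g' x
    have h3 : ((g • (g' • x)).out)⁻¹ * ((g * g') * x.out)
        = (((g • (g' • x)).out)⁻¹ * (g * (g' • x).out)) * (((g' • x).out)⁻¹ * (g' * x.out)) := by
      group
    rw [h3, hα.1 _ h1 _ h2, map_mul]
    congr 1
    rw [← MulAut.mul_apply, ← MulAut.mul_apply, ← map_mul, ← map_mul]
    congr 2
    group
  refine ⟨fun g => ∏ x : G ⧸ H, β g x, ?_, ?_⟩
  · intro g _ g' _
    show ∏ x : G ⧸ H, β (g * g') x
      = (∏ x : G ⧸ H, β g x) * MulAut.conjNormal g (∏ x : G ⧸ H, β g' x)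
    rw [map_prod, ← Equiv.prod_comp (MulAction.toPerm g') (fun x => β g x),
      ← Finset.prod_mul_distrib]
    apply Finset.prod_congr rfl
    intro x _
    exact hβ g g' x
  · intro a
    show ∏ x : G ⧸ H, β (a : G) x = a ^ (k * H.index)
    have h1 : ∀ x : G ⧸ H, β (a : G) x = a ^ k := by
      intro x
      have hax : (a : G) • x = x := by
        conv_lhs => rw [← QuotientGroup.out_eq' x]
        conv_rhs => rw [← QuotientGroup.out_eq' x]
        show (((a : G) * x.out : G) : G ⧸ H) = _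
        rw [QuotientGroup.eq]
        apply hAH
        have := ‹A.Normal›.conj_mem _ (A.inv_mem a.2) (x.out)⁻¹
        simpa [mul_assoc] using this
      show MulAut.conjNormal (((a : G) • x).out)
        (α ((((a : G) • x).out)⁻¹ * ((a : G) * x.out))) = a ^ k
      rw [hax]
      have h2 : (x.out)⁻¹ * ((a : G) * x.out)
          = ((MulAut.conjNormal (x.out)⁻¹ a : A) : G) := by
        rw [MulAut.conjNormal_apply]; group
      rw [h2, hα.2, map_zpow, ← MulAut.mul_apply, ← map_mul]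
      simp
    rw [Finset.prod_congr rfl (fun x _ => h1 x), Finset.prod_const, Finset.card_univ,
      zpow_mul, Subgroup.index_eq_card, Nat.card_eq_fintype_card, zpow_natCast]

/-- Gaschütz, existence. -/
theorem gaschutz_exists [Finite G] (K U : Subgroup G) [K.Normal] [IsMulCommutative K]
    (hcop : (Nat.card K).Coprime U.index)
    (A : Subgroup G) (hAK : A ⊓ K = ⊥) (hKA : K ⊔ A = U) :
    ∃ H : Subgroup G, Subgroup.IsComplement' K H := by
  have hKU : K ≤ U := hKA ▸ le_sup_left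
  obtain ⟨α, hα, -⟩ := exists_cross_of_complement K U A hAK (by rw [sup_comm]; exact hKA)
  obtain ⟨c, hc⟩ := exists_cores K U hKU α 1 hα
  have hb := Int.gcd_eq_gcd_ab (Nat.card K) U.index
  have hg : Int.gcd (Nat.card K : ℤ) (U.index : ℤ) = 1 := by
    rw [Int.gcd_natCast_natCast]; exact hcop
  rw [hg] at hb
  have hc2 := cross_zpow K ⊤ c _ (Int.gcdB (Nat.card K) U.index) hc
  have hc3 : IsCross K ⊤ (fun g => c g ^ (Int.gcdB (Nat.card K) U.index)) 1 := by
    apply cross_congr K ⊤ _ _ _ hc2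
    intro a
    have h1 : (1 : ℤ) * (U.index : ℤ) * Int.gcdB (Nat.card K) U.index
        = 1 - (Nat.card K : ℤ) * Int.gcdA (Nat.card K) U.index := by
      have : ((1 : ℕ) : ℤ) = 1 := by norm_num
      rw [this] at hb
      linarith
    rw [h1, zpow_sub, zpow_mul, zpow_natCast, pow_card_eq_one']
    simp
  exact ⟨_, isComplement'_kerCross K _ hc3⟩

theorem cross_mul_left (A : Subgroup G) [A.Normal] [IsMulCommutative A] (c : G → A)
    (hc : IsCross A ⊤ c 1) (a : A) (g : G) : c ((a : G) * g) = a * c g := by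
  rw [hc.1 _ trivial _ trivial, hc.2, zpow_one, conjNormal_self]

theorem cross_inv_mul_self (A : Subgroup G) [A.Normal] [IsMulCommutative A] (c : G → A)
    (hc : IsCross A ⊤ c 1) (g : G) : c (((c g : A) : G)⁻¹ * g) = 1 := by
  have := cross_mul_left A c hc (c g)⁻¹ g
  rw [inv_mul_cancel] at this
  exact this

/-- A crossed homomorphism trivial on a subgroup `U ≥ A` of index prime to `|A|` is principal. -/
theorem cross_principal [Finite G] (A U : Subgroup G) [A.Normal] [IsMulCommutative A]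
    (hcop : (Nat.card A).Coprime U.index) (d : G → A) (k : ℤ) (hd : IsCross A ⊤ d k)
    (hU : ∀ u ∈ U, d u = 1) :
    ∃ e : A, ∀ g : G, d g = e * (MulAut.conjNormal g e)⁻¹ := by
  classical
  haveI : Fintype (G ⧸ U) := Fintype.ofFinite _
  have h1 : ∀ g : G, ∀ u ∈ U, d (g * u) = d g := by
    intro g u hu
    rw [hd.1 _ trivial _ trivial, hU u hu]
    simp
  have h2 : ∀ g : G, (d g) ^ U.index * MulAut.conjNormal g (∏ x : G ⧸ U, d x.out)
      = ∏ x : G ⧸ U, d x.out := by
    intro g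
    have h3 : ∏ x : G ⧸ U, d (g * x.out) = ∏ x : G ⧸ U, d x.out := by
      rw [← Equiv.prod_comp (MulAction.toPerm g) (fun x : G ⧸ U => d x.out)]
      apply Finset.prod_congr rfl
      intro x _
      show d (g * x.out) = d ((g • x).out)
      have h4 := h1 ((g • x).out) _ (out_mem U g x)
      rw [← h4]
      congr 1
      group
    conv_rhs => rw [← h3]
    rw [map_prod]
    have h5 : ∀ x : G ⧸ U, d (g * x.out) = d g * MulAut.conjNormal g (d x.out) :=
      fun x => hd.1 _ trivial _ trivial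
    rw [Finset.prod_congr rfl (fun x _ => h5 x), Finset.prod_mul_distrib, Finset.prod_const,
      Finset.card_univ, Subgroup.index_eq_card, Nat.card_eq_fintype_card]
  have hb := Int.gcd_eq_gcd_ab (Nat.card A) U.index
  have hg : Int.gcd (Nat.card A : ℤ) (U.index : ℤ) = 1 := by
    rw [Int.gcd_natCast_natCast]; exact hcop
  rw [hg] at hb
  have hpow : ∀ a : A, (a ^ U.index) ^ (Int.gcdB (Nat.card A) U.index) = a := by
    intro a
    have h1 : (U.index : ℤ) * Int.gcdB (Nat.card A) U.index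
        = 1 - (Nat.card A : ℤ) * Int.gcdA (Nat.card A) U.index := by
      have : ((1 : ℕ) : ℤ) = 1 := by norm_num
      rw [this] at hb
      linarith
    rw [← zpow_natCast, ← zpow_mul, h1, zpow_sub, zpow_mul, zpow_natCast, pow_card_eq_one']
    simp
  refine ⟨(∏ x : G ⧸ U, d x.out) ^ (Int.gcdB (Nat.card A) U.index), ?_⟩
  intro g
  have h6 : (d g) ^ U.index
      = (∏ x : G ⧸ U, d x.out) * (MulAut.conjNormal g (∏ x : G ⧸ U, d x.out))⁻¹ := by
    rw [eq_mul_inv_iff_mul_eq]; exact h2 g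
  rw [← hpow (d g), h6, mul_zpow, map_zpow, inv_zpow]

/-- Gaschütz, conjugacy. -/
theorem gaschutz_conj [Finite G] (K U : Subgroup G) [K.Normal] [IsMulCommutative K]
    (hKU : K ≤ U) (hcop : (Nat.card K).Coprime U.index)
    (H₀ H₁ : Subgroup G) (h₀ : Subgroup.IsComplement' K H₀) (h₁ : Subgroup.IsComplement' K H₁)
    (hU : H₀ ⊓ U = H₁ ⊓ U) :
    ∃ g : G, MulAut.conj g • H₀ = H₁ := by
  obtain ⟨c0, hc0, hk0⟩ := exists_cross_of_complement K ⊤ H₀
    (by rw [inf_comm]; exact h₀.disjoint.eq_bot) (by rw [sup_comm]; exact h₀.sup_eq_top)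
  obtain ⟨c1, hc1, hk1⟩ := exists_cross_of_complement K ⊤ H₁
    (by rw [inf_comm]; exact h₁.disjoint.eq_bot) (by rw [sup_comm]; exact h₁.sup_eq_top)
  have hd := cross_mul K ⊤ c0 _ 1 _ hc0 (cross_zpow K ⊤ c1 1 (-1) hc1)
  have hdU : ∀ u ∈ U, c0 u * c1 u ^ (-1 : ℤ) = 1 := by
    intro u hu
    have h2 : ((c0 u : K) : G)⁻¹ * u ∈ H₀ := (hk0 _ trivial).mp (cross_inv_mul_self K c0 hc0 u)
    have h3 : ((c0 u : K) : G)⁻¹ * u ∈ U := U.mul_mem (U.inv_mem (hKU (c0 u).2)) hu
    have h4 : ((c0 u : K) : G)⁻¹ * u ∈ H₁ ⊓ U := hU ▸ ⟨h2, h3⟩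
    have h5 : c1 (((c0 u : K) : G)⁻¹ * u) = 1 := (hk1 _ trivial).mpr h4.1
    have h6 := cross_mul_left K c1 hc1 (c0 u)⁻¹ u
    have h7 : (((c0 u)⁻¹ : K) : G) = ((c0 u : K) : G)⁻¹ := rfl
    rw [h7, h5] at h6
    rw [zpow_neg_one]
    rw [mul_inv_eq_one]
    exact (inv_mul_eq_one.mp h6.symm)
  obtain ⟨e, he⟩ := cross_principal K U hcop _ _ hd hdU
  refine ⟨e, ?_⟩
  ext x
  rw [Subgroup.mem_pointwise_smul_iff_inv_smul_mem, ← hk0 _ trivial, ← hk1 _ trivial]
  have h8 : (MulAut.conj (e : G))⁻¹ • x = ((e⁻¹ : K) : G) * (x * e) := by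
    rw [← map_inv, MulAut.smul_def, MulAut.conj_apply]
    simp [mul_assoc]
  rw [h8, cross_mul_left K c0 hc0, hc0.1 _ trivial _ trivial, hc0.2, zpow_one]
  have h9 : c0 x = e * (MulAut.conjNormal x e)⁻¹ * c1 x := by
    have := he x
    simp only [zpow_neg_one] at this
    rw [← this]
    simp
  rw [h9]
  have h10 : e⁻¹ * (e * (MulAut.conjNormal x e)⁻¹ * c1 x * MulAut.conjNormal x e) = c1 x := by
    rw [mul_assoc e, mul_assoc e, inv_mul_cancel_left, mul_comm ((MulAut.conjNormal x e)⁻¹),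
      mul_assoc, inv_mul_cancel, mul_one]
  rw [h10]

/-- Gaschütz, local-global form: integers `k` admitting a crossed hom. with `a ↦ a ^ k`. -/
theorem exists_cross_one_of_family (A : Subgroup G) [A.Normal] [IsMulCommutative A]
    (S : Set ℕ) (hS : ∀ m ∈ S, ∃ c : G → A, IsCross A ⊤ c m)
    (hgcd : ∀ r : ℕ, r.Prime → ∃ m ∈ S, ¬ r ∣ m) :
    ∃ c : G → A, IsCross A ⊤ c 1 := by
  let I : Ideal ℤ :=
    { carrier := {k | ∃ c : G → A, IsCross A ⊤ c k}
      add_mem' := by
        rintro k l ⟨c, hc⟩ ⟨d, hd⟩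
        exact ⟨_, cross_mul A ⊤ c d k l hc hd⟩
      zero_mem' := ⟨fun _ => 1, by intro _ _ _ _; simp, by intro a; simp⟩
      smul_mem' := by
        rintro n k ⟨c, hc⟩
        refine ⟨fun g => c g ^ n, ?_⟩
        have := cross_zpow A ⊤ c k n hc
        rw [mul_comm] at this
        exact this }
  obtain ⟨d, hd⟩ := (IsPrincipalIdealRing.principal I).principal
  have hmem : ∀ k : ℤ, k ∈ I ↔ d ∣ k := by
    intro k
    rw [hd]
    exact Ideal.mem_span_singleton
  have h1 : d.natAbs = 1 := by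
    by_contra hne
    obtain ⟨r, hr, hrd⟩ := Nat.exists_prime_and_dvd hne
    obtain ⟨m, hm, hrm⟩ := hgcd r hr
    have h2 : (m : ℤ) ∈ I := hS m hm
    rw [hmem] at h2
    apply hrm
    have h3 : d.natAbs ∣ m := by
      have := Int.natAbs_dvd_natAbs.mpr h2
      simpa using this
    exact hrd.trans h3
  have h2 : (1 : ℤ) ∈ I := by
    rw [hmem]
    exact Int.natAbs_dvd_natAbs.mp (by rw [h1]; simp)
  exact h2

end Cfsg.Agent.Lib.Helper7_Gaschutz
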