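import Mathlib
import Cfsg.Prelude.Def_Transfer
import Cfsg.Agent.Lib.Helper7_Gaschutz
import Cfsg.Agent.Lib.Helper9_PResidual
import Cfsg.Agent.Lib.Helper1_PNil

/-! Tate's theorem on normal `p`-complements, deduced from Gaschütz' theorem. -/

set_option autoImplicit false

namespace Cfsg.Agent.Lib.Helper1_Tate

open Subgroup Cfsg
open scoped commutatorElement
open Cfsg.Agent.Lib.Helper7_Gaschutz Cfsg.Agent.Lib.Helper9_PResidual Cfsg.Agent.Lib.Helper1_PNil

theorem comm_top_ne {Q : Type*} [Group Q] [hQ : Group.IsNilpotent Q] (D : Subgroup Q) (hD : D ≠ ⊥) :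
    ⁅D, (⊤ : Subgroup Q)⁆ ≠ D := by
  intro h
  obtain ⟨n, hn⟩ := _root_.nilpotent_iff_lowerCentralSeries.mp hQ
  have key : ∀ k, D ≤ (⊤ : Subgroup Q).lowerCentralSeries k := by
    intro k
    induction k with
    | zero => exact le_top
    | succ k ih =>
      calc D = ⁅D, ⊤⁆ := h.symm
        _ ≤ ⁅(⊤ : Subgroup Q).lowerCentralSeries k, ⊤⁆ := Subgroup.commutator_mono ih le_rfl
        _ = (⊤ : Subgroup Q).lowerCentralSeries (k+1) := rfl
  exact hD (le_bot_iff.mp (hn ▸ key n))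

section construction

variable {G : Type*} [Group G] (P M : Subgroup G) [M.Normal]

/-- `[M ∩ P, P]` inside `P`. -/
abbrev dz : Subgroup ↥P := ⁅M.subgroupOf P, ⊤⁆

/-- `P / [M ∩ P, P]`. -/
abbrev qz := ↥P ⧸ dz P M

theorem dz_le : dz P M ≤ M.subgroupOf P := Subgroup.commutator_le_left _ _

/-- the natural map `P / [M ∩ P, P] → G / M`. -/
def psi : qz P M →* G ⧸ M :=
  QuotientGroup.lift (dz P M) ((QuotientGroup.mk' M).comp P.subtype) (by
    intro x hx
    have h1 := dz_le P M hx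
    rw [Subgroup.mem_subgroupOf] at h1
    simpa [QuotientGroup.eq_one_iff] using h1)

theorem psi_mk (u : ↥P) : psi P M (QuotientGroup.mk u) = ((u : G) : G ⧸ M) := rfl

theorem psi_eq_one_comm (x y : qz P M) (hx : psi P M x = 1) : x * y = y * x := by
  induction x using QuotientGroup.induction_on with
  | H u =>
  induction y using QuotientGroup.induction_on with
  | H v =>
  have hu : u ∈ M.subgroupOf P := by
    have h1 : ((u : G) : G ⧸ M) = 1 := hx
    rw [QuotientGroup.eq_one_iff] at h1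
    exact Subgroup.mem_subgroupOf.mpr h1
  rw [← QuotientGroup.mk_mul, ← QuotientGroup.mk_mul, QuotientGroup.eq]
  have h2 : (u * v)⁻¹ * (v * u) = ⁅v⁻¹, u⁻¹⁆ := by
    simp [commutatorElement_def, mul_assoc]
  rw [h2]
  change ⁅v⁻¹, u⁻¹⁆ ∈ ⁅M.subgroupOf P, (⊤ : Subgroup ↥P)⁆
  rw [Subgroup.commutator_comm]
  exact Subgroup.commutator_mem_commutator (Subgroup.mem_top _) (inv_mem hu)

/-- The pull-back of `G → G / M ← P / [M ∩ P, P]`. -/
def ee : Subgroup (G × qz P M) :=
  ((QuotientGroup.mk' M).comp (MonoidHom.fst G (qz P M))).eqLocus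
    ((psi P M).comp (MonoidHom.snd G (qz P M)))

theorem mem_ee (e : G × qz P M) : e ∈ ee P M ↔ ((e.1 : G) : G ⧸ M) = psi P M e.2 := Iff.rfl

def pr1 : ↥(ee P M) →* G := (MonoidHom.fst G (qz P M)).comp (ee P M).subtype

def pr2 : ↥(ee P M) →* qz P M := (MonoidHom.snd G (qz P M)).comp (ee P M).subtype

theorem pr1_apply (e : ↥(ee P M)) : pr1 P M e = e.1.1 := rfl
theorem pr2_apply (e : ↥(ee P M)) : pr2 P M e = e.1.2 := rfl

theorem ee_ext {e f : ↥(ee P M)} (h1 : pr1 P M e = pr1 P M f) (h2 : pr2 P M e = pr2 P M f) :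
    e = f := Subtype.ext (Prod.ext h1 h2)

theorem psi_pr2 (e : ↥(ee P M)) : psi P M (pr2 P M e) = ((pr1 P M e : G) : G ⧸ M) :=
  ((mem_ee P M e.1).mp e.2).symm

def alpha : ↥P →* ↥(ee P M) :=
  MonoidHom.codRestrict (P.subtype.prod (QuotientGroup.mk' (dz P M))) (ee P M) (by
    intro u
    rw [mem_ee]
    rfl)

theorem pr1_alpha (u : ↥P) : pr1 P M (alpha P M u) = u := rfl
theorem pr2_alpha (u : ↥P) : pr2 P M (alpha P M u) = QuotientGroup.mk u := rfl

/-- the section `M → E`, `m ↦ (m, 1)`. -/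
def jj (m : G) (hm : m ∈ M) : ↥(ee P M) :=
  ⟨(m, 1), by rw [mem_ee]; simpa [QuotientGroup.eq_one_iff] using hm⟩

theorem pr1_jj (m : G) (hm : m ∈ M) : pr1 P M (jj P M m hm) = m := rfl
theorem pr2_jj (m : G) (hm : m ∈ M) : pr2 P M (jj P M m hm) = 1 := rfl

theorem ker_central (k e : ↥(ee P M)) (hk : pr1 P M k = 1) : k * e = e * k := by
  apply ee_ext
  · rw [map_mul, map_mul, hk, one_mul, mul_one]
  · rw [map_mul, map_mul]
    apply psi_eq_one_comm
    rw [psi_pr2, hk]
    rfl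

instance ker_comm : IsMulCommutative (pr1 P M).ker :=
  ⟨⟨fun a b => Subtype.ext (ker_central P M a.1 b.1 a.2)⟩⟩

end construction

theorem inf_sylow_eq_bot {G : Type*} [Group G] [Finite G] {p : ℕ} [hp : Fact p.Prime] (P : Sylow p G)
    (M : Subgroup G) [M.Normal]
    (hgen : ∀ S : Subgroup G, (∀ x ∈ M, (orderOf x).Coprime p → x ∈ S) → M ≤ S)
    (hfr : M.subgroupOf (P : Subgroup G) ≤ frattini ↥(P : Subgroup G)) :
    M ⊓ (P : Subgroup G) = ⊥ := by
  by_contra hne
  have hDtne : M.subgroupOf (P : Subgroup G) ≠ ⊥ := by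
    intro h
    rw [Subgroup.subgroupOf_eq_bot, disjoint_iff] at h
    exact hne h
  haveI : Group.IsNilpotent ↥(P : Subgroup G) := P.isPGroup'.isNilpotent
  have hD0ne := comm_top_ne _ hDtne
  obtain ⟨u, huD, hu0⟩ : ∃ u ∈ M.subgroupOf (P : Subgroup G), u ∉ dz (P : Subgroup G) M := by
    by_contra hcon
    push Not at hcon
    exact hD0ne (le_antisymm (dz_le _ _) hcon)
  -- abbreviations
  set E := ee (P : Subgroup G) M with hE
  set f1 := pr1 (P : Subgroup G) M with hf1
  set f2 := pr2 (P : Subgroup G) M with hf2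
  set a := alpha (P : Subgroup G) M with ha
  have hQp : IsPGroup p (qz (P : Subgroup G) M) := P.isPGroup'.to_quotient _
  have hKp : IsPGroup p f1.ker := by
    apply hQp.of_injective (f2.comp f1.ker.subtype)
    intro x y hxy
    apply Subtype.ext
    apply ee_ext
    · rw [MonoidHom.mem_ker.mp x.2, MonoidHom.mem_ker.mp y.2]
    · exact hxy
  have hcop : (Nat.card f1.ker).Coprime ((P : Subgroup G).comap f1).index := by
    obtain ⟨n, hn⟩ := IsPGroup.iff_card.mp hKp
    rw [hn]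
    apply Nat.Coprime.pow_left
    rw [Nat.Prime.coprime_iff_not_dvd hp.out]
    intro hdvd
    apply P.not_dvd_index
    apply hdvd.trans
    rw [Subgroup.index_comap]
    apply Subgroup.relIndex_dvd_index_of_le
    intro x hx
    exact ⟨a ⟨x, hx⟩, rfl⟩
  have hAK : a.range ⊓ f1.ker = ⊥ := by
    rw [eq_bot_iff]
    rintro x ⟨⟨v, rfl⟩, hx⟩
    have h1 : f1 (a v) = 1 := hx
    have h2 : (v : G) = 1 := h1
    have h3 : v = 1 := Subtype.ext h2
    rw [h3, map_one]
    exact Subgroup.mem_bot.mpr rfl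
  have hKA : f1.ker ⊔ a.range = (P : Subgroup G).comap f1 := by
    apply le_antisymm
    · apply sup_le
      · intro x hx
        rw [Subgroup.mem_comap, MonoidHom.mem_ker.mp hx]
        exact one_mem _
      · rintro x ⟨v, rfl⟩
        exact v.2
    · intro e he
      have h1 : e = (e * (a ⟨f1 e, he⟩)⁻¹) * a ⟨f1 e, he⟩ := by group
      rw [h1]
      apply Subgroup.mul_mem_sup
      · rw [MonoidHom.mem_ker, map_mul, map_inv]
        have : f1 (a ⟨f1 e, he⟩) = f1 e := rfl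
        rw [this, mul_inv_cancel]
      · exact ⟨_, rfl⟩
  obtain ⟨H, hH⟩ := gaschutz_exists f1.ker ((P : Subgroup G).comap f1) hcop a.range hAK hKA
  have hdisj : ∀ x, x ∈ f1.ker → x ∈ H → x = 1 := by
    intro x h1 h2
    have := hH.disjoint.le_bot (show x ∈ f1.ker ⊓ H from ⟨h1, h2⟩)
    exact Subgroup.mem_bot.mp this
  have hprod : ∀ e : ↥E, ∃ k ∈ f1.ker, ∃ h ∈ H, e = k * h := by
    intro e
    have h1 : e ∈ f1.ker ⊔ H := by rw [hH.sup_eq_top]; exact Subgroup.mem_top _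
    obtain ⟨k, hk, h, hh, rfl⟩ := Subgroup.mem_sup_of_normal_left.mp h1
    exact ⟨k, hk, h, hh, rfl⟩
  -- `p'`-elements lie in `H`
  have hpp : ∀ e : ↥E, (orderOf e).Coprime p → e ∈ H := by
    intro e he
    obtain ⟨k, hk, h, hh, rfl⟩ := hprod e
    have hc : Commute k h := ker_central _ _ k h hk
    have h1 : k ^ orderOf (k * h) * h ^ orderOf (k * h) = 1 := by
      rw [← hc.mul_pow, pow_orderOf_eq_one]
    have h2 : k ^ orderOf (k * h) = 1 := by
      apply hdisj _ (pow_mem hk _)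
      rw [eq_inv_of_mul_eq_one_left h1]
      exact inv_mem (pow_mem hh _)
    obtain ⟨n, hn⟩ := hKp ⟨k, hk⟩
    have hn' : k ^ p ^ n = 1 := by
      have := congrArg Subtype.val hn
      simpa using this
    have h3 : orderOf k ∣ Nat.gcd (orderOf (k * h)) (p ^ n) :=
      Nat.dvd_gcd (orderOf_dvd_of_pow_eq_one h2) (orderOf_dvd_of_pow_eq_one hn')
    rw [Nat.Coprime.pow_right n he, Nat.dvd_one, orderOf_eq_one_iff] at h3
    rw [h3, one_mul]
    exact hh
  -- all of `M × 1` lies in `H`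
  have hM : M ≤ (H ⊓ f2.ker).map f1 := by
    apply hgen
    intro x hx hxo
    refine ⟨jj _ _ x hx, ⟨hpp _ ?_, rfl⟩, rfl⟩
    have h1 : orderOf (jj (P : Subgroup G) M x hx) ∣ orderOf x := by
      apply orderOf_dvd_of_pow_eq_one
      apply ee_ext
      · rw [map_pow, pr1_jj, pow_orderOf_eq_one, map_one]
      · rw [map_pow, pr2_jj, one_pow, map_one]
    exact Nat.Coprime.coprime_dvd_left h1 hxo
  -- `H` maps onto `Q`
  have hT : ((H.map f2).comap (QuotientGroup.mk' (dz (P : Subgroup G) M))) = ⊤ := by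
    apply frattini_nongenerating
    rw [eq_top_iff]
    intro v _
    obtain ⟨k, hk, h, hh, hkh⟩ := hprod (a v)
    obtain ⟨w, hw⟩ := QuotientGroup.mk_surjective (f2 k)
    have hwM : w ∈ M.subgroupOf (P : Subgroup G) := by
      have h1 : psi (P : Subgroup G) M (f2 k) = 1 := by
        rw [psi_pr2]
        have : pr1 (P : Subgroup G) M k = 1 := hk
        rw [this]; rfl
      rw [← hw, psi_mk, QuotientGroup.eq_one_iff] at h1
      exact Subgroup.mem_subgroupOf.mpr h1
    have h2 : v = (v * w⁻¹) * w := by group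
    rw [h2]
    apply Subgroup.mul_mem_sup _ (hfr hwM)
    rw [Subgroup.mem_comap]
    refine ⟨h, hh, ?_⟩
    have h3 : f2 (a v) = f2 k * f2 h := by rw [hkh, map_mul]
    have h4 : f2 (a v) = QuotientGroup.mk v := rfl
    have h5 : f2 k * f2 h = f2 h * f2 k := by
      rw [← map_mul, ← map_mul, ker_central _ _ k h hk]
    rw [QuotientGroup.mk'_apply, QuotientGroup.mk_mul, QuotientGroup.mk_inv, hw, ← h4, h3, h5,
      mul_inv_cancel_right]
  have hu1 : u ∈ ((H.map f2).comap (QuotientGroup.mk' (dz (P : Subgroup G) M))) := by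
    rw [hT]; exact Subgroup.mem_top _
  obtain ⟨h, hh, hhu⟩ := hu1
  have hgM : f1 h ∈ M := by
    have h1 := psi_pr2 (P : Subgroup G) M h
    have h2 : pr2 (P : Subgroup G) M h = QuotientGroup.mk u := hhu
    rw [h2, psi_mk] at h1
    have h3 : ((u : G) : G ⧸ M) = 1 := by
      rw [QuotientGroup.eq_one_iff]; exact Subgroup.mem_subgroupOf.mp huD
    rw [h3] at h1
    exact (QuotientGroup.eq_one_iff _).mp h1.symm
  obtain ⟨h', ⟨hh', hh'2⟩, hh'1⟩ := hM hgM
  have h6 : h * h'⁻¹ = 1 := by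
    apply hdisj _ _ (mul_mem hh (inv_mem hh'))
    rw [MonoidHom.mem_ker, map_mul, map_inv, hh'1, mul_inv_cancel]
  have h7 : h = h' := by rwa [mul_inv_eq_one] at h6
  apply hu0
  rw [← QuotientGroup.eq_one_iff]
  have h8 : f2 h = 1 := by rw [h7]; exact hh'2
  rw [← h8]
  exact hhu.symm

/-- **Tate's theorem**: if `N ⊴ G` meets a Sylow `p`-subgroup `P` inside `Φ(P)`, then `O^p(N)` is a
normal `p`-complement of `N`. -/
theorem tate {G : Type*} [Group G] [Finite G] {p : ℕ} [hp : Fact p.Prime] (P : Sylow p G)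
    (N : Subgroup G) [N.Normal]
    (h : N ⊓ (P : Subgroup G) ≤ (frattini ↥(P : Subgroup G)).map (P : Subgroup G).subtype) :
    IsNPC p (pResidual p ↥N) := by
  set M : Subgroup G := (pResidual p ↥N).map N.subtype with hM
  have hMN : M ≤ N := by
    rintro _ ⟨a, -, rfl⟩
    exact a.2
  haveI hMn : M.Normal := by
    constructor
    rintro _ ⟨a, ha, rfl⟩ g
    exact ⟨MulAut.conjNormal g a, map_mem_pResidual (MulAut.conjNormal g) ha, by simp⟩
  have hgen : ∀ S : Subgroup G, (∀ x ∈ M, (orderOf x).Coprime p → x ∈ S) → M ≤ S := by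
    intro S hS
    rw [hM, Subgroup.map_le_iff_le_comap]
    unfold pResidual
    rw [Subgroup.closure_le]
    intro a ha
    apply hS _ ⟨a, mem_pResidual_of_coprime ha, rfl⟩
    rw [Subgroup.coe_subtype, Subgroup.orderOf_coe]
    exact ha
  have hfr : M.subgroupOf (P : Subgroup G) ≤ frattini ↥(P : Subgroup G) := by
    intro x hx
    obtain ⟨y, hy, hyx⟩ := h ⟨hMN (Subgroup.mem_subgroupOf.mp hx), x.2⟩
    have : y = x := Subtype.ext hyx
    exact this ▸ hy
  have hbot := inf_sylow_eq_bot P M hgen hfr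
  haveI := pResidual_normal p ↥N
  refine ⟨inferInstance, ?_, ?_⟩
  · rw [Nat.coprime_comm, Nat.Prime.coprime_iff_not_dvd hp.out]
    intro hdvd
    obtain ⟨x, hx⟩ := exists_prime_orderOf_dvd_card' p hdvd
    have hxM : ((x : ↥N) : G) ∈ M := ⟨x.1, x.2, rfl⟩
    have hxo : orderOf ((x : ↥N) : G) = p := by
      rw [Subgroup.orderOf_coe, Subgroup.orderOf_coe, hx]
    have hpg : IsPGroup p (zpowers ((x : ↥N) : G)) :=
      IsPGroup.of_card (n := 1) (by rw [Nat.card_zpowers, hxo, pow_one])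
    obtain ⟨Q, hQ⟩ := hpg.exists_le_sylow
    obtain ⟨g, hg⟩ := MulAction.exists_smul_eq G Q P
    have h1 : g * ((x : ↥N) : G) * g⁻¹ ∈ (P : Subgroup G) := by
      rw [← hg, Sylow.coe_subgroup_smul]
      have := Subgroup.smul_mem_pointwise_smul _ (MulAut.conj g) _ (hQ (mem_zpowers ((x : ↥N) : G)))
      simpa [MulAut.smul_def] using this
    have h2 : g * ((x : ↥N) : G) * g⁻¹ ∈ M ⊓ (P : Subgroup G) := ⟨hMn.conj_mem _ hxM g, h1⟩
    rw [hbot, Subgroup.mem_bot, conj_eq_one_iff] at h2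
    rw [h2, orderOf_one] at hxo
    exact hp.out.one_lt.ne hxo
  · obtain ⟨k, hk⟩ := IsPGroup.iff_card.mp (isPGroup_quotient_pResidual p ↥N)
    exact ⟨k, by rw [Subgroup.index_eq_card, hk]⟩

end Cfsg.Agent.Lib.Helper1_Tate
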