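import Mathlib
import Cfsg.Prelude.Def_Blocks
import Cfsg.Agent.Lib.Helper1_Tate
import Cfsg.Agent.Lib.Helper2_BlockPCore
import Cfsg.Agent.Lib.helper8_Kernel
import Cfsg.Agent.Lib.helper8_DefectZero
import Cfsg.Agent.Lib.CharThompson
import Cfsg.Agent.Lib.Helper7_Frat2
import Cfsg.Agent.Lib.CharKer
import Cfsg.Agent.Lib.CharIto
import Cfsg.Agent.Lib.helper6_Sylow

/-! The intersection of the kernels of the irreducible characters of `p'`-degree. -/

set_option autoImplicit false

namespace Cfsg.Agent.Lib.Helper1_KerPDeg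

open Cfsg Cfsg.Agent.Lib.CharBasic Cfsg.Agent.Lib.CharOrtho Cfsg.Agent.Lib.CharComplete
  Cfsg.Agent.Lib.CharMore Cfsg.Agent.Lib.CharInd Cfsg.Agent.Lib.CharKer
  Cfsg.Agent.Lib.Helper2_BlockLocal
open scoped ComplexConjugate

universe u

/-- A character of degree prime to `p` has an irreducible constituent of degree prime to `p`. -/
theorem exists_pprime_constituent {p : ℕ} {X : Type u} [Group X] [Fintype X] {Φ : X → ℂ}
    (hΦ : IsCharacter X Φ) {a : ℕ} (ha : Φ 1 = a) (hpa : ¬ p ∣ a) :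
    ∃ φ : IrrCharacter X, classInner Φ (φ : X → ℂ) ≠ 0 ∧ ¬ p ∣ charDegree (φ : X → ℂ) := by
  classical
  obtain ⟨m, hm, hexp⟩ := exists_mult hΦ
  by_contra hcon
  push Not at hcon
  apply hpa
  have h1 : (a : ℂ) = ((∑ φ : IrrCharacter X, m φ * charDegree (φ : X → ℂ) : ℕ) : ℂ) := by
    have e := congrFun hexp 1
    rw [Finset.sum_apply, ha] at e
    rw [e]
    push_cast
    refine Finset.sum_congr rfl fun φ _ => ?_
    rw [Pi.smul_apply, smul_eq_mul, Cfsg.Agent.Lib.CharThompson.charDegree_spec φ.2]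
  have h2 : a = ∑ φ : IrrCharacter X, m φ * charDegree (φ : X → ℂ) := by exact_mod_cast h1
  rw [h2]
  apply Finset.dvd_sum
  intro φ _
  by_cases h0 : m φ = 0
  · simp [h0]
  · exact Dvd.dvd.mul_left (hcon φ (by rw [hm]; exact_mod_cast h0)) _

/-- An element killed by all linear characters lies in the commutator subgroup. -/
theorem mem_commutator_of_linear {X : Type u} [Group X] [Finite X] (y : X)
    (h : ∀ φ : IrrCharacter X, (φ : X → ℂ) 1 = 1 → (φ : X → ℂ) y = 1) : y ∈ commutator X := by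
  classical
  haveI : Fintype (X ⧸ commutator X) := Fintype.ofFinite _
  have h1 : IsConj (QuotientGroup.mk y : X ⧸ commutator X) 1 := by
    rw [isConj_iff_forall_irr]
    intro ψ
    have hψ1 : (ψ : X ⧸ commutator X → ℂ) 1 = 1 :=
      Cfsg.Agent.Lib.CharIto.degree_one_of_comm
        (fun a b => mul_comm (G := Abelianization X) a b) ψ.2
    have h2 := h ⟨_, Cfsg.Agent.Lib.helper8_Kernel.inflate (commutator X) ψ.2⟩ hψ1
    rw [hψ1]
    exact h2
  have h3 : (QuotientGroup.mk y : X ⧸ commutator X) = 1 := by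
    rw [isConj_comm, isConj_one_right] at h1
    exact h1
  exact (QuotientGroup.eq_one_iff y).mp h3

variable {G : Type u} [Group G] [Finite G] {p : ℕ} [hp : Fact p.Prime]

/-- A normal subgroup meeting `C_G(P)` trivially lies in the kernel of every irreducible character
of degree prime to `p`. -/
theorem ker_of_inf_centralizer (P : Sylow p G) (L : Subgroup G) [hL : L.Normal]
    (hLC : L ⊓ Subgroup.centralizer ((P : Subgroup G) : Set G) = ⊥) (χ : IrrCharacter G)
    (hχ : ¬ p ∣ charDegree (χ : G → ℂ)) (x : G) (hx : x ∈ L) : (χ : G → ℂ) x = (χ : G → ℂ) 1 := by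
  classical
  obtain ⟨M, hM⟩ := Cfsg.Agent.Lib.helper8_DefectZero.exists_modular hp.out
  have hPr := isPrime_of_modular hM
  haveI : Fintype L := Fintype.ofFinite _
  by_contra hne
  have h0 := Cfsg.Agent.Lib.helper8_Kernel.sum_mul_normal_eq_zero χ.2 L ⟨x, hx, hne⟩ 1
  letI : MulAction ↥(P : Subgroup G) ↥L :=
    MulAction.compHom ↥L ((MulAut.conjNormal (H := L)).comp (P : Subgroup G).subtype)
  have hsm : ∀ (q : ↥(P : Subgroup G)) (w : ↥L), ((q • w : ↥L) : G) = q * w * (q : G)⁻¹ := by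
    intro q w
    rfl
  have h1 := Cfsg.Agent.Lib.Helper2_BlockPCore.sum_fixed hM (Q := ↥(P : Subgroup G)) (W := ↥L)
    P.isPGroup' (fun w => (χ : G → ℂ) w) (by
      intro q w
      rw [hsm]
      exact isClassFunction_of_isCharacter (isCharacter_of_isIrr χ.2) _ _) (by
      intro w
      obtain ⟨n, ρ, -, hρ⟩ := χ.2
      rw [← hρ]
      exact ring_of_isIntegral hPr (char_isIntegral ρ _))
  have h2 : (Finset.univ.filter (fun w : ↥L => ∀ q : ↥(P : Subgroup G), q • w = w)) = {1} := by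
    ext w
    simp only [Finset.mem_filter, Finset.mem_univ, true_and, Finset.mem_singleton]
    constructor
    · intro hw
      have h3 : (w : G) ∈ L ⊓ Subgroup.centralizer ((P : Subgroup G) : Set G) := by
        refine Subgroup.mem_inf.mpr ⟨w.2, ?_⟩
        rw [Subgroup.mem_centralizer_iff]
        intro q hq
        have h4 := congrArg Subtype.val (hw ⟨q, hq⟩)
        rw [hsm] at h4
        exact mul_inv_eq_iff_eq_mul.mp h4
      rw [hLC, Subgroup.mem_bot] at h3
      exact Subtype.ext h3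
    · rintro rfl q
      apply Subtype.ext
      rw [hsm]
      simp
  have h5 : ∑ w : ↥L, (χ : G → ℂ) w = 0 := by simpa using h0
  rw [h2, h5, Finset.sum_singleton, zero_sub] at h1
  have h6 := ideal_neg h1
  rw [neg_neg, Subgroup.coe_one, Cfsg.Agent.Lib.CharThompson.charDegree_spec χ.2,
    ideal_natCast_iff hM] at h6
  exact hχ h6

theorem linear_commutator {X : Type u} [Group X] {lam : X → ℂ} (h : IsCharacter X lam)
    (h1 : lam 1 = 1) (y : X) (hy : y ∈ commutator X) : lam y = 1 := by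
  have h2 := Abelianization.commutator_subset_ker (Cfsg.Agent.Lib.CharLinear.homOfLinear h h1) hy
  rw [MonoidHom.mem_ker] at h2
  have h3 := Cfsg.Agent.Lib.CharLinear.homOfLinear_apply h h1 y
  rw [h2] at h3
  simpa using h3.symm

/-- A normal subgroup inside `P'` lies in the kernel of every irreducible character of degree prime
to `p`. -/
theorem ker_of_le_commutator (P : Sylow p G) (X : Subgroup G) [hX : X.Normal]
    (hXP : X ≤ ⁅(P : Subgroup G), (P : Subgroup G)⁆) (χ : IrrCharacter G)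
    (hχ : ¬ p ∣ charDegree (χ : G → ℂ)) (x : G) (hx : x ∈ X) : (χ : G → ℂ) x = (χ : G → ℂ) 1 := by
  classical
  haveI : Fintype G := Fintype.ofFinite _
  haveI : Fintype ↥(P : Subgroup G) := Fintype.ofFinite _
  have hres : IsCharacter ↥(P : Subgroup G) (fun y : ↥(P : Subgroup G) => (χ : G → ℂ) y) :=
    isCharacter_restrict _ (isCharacter_of_isIrr χ.2)
  obtain ⟨lam, hlam, hdeg⟩ := exists_pprime_constituent (p := p) hres
    (a := charDegree (χ : G → ℂ)) (Cfsg.Agent.Lib.CharThompson.charDegree_spec χ.2) hχ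
  have hlin : (lam : ↥(P : Subgroup G) → ℂ) 1 = 1 := by
    obtain ⟨d, hd0, hd, hdvd⟩ := irr_degree lam.2
    rw [Cfsg.Agent.Lib.CharThompson.charDegree_eq hd] at hdeg
    obtain ⟨k, hk⟩ := IsPGroup.iff_card.mp P.isPGroup'
    rw [hk] at hdvd
    obtain ⟨j, -, rfl⟩ := (Nat.dvd_prime_pow hp.out).mp hdvd
    rcases Nat.eq_zero_or_pos j with rfl | hj
    · simpa using hd
    · exact absurd (dvd_pow_self p hj.ne') hdeg
  have hc : classInner (indFun (P : Subgroup G) (lam : ↥(P : Subgroup G) → ℂ)) (χ : G → ℂ) ≠ 0 := by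
    rw [frobenius_reciprocity _ _ _ (isClassFunction_of_isCharacter (isCharacter_of_isIrr χ.2))]
    intro h0
    apply hlam
    rw [← classInner_conj_symm, h0, map_zero]
  apply constituent_ker (isCharacter_indFun _ _ (isCharacter_of_isIrr lam.2)) χ.2 hc
  rw [indFun_one, hlin, mul_one]
  unfold indFun
  have h1 : ∀ g : G, extendByZero (P : Subgroup G) (lam : ↥(P : Subgroup G) → ℂ) (g⁻¹ * x * g) = 1 := by
    intro g
    have h1 : g⁻¹ * x * g ∈ X := by simpa using hX.conj_mem x hx g⁻¹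
    have h2 := hXP h1
    rw [← Subgroup.map_subtype_commutator] at h2
    obtain ⟨y, hy, hyx⟩ := h2
    rw [← hyx]
    change extendByZero (P : Subgroup G) (lam : ↥(P : Subgroup G) → ℂ) (y : G) = 1
    rw [extendByZero_coe]
    exact linear_commutator (isCharacter_of_isIrr lam.2) hlin y hy
  rw [Finset.sum_congr rfl (fun g _ => h1 g), Finset.sum_const, Finset.card_univ, nsmul_eq_mul,
    mul_one, ← Nat.card_eq_fintype_card, ← Subgroup.card_mul_index (P : Subgroup G)]
  have hP0 : (Nat.card ↥(P : Subgroup G) : ℂ) ≠ 0 := by exact_mod_cast Nat.card_pos.ne'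
  push_cast
  field_simp

/-- `core_G(N P')` lies in the kernel of every irreducible character of degree prime to `p`. -/
theorem ker_of_core (P : Sylow p G) (N : Subgroup G) [hN : N.Normal]
    (hNC : N ⊓ Subgroup.centralizer ((P : Subgroup G) : Set G) = ⊥) (χ : IrrCharacter G)
    (hχ : ¬ p ∣ charDegree (χ : G → ℂ)) (x : G)
    (hx : x ∈ (N ⊔ ⁅(P : Subgroup G), (P : Subgroup G)⁆).normalCore) :
    (χ : G → ℂ) x = (χ : G → ℂ) 1 := by
  obtain ⟨ψ, hψ, hψχ⟩ := Cfsg.Agent.Lib.helper8_Kernel.deflate N χ.2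
    (ker_of_inf_centralizer P N hNC χ hχ)
  set Pb : Sylow p (G ⧸ N) := P.mapSurjective (QuotientGroup.mk'_surjective N) with hPb
  set X : Subgroup (G ⧸ N) :=
    ((N ⊔ ⁅(P : Subgroup G), (P : Subgroup G)⁆).normalCore).map (QuotientGroup.mk' N) with hX
  haveI : X.Normal := Subgroup.Normal.map inferInstance _ (QuotientGroup.mk'_surjective N)
  have hXP : X ≤ ⁅(Pb : Subgroup (G ⧸ N)), (Pb : Subgroup (G ⧸ N))⁆ := by
    rw [hPb, Sylow.coe_mapSurjective, ← Subgroup.map_commutator]
    calc X ≤ (N ⊔ ⁅(P : Subgroup G), (P : Subgroup G)⁆).map (QuotientGroup.mk' N) :=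
          Subgroup.map_mono (Subgroup.normalCore_le _)
      _ = _ := by rw [Subgroup.map_sup, QuotientGroup.map_mk'_self, bot_sup_eq]
  have h1 : ψ 1 = (χ : G → ℂ) 1 := hψχ 1
  have hdeg : ¬ p ∣ charDegree ψ := by
    unfold charDegree
    rw [h1]
    exact hχ
  have h2 := ker_of_le_commutator Pb X hXP ⟨ψ, hψ⟩ hdeg (QuotientGroup.mk' N x)
    (Subgroup.mem_map_of_mem _ hx)
  rw [← hψχ x, ← h1]
  exact h2

/-- An element of `P` in the kernel of all irreducible characters of `p'`-degree lies in `P'`. -/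
theorem mem_commutator_of_ker (P : Sylow p G) (x : G) (hxP : x ∈ (P : Subgroup G))
    (hx : ∀ χ : IrrCharacter G, ¬ p ∣ charDegree (χ : G → ℂ) → (χ : G → ℂ) x = (χ : G → ℂ) 1) :
    x ∈ ⁅(P : Subgroup G), (P : Subgroup G)⁆ := by
  classical
  haveI : Fintype G := Fintype.ofFinite _
  haveI : Fintype ↥(P : Subgroup G) := Fintype.ofFinite _
  rw [← Subgroup.map_subtype_commutator]
  refine ⟨⟨x, hxP⟩, mem_commutator_of_linear _ ?_, rfl⟩
  intro lam hlin
  obtain ⟨χ, hc, hdeg⟩ := exists_pprime_constituent (p := p)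
    (isCharacter_indFun (P : Subgroup G) _ (isCharacter_of_isIrr lam.2))
    (a := (P : Subgroup G).index) (by rw [indFun_one, hlin, mul_one]) P.not_dvd_index
  rw [frobenius_reciprocity _ _ _ (isClassFunction_of_isCharacter (isCharacter_of_isIrr χ.2))] at hc
  have hc' : classInner (fun y : ↥(P : Subgroup G) => (χ : G → ℂ) y)
      (lam : ↥(P : Subgroup G) → ℂ) ≠ 0 := by
    intro h0
    apply hc
    rw [← classInner_conj_symm, h0, map_zero]
  have h1 := constituent_ker (isCharacter_restrict (P : Subgroup G) (isCharacter_of_isIrr χ.2))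
    lam.2 hc' (a := ⟨x, hxP⟩) (hx χ hdeg)
  rw [h1, hlin]

/-- A normal `p'`-subgroup in the kernel of all irreducible characters of `p'`-degree meets
`C_G(P)` trivially. -/
theorem inf_centralizer_eq_bot (P : Sylow p G) (L : Subgroup G) [hL : L.Normal]
    (hcop : (Nat.card L).Coprime p)
    (hker : ∀ x ∈ L, ∀ χ : IrrCharacter G, ¬ p ∣ charDegree (χ : G → ℂ) →
      (χ : G → ℂ) x = (χ : G → ℂ) 1) :
    L ⊓ Subgroup.centralizer ((P : Subgroup G) : Set G) = ⊥ := by
  classical
  haveI : Fintype G := Fintype.ofFinite _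
  haveI : Fintype ↥(P : Subgroup G) := Fintype.ofFinite _
  obtain ⟨M, hM⟩ := Cfsg.Agent.Lib.helper8_DefectZero.exists_modular hp.out
  have hPr := isPrime_of_modular hM
  rw [eq_bot_iff]
  intro c hc
  obtain ⟨hcL, hcC⟩ := Subgroup.mem_inf.mp hc
  rw [Subgroup.mem_bot]
  by_contra hc1
  have hLP : L ⊓ (P : Subgroup G) = ⊥ := by
    obtain ⟨k, hk⟩ := IsPGroup.iff_card.mp P.isPGroup'
    apply Subgroup.inf_eq_bot_of_coprime
    rw [hk]
    exact Nat.Coprime.pow_right k hcop
  have hΨ : IsCharacter G (indFun (P : Subgroup G) (1 : ↥(P : Subgroup G) → ℂ)) :=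
    isCharacter_indFun _ _ isCharacter_one
  obtain ⟨m, hm, hexp⟩ := exists_mult hΨ
  have hΨ1 : indFun (P : Subgroup G) (1 : ↥(P : Subgroup G) → ℂ) 1 = ((P : Subgroup G).index : ℂ) := by
    rw [indFun_one]; simp
  have hΨc : indFun (P : Subgroup G) (1 : ↥(P : Subgroup G) → ℂ) c = 0 := by
    unfold indFun
    rw [Finset.sum_eq_zero, mul_zero]
    intro g _
    apply extendByZero_not_mem
    intro hg
    have h1 : g⁻¹ * c * g ∈ L := by simpa using hL.conj_mem c hcL g⁻¹
    have h2 : g⁻¹ * c * g ∈ L ⊓ (P : Subgroup G) := ⟨h1, hg⟩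
    rw [hLP, Subgroup.mem_bot] at h2
    apply hc1
    have h3 : c = g * (g⁻¹ * c * g) * g⁻¹ := by group
    rw [h3, h2]; group
  have hidx : ¬ p ∣ (Subgroup.centralizer ({c} : Set G)).index := by
    intro hdvd
    apply P.not_dvd_index
    apply hdvd.trans
    apply Subgroup.index_dvd_of_le
    intro q hq
    rw [Subgroup.mem_centralizer_singleton_iff]
    exact ((Subgroup.mem_centralizer_iff.mp hcC) q hq)
  have key : ∀ χ : IrrCharacter G, MemLocalIdeal M ((χ : G → ℂ) c - (χ : G → ℂ) 1) := by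
    intro χ
    by_cases hdeg : p ∣ charDegree (χ : G → ℂ)
    · have h1 : MemLocalIdeal M ((χ : G → ℂ) 1) := by
        rw [Cfsg.Agent.Lib.CharThompson.charDegree_spec χ.2, ideal_natCast_iff hM]
        exact hdeg
      have h2 : (χ : G → ℂ) c = centralChar (χ : G → ℂ) c * (χ : G → ℂ) 1 *
          ((Subgroup.centralizer ({c} : Set G)).index : ℂ)⁻¹ := by
        have h3 : ((Subgroup.centralizer ({c} : Set G)).index : ℂ) ≠ 0 := by
          intro h0
          apply hidx
          have : (Subgroup.centralizer ({c} : Set G)).index = 0 := by exact_mod_cast h0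
          rw [this]; exact dvd_zero p
        have h4 : (χ : G → ℂ) 1 ≠ 0 := by
          obtain ⟨d, hd0, hd, -⟩ := irr_degree χ.2
          rw [hd]; exact_mod_cast hd0.ne'
        unfold centralChar
        field_simp
      refine ideal_sub hPr ?_ h1
      rw [h2]
      exact ideal_mul_right hPr (ideal_mul_left hPr
        (Cfsg.Agent.Lib.Helper2_BlockBasic.centralChar_ring hPr χ c) h1) (ring_inv_natCast hM hidx)
    · rw [hker c hcL χ hdeg, sub_self]
      exact ideal_zero hPr
  have h5 : MemLocalIdeal M (indFun (P : Subgroup G) (1 : ↥(P : Subgroup G) → ℂ) c -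
      indFun (P : Subgroup G) (1 : ↥(P : Subgroup G) → ℂ) 1) := by
    have e1 := congrFun hexp c
    have e2 := congrFun hexp 1
    rw [Finset.sum_apply] at e1 e2
    rw [e1, e2, ← Finset.sum_sub_distrib]
    apply ideal_sum hPr
    intro χ _
    rw [Pi.smul_apply, Pi.smul_apply, smul_eq_mul, smul_eq_mul, ← mul_sub]
    exact ideal_mul_left hPr (ring_natCast hPr _) (key χ)
  rw [hΨc, hΨ1, zero_sub] at h5
  have h6 := ideal_neg h5
  rw [neg_neg, ideal_natCast_iff hM] at h6
  exact P.not_dvd_index h6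

/-- The intersection of the kernels of the irreducible characters of degree prime to `p`. -/
def kerPDeg (p : ℕ) (G : Type u) [Group G] [Finite G] : Subgroup G :=
  ⨅ χ : {χ : IrrCharacter G // ¬ p ∣ charDegree (χ : G → ℂ)},
    Cfsg.Agent.Lib.CharQuot.charKer (χ.1 : G → ℂ) (isCharacter_of_isIrr χ.1.2)

omit hp in
theorem mem_kerPDeg (g : G) : g ∈ kerPDeg p G ↔
    ∀ χ : IrrCharacter G, ¬ p ∣ charDegree (χ : G → ℂ) → (χ : G → ℂ) g = (χ : G → ℂ) 1 := by
  unfold kerPDeg
  rw [Subgroup.mem_iInf]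
  constructor
  · intro h χ hχ
    exact h ⟨χ, hχ⟩
  · intro h χ
    exact h χ.1 χ.2

omit hp in
instance kerPDeg_normal : (kerPDeg p G).Normal := by
  unfold kerPDeg
  exact Subgroup.normal_iInf_normal (fun χ => inferInstance)

theorem kerPDeg_le (P : Sylow p G) (N : Subgroup G) [hN : N.Normal]
    (hmax : ∀ L : Subgroup G, L.Normal →
      L ⊓ Subgroup.centralizer ((P : Subgroup G) : Set G) = ⊥ → L ≤ N) :
    kerPDeg p G ≤ N ⊔ ⁅(P : Subgroup G), (P : Subgroup G)⁆ := by
  set K := kerPDeg p G with hK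
  haveI : Group.IsNilpotent ↥(P : Subgroup G) := P.isPGroup'.isNilpotent
  have hKP : K ⊓ (P : Subgroup G) ≤ ⁅(P : Subgroup G), (P : Subgroup G)⁆ := by
    intro x hx
    obtain ⟨h1, h2⟩ := Subgroup.mem_inf.mp hx
    exact mem_commutator_of_ker P x h2 ((mem_kerPDeg x).mp h1)
  have hfr : K ⊓ (P : Subgroup G) ≤ (frattini ↥(P : Subgroup G)).map (P : Subgroup G).subtype := by
    refine hKP.trans ?_
    rw [← Subgroup.map_subtype_commutator]
    exact Subgroup.map_mono Cfsg.Agent.Lib.Helper7_Frat2.commutator_le_frattini_of_nilpotent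
  obtain ⟨hLn0, hLcop, -⟩ := Cfsg.Agent.Lib.Helper1_Tate.tate P K hfr
  set L : Subgroup G := (pResidual p ↥K).map K.subtype with hL
  have hLK : L ≤ K := by
    rintro _ ⟨a, -, rfl⟩
    exact a.2
  haveI hLn : L.Normal := by
    constructor
    rintro _ ⟨a, ha, rfl⟩ g
    exact ⟨MulAut.conjNormal g a,
      Cfsg.Agent.Lib.Helper9_PResidual.map_mem_pResidual (MulAut.conjNormal g) ha, by simp⟩
  have hLcard : (Nat.card L).Coprime p := by
    rw [hL, Subgroup.card_map_of_injective K.subtype_injective]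
    exact hLcop
  have hLN : L ≤ N := by
    apply hmax L hLn
    apply inf_centralizer_eq_bot P L hLcard
    intro x hx
    exact (mem_kerPDeg x).mp (hLK hx)
  obtain ⟨S⟩ : Nonempty (Sylow p ↥K) := inferInstance
  obtain ⟨Q, hQ⟩ := S.exists_comap_subtype_eq
  obtain ⟨k, hk⟩ := Cfsg.Agent.Lib.helper6_Sylow.sylow_conj P Q
  intro x hx
  have hy : k⁻¹ * x * k ∈ K := by
    simpa using (inferInstance : K.Normal).conj_mem x hx k⁻¹
  have h1 : (⟨k⁻¹ * x * k, hy⟩ : ↥K) ∈ pResidual p ↥K ⊔ (S : Subgroup ↥K) := by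
    rw [Cfsg.Agent.Lib.Helper9_PResidual.pResidual_sup_sylow S]
    exact Subgroup.mem_top _
  haveI := hLn0
  obtain ⟨l, hl, s, hs, hls⟩ := Subgroup.mem_sup_of_normal_left.mp h1
  have hls' : (l : G) * (s : G) = k⁻¹ * x * k := congrArg Subtype.val hls
  have hx' : x = (k * (l : G) * k⁻¹) * (k * (s : G) * k⁻¹) := by
    have : x = k * (k⁻¹ * x * k) * k⁻¹ := by group
    rw [this, ← hls']; group
  rw [hx']
  apply Subgroup.mul_mem_sup
  · exact hLN (hLn.conj_mem _ ⟨l, hl, rfl⟩ k)
  · apply hKP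
    refine Subgroup.mem_inf.mpr ⟨(inferInstance : K.Normal).conj_mem _ s.2 k, hk _ ?_⟩
    rw [← hQ] at hs
    exact hs

theorem main (P : Sylow p G) (N : Subgroup G) [hN : N.Normal]
    (hNC : N ⊓ Subgroup.centralizer ((P : Subgroup G) : Set G) = ⊥)
    (hmax : ∀ L : Subgroup G, L.Normal →
      L ⊓ Subgroup.centralizer ((P : Subgroup G) : Set G) = ⊥ → L ≤ N) :
    {g : G | ∀ χ : IrrCharacter G, ¬ p ∣ charDegree (χ : G → ℂ) →
      (χ : G → ℂ) g = (χ : G → ℂ) 1} =
      ((N ⊔ ⁅(P : Subgroup G), (P : Subgroup G)⁆).normalCore : Set G) := by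
  ext g
  simp only [Set.mem_setOf_eq, SetLike.mem_coe]
  constructor
  · intro hg
    exact (Subgroup.normal_le_normalCore.mpr (kerPDeg_le P N hmax)) ((mem_kerPDeg g).mpr hg)
  · intro hg χ hχ
    exact ker_of_core P N hNC χ hχ g hg

end Cfsg.Agent.Lib.Helper1_KerPDeg
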