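import Mathlib

set_option autoImplicit false

namespace Cfsg.Agent.Lib.Helper5_Card

open Matrix

variable {F : Type*} [Field F] [Fintype F]

theorem range_toGL_eq_ker_det (n : ℕ) :
    (Matrix.SpecialLinearGroup.toGL : Matrix.SpecialLinearGroup (Fin n) F →* GL (Fin n) F).range =
      (Matrix.GeneralLinearGroup.det : GL (Fin n) F →* Fˣ).ker := by
  ext g
  constructor
  · rintro ⟨s, rfl⟩
    rw [MonoidHom.mem_ker]
    apply Units.ext
    simp
  · intro hg
    rw [MonoidHom.mem_ker] at hg
    have h1 : (g : Matrix (Fin n) (Fin n) F).det = 1 := by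
      have := congrArg Units.val hg
      simpa using this
    let s : Matrix.SpecialLinearGroup (Fin n) F := ⟨g, h1⟩
    exact ⟨s, Units.ext rfl⟩

theorem card_SL_mul (n : ℕ) (hn : 1 ≤ n) :
    Nat.card (Matrix.SpecialLinearGroup (Fin n) F) * (Fintype.card F - 1) = Nat.card (GL (Fin n) F) := by
  classical
  haveI : Nonempty (Fin n) := ⟨⟨0, by omega⟩⟩
  have h1 := Subgroup.card_mul_index (Matrix.GeneralLinearGroup.det : GL (Fin n) F →* Fˣ).ker
  rw [Subgroup.index_ker, ← range_toGL_eq_ker_det,
    MonoidHom.range_eq_top.2 Matrix.GeneralLinearGroup.det_surjective] at h1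
  rw [← h1]
  congr 1
  · exact Nat.card_congr (MonoidHom.ofInjective Matrix.SpecialLinearGroup.toGL_injective).toEquiv
  · rw [Nat.card_congr Subgroup.topEquiv.toEquiv, Nat.card_eq_fintype_card, Fintype.card_units]

theorem card_GL2 : Nat.card (GL (Fin 2) F) = (Fintype.card F ^ 2 - 1) * (Fintype.card F ^ 2 - Fintype.card F) := by
  rw [Matrix.card_GL_field]
  simp [Fin.prod_univ_two]

theorem card_SL2 : Nat.card (Matrix.SpecialLinearGroup (Fin 2) F) = Fintype.card F * (Fintype.card F ^ 2 - 1) := by
  have h1 := card_SL_mul (F := F) 2 (by norm_num)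
  rw [card_GL2] at h1
  have hq : 2 ≤ Fintype.card F := Fintype.one_lt_card
  have h2 : Fintype.card F ^ 2 - Fintype.card F = Fintype.card F * (Fintype.card F - 1) := by
    rw [Nat.mul_sub, mul_one, sq]
  rw [h2] at h1
  have h3 : 0 < Fintype.card F - 1 := by omega
  apply Nat.eq_of_mul_eq_mul_right h3
  rw [h1]; ring

/-- orbit-stabiliser for conjugacy classes, in `Nat.card` form. -/
theorem card_class_mul_card_centralizer {G : Type*} [Group G] [Finite G] (g : G) :
    Nat.card (ConjClasses.mk g).carrier * Nat.card (Subgroup.centralizer ({g} : Set G)) = Nat.card G := by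
  classical
  haveI : Fintype G := Fintype.ofFinite G
  haveI : Fintype (ConjAct G) := Fintype.ofFinite _
  have h1 := MulAction.card_orbit_mul_card_stabilizer_eq_card_group (ConjAct G) g
  rw [Subgroup.nat_card_centralizer_nat_card_stabilizer, ← ConjAct.orbit_eq_carrier_conjClasses,
    Nat.card_eq_fintype_card, Nat.card_eq_fintype_card, h1, ← Nat.card_eq_fintype_card]
  exact Nat.card_congr ConjAct.ofConjAct.toEquiv

end Cfsg.Agent.Lib.Helper5_Card
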