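import Mathlib
import Cfsg.Agent.Lib.Helper1_SZ
import Cfsg.Agent.Lib.Helper4_Syl
import Cfsg.Agent.S0004

set_option autoImplicit false

namespace Cfsg.Agent.Lib.Helper7_Idx

open Pointwise Cfsg.Agent.Lib.Helper4_Syl Cfsg.Agent.Lib.Helper1_SZ

variable {G : Type*} [Group G]

theorem index_inf_of_coprime [Finite G] (H K : Subgroup G) (h : H.index.Coprime K.index) :
    (H ⊓ K).index = H.index * K.index := by
  apply le_antisymm Subgroup.index_inf_le
  apply Nat.le_of_dvd (Nat.pos_of_ne_zero Subgroup.index_ne_zero_of_finite)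
  exact h.mul_dvd_of_dvd_of_dvd (Subgroup.index_dvd_of_le inf_le_left)
    (Subgroup.index_dvd_of_le inf_le_right)

theorem relIndex_eq_index_of_coprime [Finite G] (H K : Subgroup G) (h : H.index.Coprime K.index) :
    K.relIndex H = K.index := by
  have h1 := index_inf_of_coprime H K h
  have h2 := Subgroup.relIndex_mul_index (inf_le_left : H ⊓ K ≤ H)
  rw [Subgroup.inf_relIndex_left, h1, mul_comm] at h2
  exact Nat.eq_of_mul_eq_mul_left (Nat.pos_of_ne_zero Subgroup.index_ne_zero_of_finite) h2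

theorem exists_mul_of_relIndex_eq [Finite G] (H K : Subgroup G) (h : K.relIndex H = K.index)
    (g : G) : ∃ a ∈ H, ∃ b ∈ K, g = a * b := by
  let f : ↥H ⧸ K.subgroupOf H → G ⧸ K := Quotient.map' (fun a : H => (a : G)) (by
    intro a b hab
    rw [QuotientGroup.leftRel_apply] at hab ⊢
    exact hab)
  have hinj : Function.Injective f := by
    intro x y
    induction x using Quotient.inductionOn' with | _ a =>
    induction y using Quotient.inductionOn' with | _ b =>
    intro hxy
    have h1 : ((a : G) : G ⧸ K) = ((b : G) : G ⧸ K) := hxy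
    rw [QuotientGroup.eq] at h1
    exact QuotientGroup.eq.mpr h1
  have hbij : Function.Bijective f := by
    rw [Nat.bijective_iff_injective_and_card]
    exact ⟨hinj, h⟩
  obtain ⟨x, hx⟩ := hbij.2 (g : G ⧸ K)
  induction x using Quotient.inductionOn' with | _ a =>
  have h1 : ((a : G) : G ⧸ K) = (g : G ⧸ K) := hx
  rw [QuotientGroup.eq] at h1
  exact ⟨a, a.2, _, h1, by group⟩

theorem exists_mul_of_coprime_index [Finite G] (H K : Subgroup G) (h : H.index.Coprime K.index)
    (g : G) : ∃ a ∈ H, ∃ b ∈ K, g = a * b :=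
  exists_mul_of_relIndex_eq H K (relIndex_eq_index_of_coprime H K h) g

theorem relIndex_sup_of_normal [Finite G] (H N : Subgroup G) [N.Normal] :
    H.relIndex (H ⊔ N) = H.relIndex N := by
  have e1 : Nat.card (H ⊔ N : Subgroup G) = Nat.card N * N.relIndex H := card_sup_normal H N
  have e2 : Nat.card (H ⊓ N : Subgroup G) * N.relIndex H = Nat.card H := by
    rw [← Subgroup.inf_relIndex_left]; exact card_mul_relIndex inf_le_left
  have e3 : Nat.card (H ⊓ N : Subgroup G) * H.relIndex N = Nat.card N := by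
    rw [← Subgroup.inf_relIndex_right]; exact card_mul_relIndex inf_le_right
  have e4 : Nat.card H * H.relIndex (H ⊔ N) = Nat.card (H ⊔ N : Subgroup G) :=
    card_mul_relIndex le_sup_left
  have hpos : 0 < Nat.card H := Nat.card_pos
  apply Nat.eq_of_mul_eq_mul_left hpos
  rw [e4, e1, ← e3, ← e2]
  ring

theorem relIndex_dvd_index_of_normal_right [Finite G] (H N : Subgroup G) [N.Normal] :
    H.relIndex N ∣ H.index := by
  rw [← relIndex_sup_of_normal]
  exact Subgroup.relIndex_dvd_index_of_le le_sup_left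

theorem normal_le_of_coprime_index [Finite G] (H M : Subgroup G) [M.Normal]
    (h : (Nat.card M).Coprime H.index) : M ≤ H := by
  rw [← Subgroup.relIndex_eq_one]
  exact Nat.eq_one_of_dvd_coprimes h (Subgroup.relIndex_dvd_card H M)
    (relIndex_dvd_index_of_normal_right H M)

theorem relIndex_dvd_index_of_le_normalizer (H D : Subgroup G)
    (h : D ≤ Subgroup.normalizer (H : Set G)) : H.relIndex D ∣ H.index := by
  have h1 : (H.subgroupOf (Subgroup.normalizer (H : Set G))).relIndex
      (D.subgroupOf (Subgroup.normalizer (H : Set G))) = H.relIndex D :=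
    Subgroup.relIndex_subgroupOf h
  rw [← h1]
  refine (Subgroup.relIndex_dvd_index_of_normal _ _).trans ?_
  exact Subgroup.relIndex_dvd_index_of_le Subgroup.le_normalizer

theorem map_subtype_conj_smul {V : Subgroup G} (B' : Subgroup V) (v : V) :
    (MulAut.conj v • B').map V.subtype = MulAut.conj (v : G) • (B'.map V.subtype) := by
  ext x
  rw [mem_conj_smul]
  constructor
  · rintro ⟨y, hy, rfl⟩
    have hy' : y ∈ MulAut.conj v • B' := hy
    rw [mem_conj_smul] at hy'
    exact ⟨_, hy', by simp⟩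
  · rintro ⟨y, hy, hyx⟩
    refine ⟨v * y * v⁻¹, conj_mem_conj_smul hy, ?_⟩
    simp only [Subgroup.subtype_apply, Subgroup.coe_mul, Subgroup.coe_inv] at hyx ⊢
    rw [hyx]; group

/-- relative Hall conjugacy -/
theorem hall_conj_rel [Finite G] (L H₁ H₂ : Subgroup G) [Group.IsSolvable L] (h₁ : H₁ ≤ L)
    (h₂ : H₂ ≤ L) (hc : Nat.card H₁ = Nat.card H₂) (hcop : (Nat.card H₁).Coprime (H₁.relIndex L)) :
    ∃ l ∈ L, MulAut.conj l • H₁ = H₂ := by
  have e1 : Nat.card (H₁.subgroupOf L) = Nat.card H₁ := Cfsg.Agent.Lib.Helper1_Basic.card_subgroupOf_of_le h₁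
  have e2 : Nat.card (H₂.subgroupOf L) = Nat.card H₁ := by
    rw [Cfsg.Agent.Lib.Helper1_Basic.card_subgroupOf_of_le h₂, hc]
  obtain ⟨l, hl⟩ := Cfsg.Agent.S0004.result (G := L) (Nat.card H₁) (H₁.relIndex L)
    (card_mul_relIndex h₁).symm hcop (H₁.subgroupOf L) (H₂.subgroupOf L) e1 e2
  refine ⟨l, l.2, ?_⟩
  have := congrArg (Subgroup.map L.subtype) hl
  rwa [map_subtype_conj_smul, Subgroup.map_subgroupOf_eq_of_le h₁,
    Subgroup.map_subgroupOf_eq_of_le h₂] at this

end Cfsg.Agent.Lib.Helper7_Idx
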