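import Mathlib
import Cfsg.Prelude.Def_Blocks
import Cfsg.Agent.Lib.Helper2_BlockOrtho
import Cfsg.Agent.Lib.Helper2_BlockThird
import Cfsg.Agent.Lib.helper8_DefectZero
import Cfsg.Agent.Lib.CharBurnside
import Cfsg.Agent.Lib.CharLinear
import Cfsg.Agent.Lib.CharThompson
import Cfsg.Agent.Lib.Helper1_KerPDeg
import Cfsg.Agent.Lib.Helper7_Idx
import Cfsg.Agent.Lib.Helper4_Core
import Cfsg.Agent.Lib.Helper2_PPart
import Cfsg.Agent.Lib.Helper5_Card

/-! Kazarin's theorem on elements of prime power index, through the principal `q`-blocks. -/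

set_option autoImplicit false

namespace Cfsg.Agent.Lib.Helper1_Kazarin

open Cfsg Cfsg.Agent.Lib.CharBasic Cfsg.Agent.Lib.CharOrtho Cfsg.Agent.Lib.CharComplete
  Cfsg.Agent.Lib.CharMore Cfsg.Agent.Lib.CharBurnside Cfsg.Agent.Lib.CharLinear
  Cfsg.Agent.Lib.Helper2_BlockLocal Cfsg.Agent.Lib.Helper2_BlockOrtho
  Cfsg.Agent.Lib.Helper2_BlockThird
open scoped ComplexConjugate
open Module

universe u

variable {G : Type u} [Group G] [Fintype G]

theorem hom_isIntegral (f : G →* ℂˣ) (g : G) : IsIntegral ℤ ((f g : ℂˣ) : ℂ) := by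
  have h1 : ((f g : ℂˣ) : ℂ) ^ orderOf g = 1 := by
    rw [← Units.val_pow_eq_pow_val, ← map_pow, pow_orderOf_eq_one, map_one, Units.val_one]
  exact IsIntegral.of_pow (orderOf_pos g) (by rw [h1]; exact isIntegral_one)

/-- The linear characters of the principal block, as a subgroup of the dual group. -/
def Lam (M : Ideal AlgInt) (hP : M.IsPrime) : Subgroup (G →* ℂˣ) where
  carrier := {f | ∀ g : G, MemLocalIdeal M
    (((Subgroup.centralizer ({g} : Set G)).index : ℂ) * (1 - ((f g : ℂˣ) : ℂ)))}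
  one_mem' := by
    intro g
    simpa using ideal_zero hP
  mul_mem' := by
    intro a b ha hb g
    have e : ((Subgroup.centralizer ({g} : Set G)).index : ℂ) * (1 - (((a * b) g : ℂˣ) : ℂ)) =
        ((Subgroup.centralizer ({g} : Set G)).index : ℂ) * (1 - ((a g : ℂˣ) : ℂ)) +
        ((a g : ℂˣ) : ℂ) * (((Subgroup.centralizer ({g} : Set G)).index : ℂ) *
          (1 - ((b g : ℂˣ) : ℂ))) := by
      rw [MonoidHom.mul_apply, Units.val_mul]; ring
    rw [e]
    exact ideal_add hP (ha g) (ideal_mul_left hP (ring_of_isIntegral hP (hom_isIntegral a g)) (hb g))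
  inv_mem' := by
    intro a ha g
    have h0 : ((a g : ℂˣ) : ℂ) ≠ 0 := Units.ne_zero _
    have e : ((Subgroup.centralizer ({g} : Set G)).index : ℂ) * (1 - (((a⁻¹) g : ℂˣ) : ℂ)) =
        -((((a⁻¹) g : ℂˣ) : ℂ) * (((Subgroup.centralizer ({g} : Set G)).index : ℂ) *
          (1 - ((a g : ℂˣ) : ℂ)))) := by
      rw [MonoidHom.inv_apply, Units.val_inv_eq_inv_val]; field_simp; ring
    rw [e]
    exact ideal_neg (ideal_mul_left hP (ring_of_isIntegral hP (hom_isIntegral a⁻¹ g)) (ha g))

theorem mem_Lam {M : Ideal AlgInt} (hP : M.IsPrime) (f : G →* ℂˣ) :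
    f ∈ Lam (G := G) M hP ↔ ∀ g : G, MemLocalIdeal M
    (((Subgroup.centralizer ({g} : Set G)).index : ℂ) * (1 - ((f g : ℂˣ) : ℂ))) := Iff.rfl

instance : Finite (G →* ℂˣ) := Finite.of_equiv _ (linearEquiv (G := G))

/-- If `G` is generated by `p'`-elements, the order of `Lam` is prime to `p`. -/
theorem not_dvd_card_Lam {p : ℕ} (hp : p.Prime) {M : Ideal AlgInt} (hP : M.IsPrime) (T : Set G)
    (hT : ∀ t ∈ T, ¬ p ∣ orderOf t) (hgen : Subgroup.closure T = ⊤) :
    ¬ p ∣ Nat.card (Lam (G := G) M hP) := by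
  intro hdv
  haveI := Fact.mk hp
  obtain ⟨f, hf⟩ := exists_prime_orderOf_dvd_card' p hdv
  have h1 : (f : G →* ℂˣ) ^ p = 1 := by
    have := pow_orderOf_eq_one f
    rw [hf] at this
    have h2 := congrArg Subtype.val this
    simpa using h2
  have h2 : (f : G →* ℂˣ) = 1 := by
    have h3 : Subgroup.closure T ≤ (f : G →* ℂˣ).ker := by
      rw [Subgroup.closure_le]
      intro t ht
      rw [SetLike.mem_coe, MonoidHom.mem_ker]
      have h4 : ((f : G →* ℂˣ) t) ^ p = 1 := by
        have := DFunLike.congr_fun h1 t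
        simpa using this
      have h5 : ((f : G →* ℂˣ) t) ^ orderOf t = 1 := by
        rw [← map_pow, pow_orderOf_eq_one, map_one]
      have h6 : Nat.Coprime p (orderOf t) := (Nat.Prime.coprime_iff_not_dvd hp).mpr (hT t ht)
      have h7 := orderOf_dvd_of_pow_eq_one h4
      have h8 := orderOf_dvd_of_pow_eq_one h5
      have h9 := Nat.dvd_gcd h7 h8
      rw [h6] at h9
      exact orderOf_eq_one_iff.mp (Nat.dvd_one.mp h9)
    rw [hgen] at h3
    ext g
    have := h3 (Subgroup.mem_top g)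
    rw [MonoidHom.mem_ker] at this
    rw [this]; rfl
  have h3 : f = 1 := Subtype.ext h2
  rw [h3, orderOf_one] at hf
  exact hp.one_lt.ne hf

/-- A character of degree prime to `p` in the principal `q`-block is linear, if `G` is generated
by elements of `p`-power index. -/
theorem linear_of_block {p q : ℕ} (hp : p.Prime) (hpq : q ≠ p) {M : Ideal AlgInt}
    (hM : IsPModular q M) (χ : IrrCharacter G) (hχ : χ ∈ principalBlock M G)
    (hdeg : ¬ p ∣ charDegree (χ : G → ℂ)) (T : Set G)
    (hT : ∀ t ∈ T, ∃ a : ℕ, (Subgroup.centralizer ({t} : Set G)).index = p ^ a)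
    (hgen : Subgroup.closure T = ⊤) : (χ : G → ℂ) 1 = 1 := by
  have hP := isPrime_of_modular hM
  have d1 := Cfsg.Agent.Lib.CharThompson.charDegree_spec χ.2
  have hirr := χ.2
  obtain ⟨χ, n, ρ, hρ, rfl⟩ := χ
  haveI := hρ
  simp only at hdeg d1 hirr ⊢
  have hfr : finrank ℂ (Fin n → ℂ) = charDegree ρ.character := by
    have : ((finrank ℂ (Fin n → ℂ) : ℕ) : ℂ) = (charDegree ρ.character : ℂ) := by
      rw [← d1, Representation.char_one]
    exact_mod_cast this
  have hsc : ∀ t ∈ T, ‖ρ.character t‖ = (finrank ℂ (Fin n → ℂ) : ℝ) := by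
    intro t ht
    obtain ⟨a, ha⟩ := hT t ht
    have hcop : Nat.Coprime (finrank ℂ (Fin n → ℂ)) (Subgroup.centralizer ({t} : Set G)).index := by
      rw [hfr, ha]
      exact Nat.Coprime.pow_right _ ((Nat.Prime.coprime_iff_not_dvd hp).mpr hdeg).symm
    rcases vanish_or_scalar ρ t hcop with h0 | h1
    · exfalso
      have h2 : MemLocalIdeal M (centralChar (fun _ : G => (1 : ℂ)) t -
        centralChar ρ.character t) := hχ t
      unfold centralChar at h2
      rw [h0, ha] at h2
      have h3 : MemLocalIdeal M ((p ^ a : ℕ) : ℂ) := by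
        simpa using h2
      rw [ideal_natCast_iff hM] at h3
      exact hpq ((Nat.prime_dvd_prime_iff_eq hM.1 hp).mp (hM.1.dvd_of_dvd_pow h3))
    · exact h1
  have hall : ∀ g : G, ‖ρ.character g‖ = (finrank ℂ (Fin n → ℂ) : ℝ) := by
    intro g
    have hg : g ∈ Subgroup.closure T := hgen ▸ Subgroup.mem_top g
    induction hg using Subgroup.closure_induction with
    | mem x hx => exact hsc x hx
    | one => rw [Representation.char_one]; simp
    | mul x y _ _ hx hy =>
      obtain ⟨a, ha⟩ := (char_norm_eq_iff ρ x).mp hx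
      obtain ⟨b, hb⟩ := (char_norm_eq_iff ρ y).mp hy
      refine (char_norm_eq_iff ρ (x * y)).mpr ⟨a * b, ?_⟩
      rw [map_mul, ha, hb]
      ext v
      simp [mul_smul]
      ring
    | inv x _ hx =>
      rw [char_inv, RCLike.norm_conj]
      exact hx
  have h1 := classInner_irr_self hirr
  unfold classInner at h1
  have h2 : ∀ g : G, ρ.character g * conj (ρ.character g) = ((finrank ℂ (Fin n → ℂ) : ℕ) : ℂ) ^ 2 := by
    intro g
    rw [Complex.mul_conj, Complex.normSq_eq_norm_sq, hall g]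
    push_cast; rfl
  rw [Finset.sum_congr rfl (fun g _ => h2 g), Finset.sum_const, Finset.card_univ,
    Nat.card_eq_fintype_card, nsmul_eq_mul] at h1
  have h3 : (Fintype.card G : ℂ) ≠ 0 := by exact_mod_cast Fintype.card_ne_zero
  rw [← mul_assoc, inv_mul_cancel₀ h3, one_mul] at h1
  have h4 : (finrank ℂ (Fin n → ℂ)) ^ 2 = 1 := by exact_mod_cast h1
  have h5 : finrank ℂ (Fin n → ℂ) = 1 := by
    rcases Nat.eq_zero_or_pos (finrank ℂ (Fin n → ℂ)) with h | h
    · rw [h] at h4; simp at h4
    · nlinarith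
  rw [Representation.char_one, h5]; simp

theorem mem_block_iff {M : Ideal AlgInt} (hP : M.IsPrime)
    (a : {χ : IrrCharacter G // (χ : G → ℂ) 1 = 1}) :
    a.1 ∈ principalBlock M G ↔ linearEquiv a ∈ Lam (G := G) M hP := by
  rw [mem_Lam]
  have e : ∀ g : G, centralChar (fun _ : G => (1 : ℂ)) g - centralChar (a.1 : G → ℂ) g =
      ((Subgroup.centralizer ({g} : Set G)).index : ℂ) * (1 - ((linearEquiv a g : ℂˣ) : ℂ)) := by
    intro g
    have h1 : ((linearEquiv a g : ℂˣ) : ℂ) = (a.1 : G → ℂ) g := rfl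
    unfold centralChar
    rw [h1, a.2]
    ring
  constructor
  · intro h g
    rw [← e g]
    exact h g
  · intro h g
    rw [e g]
    exact h g

open Classical in
theorem card_Lam {M : Ideal AlgInt} (hP : M.IsPrime) :
    Nat.card (Lam (G := G) M hP) =
      ((Finset.univ.filter (fun χ : IrrCharacter G => χ ∈ principalBlock M G)).filter
        (fun χ : IrrCharacter G => (χ : G → ℂ) 1 = 1)).card := by
  have e1 := (linearEquiv (G := G)).subtypeEquiv (p := fun a => a.1 ∈ principalBlock M G)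
    (q := fun f => f ∈ Lam (G := G) M hP) (mem_block_iff hP)
  have e2 := Equiv.subtypeSubtypeEquivSubtypeInter (fun χ : IrrCharacter G => (χ : G → ℂ) 1 = 1)
    (fun χ : IrrCharacter G => χ ∈ principalBlock M G)
  have h1 : Nat.card (Lam (G := G) M hP) =
      Nat.card {χ : IrrCharacter G // (χ : G → ℂ) 1 = 1 ∧ χ ∈ principalBlock M G} :=
    Nat.card_congr (e1.symm.trans e2)
  rw [h1, Nat.card_eq_fintype_card, Fintype.card_subtype, Finset.filter_filter]
  congr 1
  ext χ
  simp only [Finset.mem_filter, Finset.mem_univ, true_and]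
  tauto

/-- The generated case: the derived subgroup is a `p`-group. -/
theorem not_dvd_card_commutator {p : ℕ} (hp : p.Prime) (T : Set G)
    (hT1 : ∀ t ∈ T, ¬ p ∣ orderOf t)
    (hT : ∀ t ∈ T, ∃ a : ℕ, (Subgroup.centralizer ({t} : Set G)).index = p ^ a)
    (hgen : Subgroup.closure T = ⊤) (q : ℕ) (hq : q.Prime) (hpq : q ≠ p) :
    ¬ q ∣ Nat.card (commutator G) := by
  classical
  intro hdv
  haveI := Fact.mk hq
  obtain ⟨y, hy⟩ := exists_prime_orderOf_dvd_card' q hdv
  obtain ⟨M, hM⟩ := Cfsg.Agent.Lib.helper8_DefectZero.exists_modular hq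
  obtain ⟨M', hM'⟩ := Cfsg.Agent.Lib.helper8_DefectZero.exists_modular hp
  have hP := isPrime_of_modular hM
  have hP' := isPrime_of_modular hM'
  have hyo : orderOf (y : G) = q := by rw [Subgroup.orderOf_coe]; exact hy
  have h0 := weak_block_orthogonality hM (principalBlock_isPBlock M G) (x := 1) (y := (y : G))
    (by rw [orderOf_one]; exact fun h => hq.one_lt.ne' (Nat.dvd_one.mp h)) (by rw [hyo])
  rw [← Finset.sum_filter_add_sum_filter_not _ (fun χ : IrrCharacter G => (χ : G → ℂ) 1 = 1)] at h0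
  have h1 : ∑ χ ∈ (Finset.univ.filter (fun χ : IrrCharacter G => χ ∈ principalBlock M G)).filter
      (fun χ : IrrCharacter G => (χ : G → ℂ) 1 = 1), (χ : G → ℂ) 1 * (χ : G → ℂ) (y : G) =
      (Nat.card (Lam (G := G) M hP) : ℂ) := by
    rw [card_Lam hP, Finset.card_eq_sum_ones, Nat.cast_sum]
    refine Finset.sum_congr rfl fun χ hχ => ?_
    have h2 := (Finset.mem_filter.mp hχ).2
    rw [h2, Cfsg.Agent.Lib.Helper1_KerPDeg.linear_commutator (isCharacter_of_isIrr χ.2) h2 y y.2]
    simp
  have h2 : MemLocalIdeal M' (∑ χ ∈ (Finset.univ.filter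
      (fun χ : IrrCharacter G => χ ∈ principalBlock M G)).filter
      (fun χ : IrrCharacter G => ¬ (χ : G → ℂ) 1 = 1), (χ : G → ℂ) 1 * (χ : G → ℂ) (y : G)) := by
    refine ideal_sum hP' _ _ fun χ hχ => ?_
    have h3 := Finset.mem_filter.mp hχ
    have h4 := (Finset.mem_filter.mp h3.1).2
    have h5 : p ∣ charDegree (χ : G → ℂ) := by
      by_contra hcon
      exact h3.2 (linear_of_block hp hpq hM χ h4 hcon T hT hgen)
    rw [Cfsg.Agent.Lib.CharThompson.charDegree_spec χ.2]
    exact ideal_mul_right hP' ((ideal_natCast_iff hM' _).mpr h5)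
      (ring_of_isIntegral hP' (Cfsg.Agent.Lib.helper8_Defect.isIntegral_of_isCharacter
        (isCharacter_of_isIrr χ.2) _))
  rw [h1] at h0
  have h3 : MemLocalIdeal M' (Nat.card (Lam (G := G) M hP) : ℂ) := by
    have := ideal_neg h2
    rwa [← eq_neg_of_add_eq_zero_left h0] at this
  rw [ideal_natCast_iff hM'] at h3
  exact not_dvd_card_Lam hp hP T hT1 hgen h3

section group

variable {X : Type u} [Group X] {p : ℕ}

/-- The `p'`-elements of `p`-power index. -/
def TT (p : ℕ) (X : Type u) [Group X] : Set X :=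
  {t | ¬ p ∣ orderOf t ∧ ∃ a : ℕ, (Subgroup.centralizer ({t} : Set X)).index = p ^ a}

theorem TT_conj [Finite X] {t : X} (ht : t ∈ TT p X) (g : X) : g * t * g⁻¹ ∈ TT p X := by
  refine ⟨?_, ?_⟩
  · have : orderOf (g * t * g⁻¹) = orderOf t := by
      have := (MulAut.conj g).orderOf_eq t
      simpa using this
    rw [this]; exact ht.1
  · obtain ⟨a, ha⟩ := ht.2
    refine ⟨a, ?_⟩
    rw [← ha]
    exact (Cfsg.Agent.Lib.Helper2_BlockOm.index_centralizer_conj (isConj_iff.mpr ⟨g, rfl⟩)).symm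

theorem closure_TT_normal [Finite X] : (Subgroup.closure (TT p X)).Normal := by
  constructor
  intro n hn g
  induction hn using Subgroup.closure_induction with
  | mem x hx => exact Subgroup.subset_closure (TT_conj hx g)
  | one => simp
  | mul x y _ _ hx hy =>
    have : g * (x * y) * g⁻¹ = (g * x * g⁻¹) * (g * y * g⁻¹) := by group
    rw [this]; exact mul_mem hx hy
  | inv x _ hx =>
    have : g * x⁻¹ * g⁻¹ = (g * x * g⁻¹)⁻¹ := by group
    rw [this]; exact inv_mem hx

theorem pow_of_dvd_pow (hp : p.Prime) {n a : ℕ} (h : n ∣ p ^ a) : ∃ b : ℕ, n = p ^ b := by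
  obtain ⟨b, -, hb⟩ := (Nat.dvd_prime_pow hp).mp h
  exact ⟨b, hb⟩

/-- The subgroup generated by the `p'`-elements of `p`-power index has a `p`-group as derived
subgroup. -/
theorem commutator_closure_TT [Finite X] (hp : p.Prime) :
    IsPGroup p (commutator ↥(Subgroup.closure (TT p X))) := by
  haveI := closure_TT_normal (X := X) (p := p)
  haveI : Fintype ↥(Subgroup.closure (TT p X)) := Fintype.ofFinite _
  have hgen : Subgroup.closure (((↑) : Subgroup.closure (TT p X) → X) ⁻¹' (TT p X)) = ⊤ :=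
    Subgroup.closure_closure_coe_preimage
  have h1 : ∀ t ∈ (((↑) : Subgroup.closure (TT p X) → X) ⁻¹' (TT p X)), ¬ p ∣ orderOf t := by
    intro t ht
    rw [← Subgroup.orderOf_coe]
    exact ht.1
  have h2 : ∀ t ∈ (((↑) : Subgroup.closure (TT p X) → X) ⁻¹' (TT p X)),
      ∃ a : ℕ, (Subgroup.centralizer ({t} : Set ↥(Subgroup.closure (TT p X)))).index = p ^ a := by
    intro t ht
    obtain ⟨a, ha⟩ := ht.2
    have e : Subgroup.centralizer ({t} : Set ↥(Subgroup.closure (TT p X))) =
        (Subgroup.centralizer ({(t : X)} : Set X)).subgroupOf (Subgroup.closure (TT p X)) := by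
      ext z
      simp only [Subgroup.mem_centralizer_singleton_iff, Subgroup.mem_subgroupOf, Subtype.ext_iff,
        Subgroup.coe_mul]
    rw [e]
    apply pow_of_dvd_pow hp (a := a)
    rw [← ha]
    exact Cfsg.Agent.Lib.Helper7_Idx.relIndex_dvd_index_of_normal_right _ _
  have h3 := not_dvd_card_commutator hp _ h1 h2 hgen
  have h4 : Nat.card (commutator ↥(Subgroup.closure (TT p X))) =
      p ^ (Nat.card (commutator ↥(Subgroup.closure (TT p X)))).primeFactorsList.length := by
    apply Nat.eq_prime_pow_of_unique_prime_dvd Nat.card_pos.ne'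
    intro d hd hdv
    by_contra hne
    exact h3 d hd hne hdv
  exact IsPGroup.of_card h4

theorem commutator_le_pCore [Finite X] (hp : p.Prime) :
    ⁅Subgroup.closure (TT p X), Subgroup.closure (TT p X)⁆ ≤ pCore p X := by
  haveI := closure_TT_normal (X := X) (p := p)
  apply Cfsg.Agent.Lib.Helper4_Core.le_pCore inferInstance
  rw [← Subgroup.map_subtype_commutator]
  exact (commutator_closure_TT hp).map _

theorem index_pow (hp : p.Prime) {x : X} {a : ℕ}
    (hx : (Subgroup.centralizer ({x} : Set X)).index = p ^ a) (k : ℕ) :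
    ∃ b : ℕ, (Subgroup.centralizer ({x ^ k} : Set X)).index = p ^ b := by
  apply pow_of_dvd_pow hp (a := a)
  rw [← hx]
  apply Subgroup.index_dvd_of_le
  intro z hz
  rw [Subgroup.mem_centralizer_singleton_iff] at hz ⊢
  exact ((Commute.pow_right (show Commute z x from hz) k)).eq

/-- A `p`-element of `p`-power index lies in `O_p`. -/
theorem pElement_mem_pCore [Finite X] [hp : Fact p.Prime] {u : X} {s a : ℕ} (hu : u ^ (p ^ s) = 1)
    (hidx : (Subgroup.centralizer ({u} : Set X)).index = p ^ a) : u ∈ pCore p X := by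
  have h1 : IsPGroup p (Subgroup.zpowers u) := by
    obtain ⟨k, hk⟩ := Cfsg.Agent.Lib.Helper2_PPart.orderOf_eq_pow_of_pow_eq_one hp.out hu
    apply IsPGroup.of_card (n := k)
    rw [Nat.card_zpowers, hk]
  obtain ⟨P, hP⟩ := h1.exists_le_sylow
  have huP : u ∈ (P : Subgroup X) := hP (Subgroup.mem_zpowers u)
  have hcop : (P : Subgroup X).index.Coprime (Subgroup.centralizer ({u} : Set X)).index := by
    rw [hidx]
    exact Nat.Coprime.pow_right _ ((Nat.Prime.coprime_iff_not_dvd hp.out).mpr P.not_dvd_index).symm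
  have h2 : Subgroup.normalClosure ({u} : Set X) ≤ (P : Subgroup X) := by
    unfold Subgroup.normalClosure
    rw [Subgroup.closure_le]
    intro w hw
    rw [Group.mem_conjugatesOfSet_iff] at hw
    obtain ⟨v, hv, hc⟩ := hw
    rw [Set.mem_singleton_iff] at hv
    subst hv
    obtain ⟨g, rfl⟩ := isConj_iff.mp hc
    obtain ⟨a, ha, b, hb, rfl⟩ := Cfsg.Agent.Lib.Helper7_Idx.exists_mul_of_coprime_index _ _ hcop g
    rw [Subgroup.mem_centralizer_singleton_iff] at hb
    have e : a * b * v * (a * b)⁻¹ = a * v * a⁻¹ := by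
      calc a * b * v * (a * b)⁻¹ = a * (b * v) * b⁻¹ * a⁻¹ := by group
        _ = a * (v * b) * b⁻¹ * a⁻¹ := by rw [hb]
        _ = a * v * a⁻¹ := by group
    rw [e]
    exact mul_mem (mul_mem ha huP) (inv_mem ha)
  exact Cfsg.Agent.Lib.Helper4_Core.le_pCore Subgroup.normalClosure_normal (P.2.to_le h2)
    (Subgroup.subset_normalClosure (Set.mem_singleton u))

/-- Elements of `p`-power index commute modulo `O_p`. -/
theorem comm_mem_pCore [Finite X] [hp : Fact p.Prime] {x y : X} {a b : ℕ}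
    (hx : (Subgroup.centralizer ({x} : Set X)).index = p ^ a)
    (hy : (Subgroup.centralizer ({y} : Set X)).index = p ^ b) :
    x * y * x⁻¹ * y⁻¹ ∈ pCore p X := by
  haveI := Cfsg.pCore_normal p X
  obtain ⟨a1, b1, s1, h1, h2, h3⟩ := Cfsg.Agent.Lib.Helper2_PPart.exists_parts hp.out x
  obtain ⟨a2, b2, s2, k1, k2, k3⟩ := Cfsg.Agent.Lib.Helper2_PPart.exists_parts hp.out y
  obtain ⟨c1, hc1⟩ := index_pow hp.out hx a1
  obtain ⟨c2, hc2⟩ := index_pow hp.out hy a2
  have u1 := pElement_mem_pCore h2 hc1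
  have u2 := pElement_mem_pCore k2 hc2
  have v1 : x ^ b1 ∈ Subgroup.closure (TT p X) :=
    Subgroup.subset_closure ⟨h3, index_pow hp.out hx b1⟩
  have v2 : y ^ b2 ∈ Subgroup.closure (TT p X) :=
    Subgroup.subset_closure ⟨k3, index_pow hp.out hy b2⟩
  have w := commutator_le_pCore hp.out (Subgroup.commutator_mem_commutator v1 v2)
  rw [commutatorElement_def] at w
  rw [← QuotientGroup.eq_one_iff] at u1 u2 w ⊢
  have ex : ((x : X) : X ⧸ pCore p X) = ((x ^ b1 : X) : X ⧸ pCore p X) := by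
    conv_lhs => rw [← h1]
    rw [QuotientGroup.mk_mul, u1, one_mul]
  have ey : ((y : X) : X ⧸ pCore p X) = ((y ^ b2 : X) : X ⧸ pCore p X) := by
    conv_lhs => rw [← k1]
    rw [QuotientGroup.mk_mul, u2, one_mul]
  simp only [QuotientGroup.mk_mul, QuotientGroup.mk_inv] at w ⊢
  rw [ex, ey]
  exact w

theorem ncard_carrier [Finite X] (x : X) :
    (ConjClasses.mk x).carrier.ncard = (Subgroup.centralizer ({x} : Set X)).index := by
  have h1 := Cfsg.Agent.Lib.Helper5_Card.card_class_mul_card_centralizer x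
  have h2 := (Subgroup.centralizer ({x} : Set X)).card_mul_index
  rw [Nat.card_coe_set_eq] at h1
  rw [← h2, mul_comm] at h1
  exact Nat.eq_of_mul_eq_mul_left Nat.card_pos h1

end group

end Cfsg.Agent.Lib.Helper1_Kazarin
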