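import Mathlib

set_option autoImplicit false

namespace Cfsg.Agent.Lib.Helper7_SylCount

open MulAction

universe u

variable {G : Type u} [Group G] {p : ℕ}

/-- two Sylow subgroups of `G` inside a subgroup `L` are conjugate by an element of `L`. -/
theorem conj_in_sub [Finite G] [Fact p.Prime] (L : Subgroup G) (P Q : Sylow p G)
    (hPL : (P : Subgroup G) ≤ L) (hQL : (Q : Subgroup G) ≤ L) : ∃ l ∈ L, l • P = Q := by
  obtain ⟨l, hl⟩ := MulAction.exists_smul_eq L (P.subtype hPL) (Q.subtype hQL)
  rw [Sylow.smul_subtype] at hl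
  refine ⟨l, l.2, ?_⟩
  have h1 : (((l • P : Sylow p G).subtype (Sylow.smul_le hPL l) : Sylow p L) : Subgroup L) =
      ((Q.subtype hQL : Sylow p L) : Subgroup L) := congrArg _ hl
  apply Sylow.ext
  have h2 : ((l • P : Sylow p G) : Subgroup G).subgroupOf L =
      (Q : Subgroup G).subgroupOf L := h1
  have h3 := congrArg (Subgroup.map L.subtype) h2
  rw [Subgroup.subgroupOf_map_subtype, Subgroup.subgroupOf_map_subtype,
    inf_eq_left.mpr (Sylow.smul_le hPL l), inf_eq_left.mpr hQL] at h3
  exact h3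

theorem relIndex_normalizer_eq (H : Subgroup G) (P : Sylow p G) :
    (Subgroup.normalizer ((P : Subgroup G) : Set G)).relIndex H = (orbit H P).ncard := by
  rw [← MulAction.index_stabilizer, Subgroup.relIndex]
  congr 1
  ext h
  rw [Subgroup.mem_subgroupOf, MulAction.mem_stabilizer_iff]
  exact (Sylow.smul_eq_iff_mem_normalizer (g := (h : G)) (P := P)).symm

theorem orbit_eq_of_sup [Finite G] [Fact p.Prime] (K : Subgroup G) [K.Normal] (P : Sylow p G)
    (M : Subgroup G) (hKM : K ≤ M)
    (hM : M ≤ Subgroup.normalizer (((P : Subgroup G) ⊔ K : Subgroup G) : Set G)) :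
    orbit M P = orbit K P := by
  ext Q
  constructor
  · rintro ⟨g, rfl⟩
    have hg := hM g.2
    have hPL : (P : Subgroup G) ≤ (P : Subgroup G) ⊔ K := le_sup_left
    have hQL : ((g • P : Sylow p G) : Subgroup G) ≤ (P : Subgroup G) ⊔ K := by
      intro y hy
      change y ∈ (((g : G) • P : Sylow p G) : Subgroup G) at hy
      rw [Sylow.coe_subgroup_smul] at hy
      obtain ⟨x, hx, rfl⟩ := hy
      exact (Subgroup.mem_normalizer_iff.mp hg x).1 (hPL hx)
    obtain ⟨l, hl, hlP⟩ := conj_in_sub _ P (g • P) hPL hQL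
    have hlmem : l ∈ (((P : Subgroup G) ⊔ K : Subgroup G) : Set G) := hl
    rw [sup_comm, Subgroup.normal_mul] at hlmem
    obtain ⟨k, hk, x, hx, hkx⟩ := Set.mem_mul.mp hlmem
    refine ⟨⟨k, hk⟩, ?_⟩
    show k • P = g • P
    rw [← hlP, ← hkx, mul_smul]
    congr 1
    exact (Sylow.smul_eq_iff_mem_normalizer.mpr (Subgroup.le_normalizer hx)).symm
  · rintro ⟨k, rfl⟩
    exact ⟨⟨k, hKM k.2⟩, rfl⟩

/-- `n_p(G) = n_p(G/K) · |K : N_K(P)|`. -/
theorem card_sylow_eq_mul [Finite G] [Fact p.Prime] (K : Subgroup G) [K.Normal] (P : Sylow p G) :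
    Nat.card (Sylow p G) = Nat.card (Sylow p (G ⧸ K)) * (orbit K P).ncard := by
  set L := (P : Subgroup G) ⊔ K with hL
  set NL := Subgroup.normalizer (L : Set G) with hNL
  have h1 : Nat.card (Sylow p (G ⧸ K)) = NL.index := by
    have e1 : Nat.card (Sylow p (G ⧸ K)) = (Subgroup.normalizer
        ((((P.mapSurjective (QuotientGroup.mk'_surjective K) : Sylow p (G ⧸ K)) :
          Subgroup (G ⧸ K))) : Set (G ⧸ K))).index :=
      Sylow.card_eq_index_normalizer (P.mapSurjective (QuotientGroup.mk'_surjective K))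
    rw [e1, ← Subgroup.index_comap_of_surjective _ (QuotientGroup.mk'_surjective K),
      Subgroup.comap_normalizer_eq_of_surjective _ (QuotientGroup.mk'_surjective K)]
    congr 2
    rw [Sylow.coe_mapSurjective, Subgroup.comap_map_eq, QuotientGroup.ker_mk']
  have h2 : Subgroup.normalizer ((P : Subgroup G) : Set G) ≤ NL := by
    intro g hg
    rw [hNL, Subgroup.mem_normalizer_iff]
    have key : ∀ g : G, g ∈ Subgroup.normalizer ((P : Subgroup G) : Set G) →
        ∀ x ∈ L, g * x * g⁻¹ ∈ L := by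
      intro g hg x hx
      have hx' : x ∈ ((L : Subgroup G) : Set G) := hx
      rw [hL, Subgroup.mul_normal] at hx'
      obtain ⟨a, ha, k, hk, rfl⟩ := Set.mem_mul.mp hx'
      have e : g * (a * k) * g⁻¹ = (g * a * g⁻¹) * (g * k * g⁻¹) := by group
      rw [e]
      exact L.mul_mem (Subgroup.mem_sup_left ((Subgroup.mem_normalizer_iff.mp hg a).1 ha))
        (Subgroup.mem_sup_right (Subgroup.Normal.conj_mem inferInstance k hk g))
    intro x
    constructor
    · exact key g hg x
    · intro hx
      have := key g⁻¹ (Subgroup.inv_mem _ hg) _ hx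
      simpa [mul_assoc] using this
  have h3 : K ≤ NL := (le_sup_right : K ≤ L).trans Subgroup.le_normalizer
  have e0 : Nat.card (Sylow p G) = (Subgroup.normalizer ((P : Subgroup G) : Set G)).index :=
    Sylow.card_eq_index_normalizer P
  rw [e0, ← Subgroup.relIndex_mul_index h2, h1,
    relIndex_normalizer_eq, orbit_eq_of_sup K P NL h3 le_rfl, mul_comm]

/-- the number of Sylow subgroups of a subgroup containing `P`. -/
theorem card_sylow_sub [Finite G] [Fact p.Prime] (H : Subgroup G) (P : Sylow p G)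
    (hPH : (P : Subgroup G) ≤ H) : Nat.card (Sylow p H) = (orbit H P).ncard := by
  have e0 : Nat.card (Sylow p H) = (Subgroup.normalizer
      ((((P.subtype hPH : Sylow p H) : Subgroup H)) : Set H)).index :=
    Sylow.card_eq_index_normalizer (P.subtype hPH)
  rw [e0, ← relIndex_normalizer_eq, Subgroup.relIndex, Subgroup.subgroupOf_normalizer_eq hPH]
  rfl

end Cfsg.Agent.Lib.Helper7_SylCount
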