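import Mathlib
import Cfsg.Agent.Lib.helper6_Sylow

set_option autoImplicit false

namespace Cfsg.Agent.Lib.helper6_Brodkey

open Cfsg.Agent.Lib.helper6_Sylow

variable {G : Type*} [Group G]

theorem mem_smul_sylow_iff {p : ℕ} (g x : G) (P : Sylow p G) :
    x ∈ ((g • P : Sylow p G) : Subgroup G) ↔ g⁻¹ * x * g ∈ (P : Subgroup G) := by
  rw [Sylow.coe_subgroup_smul, Subgroup.mem_pointwise_smul_iff_inv_smul_mem]
  simp [MulAut.smul_def]

/-- `|P : P ∩ Q| ≤ n_p`. -/
theorem relIndex_le_card_sylow [Finite G] {p : ℕ} [Fact p.Prime] (P Q : Sylow p G) :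
    (Q : Subgroup G).relIndex P ≤ Nat.card (Sylow p G) := by
  have h1 : (Q : Subgroup G).relIndex P = (Subgroup.normalizer (Q : Set G)).relIndex P := by
    unfold Subgroup.relIndex
    congr 1
    rw [Subgroup.subgroupOf_inj, inf_comm, inf_comm _ (P : Subgroup G)]
    exact (P.isPGroup'.inf_normalizer_sylow Q).symm
  rw [h1, Q.card_eq_index_normalizer, ← Subgroup.relIndex_top_right]
  exact Subgroup.relIndex_le_of_le_right le_top
    (by rw [Subgroup.relIndex_top_right]; exact Subgroup.index_ne_zero_of_finite)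

/-- **Brodkey's theorem**: with abelian Sylow `p`-subgroups, some two of them meet in `O_p(G)`. -/
theorem brodkey [Finite G] {p : ℕ} [Fact p.Prime]
    (hab : ∀ P : Sylow p G, ∀ a ∈ (P : Subgroup G), ∀ b ∈ (P : Subgroup G), a * b = b * a) :
    ∃ P Q : Sylow p G, ∀ R : Sylow p G, (P : Subgroup G) ⊓ Q ≤ R := by
  obtain ⟨⟨P, Q⟩, hmin⟩ := Finite.exists_min
    (fun x : Sylow p G × Sylow p G => Nat.card ((x.1 : Subgroup G) ⊓ x.2 : Subgroup G))
  refine ⟨P, Q, fun R => ?_⟩
  have hPN : (P : Subgroup G) ≤ Subgroup.normalizer (((P : Subgroup G) ⊓ Q : Subgroup G) : Set G) := by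
    refine le_trans ?_ (Subgroup.centralizer_le_normalizer _)
    intro x hx
    rw [Subgroup.mem_centralizer_iff]
    intro d hd
    exact hab P d hd.1 x hx
  have hQN : (Q : Subgroup G) ≤ Subgroup.normalizer (((P : Subgroup G) ⊓ Q : Subgroup G) : Set G) := by
    refine le_trans ?_ (Subgroup.centralizer_le_normalizer _)
    intro x hx
    rw [Subgroup.mem_centralizer_iff]
    intro d hd
    exact hab Q d hd.2 x hx
  obtain ⟨h, hhN, P', hPP', hB⟩ := exists_conj_common_sylow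
    (Subgroup.normalizer (((P : Subgroup G) ⊓ Q : Subgroup G) : Set G)) (P : Subgroup G)
    ((R : Subgroup G) ⊓ Subgroup.normalizer (((P : Subgroup G) ⊓ Q : Subgroup G) : Set G))
    P.isPGroup' (R.isPGroup'.to_le inf_le_left) hPN inf_le_right
  have hP' : (P' : Subgroup G) = P := P.is_maximal' P'.isPGroup' hPP'
  have hle : ((h • R : Sylow p G) : Subgroup G) ⊓ Q ≤ (P : Subgroup G) ⊓ Q := by
    intro x hx
    have hx1 : x ∈ ((h • R : Sylow p G) : Subgroup G) := hx.1
    have hx2 : x ∈ (Q : Subgroup G) := hx.2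
    refine ⟨?_, hx2⟩
    show x ∈ (P : Subgroup G)
    rw [mem_smul_sylow_iff] at hx1
    have hxN := hQN hx2
    have h2 : h⁻¹ * x * h ∈
        Subgroup.normalizer (((P : Subgroup G) ⊓ Q : Subgroup G) : Set G) :=
      Subgroup.mul_mem _ (Subgroup.mul_mem _ (Subgroup.inv_mem _ hhN) hxN) hhN
    have h3 := hB _ ⟨hx1, h2⟩
    rw [hP'] at h3
    have h4 : h * (h⁻¹ * x * h) * h⁻¹ = x := by group
    rwa [h4] at h3
  have hcard := hmin (h • R, Q)
  have heq : ((h • R : Sylow p G) : Subgroup G) ⊓ Q = (P : Subgroup G) ⊓ Q :=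
    Subgroup.eq_of_le_of_card_ge hle hcard
  intro d hd
  have h5 : h * d * h⁻¹ ∈ (P : Subgroup G) ⊓ Q := (Subgroup.mem_normalizer_iff.mp hhN d).mp hd
  rw [← heq] at h5
  have h6 : h * d * h⁻¹ ∈ ((h • R : Sylow p G) : Subgroup G) := h5.1
  rw [mem_smul_sylow_iff] at h6
  have h7 : h⁻¹ * (h * d * h⁻¹) * h = d := by group
  rwa [h7] at h6

end Cfsg.Agent.Lib.helper6_Brodkey
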