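import Mathlib
import Cfsg.Agent.Lib.Helper7_SylCount
import Cfsg.Agent.Lib.helper6_Brodkey
import Cfsg.Agent.Lib.Helper7_Class
import Cfsg.Agent.S0219

set_option autoImplicit false

namespace Cfsg.Agent.Lib.Helper1_SylNum

open MulAction Cfsg.Agent.Lib.Helper7_SylCount

universe u

theorem num1 {p d : ℕ} (hp : 2 < p) (hd : d ∣ 2 * p + 1) (h1 : d ≡ 1 [MOD p]) :
    d = 1 ∨ d = 2 * p + 1 := by
  have hle : d ≤ 2 * p + 1 := Nat.le_of_dvd (by omega) hd
  have hpos : 0 < d := Nat.pos_of_dvd_of_pos hd (by omega)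
  have h2 : (p : ℤ) ∣ (d : ℤ) - 1 := by
    have := (Nat.modEq_iff_dvd.mp h1.symm)
    simpa using this
  obtain ⟨k, hk⟩ := h2
  have hk0 : 0 ≤ k := by
    by_contra hneg
    push Not at hneg
    have : (p : ℤ) * k ≤ (p : ℤ) * (-1) := mul_le_mul_of_nonneg_left (by omega) (by omega)
    omega
  have hk2 : k ≤ 2 := by
    by_contra hneg
    push Not at hneg
    have : (p : ℤ) * 3 ≤ (p : ℤ) * k := mul_le_mul_of_nonneg_left (by omega) (by omega)
    omega
  have hcases : k = 0 ∨ k = 1 ∨ k = 2 := by omega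
  rcases hcases with rfl | rfl | rfl
  · left; omega
  · exfalso
    have hd' : d = p + 1 := by omega
    subst hd'
    have h3 : p + 1 ∣ 2 * (p + 1) := Dvd.intro_left 2 rfl
    have h4 : p + 1 ∣ 1 := by
      have := (Nat.dvd_sub h3 hd)
      have e : 2 * (p + 1) - (2 * p + 1) = 1 := by omega
      rwa [e] at this
    have := Nat.le_of_dvd (by omega) h4
    omega
  · right; omega

variable {G : Type u} [Group G] [Finite G] {p : ℕ} [Fact p.Prime]

theorem star (hp : 2 < p) (hn : Nat.card (Sylow p G) = 2 * p + 1)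
    (IH : ∀ (H : Type u) [Group H] [Finite H], Nat.card H < Nat.card G →
      Nat.card (Sylow p H) ≠ 2 * p + 1)
    (K : Subgroup G) [K.Normal] (hK : K ≠ ⊥) (P : Sylow p G) : (P : Subgroup G) ⊔ K = ⊤ := by
  have h := card_sylow_eq_mul K P
  rw [hn] at h
  have ha : Nat.card (Sylow p (G ⧸ K)) = 1 ∨ Nat.card (Sylow p (G ⧸ K)) = 2 * p + 1 :=
    num1 hp (Dvd.intro _ h.symm) (card_sylow_modEq_one p (G ⧸ K))
  have hlt : Nat.card (G ⧸ K) < Nat.card G := by
    have e := Subgroup.card_eq_card_quotient_mul_card_subgroup K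
    have h2 : 1 < Nat.card K := (Subgroup.one_lt_card_iff_ne_bot K).2 hK
    have h3 : 0 < Nat.card (G ⧸ K) := Nat.card_pos
    rw [e]
    nlinarith
  rcases ha with ha | ha
  · rw [ha, one_mul] at h
    have e1 := orbit_eq_of_sup K P ((P : Subgroup G) ⊔ K) le_sup_right Subgroup.le_normalizer
    have e2 := card_sylow_sub ((P : Subgroup G) ⊔ K) P le_sup_left
    rw [e1, ← h] at e2
    by_contra hne
    have hlt2 : Nat.card ((P : Subgroup G) ⊔ K : Subgroup G) < Nat.card G := by
      rcases lt_or_eq_of_le (Subgroup.card_le_card_group ((P : Subgroup G) ⊔ K)) with h5 | h5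
      · exact h5
      · exact absurd (Subgroup.eq_top_of_card_eq _ h5) hne
    exact IH _ hlt2 e2
  · exact absurd ha (IH _ hlt)

theorem faith (hp : 2 < p) (hn : Nat.card (Sylow p G) = 2 * p + 1)
    (hstar : ∀ (K : Subgroup G) [K.Normal], K ≠ ⊥ → ∀ P : Sylow p G, (P : Subgroup G) ⊔ K = ⊤)
    (x : G) (hx : ∀ S : Sylow p G, x ∈ Subgroup.normalizer ((S : Subgroup G) : Set G)) :
    x = 1 := by
  set C := (MulAction.toPermHom G (Sylow p G)).ker with hC
  have hxC : x ∈ C := by
    rw [hC, MonoidHom.mem_ker]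
    ext1 S
    exact Sylow.smul_eq_iff_mem_normalizer.mpr (hx S)
  by_cases hb : C = ⊥
  · rw [hb] at hxC
    exact Subgroup.mem_bot.mp hxC
  · exfalso
    obtain ⟨P⟩ : Nonempty (Sylow p G) := inferInstance
    have h1 := hstar C hb P
    have h2 : (P : Subgroup G) ⊔ C ≤ Subgroup.normalizer ((P : Subgroup G) : Set G) := by
      refine sup_le Subgroup.le_normalizer ?_
      intro c hc
      rw [hC, MonoidHom.mem_ker] at hc
      have := congrArg (fun f => f P) hc
      exact Sylow.smul_eq_iff_mem_normalizer.mp this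
    rw [h1] at h2
    have h3 : Nat.card (Sylow p G) = (Subgroup.normalizer ((P : Subgroup G) : Set G)).index :=
      Sylow.card_eq_index_normalizer P
    rw [top_le_iff.mp h2, Subgroup.index_top, hn] at h3
    omega

theorem star' (hp : 2 < p) (hn : Nat.card (Sylow p G) = 2 * p + 1)
    (hstar : ∀ (K : Subgroup G) [K.Normal], K ≠ ⊥ → ∀ P : Sylow p G, (P : Subgroup G) ⊔ K = ⊤)
    (H : Subgroup G) [H.Normal] (hH : (H.index).Coprime p) : H = ⊤ := by
  obtain ⟨P⟩ : Nonempty (Sylow p G) := inferInstance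
  have hPH : (P : Subgroup G) ≤ H := by
    rw [← Subgroup.relIndex_eq_one]
    obtain ⟨k, hk⟩ := P.2.exists_card_eq
    have h1 : H.relIndex P ∣ p ^ k := hk ▸ Subgroup.relIndex_dvd_card H P
    have h2 : H.relIndex P ∣ H.index := Subgroup.relIndex_dvd_index_of_normal H P
    exact Nat.eq_one_of_dvd_coprimes (Nat.Coprime.pow_right k hH) h2 h1
  by_cases hb : H = ⊥
  · exfalso
    have hPb : (P : Subgroup G) = ⊥ := by rw [hb] at hPH; exact le_bot_iff.mp hPH
    have h3 : Nat.card (Sylow p G) = (Subgroup.normalizer ((P : Subgroup G) : Set G)).index :=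
      Sylow.card_eq_index_normalizer P
    have h4 : Subgroup.normalizer ((P : Subgroup G) : Set G) = ⊤ := by
      ext g
      simp only [Subgroup.mem_top, iff_true]
      rw [Subgroup.mem_normalizer_iff]
      intro h
      rw [hPb]
      simp [Subgroup.mem_bot]
    rw [h4, Subgroup.index_top, hn] at h3
    omega
  · have := hstar H hb P
    rwa [sup_eq_right.mpr hPH] at this

theorem relidx (hp : 2 < p) (hn : Nat.card (Sylow p G) = 2 * p + 1) (P Q : Sylow p G)
    (hPQ : P ≠ Q) : (Q : Subgroup G).relIndex P = p := by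
  have h1 := Cfsg.Agent.Lib.helper6_Brodkey.relIndex_le_card_sylow P Q
  rw [hn] at h1
  obtain ⟨k, hk⟩ := P.2.exists_card_eq
  have h2 : (Q : Subgroup G).relIndex P ∣ p ^ k := hk ▸ Subgroup.relIndex_dvd_card _ _
  obtain ⟨j, -, hj⟩ := (Nat.dvd_prime_pow (Fact.out : p.Prime)).1 h2
  rcases Nat.lt_or_ge j 2 with hj2 | hj2
  · interval_cases j
    · exfalso
      rw [pow_zero, Subgroup.relIndex_eq_one] at hj
      exact hPQ (Sylow.ext (P.is_maximal' Q.2 hj).symm)
    · simpa using hj
  · exfalso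
    have : p ^ 2 ≤ p ^ j := Nat.pow_le_pow_right (by omega) hj2
    rw [hj] at h1
    nlinarith

/-- an element normalizing a subgroup of prime order `q`, of order prime to `q - 1`,
centralizes it. -/
theorem NC {q : ℕ} (hq : q.Prime) (Q : Subgroup G) (hQ : Nat.card Q = q) (y : G)
    (hy : y ∈ Subgroup.normalizer (Q : Set G)) (hc : (orderOf y).Coprime (q - 1)) :
    y ∈ Subgroup.centralizer (Q : Set G) := by
  haveI : Fact q.Prime := ⟨hq⟩
  haveI : IsCyclic Q := isCyclic_of_prime_card hQ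
  have h1 : Nat.card (MulAut Q) = q - 1 := by
    rw [IsCyclic.card_mulAut, hQ, Nat.totient_prime hq]
  set f := Q.normalizerMonoidHom with hf
  have h2 : orderOf (f ⟨y, hy⟩) ∣ q - 1 := h1 ▸ orderOf_dvd_natCard _
  have h3 : orderOf (f ⟨y, hy⟩) ∣ orderOf y := by
    have := orderOf_map_dvd f (⟨y, hy⟩ : Subgroup.normalizer (Q : Set G))
    rwa [Subgroup.orderOf_mk] at this
  have h4 : orderOf (f ⟨y, hy⟩) = 1 := Nat.eq_one_of_dvd_coprimes hc h3 h2
  rw [orderOf_eq_one_iff] at h4
  have h5 : (⟨y, hy⟩ : Subgroup.normalizer (Q : Set G)) ∈ f.ker := h4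
  rw [hf, Subgroup.normalizerMonoidHom_ker, Subgroup.mem_subgroupOf] at h5
  exact h5

theorem cardInf (hp : 2 < p) (hn : Nat.card (Sylow p G) = 2 * p + 1) (P Q : Sylow p G)
    (hPQ : P ≠ Q) : Nat.card ((P : Subgroup G) ⊓ Q : Subgroup G) * p = Nat.card P := by
  have h1 := Subgroup.relIndex_mul_relIndex ⊥ ((P : Subgroup G) ⊓ Q) P bot_le inf_le_left
  rw [Subgroup.relIndex_bot_left, Subgroup.relIndex_bot_left, Subgroup.inf_relIndex_left,
    relidx hp hn P Q hPQ] at h1
  exact h1

theorem eqInf (hp : 2 < p) (hn : Nat.card (Sylow p G) = 2 * p + 1) (P Q R : Sylow p G)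
    (hPQ : P ≠ Q) (hPR : P ≠ R) (h : (P : Subgroup G) ⊓ Q ≤ R) :
    (P : Subgroup G) ⊓ Q = (P : Subgroup G) ⊓ R := by
  have h1 := cardInf hp hn P Q hPQ
  have h2 := cardInf hp hn P R hPR
  have h3 : Nat.card ((P : Subgroup G) ⊓ Q : Subgroup G) =
      Nat.card ((P : Subgroup G) ⊓ R : Subgroup G) :=
    Nat.eq_of_mul_eq_mul_right (by omega : 0 < p) (h1.trans h2.symm)
  exact Subgroup.eq_of_le_of_card_ge (le_inf inf_le_left h) h3.ge

theorem geF (hp : 2 < p) (E : Subgroup G) (P Q : Sylow p G) (hPQ : P ≠ Q)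
    (hEP : E ≤ P) (hEQ : E ≤ Q) : p + 1 ≤ {R : Sylow p G | E ≤ R}.ncard := by
  have hE : IsPGroup p E := P.2.to_le hEP
  have h1 := hE.card_modEq_card_fixedPoints (Sylow p G)
  have h2 : fixedPoints E (Sylow p G) = {R : Sylow p G | E ≤ R} := by
    ext R; exact hE.sylow_mem_fixedPoints_iff
  rw [h2, Nat.card_coe_set_eq] at h1
  have h3 : {R : Sylow p G | E ≤ R}.ncard ≡ 1 [MOD p] :=
    h1.symm.trans (card_sylow_modEq_one p G)
  have h4 : 2 ≤ {R : Sylow p G | E ≤ R}.ncard := by
    rw [← Set.ncard_pair hPQ]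
    apply Set.ncard_le_ncard _ (Set.toFinite _)
    intro x hx
    rcases hx with rfl | rfl
    · exact hEP
    · exact hEQ
  by_contra hlt
  unfold Nat.ModEq at h3
  rw [Nat.mod_eq_of_lt (by omega : 1 < p)] at h3
  rcases Nat.lt_or_ge {R : Sylow p G | E ≤ R}.ncard p with h5 | h5
  · rw [Nat.mod_eq_of_lt h5] at h3
    omega
  · have h6 : {R : Sylow p G | E ≤ R}.ncard = p := by omega
    rw [h6, Nat.mod_self] at h3
    omega

theorem TI (hp : 2 < p) (hn : Nat.card (Sylow p G) = 2 * p + 1)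
    (hfaith : ∀ x : G, (∀ S : Sylow p G, x ∈ Subgroup.normalizer ((S : Subgroup G) : Set G)) →
      x = 1) (P Q : Sylow p G) (hPQ : P ≠ Q) : (P : Subgroup G) ⊓ Q = ⊥ := by
  by_contra hE
  have hS : ∃ S : Sylow p G, ¬ ((P : Subgroup G) ⊓ Q ≤ S) := by
    by_contra hcon
    push Not at hcon
    apply hE
    rw [eq_bot_iff]
    intro x hx
    exact Subgroup.mem_bot.mpr (hfaith x (fun S => Subgroup.le_normalizer (hcon S hx)))
  obtain ⟨S, hS⟩ := hS
  have hPS : P ≠ S := by rintro rfl; exact hS inf_le_left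
  have hQS : Q ≠ S := by rintro rfl; exact hS inf_le_right
  set A := {R : Sylow p G | (P : Subgroup G) ⊓ Q ≤ R} with hA
  set B := {R : Sylow p G | (P : Subgroup G) ⊓ S ≤ R} with hB
  set C := {R : Sylow p G | (Q : Subgroup G) ⊓ S ≤ R} with hC
  have cA : p + 1 ≤ A.ncard := geF hp _ P Q hPQ inf_le_left inf_le_right
  have cB : p + 1 ≤ B.ncard := geF hp _ P S hPS inf_le_left inf_le_right
  have cC : p + 1 ≤ C.ncard := geF hp _ Q S hQS inf_le_left inf_le_right
  have hAB : A ∩ B ⊆ {P} := by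
    rintro R ⟨h1, h2⟩
    by_contra hne
    have hne' : P ≠ R := fun h => hne h.symm
    have e1 := eqInf hp hn P Q R hPQ hne' h1
    have e2 := eqInf hp hn P S R hPS hne' h2
    apply hS
    rw [e1, ← e2]
    exact inf_le_right
  have hAC : A ∩ C ⊆ {Q} := by
    rintro R ⟨h1, h2⟩
    by_contra hne
    have hne' : Q ≠ R := fun h => hne h.symm
    have e1 := eqInf hp hn Q P R hPQ.symm hne' (by rw [inf_comm]; exact h1)
    have e2 := eqInf hp hn Q S R hQS hne' h2
    apply hS
    rw [inf_comm, e1, ← e2]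
    exact inf_le_right
  have hBC : B ∩ C ⊆ {S} := by
    rintro R ⟨h1, h2⟩
    by_contra hne
    have hne' : S ≠ R := fun h => hne h.symm
    have e1 := eqInf hp hn S P R hPS.symm hne' (by rw [inf_comm]; exact h1)
    have e2 := eqInf hp hn S Q R hQS.symm hne' (by rw [inf_comm]; exact h2)
    have e3 : (P : Subgroup G) ⊓ S ≤ Q := by
      rw [inf_comm, e1, ← e2]
      exact inf_le_right
    have e4 := eqInf hp hn P S Q hPS hPQ e3
    apply hS
    rw [← e4]
    exact inf_le_right
  have hU : A ∪ B = Set.univ := by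
    apply Set.eq_of_subset_of_ncard_le (Set.subset_univ _) _ (Set.toFinite _)
    have h1 := Set.ncard_union_add_ncard_inter A B (Set.toFinite _) (Set.toFinite _)
    have h2 : (A ∩ B).ncard ≤ 1 := by
      rw [← Set.ncard_singleton P]
      exact Set.ncard_le_ncard hAB (Set.toFinite _)
    rw [Set.ncard_univ, hn]
    omega
  have hCs : C ⊆ {Q, S} := by
    intro R hR
    have : R ∈ A ∪ B := by rw [hU]; trivial
    rcases this with h | h
    · left; exact hAC ⟨h, hR⟩
    · right; exact hBC ⟨h, hR⟩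
  have := Set.ncard_le_ncard hCs (Set.toFinite _)
  rw [Set.ncard_pair hQS] at this
  omega

theorem cardP (hp : 2 < p) (hn : Nat.card (Sylow p G) = 2 * p + 1)
    (hfaith : ∀ x : G, (∀ S : Sylow p G, x ∈ Subgroup.normalizer ((S : Subgroup G) : Set G)) →
      x = 1) (P : Sylow p G) : Nat.card P = p := by
  have : ∃ Q : Sylow p G, P ≠ Q := by
    by_contra hcon
    push Not at hcon
    have : Subsingleton (Sylow p G) := ⟨fun a b => (hcon a).symm.trans (hcon b)⟩
    have := Nat.card_eq_one_iff_unique.mpr ⟨this, ⟨P⟩⟩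
    omega
  obtain ⟨Q, hQ⟩ := this
  have h1 := cardInf hp hn P Q hQ
  rw [TI hp hn hfaith P Q hQ, Subgroup.card_bot, one_mul] at h1
  exact h1.symm

theorem modLemma {q : ℕ} [Fact q.Prime] (A : Subgroup G) (hA : IsPGroup q A) (c : G)
    (hc : ∀ a ∈ A, a * c = c * a)
    (hfix : ∀ S : Sylow p G, (∀ a ∈ A, a • S = S) → c • S = S) :
    q ∣ Nat.card {S : Sylow p G // c • S ≠ S} := by
  let X' : SubMulAction A (Sylow p G) :=
    { carrier := {S | c • S ≠ S}
      smul_mem' := by
        intro a S hS h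
        apply hS
        have : (a : G) • (c • S) = (a : G) • S := by
          rw [← mul_smul, hc a a.2, mul_smul]; exact h
        exact smul_left_cancel _ this }
  have h1 := hA.card_modEq_card_fixedPoints X'
  have h2 : IsEmpty (fixedPoints A X') := by
    constructor
    rintro ⟨⟨S, hS⟩, hfixS⟩
    apply hS
    apply hfix
    intro a ha
    have := hfixS ⟨a, ha⟩
    exact congrArg Subtype.val this
  have h3 : Nat.card (fixedPoints A X') = 0 := Nat.card_of_isEmpty
  rw [h3] at h1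
  exact (Nat.modEq_zero_iff_dvd).1 h1

/-- elements of `C_G(P)`: the number of moved points is divisible by `p`. -/
theorem modP (P : Sylow p G) (c : G) (hc : c ∈ Subgroup.centralizer ((P : Subgroup G) : Set G)) :
    p ∣ Nat.card {S : Sylow p G // c • S ≠ S} := by
  apply modLemma (P : Subgroup G) P.2 c
  · intro a ha
    exact Subgroup.mem_centralizer_iff.mp hc a ha
  · intro S hS
    have h1 : S ∈ fixedPoints (P : Subgroup G) (Sylow p G) := fun a => hS a a.2
    rw [P.2.sylow_mem_fixedPoints_iff] at h1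
    have h2 : S = P := Sylow.ext (P.is_maximal' S.2 h1)
    rw [h2]
    exact Sylow.smul_eq_iff_mem_normalizer.mpr
      (Subgroup.centralizer_le_normalizer _ hc)

theorem modQ {q : ℕ} [Fact q.Prime] (c : G) (hc : orderOf c = q) :
    q ∣ Nat.card {S : Sylow p G // c • S ≠ S} := by
  apply modLemma (Subgroup.zpowers c) _ c
  · intro a ha
    obtain ⟨k, rfl⟩ := Subgroup.mem_zpowers_iff.mp ha
    exact ((Commute.refl c).zpow_left k).eq
  · intro S hS
    exact hS c (Subgroup.mem_zpowers c)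
  · apply IsPGroup.of_card (n := 1)
    rw [Nat.card_zpowers, hc, pow_one]

theorem eq_one_of_moved (hfaith : ∀ x : G,
      (∀ S : Sylow p G, x ∈ Subgroup.normalizer ((S : Subgroup G) : Set G)) → x = 1)
    (c : G) (h : Nat.card {S : Sylow p G // c • S ≠ S} = 0) : c = 1 := by
  apply hfaith
  intro S
  by_contra hne0
  have hne : c • S ≠ S := fun h => hne0 (Sylow.smul_eq_iff_mem_normalizer.mp h)
  have : Nonempty {S : Sylow p G // c • S ≠ S} := ⟨⟨S, hne⟩⟩
  have := Nat.card_pos (α := {S : Sylow p G // c • S ≠ S})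
  omega

theorem moved_le (hn : Nat.card (Sylow p G) = 2 * p + 1) (c : G) :
    Nat.card {S : Sylow p G // c • S ≠ S} ≤ 2 * p + 1 := by
  rw [← hn]
  exact Nat.card_le_card_of_injective _ Subtype.val_injective

theorem no5 (hp : 2 < p) (hn : Nat.card (Sylow p G) = 2 * p + 1)
    (hfaith : ∀ x : G, (∀ S : Sylow p G, x ∈ Subgroup.normalizer ((S : Subgroup G) : Set G)) →
      x = 1) (hc5 : Nat.Coprime 5 (p - 1)) (hp5 : p ≠ 5) (P : Sylow p G) :
    ¬ 5 ∣ Nat.card (Subgroup.normalizer ((P : Subgroup G) : Set G)) := by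
  intro h
  haveI : Fact (Nat.Prime 5) := ⟨by norm_num⟩
  obtain ⟨y, hy⟩ := exists_prime_orderOf_dvd_card' 5 h
  have hy' : orderOf (y : G) = 5 := by rw [Subgroup.orderOf_coe]; exact hy
  have hcen := NC (Fact.out : p.Prime) (P : Subgroup G) (cardP hp hn hfaith P) (y : G) y.2
    (by rw [hy']; exact hc5)
  have h1 := modP P (y : G) hcen
  have h2 : 5 ∣ Nat.card {S : Sylow p G // (y : G) • S ≠ S} := modQ (y : G) hy'
  have h3 := moved_le hn (y : G)
  have hcop : Nat.Coprime p 5 := (Nat.coprime_primes Fact.out (by norm_num)).2 hp5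
  have h4 : p * 5 ∣ Nat.card {S : Sylow p G // (y : G) • S ≠ S} :=
    hcop.mul_dvd_of_dvd_of_dvd h1 h2
  have h5 : Nat.card {S : Sylow p G // (y : G) • S ≠ S} = 0 := by
    by_contra hne
    have := Nat.le_of_dvd (Nat.pos_of_ne_zero hne) h4
    omega
  have h6 := eq_one_of_moved hfaith (y : G) h5
  rw [h6, orderOf_one] at hy'
  omega

theorem cardR (hp : 2 < p) (hn : Nat.card (Sylow p G) = 2 * p + 1)
    (hfaith : ∀ x : G, (∀ S : Sylow p G, x ∈ Subgroup.normalizer ((S : Subgroup G) : Set G)) →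
      x = 1) (hc5 : Nat.Coprime 5 (p - 1)) (hp5 : p ≠ 5) (h5 : 5 ∣ 2 * p + 1)
    (h25 : ¬ 25 ∣ 2 * p + 1) (R : Sylow 5 G) : Nat.card R = 5 := by
  haveI : Fact (Nat.Prime 5) := ⟨by norm_num⟩
  obtain ⟨P⟩ : Nonempty (Sylow p G) := inferInstance
  have h1 : Nat.card (Sylow p G) = (Subgroup.normalizer ((P : Subgroup G) : Set G)).index :=
    Sylow.card_eq_index_normalizer P
  have h2 := Subgroup.card_mul_index (Subgroup.normalizer ((P : Subgroup G) : Set G))
  rw [← h1, hn] at h2
  have h3 := no5 hp hn hfaith hc5 hp5 P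
  obtain ⟨k, hk⟩ := R.2.exists_card_eq
  have h4 : 5 ^ k ∣ Nat.card G := hk ▸ Subgroup.card_subgroup_dvd_card _
  have h5' : 5 ∣ Nat.card R := R.dvd_card_of_dvd_card (by rw [← h2]; exact Dvd.dvd.mul_left h5 _)
  have hcop : Nat.Coprime (5 ^ k) (Nat.card (Subgroup.normalizer ((P : Subgroup G) : Set G))) :=
    Nat.Coprime.pow_left k ((Nat.Prime.coprime_iff_not_dvd (by norm_num)).2 h3)
  rw [← h2] at h4
  have h6 : 5 ^ k ∣ 2 * p + 1 := hcop.dvd_of_dvd_mul_left h4
  rcases Nat.lt_or_ge k 2 with hk2 | hk2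
  · interval_cases k
    · rw [hk] at h5'; norm_num at h5'
    · simpa using hk
  · exfalso; apply h25
    exact dvd_trans (by have := pow_dvd_pow 5 hk2; simpa using this) h6

theorem oddCase (hp : 2 < p) (hn : Nat.card (Sylow p G) = 2 * p + 1)
    (hfaith : ∀ x : G, (∀ S : Sylow p G, x ∈ Subgroup.normalizer ((S : Subgroup G) : Set G)) →
      x = 1) (hstar' : ∀ (H : Subgroup G) [H.Normal], H.index.Coprime p → H = ⊤)
    (hc5 : Nat.Coprime 5 (p - 1)) (hp5 : p ≠ 5) (h5 : 5 ∣ 2 * p + 1)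
    (h25 : ¬ 25 ∣ 2 * p + 1) (hodd : Odd (Nat.card G)) : False := by
  haveI : Fact (Nat.Prime 5) := ⟨by norm_num⟩
  obtain ⟨R⟩ : Nonempty (Sylow 5 G) := inferInstance
  have hR := cardR hp hn hfaith hc5 hp5 h5 h25 R
  have hle : Subgroup.normalizer ((R : Subgroup G) : Set G) ≤
      Subgroup.centralizer ((R : Subgroup G) : Set G) := by
    intro y hy
    apply NC (by norm_num : Nat.Prime 5) (R : Subgroup G) hR y hy
    have h1 : orderOf y ∣ Nat.card G := orderOf_dvd_natCard y
    have h2 : Odd (orderOf y) := Odd.of_dvd_nat hodd h1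
    show Nat.Coprime (orderOf y) 4
    have : Nat.Coprime (orderOf y) 2 := Nat.coprime_two_right.2 h2
    exact Nat.Coprime.pow_right 2 this
  have hc := MonoidHom.ker_transferSylow_isComplement' R hle
  have hidx : (MonoidHom.transferSylow R hle).ker.index = 5 := by
    rw [hc.symm.index_eq_card]; exact hR
  have htop := hstar' (MonoidHom.transferSylow R hle).ker (by
    rw [hidx]; exact (Nat.coprime_primes (by norm_num) Fact.out).2 hp5.symm)
  rw [htop, Subgroup.index_top] at hidx
  omega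

theorem noInv (hp : 2 < p) (hn : Nat.card (Sylow p G) = 2 * p + 1)
    (hfaith : ∀ x : G, (∀ S : Sylow p G, x ∈ Subgroup.normalizer ((S : Subgroup G) : Set G)) →
      x = 1) (hstar' : ∀ (H : Subgroup G) [H.Normal], H.index.Coprime p → H = ⊤)
    (P : Sylow p G) (t : G) (ht : orderOf t = 2)
    (htC : t ∈ Subgroup.centralizer ((P : Subgroup G) : Set G)) : False := by
  classical
  haveI : Fact (Nat.Prime 2) := ⟨Nat.prime_two⟩
  haveI : Fintype (Sylow p G) := Fintype.ofFinite _
  have hcop2 : Nat.Coprime 2 p := (Nat.coprime_primes Nat.prime_two Fact.out).2 (by omega)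
  set φ : G →* ℤˣ := Equiv.Perm.sign.comp (MulAction.toPermHom G (Sylow p G)) with hφ
  have hker : φ.ker = ⊤ := by
    apply hstar'
    rw [Subgroup.index_ker]
    have h1 : Nat.card φ.range ∣ 2 := by
      have h0 : Nat.card ℤˣ = 2 := by rw [Nat.card_eq_fintype_card, Fintype.card_units_int]
      rw [← h0]
      exact Subgroup.card_subgroup_dvd_card φ.range
    exact Nat.Coprime.coprime_dvd_left h1 hcop2
  set σ := MulAction.toPermHom G (Sylow p G) t with hσ
  have hsign : Equiv.Perm.sign σ = 1 := by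
    have : t ∈ φ.ker := by rw [hker]; trivial
    exact this
  have hσ2 : σ ^ 2 = 1 := by rw [hσ, ← map_pow, ← ht, pow_orderOf_eq_one, map_one]
  have ht1 : t ≠ 1 := by rintro rfl; rw [orderOf_one] at ht; omega
  have hσ1 : σ ≠ 1 := by
    intro h
    apply ht1
    apply hfaith
    intro S
    have := congrArg (fun f => f S) h
    exact Sylow.smul_eq_iff_mem_normalizer.mp this
  have hord : orderOf σ = 2 := orderOf_eq_prime hσ2 hσ1
  obtain ⟨k, hk⟩ := Equiv.Perm.cycleType_prime_order (σ := σ) (by rw [hord]; exact Nat.prime_two)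
  rw [hord] at hk
  have hs := Equiv.Perm.sign_of_cycleType σ
  have hsum := Equiv.Perm.sum_cycleType σ
  rw [hk] at hs hsum
  simp only [Multiset.sum_replicate, Multiset.card_replicate, smul_eq_mul] at hs hsum
  rw [hsign] at hs
  have heven : Even ((k + 1) * 2 + (k + 1)) :=
    (neg_one_pow_eq_one_iff_even (by decide)).1 hs.symm
  have hcardsupp : Nat.card {S : Sylow p G // t • S ≠ S} = σ.support.card := by
    rw [Nat.card_eq_fintype_card, Fintype.card_subtype]
    congr 1
  have h1 := modP P t htC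
  have h3 := moved_le hn t
  rw [hcardsupp, ← hsum] at h1 h3
  obtain ⟨m, hm⟩ : 2 ∣ k + 1 := by
    rcases heven with ⟨a, ha⟩
    exact ⟨a - (k + 1), by omega⟩
  have hcop4 : Nat.Coprime p 4 := (Nat.Coprime.pow_left 2 hcop2).symm
  have e : (k + 1) * 2 = 4 * m := by omega
  rw [e] at h1 h3
  have h4 : p ∣ m := hcop4.dvd_of_dvd_mul_left h1
  have h5 : p ≤ m := Nat.le_of_dvd (by omega) h4
  omega

theorem evenCase (hp : 2 < p) (hn : Nat.card (Sylow p G) = 2 * p + 1)
    (hfaith : ∀ x : G, (∀ S : Sylow p G, x ∈ Subgroup.normalizer ((S : Subgroup G) : Set G)) →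
      x = 1) (hstar' : ∀ (H : Subgroup G) [H.Normal], H.index.Coprime p → H = ⊤)
    (heven : Even (Nat.card G)) : False := by
  haveI : Fact (Nat.Prime 2) := ⟨Nat.prime_two⟩
  have hcop2 : Nat.Coprime 2 p := (Nat.coprime_primes Nat.prime_two Fact.out).2 (by omega)
  obtain ⟨T⟩ : Nonempty (Sylow 2 G) := inferInstance
  have hfix := T.2.nonempty_fixed_point_of_prime_not_dvd_card (Sylow p G) (by rw [hn]; omega)
  obtain ⟨P, hP⟩ := hfix
  have hTN : (T : Subgroup G) ≤ Subgroup.normalizer ((P : Subgroup G) : Set G) := by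
    intro t ht
    exact Sylow.smul_eq_iff_mem_normalizer.mp (hP ⟨t, ht⟩)
  have hcard := cardP hp hn hfaith P
  have hTC : ∀ x ∈ (T : Subgroup G), x ∈ Subgroup.centralizer ((P : Subgroup G) : Set G) →
      x = 1 := by
    intro x hxT hxC
    by_contra hx1
    obtain ⟨k, hk⟩ := (IsPGroup.iff_orderOf.mp T.2) ⟨x, hxT⟩
    rw [Subgroup.orderOf_mk] at hk
    obtain ⟨j, rfl⟩ : ∃ j, k = j + 1 := by
      rcases k with _ | j
      · exfalso; rw [pow_zero, orderOf_eq_one_iff] at hk; exact hx1 hk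
      · exact ⟨j, rfl⟩
    have h2 : orderOf (x ^ (2 ^ j)) = 2 := by
      rw [orderOf_pow_of_dvd (by positivity) (by rw [hk]; exact pow_dvd_pow 2 (by omega)), hk,
        pow_succ, Nat.mul_div_cancel_left _ (by positivity)]
    exact noInv hp hn hfaith hstar' P _ h2 (Subgroup.pow_mem _ hxC _)
  have hcyc : IsCyclic (T : Subgroup G) := by
    haveI : Fact (Nat.card (P : Subgroup G)).Prime := ⟨by rw [hcard]; exact Fact.out⟩
    haveI : IsCyclic (P : Subgroup G) := isCyclic_of_prime_card hcard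
    let g : (T : Subgroup G) →* (ZMod (Nat.card (P : Subgroup G)))ˣ :=
      (IsCyclic.mulAutMulEquiv (P : Subgroup G)).toMonoidHom.comp
        ((P : Subgroup G).normalizerMonoidHom.comp (Subgroup.inclusion hTN))
    apply isCyclic_of_injective g
    rw [injective_iff_map_eq_one]
    intro x hx
    have h1 : (P : Subgroup G).normalizerMonoidHom (Subgroup.inclusion hTN x) = 1 := by
      have : (IsCyclic.mulAutMulEquiv (P : Subgroup G))
        ((P : Subgroup G).normalizerMonoidHom (Subgroup.inclusion hTN x)) = 1 := hx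
      simpa using this
    have h2 : Subgroup.inclusion hTN x ∈ ((P : Subgroup G).normalizerMonoidHom).ker := h1
    rw [Subgroup.normalizerMonoidHom_ker, Subgroup.mem_subgroupOf] at h2
    have := hTC x x.2 h2
    exact Subtype.ext this
  obtain ⟨H, hH⟩ := Cfsg.Agent.S0219.result heven T hcyc
  haveI := Subgroup.normal_of_index_eq_two hH
  have := hstar' H (by rw [hH]; exact hcop2)
  rw [this, Subgroup.index_top] at hH
  omega

theorem main (hp : 2 < p) (h5 : 5 ∣ 2 * p + 1) (h25 : ¬ 25 ∣ 2 * p + 1)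
    (hc5 : Nat.Coprime 5 (p - 1)) (hp5 : p ≠ 5) :
    ∀ (n : ℕ) (G : Type u) [Group G] [Finite G], Nat.card G = n →
      Nat.card (Sylow p G) ≠ 2 * p + 1 := by
  intro n
  induction n using Nat.strong_induction_on with
  | _ n ih =>
    intro G _ _ hG hn
    have IH : ∀ (H : Type u) [Group H] [Finite H], Nat.card H < Nat.card G →
        Nat.card (Sylow p H) ≠ 2 * p + 1 := by
      intro H _ _ hlt
      exact ih (Nat.card H) (hG ▸ hlt) H rfl
    have hstar : ∀ (K : Subgroup G) [K.Normal], K ≠ ⊥ → ∀ P : Sylow p G,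
        (P : Subgroup G) ⊔ K = ⊤ := fun K _ hK P => star hp hn IH K hK P
    have hfaith := faith hp hn hstar
    have hstar' : ∀ (H : Subgroup G) [H.Normal], H.index.Coprime p → H = ⊤ :=
      fun H _ hH => star' hp hn hstar H hH
    rcases Nat.even_or_odd (Nat.card G) with he | ho
    · exact evenCase hp hn hfaith hstar' he
    · exact oddCase hp hn hfaith hstar' hc5 hp5 h5 h25 ho

end Cfsg.Agent.Lib.Helper1_SylNum
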