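import Mathlib
import Cfsg.Prelude.Def_BrauerPairs
import Cfsg.Agent.Lib.Helper2_BP11
import Cfsg.Agent.Lib.helper8_BlockNormalP

set_option autoImplicit false

namespace Cfsg.Agent.Lib.Helper2_BP12

open Cfsg Cfsg.Agent.Lib.Helper2_BlockLocal Cfsg.Agent.Lib.Helper2_BlockOm
  Cfsg.Agent.Lib.Helper2_BlockOsima Cfsg.Agent.Lib.Helper2_BlockBasic
  Cfsg.Agent.Lib.Helper2_BlockOrtho Cfsg.Agent.Lib.Helper2_BlockMinMax
  Cfsg.Agent.Lib.Helper2_BlockInd Cfsg.Agent.Lib.Helper2_BlockDefect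
  Cfsg.Agent.Lib.Helper2_BlockPCore Cfsg.Agent.Lib.Helper2_BlockNormal
  Cfsg.Agent.Lib.Helper2_BlockBrauer Cfsg.Agent.Lib.Helper2_BlockFMT
  Cfsg.Agent.Lib.Helper2_BrauerPairs Cfsg.Agent.Lib.Helper2_SecondMain
  Cfsg.Agent.Lib.Helper2_BP1 Cfsg.Agent.Lib.Helper2_BP2 Cfsg.Agent.Lib.Helper2_BP3
  Cfsg.Agent.Lib.Helper2_BP4 Cfsg.Agent.Lib.Helper2_BP5 Cfsg.Agent.Lib.Helper2_BP6
  Cfsg.Agent.Lib.Helper2_BP7 Cfsg.Agent.Lib.Helper2_BP8 Cfsg.Agent.Lib.Helper2_BP9
  Cfsg.Agent.Lib.Helper2_BP10 Cfsg.Agent.Lib.Helper2_BP11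
  Cfsg.Agent.Lib.Helper2_BlockSection
  Cfsg.Agent.Lib.Helper2_BlockCover2 Cfsg.Agent.Lib.Helper2_Basic
  Cfsg.Agent.Lib.CharBasic Cfsg.Agent.Lib.CharOrtho
  Cfsg.Agent.Lib.CharComplete Cfsg.Agent.Lib.CharIntegral Cfsg.Agent.Lib.CharMore
  Cfsg.Agent.Lib.CharPerm Cfsg.Agent.Lib.CharInd
open scoped ComplexConjugate Classical
open Relation

universe u

variable {M : Ideal AlgInt} {p : ℕ}

section idem

variable {H : Type u} [Group H] [Fintype H]

theorem idem_eq_blockCoeff {c : H → ℂ} (hc : IsClassFunction H c) (hi : conv c c = c) :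
    c = blockCoeff {χ : IrrCharacter H | Om c (χ : H → ℂ) = 1} := by
  apply eq_of_Om_eq hc (blockCoeff_classFunction _)
  intro χ
  rw [Om_blockCoeff]
  have h := Om_conv (c := c) hc χ.2
  rw [hi] at h
  simp only [Set.mem_setOf_eq]
  by_cases h1 : Om c (χ : H → ℂ) = 1
  · rw [if_pos h1, h1]
  · rw [if_neg h1]
    have h2 : Om c (χ : H → ℂ) * (Om c (χ : H → ℂ) - 1) = 0 := by linear_combination -h
    rcases mul_eq_zero.mp h2 with h3 | h3
    · exact h3
    · exact absurd (sub_eq_zero.mp h3) h1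

theorem blockCoeff_empty : blockCoeff (∅ : Set (IrrCharacter H)) = 0 := by
  funext g
  simp [blockCoeff]

theorem idem_le_block (hM : M.IsPrime) {f : Set (IrrCharacter H)} (hf : IsPBlock M f)
    {d : H → ℂ} (hd : IsClassFunction H d) (hdR : ∀ g, MemLocalRing M (d g))
    (hi : conv d d = d) (hle : conv d (blockCoeff f) = d) (h0 : d ≠ 0) : d = blockCoeff f := by
  have h1 := idem_eq_blockCoeff hd hi
  set Y := {χ : IrrCharacter H | Om d (χ : H → ℂ) = 1} with hY
  have hYf : Y ⊆ f := by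
    intro ξ hξ
    have h2 := Om_conv (c := d) (blockCoeff_classFunction f) ξ.2
    have hξ' : Om d (ξ : H → ℂ) = 1 := hξ
    rw [hle, Om_blockCoeff, hξ'] at h2
    by_contra hc
    rw [if_neg hc] at h2
    simp at h2
  have hne : Y.Nonempty := by
    by_contra h
    rw [Set.not_nonempty_iff_eq_empty] at h
    rw [h, blockCoeff_empty] at h1
    exact h0 h1
  obtain ⟨ξ0, hξ0⟩ := hne
  have h3 : blockOf M (ξ0 : H → ℂ) ⊆ Y :=
    union_of_blocks hM Y (by rw [← h1]; exact hdR) ξ0 hξ0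
  rw [← block_eq_blockOf hM hf (hYf hξ0)] at h3
  rw [h1, Set.Subset.antisymm hYf h3]

theorem conv_blockCoeff_subset {F X : Set (IrrCharacter H)} (h : F ⊆ X) :
    conv (blockCoeff F) (blockCoeff X) = blockCoeff F := by
  apply eq_of_Om_eq (conv_classFunction (blockCoeff_classFunction F) (blockCoeff_classFunction X))
    (blockCoeff_classFunction F)
  intro χ
  rw [Om_conv (blockCoeff_classFunction X) χ.2, Om_blockCoeff, Om_blockCoeff]
  by_cases hχ : χ ∈ F
  · rw [if_pos hχ, if_pos (h hχ), mul_one]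
  · rw [if_neg hχ, zero_mul]

end idem

variable {G : Type u} [Group G] [Fintype G]

theorem ext_restrict {T : Subgroup G} {c : G → ℂ} (h : ∀ g, g ∉ T → c g = 0) :
    extendByZero T (fun t : T => c t) = c := by
  funext g
  by_cases hg : g ∈ T
  · rw [extendByZero_mem T _ hg]
  · rw [extendByZero_not_mem T _ hg, h g hg]

theorem conv_restrict {T : Subgroup G} {c d : G → ℂ} (hc : ∀ g, g ∉ T → c g = 0)
    (hd : ∀ g, g ∉ T → d g = 0) (t : T) :
    conv (fun t : T => c t) (fun t : T => d t) t = conv c d t := by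
  conv_rhs => rw [← ext_restrict hc, ← ext_restrict hd, conv_ext, extendByZero_coe]

theorem stab_block_aux (hM : M.IsPrime) {K T : Subgroup G} (hKT : K ≤ T)
    {f : Set (IrrCharacter K)} (hf : IsPBlock M f) (hinv : Inv T (subgroupBlockCoeff K f))
    (hsupp : ∀ F : Set (IrrCharacter T), IsPBlock M F → ∀ t : T, (t : G) ∉ K →
      blockCoeff F t = 0) :
    ∃ F : Set (IrrCharacter T), IsPBlock M F ∧
      ∀ t : T, blockCoeff F t = subgroupBlockCoeff K f (t : G) := by
  set ε := subgroupBlockCoeff K f with hε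
  have hεK : ∀ g, g ∉ K → ε g = 0 := fun g hg => sbc_not_mem K f hg
  have hεT : ∀ g, g ∉ T → ε g = 0 := fun g hg => hεK g (fun h => hg (hKT h))
  set c : T → ℂ := fun t => ε t with hcdef
  have hc : IsClassFunction T c := restrict_classFunction_of_inv hinv
  have hcR : ∀ t, MemLocalRing M (c t) := fun t => sbc_ring hM hf _
  have hci : conv c c = c := by
    funext t
    rw [hcdef, conv_restrict hεT hεT, hε, sbc_idem]
  have hcX := idem_eq_blockCoeff hc hci
  set X := {χ : IrrCharacter T | Om c (χ : T → ℂ) = 1} with hX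
  obtain ⟨g0, hg0⟩ := exists_defectClass hM hf
  have hXne : X.Nonempty := by
    by_contra h
    rw [Set.not_nonempty_iff_eq_empty] at h
    rw [h, blockCoeff_empty] at hcX
    apply hg0.2.1
    have h1 : c ⟨g0, hKT g0.2⟩ = blockCoeff f g0 := sbc_coe K f g0
    rw [← h1, hcX]
    exact ideal_zero hM
  obtain ⟨χ0, hχ0⟩ := hXne
  have hF : IsPBlock M (blockOf M (χ0 : T → ℂ)) := ⟨χ0, rfl⟩
  have hFX : blockOf M (χ0 : T → ℂ) ⊆ X :=
    union_of_blocks hM X (by rw [← hcX]; exact hcR) χ0 hχ0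
  set F := blockOf M (χ0 : T → ℂ) with hFdef
  refine ⟨F, hF, ?_⟩
  have hs := hsupp F hF
  set A : G → ℂ := extendByZero T (blockCoeff F) with hA
  have hAK : ∀ g, g ∉ K → A g = 0 := by
    intro g hg
    by_cases hgT : g ∈ T
    · rw [hA, extendByZero_mem T _ hgT]; exact hs ⟨g, hgT⟩ hg
    · exact extendByZero_not_mem T _ hgT
  have hAA : conv A A = A := by rw [hA, conv_ext, conv_blockCoeff_self]
  have hAε : conv A ε = A := by
    have h1 : ε = extendByZero T (blockCoeff X) := by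
      rw [← hcX]; exact (ext_restrict hεT).symm
    rw [h1, hA, conv_ext, conv_blockCoeff_subset hFX]
  set d : K → ℂ := fun k => A k with hd
  have hdc : IsClassFunction K d :=
    restrict_classFunction_of_inv (inv_mono hKT (ext_inv T (blockCoeff_classFunction F)))
  have hdR : ∀ k, MemLocalRing M (d k) := fun k => ext_ring T hM (osima_block hM hF) _
  have hdd : conv d d = d := by
    funext k
    rw [hd, conv_restrict hAK hAK, hAA]
  have hdf : conv d (blockCoeff f) = d := by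
    funext k
    have h1 : blockCoeff f = fun k : K => ε k := funext fun k => (sbc_coe K f k).symm
    rw [h1, hd, conv_restrict hAK hεK, hAε]
  have hd0 : d ≠ 0 := by
    obtain ⟨t0, ht0⟩ := exists_defectClass hM hF
    have ht0K : (t0 : G) ∈ K := by
      by_contra h
      apply ht0.2.1
      rw [hs t0 h]
      exact ideal_zero hM
    intro h
    apply ht0.2.1
    have h1 : d ⟨t0, ht0K⟩ = blockCoeff F t0 := extendByZero_coe T _ t0
    rw [← h1, h]
    exact ideal_zero hM
  have hfin := idem_le_block hM hf hdc hdR hdd hdf hd0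
  intro t
  by_cases ht : (t : G) ∈ K
  · have h1 : d ⟨t, ht⟩ = blockCoeff F t := extendByZero_coe T _ t
    rw [← h1, hfin]
    exact (sbc_coe K f ⟨t, ht⟩).symm
  · rw [hs t ht, hεK _ ht]

theorem stab_block [Fact p.Prime] (hM : IsPModular p M) {Q T : Subgroup G} (hQ : IsPGroup p Q)
    {f : Set (IrrCharacter (Subgroup.centralizer (Q : Set G)))} (hf : IsPBlock M f)
    (hQT : Q ≤ T) (hKT : Subgroup.centralizer (Q : Set G) ≤ T)
    (hTN : T ≤ Subgroup.normalizer (Q : Set G))
    (hinv : Inv T (subgroupBlockCoeff (Subgroup.centralizer (Q : Set G)) f)) :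
    ∃ F : Set (IrrCharacter T), IsPBlock M F ∧
      ∀ t : T, blockCoeff F t = subgroupBlockCoeff (Subgroup.centralizer (Q : Set G)) f (t : G) := by
  apply stab_block_aux (isPrime_of_modular hM) hKT hf hinv
  intro F hF t ht
  haveI : (Q.subgroupOf T).Normal := Subgroup.normal_subgroupOf_of_le_normalizer hTN
  apply Cfsg.Agent.Lib.helper8_BlockNormalP.blockCoeff_eq_zero hM (Q.subgroupOf T)
    hQ.comap_subtype hF
  intro h
  apply ht
  rw [Subgroup.mem_centralizer_iff] at h ⊢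
  intro q hq
  have := h ⟨q, hQT hq⟩ (by
    show (⟨q, hQT hq⟩ : T) ∈ Q.subgroupOf T
    rw [Subgroup.mem_subgroupOf]; exact hq)
  exact congrArg Subtype.val this

end Cfsg.Agent.Lib.Helper2_BP12
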