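import Mathlib
import Cfsg.Prelude.Def_BrauerPairs
import Cfsg.Agent.Lib.Helper2_BP12

set_option autoImplicit false

namespace Cfsg.Agent.Lib.Helper2_BP13

open Cfsg Cfsg.Agent.Lib.Helper2_BlockLocal Cfsg.Agent.Lib.Helper2_BlockOm
  Cfsg.Agent.Lib.Helper2_BlockOsima Cfsg.Agent.Lib.Helper2_BlockBasic
  Cfsg.Agent.Lib.Helper2_BlockOrtho Cfsg.Agent.Lib.Helper2_BlockMinMax
  Cfsg.Agent.Lib.Helper2_BlockInd Cfsg.Agent.Lib.Helper2_BlockDefect
  Cfsg.Agent.Lib.Helper2_BlockPCore Cfsg.Agent.Lib.Helper2_BlockNormal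
  Cfsg.Agent.Lib.Helper2_BlockBrauer Cfsg.Agent.Lib.Helper2_BlockFMT
  Cfsg.Agent.Lib.Helper2_BrauerPairs Cfsg.Agent.Lib.Helper2_SecondMain
  Cfsg.Agent.Lib.Helper2_BP1 Cfsg.Agent.Lib.Helper2_BP2 Cfsg.Agent.Lib.Helper2_BP3
  Cfsg.Agent.Lib.Helper2_BP4 Cfsg.Agent.Lib.Helper2_BP5 Cfsg.Agent.Lib.Helper2_BP6
  Cfsg.Agent.Lib.Helper2_BP7 Cfsg.Agent.Lib.Helper2_BP8 Cfsg.Agent.Lib.Helper2_BP9
  Cfsg.Agent.Lib.Helper2_BP10 Cfsg.Agent.Lib.Helper2_BP11 Cfsg.Agent.Lib.Helper2_BP12
  Cfsg.Agent.Lib.Helper2_BlockSection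
  Cfsg.Agent.Lib.Helper2_BlockCover2 Cfsg.Agent.Lib.Helper2_Basic
  Cfsg.Agent.Lib.CharBasic Cfsg.Agent.Lib.CharOrtho
  Cfsg.Agent.Lib.CharComplete Cfsg.Agent.Lib.CharIntegral Cfsg.Agent.Lib.CharMore
  Cfsg.Agent.Lib.CharPerm Cfsg.Agent.Lib.CharInd
open scoped ComplexConjugate Classical
open Relation

universe u

variable {M : Ideal AlgInt} {p : ℕ} {G : Type u} [Group G]

/-- `T` is the stabilizer of the pair `(Q, f)` -/
def IsStab (Q : Subgroup G) (f : Set (IrrCharacter (Subgroup.centralizer (Q : Set G))))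
    (T : Subgroup G) : Prop :=
  ∀ y : G, y ∈ T ↔ y ∈ Subgroup.normalizer (Q : Set G) ∧
    StabilizesBlock (Subgroup.centralizer (Q : Set G)) f y

variable [Finite G]

theorem mem_normalizer_map_iff {Q : Subgroup G} {x y : G} :
    y ∈ Subgroup.normalizer ((Q.map (MulAut.conj x).toMonoidHom : Subgroup G) : Set G) ↔
      x⁻¹ * y * x ∈ Subgroup.normalizer (Q : Set G) := by
  constructor
  · intro h
    have h1 := conj_mem_normalizer_map (x := x⁻¹) h
    rw [map_conj_mul, inv_mul_cancel, map_conj_one, inv_inv] at h1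
    exact h1
  · intro h
    have h1 := conj_mem_normalizer_map (x := x) h
    have e : x * (x⁻¹ * y * x) * x⁻¹ = y := by group
    rw [e] at h1
    exact h1

theorem stab_facts {Q T : Subgroup G} {f : Set (IrrCharacter (Subgroup.centralizer (Q : Set G)))}
    (hT : IsStab Q f T) : Q ≤ T ∧ Subgroup.centralizer (Q : Set G) ≤ T ∧
      T ≤ Subgroup.normalizer (Q : Set G) ∧
      Inv T (subgroupBlockCoeff (Subgroup.centralizer (Q : Set G)) f) := by
  refine ⟨?_, ?_, fun y hy => ((hT y).mp hy).1, ?_⟩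
  · intro q hq
    rw [hT q, stabilizes_iff_inv]
    exact ⟨Subgroup.le_normalizer hq,
      normalizer_le_normalizer_centralizer Q (Subgroup.le_normalizer hq), sbc_inv_self Q f q hq⟩
  · intro c hc
    rw [hT c, stabilizes_iff_inv]
    exact ⟨centralizer_le_normalizer' Q hc, Subgroup.le_normalizer hc, sbc_inv _ f c hc⟩
  · intro y hy
    exact (stabilizes_iff_inv.mp ((hT y).mp hy).2).2

theorem stab_conj {Q T : Subgroup G} {f : Set (IrrCharacter (Subgroup.centralizer (Q : Set G)))}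
    (hT : IsStab Q f T) (x : G) {T' : Subgroup G}
    (hT' : IsStab (Q.map (MulAut.conj x).toMonoidHom) (conjBlock Q x f) T') :
    T' = T.map (MulAut.conj x).toMonoidHom := by
  ext y
  rw [hT' y, mem_cj, hT, mem_normalizer_map_iff, stabilizes_iff_inv, stabilizes_iff_inv]
  constructor
  · rintro ⟨h1, -, h3⟩
    refine ⟨h1, normalizer_le_normalizer_centralizer Q h1, fun g => ?_⟩
    have h4 := h3 (x * g * x⁻¹)
    rw [sbc_conjBlock, sbc_conjBlock] at h4
    convert h4 using 2 <;> group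
  · rintro ⟨h1, -, h3⟩
    refine ⟨h1, normalizer_le_normalizer_centralizer _ (mem_normalizer_map_iff.mpr h1),
      fun g => ?_⟩
    rw [sbc_conjBlock, sbc_conjBlock]
    have h4 := h3 (x⁻¹ * g * x)
    convert h4 using 2
    group

omit [Finite G] in
theorem coe_equivMap (T : Subgroup G) (x : G) (t : T) :
    ((T.equivMapOfInjective (MulAut.conj x).toMonoidHom (MulAut.conj x).injective t : _) : G) =
      x * t * x⁻¹ := rfl

section main

variable [Fintype G]

omit [Finite G] in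
/-- `N_P(Q)` lies in a defect group of the block of the stabilizer -/
theorem normalizer_le_defect [Fact p.Prime] (hM : IsPModular p M) {P Q T : Subgroup G}
    {e : Set (IrrCharacter (Subgroup.centralizer (P : Set G)))}
    {f : Set (IrrCharacter (Subgroup.centralizer (Q : Set G)))}
    (hPe : IsBrauerPair p M P e) (hle : SubpairLE p M Q f P e) (hT : IsStab Q f T) :
    ∃ F : Set (IrrCharacter T), IsPBlock M F ∧
      (∀ t : T, blockCoeff F t =
        subgroupBlockCoeff (Subgroup.centralizer (Q : Set G)) f (t : G)) ∧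
      ∃ D : Subgroup T, IsDefectGroup p M F D ∧
        (P ⊓ Subgroup.normalizer (Q : Set G)).subgroupOf T ≤ D := by
  have hPr := isPrime_of_modular hM
  have hQP : Q ≤ P := rtg_le hle
  have hQf : IsBrauerPair p M Q f := rtg_isBrauerPair' hle hPe
  obtain ⟨hQT, hKT, hTN, hinv⟩ := stab_facts hT
  obtain ⟨F, hF, hFc⟩ := stab_block hM hQf.1 hQf.2 hQT hKT hTN hinv
  refine ⟨F, hF, hFc, ?_⟩
  obtain ⟨g, -, hg⟩ := normal_between hM hPe hle
    (R := P ⊓ Subgroup.normalizer (Q : Set G)) (le_inf hQP Subgroup.le_normalizer) inf_le_left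
    inf_le_right
  obtain ⟨y, hy, hy0⟩ := exists_unit_of_normalSubpair hPr hg
  have hyQ : y ∈ Subgroup.centralizer (Q : Set G) :=
    centralizer_anti (le_inf hQP Subgroup.le_normalizer) hy
  have h1 := hFc ⟨y, hKT hyQ⟩
  simp only at h1
  rw [← h1] at hy0
  apply le_defect_of_unit hM hF hy0 ((hPe.1.to_le inf_le_left).comap_subtype)
  intro a ha
  rw [Subgroup.mem_comap] at ha
  rw [Subgroup.mem_centralizer_singleton_iff]
  apply Subtype.ext
  exact Subgroup.mem_centralizer_iff.mp hy a ha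

omit [Finite G] in
theorem exists_conj_normalizer_defect [Fact p.Prime] (hM : IsPModular p M)
    {B : Set (IrrCharacter G)} {P Q T : Subgroup G}
    {e : Set (IrrCharacter (Subgroup.centralizer (P : Set G)))}
    {f : Set (IrrCharacter (Subgroup.centralizer (Q : Set G)))}
    (hBe : IsBrauerPairOf p M B P e) (hno : NoExt p M P e) (hle : SubpairLE p M Q f P e)
    (hT : IsStab Q f T) :
    ∃ x : G, SubpairLE p M (Q.map (MulAut.conj x).toMonoidHom) (conjBlock Q x f) P e ∧
      ∀ T' : Subgroup G, IsStab (Q.map (MulAut.conj x).toMonoidHom) (conjBlock Q x f) T' →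
      ∃ F' : Set (IrrCharacter T'), IsPBlock M F' ∧
        (∀ t : T', blockCoeff F' t = subgroupBlockCoeff
          (Subgroup.centralizer ((Q.map (MulAut.conj x).toMonoidHom) : Set G))
          (conjBlock Q x f) (t : G)) ∧
        IsDefectGroup p M F'
          ((P ⊓ Subgroup.normalizer ((Q.map (MulAut.conj x).toMonoidHom) : Set G)).subgroupOf
            T') := by
  have hPr := isPrime_of_modular hM
  have hPe := hBe.1
  have hQf : IsBrauerPair p M Q f := rtg_isBrauerPair' hle hPe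
  have hBf : IsBrauerPairOf p M B Q f := (brauerPairOf_iff_of_le hM hPe hQf hle hBe.2.1).mp hBe
  obtain ⟨hQT, hKT, hTN, hinv⟩ := stab_facts hT
  obtain ⟨F, hF, hFc⟩ := stab_block hM hQf.1 hQf.2 hQT hKT hTN hinv
  obtain ⟨D, hD⟩ := exists_defectGroup (p := p) hPr hF
  obtain ⟨g0, hg0, S, hS⟩ := id hD
  have hDp : IsPGroup p D := by rw [hS]; exact S.2.map _
  set DG := D.map T.subtype with hDG
  have hDGT : DG ≤ T := by rintro _ ⟨a, -, rfl⟩; exact a.2
  have hDGN := hDGT.trans hTN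
  have hQDG : Q ≤ DG := by
    have h1 := normal_pGroup_le_defect hM hF hD (Q.subgroupOf T)
      (Subgroup.normal_subgroupOf_of_le_normalizer hTN) hQf.1.comap_subtype
    intro q hq
    exact ⟨⟨q, hQT hq⟩, h1 (by rw [Subgroup.mem_subgroupOf]; exact hq), rfl⟩
  have hst : ∀ x ∈ DG, StabilizesBlock (Subgroup.centralizer (Q : Set G)) f x :=
    fun x hx => ((hT x).mp (hDGT hx)).2
  have hy : (g0 : G) ∈ Subgroup.centralizer (DG : Set G) := by
    apply mem_centralizer_of_le
    rintro _ ⟨a, ha, rfl⟩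
    rw [hS] at ha
    obtain ⟨b, -, rfl⟩ := ha
    have := Subgroup.mem_centralizer_singleton_iff.mp b.2
    rw [Subgroup.mem_centralizer_singleton_iff]
    exact congrArg Subtype.val this
  have hy0 : ¬ MemLocalIdeal M (subgroupBlockCoeff (Subgroup.centralizer (Q : Set G)) f g0) := by
    rw [← hFc]; exact hg0.2.1
  obtain ⟨g, hg⟩ := exists_normal_extension hM hQf (hDp.map _) hQDG hDGN hst hy hy0
  have hrel : ReflTransGen (NormalSubpairRel p M) ⟨Q, f⟩ ⟨DG, g⟩ :=
    ReflTransGen.single (show NormalSubpairRel p M ⟨Q, f⟩ ⟨DG, g⟩ from hg)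
  have hBg : IsBrauerPairOf p M B DG g :=
    (brauerPairOf_iff_of_le hM hg.2.1 hQf hrel hBe.2.1).mpr hBf
  obtain ⟨x, hx⟩ := conj_into_noExt hM hBe hno (a := ⟨DG, g⟩) hBg
  have hle' : SubpairLE p M (Q.map (MulAut.conj x).toMonoidHom) (conjBlock Q x f) P e :=
    (rtg_cjPair x hrel).trans hx
  refine ⟨x, hle', ?_⟩
  intro T' hT'
  obtain ⟨F', hF', hFc', D', hD', hle2⟩ := normalizer_le_defect hM hPe hle' hT'
  refine ⟨F', hF', hFc', ?_⟩
  have hTT := stab_conj hT x hT'
  subst hTT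
  set φ := T.equivMapOfInjective (MulAut.conj x).toMonoidHom (MulAut.conj x).injective with hφ
  have hFF : F' = mapBlock φ F := by
    apply blockCoeff_injective
    funext t'
    obtain ⟨t, rfl⟩ := φ.surjective t'
    rw [blockCoeff_mapBlock, hFc, hFc', sbc_conjBlock, hφ, coe_equivMap]
    congr 1
    group
  have hD2 : IsDefectGroup p M F' (D.map φ.toMonoidHom) := by
    rw [hFF]
    exact isDefectGroup_mapBlock _ hD
  have hsub : D.map φ.toMonoidHom ≤
      (P ⊓ Subgroup.normalizer ((Q.map (MulAut.conj x).toMonoidHom) : Set G)).subgroupOf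
        (T.map (MulAut.conj x).toMonoidHom) := by
    rintro _ ⟨d, hd, rfl⟩
    rw [Subgroup.mem_subgroupOf]
    refine ⟨?_, ((hT' _).mp (Subtype.property _)).1⟩
    have h3 : DG.map (MulAut.conj x).toMonoidHom ≤ P := rtg_le hx
    apply h3
    exact ⟨d, ⟨d, hd, rfl⟩, rfl⟩
  have heq := Subgroup.eq_of_le_of_card_ge hle2 (by
    rw [card_defect_eq hM hF' hD' hD2]
    exact Nat.card_le_card_of_injective _ (Subgroup.inclusion_injective hsub))
  rw [heq]
  exact hD'

end main

end Cfsg.Agent.Lib.Helper2_BP13
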