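import Mathlib
import Cfsg.Prelude.Def_BrauerPairs
import Cfsg.Agent.Lib.Helper2_BP13

set_option autoImplicit false

namespace Cfsg.Agent.Lib.Helper2_BP14

open Cfsg Cfsg.Agent.Lib.Helper2_BlockLocal Cfsg.Agent.Lib.Helper2_BlockOm
  Cfsg.Agent.Lib.Helper2_BlockOsima Cfsg.Agent.Lib.Helper2_BlockBasic
  Cfsg.Agent.Lib.Helper2_BlockOrtho Cfsg.Agent.Lib.Helper2_BlockMinMax
  Cfsg.Agent.Lib.Helper2_BlockInd Cfsg.Agent.Lib.Helper2_BlockDefect
  Cfsg.Agent.Lib.Helper2_BlockPCore Cfsg.Agent.Lib.Helper2_BlockNormal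
  Cfsg.Agent.Lib.Helper2_BlockBrauer Cfsg.Agent.Lib.Helper2_BlockFMT
  Cfsg.Agent.Lib.Helper2_BrauerPairs Cfsg.Agent.Lib.Helper2_SecondMain
  Cfsg.Agent.Lib.Helper2_BP1 Cfsg.Agent.Lib.Helper2_BP2 Cfsg.Agent.Lib.Helper2_BP3
  Cfsg.Agent.Lib.Helper2_BP4 Cfsg.Agent.Lib.Helper2_BP5 Cfsg.Agent.Lib.Helper2_BP6
  Cfsg.Agent.Lib.Helper2_BP7 Cfsg.Agent.Lib.Helper2_BP8 Cfsg.Agent.Lib.Helper2_BP9
  Cfsg.Agent.Lib.Helper2_BP10 Cfsg.Agent.Lib.Helper2_BP11 Cfsg.Agent.Lib.Helper2_BP12
  Cfsg.Agent.Lib.Helper2_BP13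
  Cfsg.Agent.Lib.Helper2_BlockSection
  Cfsg.Agent.Lib.Helper2_BlockCover2 Cfsg.Agent.Lib.Helper2_Basic
  Cfsg.Agent.Lib.CharBasic Cfsg.Agent.Lib.CharOrtho
  Cfsg.Agent.Lib.CharComplete Cfsg.Agent.Lib.CharIntegral Cfsg.Agent.Lib.CharMore
  Cfsg.Agent.Lib.CharPerm Cfsg.Agent.Lib.CharInd
open scoped ComplexConjugate Classical
open Relation

universe u

variable {M : Ideal AlgInt} {p : ℕ} {G : Type u} [Group G] [Fintype G]

theorem trace_block_aux (hM : M.IsPrime) {K : Subgroup G} {B : Set (IrrCharacter G)}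
    (hB : IsPBlock M B) (hsupp : ∀ g, g ∉ K → blockCoeff B g = 0) {c : G → ℂ}
    (hc : IsClassFunction G c) (hcR : ∀ g, MemLocalRing M (c g)) (hcK : ∀ g, g ∉ K → c g = 0)
    (h01 : ∀ ξ : IrrCharacter K, Om (fun k : K => c k) (ξ : K → ℂ) = 0 ∨
      (Om (fun k : K => c k) (ξ : K → ℂ) = 1 ∧
        Om (fun k : K => blockCoeff B k) (ξ : K → ℂ) = 1)) (hc0 : c ≠ 0) :
    blockCoeff B = c := by
  set r : K → ℂ := fun k => c k with hr
  set d : K → ℂ := fun k => blockCoeff B k with hd
  have hrc : IsClassFunction K r := restrict_classFunction_of_inv (inv_of_classFunction hc K)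
  have hdc : IsClassFunction K d :=
    restrict_classFunction_of_inv (inv_of_classFunction (blockCoeff_classFunction B) K)
  have h1 : conv r r = r := by
    apply eq_of_Om_eq (conv_classFunction hrc hrc) hrc
    intro ξ
    rw [Om_conv hrc ξ.2]
    rcases h01 ξ with h | ⟨h, -⟩ <;> rw [h] <;> simp
  have h2 : conv r d = r := by
    apply eq_of_Om_eq (conv_classFunction hrc hdc) hrc
    intro ξ
    rw [Om_conv hdc ξ.2]
    rcases h01 ξ with h | ⟨h, h'⟩
    · rw [h]; simp
    · rw [h, h']; simp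
  have e1 : c = extendByZero K r := (ext_restrict hcK).symm
  have e2 : blockCoeff B = extendByZero K d := (ext_restrict hsupp).symm
  have h3 : conv c c = c := by
    conv_lhs => rw [e1, conv_ext, h1, ← e1]
  have h4 : conv c (blockCoeff B) = c := by
    conv_lhs => rw [e1, e2, conv_ext, h2, ← e1]
  exact (idem_le_block hM hB hc hcR h3 h4 hc0).symm

/-- orbit counting -/
theorem sum_orbit {P T : Subgroup G} (hN : ∀ x : G, x ∈ Subgroup.normalizer (P : Set G))
    {e : Set (IrrCharacter (Subgroup.centralizer (P : Set G)))}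
    (hT : ∀ x : G, x ∈ T ↔ StabilizesBlock (Subgroup.centralizer (P : Set G)) e x)
    (F : Set (IrrCharacter (Subgroup.centralizer (P : Set G))) → ℂ) :
    ∑ x : G, F (cb P x (hN x) e) = (Nat.card T : ℂ) *
      ∑ w : Set (IrrCharacter (Subgroup.centralizer (P : Set G))),
        if w ∈ orb P e then F w else 0 := by
  rw [← Finset.sum_fiberwise Finset.univ (fun x => cb P x (hN x) e), Finset.mul_sum]
  refine Finset.sum_congr rfl fun w _ => ?_
  split_ifs with hw
  · obtain ⟨n, hn, rfl⟩ := hw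
    have h1 : ∀ x ∈ Finset.univ.filter (fun x : G => cb P x (hN x) e = cb P n hn e),
        F (cb P x (hN x) e) = F (cb P n hn e) := by
      intro x hx
      rw [(Finset.mem_filter.mp hx).2]
    rw [Finset.sum_congr rfl h1, Finset.sum_const, nsmul_eq_mul]
    congr 2
    have h2 : ∀ x : G, cb P x (hN x) e = cb P n hn e ↔ n⁻¹ * x ∈ T := by
      intro x
      rw [hT, stabilizes_iff]
      constructor
      · intro h
        refine ⟨normalizer_le_normalizer_centralizer P (hN _), ?_⟩
        show cb P (n⁻¹ * x) (hN _) e = e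
        rw [← cb_cb P (hN n⁻¹) (hN x), h, cb_cb,
          cb_congr P (inv_mul_cancel n) _ (Subgroup.one_mem _), cb_one]
      · rintro ⟨h0, h⟩
        have h' : cb P (n⁻¹ * x) (hN _) e = e := h
        have h3 : cb P n hn (cb P (n⁻¹ * x) (hN _) e) = cb P n hn e := by rw [h']
        rw [cb_cb] at h3
        rw [← h3]
        exact cb_congr P (by group) _ _ e
    rw [← Nat.card_eq_finsetCard]
    apply Nat.card_congr
    refine (Equiv.subtypeEquiv (Equiv.mulLeft n⁻¹) ?_)
    intro x
    simp only [Finset.mem_filter, Finset.mem_univ, true_and, Equiv.coe_mulLeft]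
    exact h2 x
  · rw [mul_zero]
    apply Finset.sum_eq_zero
    intro x hx
    exact absurd ⟨x, hN x, (Finset.mem_filter.mp hx).2.symm⟩ hw

theorem trace_block [Fact p.Prime] (hM : IsPModular p M) {P T : Subgroup G} [P.Normal]
    {B : Set (IrrCharacter G)} {e : Set (IrrCharacter (Subgroup.centralizer (P : Set G)))}
    (hBe : IsBrauerPairOf p M B P e)
    (hT : ∀ x : G, x ∈ T ↔ StabilizesBlock (Subgroup.centralizer (P : Set G)) e x) (g : G) :
    blockCoeff B g = (Nat.card T : ℂ)⁻¹ *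
      ∑ x : G, subgroupBlockCoeff (Subgroup.centralizer (P : Set G)) e (x⁻¹ * g * x) := by
  have hPr := isPrime_of_modular hM
  obtain ⟨hPe, hB, hb⟩ := id hBe
  have hN : ∀ x : G, x ∈ Subgroup.normalizer (P : Set G) := by
    intro x
    rw [Subgroup.normalizer_eq_top]
    exact Subgroup.mem_top x
  have hT0 : (Nat.card T : ℂ) ≠ 0 := by exact_mod_cast Nat.card_pos.ne'
  have h1 := sum_orbit hN hT (fun w => subgroupBlockCoeff _ w g)
  simp only [sbc_cb] at h1
  rw [h1, ← eO_apply, ← mul_assoc, inv_mul_cancel₀ hT0, one_mul]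
  have hsupp : ∀ g, g ∉ Subgroup.centralizer (P : Set G) → blockCoeff B g = 0 := fun g hg =>
    Cfsg.Agent.Lib.helper8_BlockNormalP.blockCoeff_eq_zero hM P hPe.1 hB hg
  have hc : IsClassFunction G (eO P e) := fun g x => eO_inv P e x (hN x) g
  have hcK : ∀ g, g ∉ Subgroup.centralizer (P : Set G) → eO P e g = 0 := by
    intro g hg
    rw [eO_apply]
    apply Finset.sum_eq_zero
    intro w _
    split_ifs
    · exact sbc_not_mem _ _ hg
    · rfl
  have hdi : ∀ ξ : IrrCharacter (Subgroup.centralizer (P : Set G)),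
      Om (fun k : Subgroup.centralizer (P : Set G) => blockCoeff B k) (ξ : _ → ℂ) = 0 ∨
      Om (fun k : Subgroup.centralizer (P : Set G) => blockCoeff B k) (ξ : _ → ℂ) = 1 := by
    intro ξ
    have hdc : IsClassFunction _ (fun k : Subgroup.centralizer (P : Set G) => blockCoeff B k) :=
      restrict_classFunction_of_inv (inv_of_classFunction (blockCoeff_classFunction B) _)
    have h2 := Om_conv (c := fun k : Subgroup.centralizer (P : Set G) => blockCoeff B k) hdc ξ.2
    have h3 : conv (fun k : Subgroup.centralizer (P : Set G) => blockCoeff B k)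
        (fun k : Subgroup.centralizer (P : Set G) => blockCoeff B k) =
        fun k : Subgroup.centralizer (P : Set G) => blockCoeff B k := by
      funext k
      rw [conv_restrict hsupp hsupp, conv_blockCoeff_self]
    rw [h3] at h2
    have h4 : Om (fun k : Subgroup.centralizer (P : Set G) => blockCoeff B k) (ξ : _ → ℂ) *
      (Om (fun k : Subgroup.centralizer (P : Set G) => blockCoeff B k) (ξ : _ → ℂ) - 1) = 0 := by
      linear_combination -h2
    rcases mul_eq_zero.mp h4 with h5 | h5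
    · exact Or.inl h5
    · exact Or.inr (sub_eq_zero.mp h5)
  have key := trace_block_aux hPr hB hsupp hc (eO_ring hPr hPe.2) hcK ?_ ?_
  · rw [key]
  · intro ξ
    have he' : IsPBlock M (blockOf M (ξ : Subgroup.centralizer (P : Set G) → ℂ)) := ⟨ξ, rfl⟩
    have h2 := bo_eO hPr hPe.2 he' (self_mem_blockOf hPr ξ)
    rw [bo_eq] at h2
    by_cases ho : blockOf M (ξ : Subgroup.centralizer (P : Set G) → ℂ) ∈ orb P e
    · right
      rw [if_pos ho] at h2
      refine ⟨h2, ?_⟩
      obtain ⟨n, hn, hw⟩ := ho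
      have h3 := brauerPairOf_cjPair n (a := ⟨P, e⟩) hBe
      rw [cjPair_of_normalizer hn, ← hw] at h3
      have h4 := h3.2.2 ξ (self_mem_blockOf hPr ξ)
      rw [bo_eq] at h4
      rcases hdi ξ with h5 | h5
      · exfalso
        rw [h5] at h4
        apply not_ideal_one hPr (M := M)
        have := ideal_neg h4
        simpa using this
      · exact h5
    · left
      rw [if_neg ho] at h2
      exact h2
  · intro h0
    obtain ⟨ξ, hξ⟩ := block_nonempty hPr hPe.2
    have h2 := bo_eO hPr hPe.2 hPe.2 hξ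
    rw [if_pos (self_mem_orb P e), h0, bo_zero] at h2
    exact zero_ne_one h2

end Cfsg.Agent.Lib.Helper2_BP14
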