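import Mathlib
import Cfsg.Prelude.Def_Blocks
import Cfsg.Prelude.Def_BlockRank
import Cfsg.Agent.Lib.helper8_Height
import Cfsg.Agent.Lib.helper8_DefectZero
import Cfsg.Agent.Lib.Helper2_PPart
import Cfsg.Agent.Lib.Helper2_BlockDefOrder
import Cfsg.Agent.Lib.CharQuot

set_option autoImplicit false

namespace Cfsg.Agent.Lib.Helper2_CentralDef

open Cfsg Cfsg.Agent.Lib.CharBasic Cfsg.Agent.Lib.CharOrtho
  Cfsg.Agent.Lib.CharComplete Cfsg.Agent.Lib.CharIntegral Cfsg.Agent.Lib.CharMore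
  Cfsg.Agent.Lib.CharInd Cfsg.Agent.Lib.CharQuot
  Cfsg.Agent.Lib.helper8_BlockRank Cfsg.Agent.Lib.helper8_Height
  Cfsg.Agent.Lib.helper8_Defect Cfsg.Agent.Lib.helper8_DefectZero
  Cfsg.Agent.Lib.Helper2_BlockLocal Cfsg.Agent.Lib.Helper2_BlockOm
  Cfsg.Agent.Lib.Helper2_PPart Cfsg.Agent.Lib.Helper2_BlockDefOrder
open scoped ComplexConjugate Classical

universe u

variable {H : Type u} [Group H] {p : ℕ} {M : Ideal AlgInt}

theorem existsUnique_regular_lift [Finite H] (hp : p.Prime) (Z : Subgroup H) [Z.Normal]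
    (hZc : Z ≤ Subgroup.center H) (hZp : IsPGroup p Z) (q : H ⧸ Z) (hq : ¬ p ∣ orderOf q) :
    ∃! g : H, (QuotientGroup.mk g : H ⧸ Z) = q ∧ ¬ p ∣ orderOf g := by
  obtain ⟨g0, rfl⟩ := QuotientGroup.mk_surjective q
  obtain ⟨a, b, s, h1, h2, h3⟩ := exists_parts hp g0
  have hmk : (QuotientGroup.mk (g0 ^ b) : H ⧸ Z) = QuotientGroup.mk g0 := by
    have e1 : (QuotientGroup.mk g0 : H ⧸ Z) ^ a = 1 := by
      have d1 : orderOf ((QuotientGroup.mk g0 : H ⧸ Z) ^ a) ∣ p ^ s := by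
        apply orderOf_dvd_of_pow_eq_one
        rw [← QuotientGroup.mk_pow, ← QuotientGroup.mk_pow, h2]; rfl
      have d2 : orderOf ((QuotientGroup.mk g0 : H ⧸ Z) ^ a) ∣
          orderOf (QuotientGroup.mk g0 : H ⧸ Z) := orderOf_pow_dvd a
      have hc : Nat.Coprime (p ^ s) (orderOf (QuotientGroup.mk g0 : H ⧸ Z)) :=
        Nat.Coprime.pow_left s ((Nat.Prime.coprime_iff_not_dvd hp).mpr hq)
      exact orderOf_eq_one_iff.mp (Nat.eq_one_of_dvd_coprimes hc d1 d2)
    have e2 := congrArg (QuotientGroup.mk : H → H ⧸ Z) h1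
    rw [QuotientGroup.mk_mul, QuotientGroup.mk_pow, QuotientGroup.mk_pow, e1, one_mul] at e2
    rw [QuotientGroup.mk_pow]; exact e2
  refine ⟨g0 ^ b, ⟨hmk, h3⟩, ?_⟩
  rintro g ⟨hg1, hg2⟩
  have hz : (g0 ^ b)⁻¹ * g ∈ Z := QuotientGroup.eq.mp (hmk.trans hg1.symm)
  set w := g0 ^ b with hw
  set z := w⁻¹ * g with hzdef
  have hzc : Commute w z := (Subgroup.mem_center_iff.mp (hZc hz) w)
  have hg : g = w * z := by rw [hzdef]; group
  have hzn : z ^ (orderOf w * orderOf g) = 1 := by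
    have e1 : g ^ (orderOf w * orderOf g) = 1 := by
      rw [mul_comm, pow_mul, pow_orderOf_eq_one, one_pow]
    rw [hg, hzc.mul_pow, pow_mul w, pow_orderOf_eq_one, one_pow, one_mul, ← hg] at e1
    exact e1
  obtain ⟨k, hk⟩ := hZp ⟨z, hz⟩
  have hk' : z ^ (p ^ k) = 1 := by
    have := congrArg Subtype.val hk
    simpa using this
  have d1 : orderOf z ∣ p ^ k := orderOf_dvd_of_pow_eq_one hk'
  have d2 : orderOf z ∣ orderOf w * orderOf g := orderOf_dvd_of_pow_eq_one hzn
  have hc : Nat.Coprime (p ^ k) (orderOf w * orderOf g) :=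
    Nat.Coprime.pow_left k (Nat.Coprime.mul_right ((Nat.Prime.coprime_iff_not_dvd hp).mpr h3)
      ((Nat.Prime.coprime_iff_not_dvd hp).mpr hg2))
  have hz1 : z = 1 := orderOf_eq_one_iff.mp (Nat.eq_one_of_dvd_coprimes hc d1 d2)
  rw [hg, hz1, mul_one]

theorem sum_regular_inflate [Fintype H] (hp : p.Prime) (Z : Subgroup H) [Z.Normal]
    [Fintype (H ⧸ Z)]
    (hZc : Z ≤ Subgroup.center H) (hZp : IsPGroup p Z) (F : H ⧸ Z → ℂ)
    (hF : ∀ q, p ∣ orderOf q → F q = 0) :
    ∑ g : H, (if ¬ p ∣ orderOf g then F (QuotientGroup.mk g) else 0) = ∑ q : H ⧸ Z, F q := by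
  rw [← Finset.sum_fiberwise Finset.univ (QuotientGroup.mk : H → H ⧸ Z)]
  refine Finset.sum_congr rfl fun q _ => ?_
  by_cases hq : p ∣ orderOf q
  · rw [hF q hq]
    apply Finset.sum_eq_zero
    intro g hg
    rw [Finset.mem_filter] at hg
    rw [hg.2, hF q hq, ite_self]
  · obtain ⟨g1, ⟨h1, h2⟩, huniq⟩ := existsUnique_regular_lift hp Z hZc hZp q hq
    rw [Finset.sum_eq_single g1]
    · rw [if_pos h2, h1]
    · intro g hg hne
      rw [Finset.mem_filter] at hg
      rw [if_neg]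
      intro h
      exact hne (huniq g ⟨hg.2, h⟩)
    · intro h
      exfalso
      apply h
      rw [Finset.mem_filter]
      exact ⟨Finset.mem_univ _, h1⟩

theorem degree_dvd_index [Finite H] (Z : Subgroup H) [Z.Normal] (θ : IrrCharacter H)
    (hker : ∀ z ∈ Z, (θ : H → ℂ) z = (θ : H → ℂ) 1) : charDegree (θ : H → ℂ) ∣ Z.index := by
  obtain ⟨θ', hθ', he⟩ := exists_deflate_irr Z θ.2 hker
  obtain ⟨-, -, h3⟩ := irr_charDegree hθ'
  have : charDegree (θ : H → ℂ) = charDegree θ' := by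
    unfold charDegree
    rw [he]
    rfl
  rw [this]
  exact h3

theorem inner_regular_central [Fintype H] (hp : p.Prime) (Z : Subgroup H) [Z.Normal]
    (hZc : Z ≤ Subgroup.center H) (hZp : IsPGroup p Z) (θ : IrrCharacter H)
    (hker : ∀ z ∈ Z, (θ : H → ℂ) z = (θ : H → ℂ) 1)
    (hdeg : (charDegree (θ : H → ℂ)).factorization p + (Nat.card Z).factorization p =
      (Nat.card H).factorization p) :
    classInner (pRegularPart p (θ : H → ℂ)) (θ : H → ℂ) = (Nat.card Z : ℂ)⁻¹ := by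
  haveI : Fintype (H ⧸ Z) := Fintype.ofFinite _
  obtain ⟨θ', hθ', he⟩ := exists_deflate_irr Z θ.2 hker
  obtain ⟨hd0, -, h3⟩ := irr_charDegree hθ'
  have hdd : charDegree (θ : H → ℂ) = charDegree θ' := by
    unfold charDegree
    rw [he]
    rfl
  have hci := Z.card_mul_index
  have hidx : Nat.card (H ⧸ Z) = Z.index := rfl
  have hval : (Nat.card Z).factorization p + Z.index.factorization p =
      (Nat.card H).factorization p := by
    rw [← hci, Nat.factorization_mul Nat.card_pos.ne' Subgroup.index_ne_zero_of_finite,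
      Finsupp.add_apply]
  have hnd : ¬ p ∣ Nat.card (H ⧸ Z) / charDegree θ' := by
    intro hd
    have hne : Nat.card (H ⧸ Z) / charDegree θ' ≠ 0 :=
      (Nat.div_pos (Nat.le_of_dvd Nat.card_pos h3) hd0).ne'
    have h5 := (hp.dvd_iff_one_le_factorization hne).mp hd
    rw [Nat.factorization_div h3, Finsupp.tsub_apply, hidx, ← hdd] at h5
    omega
  have hvan : ∀ q : H ⧸ Z, p ∣ orderOf q → θ' q * conj (θ' q) = 0 := by
    intro q hq
    have := vanish_of_defect_zero hp ⟨θ', hθ'⟩ hnd hq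
    simp only at this
    rw [this, zero_mul]
  have h6 := sum_regular_inflate hp Z hZc hZp (fun q => θ' q * conj (θ' q)) hvan
  have h7 := classInner_irr_self hθ'
  unfold classInner at h7 ⊢
  have h8 : ∑ g : H, pRegularPart p (θ : H → ℂ) g * conj ((θ : H → ℂ) g) =
      ∑ g : H, (if ¬ p ∣ orderOf g then
        (fun q => θ' q * conj (θ' q)) (QuotientGroup.mk g : H ⧸ Z) else 0) := by
    refine Finset.sum_congr rfl fun g _ => ?_
    by_cases hg : p ∣ orderOf g
    · rw [pRegularPart_singular _ hg, zero_mul, if_neg (not_not.mpr hg)]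
    · rw [pRegularPart_regular _ hg, if_pos hg, he]
  rw [h8, h6]
  have hQ : (Nat.card (H ⧸ Z) : ℂ) ≠ 0 := by exact_mod_cast Nat.card_pos.ne'
  have hZ0 : (Nat.card Z : ℂ) ≠ 0 := by exact_mod_cast Nat.card_pos.ne'
  have h9 : ∑ q : H ⧸ Z, θ' q * conj (θ' q) = (Nat.card (H ⧸ Z) : ℂ) := by
    field_simp at h7
    exact h7
  rw [h9, ← hci, hidx]
  push_cast
  rw [← hidx]
  field_simp

theorem height_zero_central [Fintype H] (hM : IsPModular p M) (Z : Subgroup H) [Z.Normal]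
    (hZc : Z ≤ Subgroup.center H) (hZp : IsPGroup p Z) {B : Set (IrrCharacter H)}
    (hB : IsPBlock M B) {θ : IrrCharacter H} (hθ : θ ∈ B)
    (hker : ∀ z ∈ Z, (θ : H → ℂ) z = (θ : H → ℂ) 1)
    (hdeg : (charDegree (θ : H → ℂ)).factorization p + (Nat.card Z).factorization p =
      (Nat.card H).factorization p) : ∀ ψ ∈ B, ee p θ ≤ ee p ψ := by
  have hp := hM.1
  haveI : Fact p.Prime := ⟨hp⟩
  apply height_zero_of_val hM hB hθ hθ
  have h1 := nn_spec hp θ θ
  rw [inner_regular_central hp Z hZc hZp θ hker hdeg] at h1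
  obtain ⟨k, hk⟩ := IsPGroup.iff_card.mp hZp
  have hk2 : (Nat.card Z).factorization p = k := by
    rw [hk, hp.factorization_pow, Finsupp.single_eq_same]
  have h2 : nn hp θ θ = (p : ℤ) ^ ee p θ := by
    have hpc : (p : ℂ) ≠ 0 := by exact_mod_cast hp.ne_zero
    have : ((nn hp θ θ : ℤ) : ℂ) = (((p : ℤ) ^ ee p θ : ℤ) : ℂ) := by
      rw [h1, ← hdeg, hk2, hk]
      push_cast
      rw [pow_add]
      unfold ee
      field_simp
    exact_mod_cast this
  rw [h2]
  intro hd
  have hpz : (p : ℤ) ≠ 0 := by exact_mod_cast hp.ne_zero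
  rw [pow_succ] at hd
  have h3 : (p : ℤ) ^ ee p θ * (p : ℤ) ∣ (p : ℤ) ^ ee p θ * 1 := by rwa [mul_one]
  have h4 := (mul_dvd_mul_iff_left (pow_ne_zero _ hpz)).mp h3
  have h5 : (p : ℤ) ∣ 1 := h4
  have h6 : p ∣ 1 := by exact_mod_cast h5
  exact hp.one_lt.ne' (Nat.dvd_one.mp h6)

theorem defect_central [Fintype H] (hM : IsPModular p M) (Z : Subgroup H) [Z.Normal]
    (hZc : Z ≤ Subgroup.center H) (hZp : IsPGroup p Z) {B : Set (IrrCharacter H)}
    (hB : IsPBlock M B) {θ : IrrCharacter H} (hθ : θ ∈ B)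
    (hker : ∀ z ∈ Z, (θ : H → ℂ) z = (θ : H → ℂ) 1)
    (hdeg : (charDegree (θ : H → ℂ)).factorization p + (Nat.card Z).factorization p =
      (Nat.card H).factorization p) {g : H} (hg : IsDefectClass M B g) :
    (Nat.card (Subgroup.centralizer ({g} : Set H))).factorization p ≤
      (Nat.card Z).factorization p := by
  obtain ⟨χ, hχ, hle⟩ := exists_degree_val_le hM hB hg
  have h1 := height_zero_central hM Z hZc hZp hB hθ hker hdeg χ hχ
  unfold ee at h1
  have h4 := (Subgroup.centralizer ({g} : Set H)).card_mul_index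
  have h5 : (Nat.card (Subgroup.centralizer ({g} : Set H))).factorization p +
      (Subgroup.centralizer ({g} : Set H)).index.factorization p =
      (Nat.card H).factorization p := by
    rw [← h4, Nat.factorization_mul Nat.card_pos.ne' Subgroup.index_ne_zero_of_finite,
      Finsupp.add_apply]
  omega

end Cfsg.Agent.Lib.Helper2_CentralDef
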