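import Mathlib
import Cfsg.Prelude.Def_BrauerPairs
import Cfsg.Agent.Lib.Helper2_BP14

set_option autoImplicit false

namespace Cfsg.Agent.Lib.Helper2_ExtFMT

open Cfsg Cfsg.Agent.Lib.Helper2_BlockLocal Cfsg.Agent.Lib.Helper2_BlockOm
  Cfsg.Agent.Lib.Helper2_BlockOsima Cfsg.Agent.Lib.Helper2_BlockBasic
  Cfsg.Agent.Lib.Helper2_BlockOrtho Cfsg.Agent.Lib.Helper2_BlockMinMax
  Cfsg.Agent.Lib.Helper2_BlockInd Cfsg.Agent.Lib.Helper2_BlockDefect
  Cfsg.Agent.Lib.Helper2_BlockPCore Cfsg.Agent.Lib.Helper2_BlockNormal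
  Cfsg.Agent.Lib.Helper2_BlockBrauer Cfsg.Agent.Lib.Helper2_BlockFMT
  Cfsg.Agent.Lib.Helper2_BrauerPairs Cfsg.Agent.Lib.Helper2_SecondMain
  Cfsg.Agent.Lib.Helper2_BP1 Cfsg.Agent.Lib.Helper2_BP2 Cfsg.Agent.Lib.Helper2_BP3
  Cfsg.Agent.Lib.Helper2_BP4 Cfsg.Agent.Lib.Helper2_BP5 Cfsg.Agent.Lib.Helper2_BP6
  Cfsg.Agent.Lib.Helper2_BP7 Cfsg.Agent.Lib.Helper2_BP8 Cfsg.Agent.Lib.Helper2_BP9
  Cfsg.Agent.Lib.Helper2_BP10 Cfsg.Agent.Lib.Helper2_BP11 Cfsg.Agent.Lib.Helper2_BP12
  Cfsg.Agent.Lib.Helper2_BP13 Cfsg.Agent.Lib.Helper2_BP14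
  Cfsg.Agent.Lib.Helper2_BlockSection
  Cfsg.Agent.Lib.Helper2_BlockCover2 Cfsg.Agent.Lib.Helper2_Basic
  Cfsg.Agent.Lib.CharBasic Cfsg.Agent.Lib.CharOrtho
  Cfsg.Agent.Lib.CharComplete Cfsg.Agent.Lib.CharIntegral Cfsg.Agent.Lib.CharMore
  Cfsg.Agent.Lib.CharPerm Cfsg.Agent.Lib.CharInd
open scoped ComplexConjugate Classical
open Relation

universe u

variable {M : Ideal AlgInt} {p : ℕ} {G : Type u} [Group G] [Fintype G]

/-- existence part, for any `L` between `D C(D)` and `N(D)` -/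
theorem ext_fmt_exists [Fact p.Prime] (hM : IsPModular p M) {D L : Subgroup G}
    (hDL : D ≤ L) (hCL : Subgroup.centralizer (D : Set G) ≤ L)
    (hLN : L ≤ Subgroup.normalizer (D : Set G))
    {B : Set (IrrCharacter G)} (hB : IsPBlock M B) (hBD : IsDefectGroup p M B D) :
    ∃ b : Set (IrrCharacter L), IsDefectGroup p M b (D.subgroupOf L) ∧
      IsInducedBlock M L b B := by
  have hPr := isPrime_of_modular hM
  have hD := isPGroup_of_defect hBD
  obtain ⟨g0, hg0, hle, hcard⟩ := isDefectGroup_iff.mp hBD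
  have hg0C : g0 ∈ Subgroup.centralizer (D : Set G) := mem_centralizer_of_le hle
  obtain ⟨b, hind⟩ := exists_induced_of_coeff hM hD hDL hCL hLN hB hg0C hg0.2.1
  have hb := hind.1
  refine ⟨b, ?_, hind⟩
  obtain ⟨Δ, hΔ⟩ := exists_defectGroup (p := p) hPr hb
  have h1 : D.subgroupOf L ≤ Δ :=
    normal_pGroup_le_defect hM hb hΔ _
      ((Subgroup.normal_subgroupOf_iff_le_normalizer hDL).mpr hLN) hD.comap_subtype
  obtain ⟨E', hE', hΔE'⟩ := defect_le_of_induced hM hind hΔ
  have h2 : Nat.card Δ ≤ Nat.card (D.subgroupOf L) := by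
    calc Nat.card Δ = Nat.card (Δ.map L.subtype) :=
          (Subgroup.card_map_of_injective (Subgroup.subtype_injective _)).symm
      _ ≤ Nat.card E' := Nat.card_le_card_of_injective _ (Subgroup.inclusion_injective hΔE')
      _ = Nat.card D := card_defect_eq hM hB hE' hBD
      _ = _ := (Nat.card_congr (Subgroup.subgroupOfEquivOfLe hDL).toEquiv).symm
  rw [Subgroup.eq_of_le_of_card_ge h1 h2]
  exact hΔ

theorem exists_under_Om {K L : Subgroup G} (hKL : K ≤ L)
    (hLN : L ≤ Subgroup.normalizer (K : Set G)) (ξ : IrrCharacter L) :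
    ∃ ζ : IrrCharacter K, ∀ c : G → ℂ, Inv L c → (∀ g, g ∉ K → c g = 0) →
      Om (fun l : L => c l) (ξ : L → ℂ) = Om (fun k : K => c k) (ζ : K → ℂ) := by
  have hN : (K.subgroupOf L).Normal := (Subgroup.normal_subgroupOf_iff_le_normalizer hKL).mpr hLN
  obtain ⟨θ, hθ⟩ := exists_under (K.subgroupOf L) ξ
  set φ := Subgroup.subgroupOfEquivOfLe hKL with hφ
  refine ⟨mapIrr φ θ, ?_⟩
  intro c hc hcK
  have hcL : IsClassFunction L (fun l : L => c l) := restrict_classFunction_of_inv hc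
  rw [Om_eq_Om_restrict (K.subgroupOf L) (c := fun l : L => c l) (fun l hl => hcK _ (by
      rw [Subgroup.mem_subgroupOf] at hl; exact hl)),
    Om_restrict_eq (K.subgroupOf L) hN ξ.2 θ.2 hθ hcL]
  unfold Om
  have h1 : ((mapIrr φ θ : IrrCharacter K) : K → ℂ) 1 = (θ : K.subgroupOf L → ℂ) 1 := by
    conv_lhs => rw [← map_one φ, mapIrr_apply]
  rw [h1]
  congr 1
  rw [← Equiv.sum_comp φ.toEquiv]
  refine Finset.sum_congr rfl fun y _ => ?_
  simp only [MulEquiv.toEquiv_eq_coe, EquivLike.coe_coe]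
  rw [mapIrr_apply]
  rfl

theorem exists_block_centralizer [Fact p.Prime] (hM : IsPModular p M) {P L : Subgroup G}
    (hP : IsPGroup p P) (hPL : P ≤ L) (hKL : Subgroup.centralizer (P : Set G) ≤ L)
    (hLN : L ≤ Subgroup.normalizer (P : Set G))
    (hLle : L ≤ P ⊔ Subgroup.centralizer (P : Set G))
    {b : Set (IrrCharacter L)} (hb : IsPBlock M b) :
    ∃ e : Set (IrrCharacter (Subgroup.centralizer (P : Set G))), IsPBlock M e ∧
      (∀ l : L, blockCoeff b l = subgroupBlockCoeff _ e (l : G)) ∧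
      ∃ ξ ∈ b, ∃ ζ ∈ e, ∀ c : G → ℂ, Inv L c →
        (∀ g, g ∉ Subgroup.centralizer (P : Set G) → c g = 0) →
        Om (fun l : L => c l) (ξ : L → ℂ) =
          Om (fun k : Subgroup.centralizer (P : Set G) => c k) (ζ : _ → ℂ) := by
  have hPr := isPrime_of_modular hM
  obtain ⟨ξ, hξ⟩ := block_nonempty hPr hb
  obtain ⟨ζ, hζ⟩ := exists_under_Om hKL (hLN.trans (normalizer_le_normalizer_centralizer P)) ξ
  have he : IsPBlock M (blockOf M (ζ : Subgroup.centralizer (P : Set G) → ℂ)) := ⟨ζ, rfl⟩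
  set e := blockOf M (ζ : Subgroup.centralizer (P : Set G) → ℂ) with hedef
  have hinv : Inv L (subgroupBlockCoeff _ e) :=
    inv_mono hLle (inv_sup (sbc_inv_self P e) (sbc_inv _ e))
  obtain ⟨F, hF, hFc⟩ := stab_block hM hP he hPL hKL hLN hinv
  have h1 := hζ _ hinv (fun g hg => sbc_not_mem _ e hg)
  have h2 : (fun l : L => subgroupBlockCoeff _ e (l : G)) = blockCoeff F :=
    funext fun l => (hFc l).symm
  have h3 : (fun k : Subgroup.centralizer (P : Set G) => subgroupBlockCoeff _ e (k : G)) =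
      blockCoeff e := funext fun k => sbc_coe _ e k
  rw [h2, h3, Om_blockCoeff, Om_blockCoeff, if_pos (self_mem_blockOf hPr ζ)] at h1
  have hξF : ξ ∈ F := by
    by_contra h
    rw [if_neg h] at h1
    exact zero_ne_one h1
  have hFb : F = b := block_eq_of_mem hPr hF hb hξF hξ
  subst hFb
  exact ⟨e, he, hFc, ξ, hξ, ζ, self_mem_blockOf hPr ζ, hζ⟩

theorem pairOf_of_induced (hM : IsPModular p M) {P L : Subgroup G}
    (hP : IsPGroup p P) (hPL : P ≤ L) (hLN : L ≤ Subgroup.normalizer (P : Set G))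
    {b : Set (IrrCharacter L)} {B : Set (IrrCharacter G)} (hind : IsInducedBlock M L b B)
    {e : Set (IrrCharacter (Subgroup.centralizer (P : Set G)))} (he : IsPBlock M e)
    {ξ : IrrCharacter L} (hξ : ξ ∈ b) {ζ : IrrCharacter (Subgroup.centralizer (P : Set G))}
    (hζ : ζ ∈ e)
    (hOm : ∀ c : G → ℂ, Inv L c →
        (∀ g, g ∉ Subgroup.centralizer (P : Set G) → c g = 0) →
        Om (fun l : L => c l) (ξ : L → ℂ) =
          Om (fun k : Subgroup.centralizer (P : Set G) => c k) (ζ : _ → ℂ)) :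
    IsBrauerPairOf p M B P e := by
  have hPr := isPrime_of_modular hM
  have hB := hind.2.1
  obtain ⟨χ, hχ⟩ := block_nonempty hPr hB
  refine ⟨⟨hP, he⟩, hB, fun ζ' hζ' => ?_⟩
  set c : G → ℂ := fun g => if g ∈ Subgroup.centralizer (P : Set G) then blockCoeff B g else 0
    with hc
  have hcinv : Inv L c := by
    intro y hy x
    have hy' := normalizer_le_normalizer_centralizer P (hLN hy)
    simp only [hc]
    rw [← Subgroup.mem_normalizer_iff.mp hy' x, blockCoeff_classFunction B x y]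
  have h1 := hOm c hcinv (fun g hg => by simp only [hc]; rw [if_neg hg])
  have e1 : (fun l : L => c l) = trunc P L (blockCoeff B) := rfl
  have e2 : (fun k : Subgroup.centralizer (P : Set G) => c k) =
      fun k : Subgroup.centralizer (P : Set G) => blockCoeff B k := by
    funext k
    simp only [hc]
    rw [if_pos k.2]
  rw [e1, e2, ← bo_eq] at h1
  have h2 := Om_restrict_sub_trunc hM hP hPL hLN
    (inv_of_classFunction (blockCoeff_classFunction B) L) (osima_block hPr hB) ξ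
  have h3 := Om_restrict_congr_induced hPr hind hξ hχ (blockCoeff_classFunction B)
    (osima_block hPr hB)
  rw [Om_blockCoeff, if_pos hχ] at h3
  rw [h1] at h2
  have h4 := ideal_sub_trans hPr (ideal_sub_comm h2) h3
  have h5 := bo_sameBlock P hPr (inv_of_classFunction (blockCoeff_classFunction B) _)
    (osima_block hPr hB) he hζ' hζ
  exact ideal_sub_trans hPr h5 h4

theorem noExt_of_defect [Fact p.Prime] (hM : IsPModular p M) {B : Set (IrrCharacter G)}
    {P : Subgroup G} {e : Set (IrrCharacter (Subgroup.centralizer (P : Set G)))}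
    (hBe : IsBrauerPairOf p M B P e) (hD : IsDefectGroup p M B P) : NoExt p M P e := by
  have hPr := isPrime_of_modular hM
  have hB := hBe.2.1
  intro R g h
  have hle : SubpairLE p M P e R g :=
    ReflTransGen.single (show NormalSubpairRel p M ⟨P, e⟩ ⟨R, g⟩ from h)
  have hRg := (brauerPairOf_iff_of_le hM h.2.1 h.1 hle hB).mpr hBe
  obtain ⟨ξ, hξ⟩ := block_nonempty hPr h.2.1.2
  have h5 : ∃ y0 ∈ Subgroup.centralizer (R : Set G), ¬ MemLocalIdeal M (blockCoeff B y0) := by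
    by_contra hcon
    push Not at hcon
    apply not_ideal_one hPr
    have h6 := bo_ideal R hPr (inv_of_classFunction (blockCoeff_classFunction B) _) hcon ξ
    have := ideal_sub hPr h6 (hRg.2.2 ξ hξ)
    simpa using this
  obtain ⟨y0, hy0C, hy0⟩ := h5
  obtain ⟨D', hD', hRD'⟩ := le_defect_of_unit hM hB hy0 h.2.1.1
    (le_centralizer_singleton_of_mem hy0C)
  refine (Subgroup.eq_of_le_of_card_ge h.2.2.1 ?_).symm
  rw [card_defect_eq hM hB hD hD']
  exact Nat.card_le_card_of_injective _ (Subgroup.inclusion_injective hRD')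

omit [Fintype G] in
theorem map_conj_of_normalizer {P : Subgroup G} {n : G}
    (hn : n ∈ Subgroup.normalizer (P : Set G)) : P.map (MulAut.conj n).toMonoidHom = P := by
  ext g
  rw [mem_cj]
  have := Subgroup.mem_normalizer_iff.mp (Subgroup.inv_mem _ hn) g
  rw [this]
  simp

theorem normalizer_le_normalizer_sup (P : Subgroup G) :
    Subgroup.normalizer (P : Set G) ≤
      Subgroup.normalizer ((P ⊔ Subgroup.centralizer (P : Set G) : Subgroup G) : Set G) := by
  intro n hn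
  have h1 : (P ⊔ Subgroup.centralizer (P : Set G)).map (MulAut.conj n⁻¹).toMonoidHom =
      P ⊔ Subgroup.centralizer (P : Set G) := by
    rw [Subgroup.map_sup, map_conj_of_normalizer (Subgroup.inv_mem _ hn),
      map_conj_of_normalizer (Subgroup.inv_mem _ (normalizer_le_normalizer_centralizer P hn))]
  rw [Subgroup.mem_normalizer_iff]
  intro g
  conv_lhs => rw [← h1, mem_cj]
  simp

theorem ext_fmt_conj [Fact p.Prime] (hM : IsPModular p M) {P L : Subgroup G}
    (hPL : P ≤ L) (hKL : Subgroup.centralizer (P : Set G) ≤ L)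
    (hLN : L ≤ Subgroup.normalizer (P : Set G))
    (hLle : L ≤ P ⊔ Subgroup.centralizer (P : Set G))
    (hNL : Subgroup.normalizer (P : Set G) ≤ Subgroup.normalizer (L : Set G))
    {B : Set (IrrCharacter G)} (hD : IsDefectGroup p M B P)
    {b b' : Set (IrrCharacter L)} (hind : IsInducedBlock M L b B)
    (hind' : IsInducedBlock M L b' B) :
    ∃ n ∈ Subgroup.normalizer (P : Set G), ∀ θ ∈ b, ∃ θ' ∈ b', ∀ x : L,
      ∀ hx : n * (x : G) * n⁻¹ ∈ L, (θ' : L → ℂ) x = (θ : L → ℂ) ⟨n * (x : G) * n⁻¹, hx⟩ := by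
  have hP := isPGroup_of_defect hD
  obtain ⟨e, he, hbe, ξ, hξ, ζ, hζ, hOm⟩ := exists_block_centralizer hM hP hPL hKL hLN hLle hind.1
  obtain ⟨e', he', hbe', ξ', hξ', ζ', hζ', hOm'⟩ :=
    exists_block_centralizer hM hP hPL hKL hLN hLle hind'.1
  have hBe := pairOf_of_induced hM hP hPL hLN hind he hξ hζ hOm
  have hBe' := pairOf_of_induced hM hP hPL hLN hind' he' hξ' hζ' hOm'
  obtain ⟨n, hn, rfl⟩ := mem_orb_of_pairs hM hBe (noExt_of_defect hM hBe hD) hBe'
  refine ⟨n⁻¹, Subgroup.inv_mem _ hn, ?_⟩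
  have hbb : b' = mapBlock (conjAut L n (hNL hn)) b := by
    apply blockCoeff_injective
    funext l
    rw [blockCoeff_mapBlock', hbe', hbe, sbc_cb, conjAut_symm_coe]
  intro θ hθ
  refine ⟨mapIrr (conjAut L n (hNL hn)) θ, ?_, ?_⟩
  · rw [hbb, mem_mapBlock]; exact hθ
  · intro x hx
    rw [mapIrr_coe]
    show (θ : L → ℂ) ((conjAut L n (hNL hn)).symm x) = _
    apply congrArg
    apply Subtype.ext
    rw [conjAut_symm_coe]
    simp

end Cfsg.Agent.Lib.Helper2_ExtFMT
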