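import Mathlib
import Cfsg.Prelude.Def_BrauerPairs
import Cfsg.Agent.Lib.Helper2_BP14
import Cfsg.Agent.Lib.Helper2_EA

set_option autoImplicit false

namespace Cfsg.Agent.Lib.Helper2_Fong

open Cfsg Cfsg.Agent.Lib.Helper2_BlockLocal Cfsg.Agent.Lib.Helper2_BlockOm
  Cfsg.Agent.Lib.Helper2_BlockOsima Cfsg.Agent.Lib.Helper2_BlockBasic
  Cfsg.Agent.Lib.Helper2_BlockOrtho Cfsg.Agent.Lib.Helper2_BlockMinMax
  Cfsg.Agent.Lib.Helper2_BlockInd Cfsg.Agent.Lib.Helper2_BlockDefect
  Cfsg.Agent.Lib.Helper2_BlockPCore Cfsg.Agent.Lib.Helper2_BlockNormal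
  Cfsg.Agent.Lib.Helper2_BlockBrauer Cfsg.Agent.Lib.Helper2_BlockFMT
  Cfsg.Agent.Lib.Helper2_BrauerPairs Cfsg.Agent.Lib.Helper2_SecondMain
  Cfsg.Agent.Lib.Helper2_BP1 Cfsg.Agent.Lib.Helper2_BP2 Cfsg.Agent.Lib.Helper2_BP3
  Cfsg.Agent.Lib.Helper2_BP4 Cfsg.Agent.Lib.Helper2_BP5 Cfsg.Agent.Lib.Helper2_BP6
  Cfsg.Agent.Lib.Helper2_BP7 Cfsg.Agent.Lib.Helper2_BP8 Cfsg.Agent.Lib.Helper2_BP9
  Cfsg.Agent.Lib.Helper2_BP10 Cfsg.Agent.Lib.Helper2_BP11 Cfsg.Agent.Lib.Helper2_BP12
  Cfsg.Agent.Lib.Helper2_BP13 Cfsg.Agent.Lib.Helper2_BP14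
  Cfsg.Agent.Lib.Helper2_BlockSection Cfsg.Agent.Lib.Helper2_EA
  Cfsg.Agent.Lib.Helper2_BlockCover2 Cfsg.Agent.Lib.Helper2_Basic
  Cfsg.Agent.Lib.CharBasic Cfsg.Agent.Lib.CharOrtho
  Cfsg.Agent.Lib.CharComplete Cfsg.Agent.Lib.CharIntegral Cfsg.Agent.Lib.CharMore
  Cfsg.Agent.Lib.CharPerm Cfsg.Agent.Lib.CharInd
open scoped ComplexConjugate Classical
open Relation

universe u

variable {M : Ideal AlgInt} {p : ℕ}

/-- Fixed point congruence for a function invariant modulo the ideal. -/
theorem sum_fixed_mod (hM : IsPModular p M) {Q W : Type*} [Group Q] [MulAction Q W] [Fintype W]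
    (hQ : IsPGroup p Q) (F : W → ℂ) (hinv : ∀ (c : Q) (w : W), MemLocalIdeal M (F (c • w) - F w))
    (hR : ∀ w, MemLocalRing M (F w)) :
    MemLocalIdeal M (∑ w, F w - ∑ w ∈ Finset.univ.filter (fun w => ∀ q : Q, q • w = w), F w) := by
  have hP := isPrime_of_modular hM
  set F' : W → ℂ := fun w => F (Quotient.out (Quotient.mk (MulAction.orbitRel Q W) w)) with hF'
  have h1 : ∀ w, ∃ c : Q, Quotient.out (Quotient.mk (MulAction.orbitRel Q W) w) = c • w := by
    intro w
    have h2 := Quotient.mk_out (s := MulAction.orbitRel Q W) w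
    obtain ⟨c, hc⟩ : Quotient.out (Quotient.mk (MulAction.orbitRel Q W) w) ∈
      MulAction.orbit Q w := h2
    exact ⟨c, hc.symm⟩
  have hd : ∀ w, MemLocalIdeal M (F' w - F w) := by
    intro w
    obtain ⟨c, hc⟩ := h1 w
    simp only [hF', hc]
    exact hinv c w
  have hinv' : ∀ (c : Q) (w : W), F' (c • w) = F' w := by
    intro c w
    simp only [hF']
    congr 2
    apply Quotient.sound
    exact MulAction.mem_orbit _ _
  have h3 := sum_fixed hM hQ F' hinv' (fun w => hR _)
  have h4 : MemLocalIdeal M (∑ w, F w - ∑ w, F' w) := by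
    rw [← Finset.sum_sub_distrib]
    exact ideal_sum hP _ _ fun w _ => ideal_sub_comm (hd w)
  have h5 : MemLocalIdeal M (∑ w ∈ Finset.univ.filter (fun w => ∀ q : Q, q • w = w), F' w -
      ∑ w ∈ Finset.univ.filter (fun w => ∀ q : Q, q • w = w), F w) := by
    rw [← Finset.sum_sub_distrib]
    exact ideal_sum hP _ _ fun w _ => hd w
  exact ideal_sub_trans hP (ideal_sub_trans hP h4 h3) h5

variable {G : Type u} [Group G]

/-- the action of a normalizing subgroup on the conjugacy classes of `K` -/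
def actCl (K L : Subgroup G) (hL : L ≤ Subgroup.normalizer (K : Set G)) :
    MulAction L (ConjClasses K) where
  smul u C := ConjClasses.map (conjAut K u (hL u.2)).toMonoidHom C
  one_smul C := by
    induction C using Quotient.inductionOn with
    | h a =>
      show ConjClasses.mk _ = ConjClasses.mk a
      congr 1
      apply Subtype.ext
      show ((1 : L) : G) * a * ((1 : L) : G)⁻¹ = a
      simp
  mul_smul x y C := by
    induction C using Quotient.inductionOn with
    | h a =>
      show ConjClasses.mk _ = ConjClasses.mk _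
      congr 1
      apply Subtype.ext
      show ((x * y : L) : G) * a * ((x * y : L) : G)⁻¹ = (x : G) * ((y : G) * a * (y : G)⁻¹) * (x : G)⁻¹
      simp [mul_assoc]

theorem actCl_mk (K L : Subgroup G) (hL : L ≤ Subgroup.normalizer (K : Set G)) (u : L) (a : K) :
    letI := actCl K L hL
    u • (ConjClasses.mk a) = ConjClasses.mk (conjAut K u (hL u.2) a) := rfl

variable [Fintype G]

theorem exists_fixed_defectClass (hM : IsPModular p M) {K S : Subgroup G} (hS : IsPGroup p S)
    (hSK : S ≤ Subgroup.normalizer (K : Set G)) {f : Set (IrrCharacter K)} (hf : IsPBlock M f)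
    (hinv : Inv S (subgroupBlockCoeff K f)) :
    ∃ y : K, IsDefectClass M f y ∧ ∀ s ∈ S, ∃ k ∈ K, s * y * s⁻¹ = k * y * k⁻¹ := by
  have hPr := isPrime_of_modular hM
  letI := actCl K S hSK
  obtain ⟨θ, hθ⟩ := block_nonempty hPr hf
  set F : ConjClasses K → ℂ := fun C => blockCoeff f (rep C) * centralChar (θ : K → ℂ) (rep C)
    with hF
  have hmk : ∀ C : ConjClasses K, ConjClasses.mk (rep C) = C := fun C => Quotient.out_eq _
  have hFR : ∀ C, MemLocalRing M (F C) := fun C =>
    ring_mul hPr (osima_block hPr hf _) (centralChar_ring hPr θ _)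
  have hst : ∀ s : S, mapBlock (conjAut K s (hSK s.2)) f = f := by
    intro s
    have : StabilizesBlock K f s := stabilizes_iff_inv.mpr ⟨hSK s.2, hinv s s.2⟩
    exact (stabilizes_iff.mp this).2
  have hFinv : ∀ (s : S) (C : ConjClasses K), MemLocalIdeal M (F (s • C) - F C) := by
    intro s C
    set φ := conjAut K s (hSK s.2) with hφ
    have h1 : IsConj (rep (s • C)) (φ (rep C)) := by
      rw [← ConjClasses.mk_eq_mk_iff_isConj, hmk]
      conv_lhs => rw [← hmk C]
      rfl
    obtain ⟨k, hk⟩ := isConj_iff.mp h1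
    have e1 : blockCoeff f (rep (s • C)) = blockCoeff f (rep C) := by
      rw [← blockCoeff_classFunction f (rep (s • C)) k, hk, ← sbc_coe, ← sbc_coe, hφ, conjAut_coe]
      exact hinv s s.2 _
    have e2 : centralChar (θ : K → ℂ) (rep (s • C)) = centralChar (θ : K → ℂ) (φ (rep C)) :=
      centralChar_conj (irr_classFunction θ) h1
    obtain ⟨θ0, hθ0, hθe⟩ : θ ∈ mapBlock φ f := by rw [hst s]; exact hθ
    have e3 : centralChar (θ : K → ℂ) (φ (rep C)) = centralChar (θ0 : K → ℂ) (rep C) := by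
      rw [← hθe, centralChar_mapIrr]
    simp only [hF]
    rw [e1, e2, e3, ← mul_sub]
    exact ideal_mul_left hPr (osima_block hPr hf _) (sameBlock_of_mem hPr hf hθ0 hθ _)
  have h1 := sum_fixed_mod hM (Q := S) hS F hFinv hFR
  have hsum : ∑ C, F C = 1 := by
    have h0 := Om_eq_sum_classes (blockCoeff_classFunction f) (irr_classFunction θ)
    rw [Om_blockCoeff, if_pos hθ] at h0
    rw [h0]
    apply Finset.sum_congr
    · ext C; simp
    · intro C _; rfl
  rw [hsum] at h1
  have h2 : ∃ C : ConjClasses K, (∀ s : S, s • C = C) ∧ ¬ MemLocalIdeal M (F C) := by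
    by_contra hcon
    push Not at hcon
    apply not_ideal_one hPr (M := M)
    have h3 : MemLocalIdeal M (∑ C ∈ Finset.univ.filter
        (fun C : ConjClasses K => ∀ s : S, s • C = C), F C) := by
      apply ideal_sum hPr
      intro C hC
      simp only [Finset.mem_filter] at hC
      exact hcon C hC.2
    have := ideal_add hPr h1 h3
    simpa using this
  obtain ⟨C, hfix, hC0⟩ := h2
  refine ⟨rep C, ⟨osima_block hPr hf _, ?_, ?_⟩, ?_⟩
  · intro h
    exact hC0 (ideal_mul_right hPr h (centralChar_ring hPr θ _))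
  · apply not_ideal_all_of_exists hPr hf
    refine ⟨θ, hθ, fun h => ?_⟩
    exact hC0 (ideal_mul_left hPr (osima_block hPr hf _) h)
  · intro s hs
    have h3 := hfix ⟨s, hs⟩
    conv at h3 => rw [← hmk C]
    have h4 : ConjClasses.mk (conjAut K s (hSK hs) (rep C)) = ConjClasses.mk (rep C) := h3
    rw [ConjClasses.mk_eq_mk_iff_isConj] at h4
    obtain ⟨k, hk⟩ := isConj_iff.mp h4.symm
    refine ⟨k, k.2, ?_⟩
    have := congrArg Subtype.val hk
    exact this.symm

theorem fong_card [Fact p.Prime] (hM : IsPModular p M) {K T : Subgroup G} (hKT : K ≤ T)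
    (hTN : T ≤ Subgroup.normalizer (K : Set G)) {f : Set (IrrCharacter K)} (hf : IsPBlock M f)
    (hinv : Inv T (subgroupBlockCoeff K f)) :
    ∃ y : K, IsDefectClass M f y ∧
      (Nat.card T).factorization p +
        (Nat.card (Subgroup.centralizer ({(y : G)} : Set G) ⊓ K : Subgroup G)).factorization p ≤
      (Nat.card (Subgroup.centralizer ({(y : G)} : Set G) ⊓ T : Subgroup G)).factorization p +
        (Nat.card K).factorization p := by
  have hp : p.Prime := Fact.out
  obtain ⟨S0⟩ : Nonempty (Sylow p T) := inferInstance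
  set S := (S0 : Subgroup T).map T.subtype with hS
  have hSp : IsPGroup p S := S0.2.map _
  have hST : S ≤ T := by rintro _ ⟨a, -, rfl⟩; exact a.2
  have hScard : Nat.card S = p ^ (Nat.card T).factorization p := by
    rw [hS, Subgroup.card_map_of_injective (Subgroup.subtype_injective _),
      Sylow.card_eq_multiplicity]
  obtain ⟨y, hy, hfix⟩ := exists_fixed_defectClass hM hSp (hST.trans hTN) hf (inv_mono hST hinv)
  refine ⟨y, hy, ?_⟩
  set H := Subgroup.centralizer ({(y : G)} : Set G) ⊓ T with hH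
  have hHN : H ≤ Subgroup.normalizer (K : Set G) := inf_le_right.trans hTN
  have hSH : S ≤ H ⊔ K := by
    intro s hs
    obtain ⟨k, hk, e⟩ := hfix s hs
    have h1 : k⁻¹ * s ∈ H := by
      refine Subgroup.mem_inf.mpr ⟨?_, T.mul_mem (T.inv_mem (hKT hk)) (hST hs)⟩
      rw [Subgroup.mem_centralizer_singleton_iff]
      have e2 : s * y = k * y * k⁻¹ * s := by
        rw [← e]; group
      calc k⁻¹ * s * y = k⁻¹ * (s * y) := by group
        _ = k⁻¹ * (k * y * k⁻¹ * s) := by rw [e2]
        _ = y * (k⁻¹ * s) := by group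
    have h2 : s = k * (k⁻¹ * s) := by group
    rw [h2]
    exact Subgroup.mul_mem _ (Subgroup.mem_sup_right hk) (Subgroup.mem_sup_left h1)
  have h3 := card_sup_mul_card_inf H K hHN
  have h4 : H ⊓ K = Subgroup.centralizer ({(y : G)} : Set G) ⊓ K := by
    rw [hH, inf_assoc, inf_eq_right.mpr hKT]
  rw [h4] at h3
  have h5 : p ^ (Nat.card T).factorization p ∣ Nat.card (H ⊔ K : Subgroup G) := by
    rw [← hScard]
    exact Subgroup.card_dvd_of_le hSH
  have h6 := (hp.pow_dvd_iff_le_factorization Nat.card_pos.ne').mp h5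
  have h7 := congrArg (fun n => n.factorization p) h3
  beta_reduce at h7
  rw [Nat.factorization_mul Nat.card_pos.ne' Nat.card_pos.ne',
    Nat.factorization_mul Nat.card_pos.ne' Nat.card_pos.ne', Finsupp.add_apply,
    Finsupp.add_apply] at h7
  omega

end Cfsg.Agent.Lib.Helper2_Fong
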