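import Mathlib
import Cfsg.Prelude.Def_Blocks
import Cfsg.Agent.Lib.CharThompson
import Cfsg.Agent.Lib.CharPow2
import Cfsg.Agent.S4735

/-!
# Galois action, determinants and weighted fixed point congruences
-/

set_option autoImplicit false

namespace Cfsg.Agent.Lib.Helper2_GalThompson

open Cfsg Cfsg.Agent.Lib.CharBasic Cfsg.Agent.Lib.CharOrtho
  Cfsg.Agent.Lib.CharComplete Cfsg.Agent.Lib.CharIntegral Cfsg.Agent.Lib.CharMore
  Cfsg.Agent.Lib.CharInd Cfsg.Agent.Lib.CharClifford Cfsg.Agent.Lib.CharPow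
  Cfsg.Agent.Lib.CharPow2 Cfsg.Agent.Lib.CharDet Cfsg.Agent.Lib.CharThompson
  Cfsg.Agent.S4735
open scoped ComplexConjugate

/-- weighted fixed point congruence for a permutation of `p`-power order -/
theorem sum_modEq_perm {ι : Type*} [Fintype ι] [DecidableEq ι] (p : ℕ) [Fact p.Prime]
    (π : Equiv.Perm ι) (e : ℕ) (hπ : π ^ (p ^ e) = 1) (D : ι → ℕ) (hD : ∀ x, D (π x) = D x) :
    ∑ x, D x ≡ ∑ x, (if π x = x then D x else 0) [MOD p] := by
  classical
  have hP : IsPGroup p (Subgroup.zpowers π) := by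
    rintro ⟨g, hg⟩
    obtain ⟨j, rfl⟩ := Subgroup.mem_zpowers_iff.1 hg
    refine ⟨e, Subtype.ext ?_⟩
    show (π ^ j) ^ (p ^ e) = 1
    rw [← zpow_natCast, ← zpow_mul, mul_comm, zpow_mul, zpow_natCast, hπ, one_zpow]
  have hDz : ∀ (j : ℤ) (x : ι), D ((π ^ j) x) = D x := by
    intro j
    induction j using Int.induction_on with
    | zero => intro x; simp
    | succ j ih =>
      intro x
      rw [zpow_add_one, Equiv.Perm.mul_apply, ih, hD]
    | pred j ih =>
      intro x
      rw [zpow_sub_one, Equiv.Perm.mul_apply, ih]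
      have := hD (π⁻¹ x)
      have e : π (π⁻¹ x) = x := by simp
      rw [e] at this
      exact this.symm
  have hD' : ∀ (g : Subgroup.zpowers π) (x : ι), D (g • x) = D x := by
    rintro ⟨g, hg⟩ x
    obtain ⟨j, rfl⟩ := Subgroup.mem_zpowers_iff.1 hg
    exact hDz j x
  have h1 := sum_modEq_sum_fixed p hP D hD'
  rw [Finset.sum_filter] at h1
  refine h1.trans ?_
  have hgoal : ∀ {a b : ℕ}, a = b → a ≡ b [MOD p] := fun h => h ▸ Nat.ModEq.refl _
  apply hgoal
  refine Finset.sum_congr rfl fun x _ => ?_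
  have hiff : (∀ g : Subgroup.zpowers π, g • x = x) ↔ π x = x := by
    constructor
    · intro h
      exact h ⟨π, Subgroup.mem_zpowers π⟩
    · rintro h ⟨g, hg⟩
      obtain ⟨j, rfl⟩ := Subgroup.mem_zpowers_iff.1 hg
      exact Equiv.Perm.zpow_apply_eq_self_of_apply_eq_self h j
  simp only [hiff]

theorem powFun_injective {K : Type*} [Group K] [Finite K] {t : ℕ} (ht : t.Coprime (Nat.card K))
    {a b : K → ℂ} (h : powFun a t = powFun b t) : a = b := by
  funext n
  obtain ⟨y, rfl⟩ := (powCoprime ht.symm).surjective n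
  exact congrFun h y

theorem powIrr_coe {K : Type*} [Group K] [Fintype K] {t : ℕ} (ht : t.Coprime (Nat.card K))
    (θ : IrrCharacter K) : ((powIrr ht θ : IrrCharacter K) : K → ℂ) = powFun (θ : K → ℂ) t := rfl

theorem powIrr_comm {K : Type*} [Group K] [Fintype K] {t t' : ℕ} (ht : t.Coprime (Nat.card K))
    (ht' : t'.Coprime (Nat.card K)) (θ : IrrCharacter K) :
    powIrr ht (powIrr ht' θ) = powIrr ht' (powIrr ht θ) := by
  apply Subtype.ext
  rw [powIrr_coe, powIrr_coe, powIrr_coe, powIrr_coe, powFun_powFun, powFun_powFun, mul_comm]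

theorem powIrr_fixed_iff {K : Type*} [Group K] [Fintype K] {t t' : ℕ}
    (ht : t.Coprime (Nat.card K)) (ht' : t'.Coprime (Nat.card K)) (θ : IrrCharacter K) :
    powIrr ht (powIrr ht' θ) = powIrr ht' θ ↔ powIrr ht θ = θ := by
  rw [powIrr_comm]
  exact (powIrr_bijective ht').1.eq_iff

theorem charDegree_powIrr {K : Type*} [Group K] [Fintype K] {t : ℕ}
    (ht : t.Coprime (Nat.card K)) (θ : IrrCharacter K) :
    charDegree ((powIrr ht θ : IrrCharacter K) : K → ℂ) = charDegree (θ : K → ℂ) := by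
  unfold charDegree
  rw [powIrr_coe, powFun_apply, one_pow]

theorem invariant_powIrr_iff {G : Type*} [Group G] (K : Subgroup G) (hK : K.Normal) [Fintype K]
    {t : ℕ} (ht : t.Coprime (Nat.card K)) (θ : IrrCharacter K) :
    (∀ g : G, conjFun K hK ((powIrr ht θ : IrrCharacter K) : K → ℂ) g =
      ((powIrr ht θ : IrrCharacter K) : K → ℂ)) ↔ ∀ g : G, conjFun K hK (θ : K → ℂ) g = θ := by
  simp only [powIrr_coe, ← powFun_conjFun]
  constructor
  · intro h g
    exact powFun_injective ht (h g)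
  · intro h g
    rw [h g]

/-- weighted fixed point congruence for a Galois action of `p`-power order -/
theorem sum_modEq_powIrr {K : Type*} [Group K] [Fintype K] (p : ℕ) [Fact p.Prime] {t : ℕ}
    (ht : t.Coprime (Nat.card K)) (e : ℕ) (hte : ∀ n : K, n ^ (t ^ (p ^ e)) = n)
    (D : IrrCharacter K → ℕ) (hD : ∀ θ, D (powIrr ht θ) = D θ)
    [DecidableEq (IrrCharacter K)] :
    ∑ θ, D θ ≡ ∑ θ, (if powIrr ht θ = θ then D θ else 0) [MOD p] := by
  set π : Equiv.Perm (IrrCharacter K) := Equiv.ofBijective _ (powIrr_bijective ht) with hπdef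
  have hpow : ∀ (m : ℕ) (θ : IrrCharacter K),
      (((π ^ m) θ : IrrCharacter K) : K → ℂ) = powFun (θ : K → ℂ) (t ^ m) := by
    intro m
    induction m with
    | zero => intro θ; rw [pow_zero, pow_zero, powFun_one]; rfl
    | succ m ih =>
      intro θ
      rw [pow_succ, Equiv.Perm.mul_apply, ih]
      have : ((π θ : IrrCharacter K) : K → ℂ) = powFun (θ : K → ℂ) t := rfl
      rw [this, powFun_powFun, pow_succ]
  have hπ : π ^ (p ^ e) = 1 := by
    ext θ
    rw [hpow]
    rw [powFun_apply, hte]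
    rfl
  exact sum_modEq_perm p π e hπ D hD

/-- eigenvalues, power sums and the determinant -/
theorem exists_eigen_detChar {G : Type*} [Group G] [Finite G] {χ : G → ℂ}
    (hχ : IsCharacter G χ) (g : G) :
    ∃ (n : ℕ) (μ : Fin n → ℂ), (∀ i, μ i ^ orderOf g = 1) ∧
      (∀ k : ℕ, χ (g ^ k) = ∑ i, μ i ^ k) ∧ ∏ i, μ i = detChar χ g := by
  classical
  obtain ⟨m, ρ, rfl⟩ := hχ
  obtain ⟨b, μ, hμ, hb⟩ := exists_eigen ρ g
  refine ⟨_, μ, hμ, fun k => ?_, ?_⟩
  · have hb' : ∀ i, ρ (g ^ k) (b i) = (μ i ^ k) • b i := by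
      intro i
      induction k with
      | zero => simp
      | succ k ih =>
        rw [pow_succ, map_mul, Module.End.mul_apply, hb i, map_smul, ih, smul_smul, pow_succ,
          mul_comm]
    exact trace_eq_sum_of_eigenbasis _ b _ hb'
  · have h1 : LinearMap.toMatrix b b (ρ g) = Matrix.diagonal μ := by
      ext i j
      rw [LinearMap.toMatrix_apply, hb j, map_smul, Finsupp.smul_apply, Module.Basis.repr_self,
        Matrix.diagonal_apply, Finsupp.single_apply]
      by_cases hij : i = j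
      · subst hij; simp
      · rw [if_neg (Ne.symm hij), if_neg hij]; simp
    rw [detChar_apply, ← LinearMap.det_toMatrix b, h1, Matrix.det_diagonal]

theorem geom_root {w : ℂ} {o : ℕ} (hw : w ^ o = 1) :
    ∑ j ∈ Finset.range o, w ^ j = if w = 1 then (o : ℂ) else 0 := by
  split_ifs with h
  · subst h; simp
  · have := mul_neg_geom_sum w o
    rw [hw, sub_self] at this
    rcases mul_eq_zero.1 this with h1 | h1
    · exact absurd (sub_eq_zero.1 h1).symm h
    · exact h1

theorem count_eq_powerSum {N : ℕ} {n : ℕ} (a : Fin n → ℂ) (ha : ∀ i, a i ^ N = 1)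
    {ζ : ℂ} (hζ : ζ ^ N = 1) (hN : 0 < N) :
    ((N * (Finset.univ.filter (fun i => ζ = a i)).card : ℕ) : ℂ) =
      ∑ j ∈ Finset.range N, (∑ i, a i ^ j) * (ζ⁻¹) ^ j := by
  have hζ0 : ζ ≠ 0 := by
    intro h0; rw [h0, zero_pow hN.ne'] at hζ; exact zero_ne_one hζ
  have hinv : (ζ⁻¹) ^ N = 1 := by rw [inv_pow, hζ, inv_one]
  simp only [Finset.sum_mul]
  rw [Finset.sum_comm]
  have e2 : ∀ i, ∑ j ∈ Finset.range N, a i ^ j * (ζ⁻¹) ^ j =
      if ζ = a i then (N : ℂ) else 0 := by
    intro i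
    simp only [← mul_pow]
    rw [geom_root (by rw [mul_pow, ha i, hinv, one_mul])]
    have : a i * ζ⁻¹ = 1 ↔ ζ = a i := by
      rw [mul_inv_eq_one₀ hζ0]; exact eq_comm
    simp only [this]
  simp only [e2]
  rw [← Finset.sum_filter, Finset.sum_const, nsmul_eq_mul]
  push_cast; ring

theorem prod_eq_of_powerSums {N : ℕ} (hN : 0 < N) {n m : ℕ} (a : Fin n → ℂ) (b : Fin m → ℂ)
    (ha : ∀ i, a i ^ N = 1) (hb : ∀ i, b i ^ N = 1)
    (h : ∀ j : ℕ, ∑ i, a i ^ j = ∑ i, b i ^ j) : ∏ i, a i = ∏ i, b i := by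
  classical
  have hms : (Finset.univ.val.map a) = (Finset.univ.val.map b) := by
    ext ζ
    rw [Multiset.count_map, Multiset.count_map]
    by_cases hζ : ζ ^ N = 1
    · have h1 := count_eq_powerSum a ha hζ hN
      have h2 := count_eq_powerSum b hb hζ hN
      simp only [h] at h1
      rw [← h2] at h1
      have h3 : N * (Finset.univ.filter (fun i => ζ = a i)).card =
          N * (Finset.univ.filter (fun i => ζ = b i)).card := by exact_mod_cast h1
      exact Nat.eq_of_mul_eq_mul_left hN h3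
    · have e1 : Multiset.filter (fun i => ζ = a i) Finset.univ.val = 0 := by
        rw [Multiset.filter_eq_nil]
        intro i _ hi
        exact hζ (hi ▸ ha i)
      have e2 : Multiset.filter (fun i => ζ = b i) Finset.univ.val = 0 := by
        rw [Multiset.filter_eq_nil]
        intro i _ hi
        exact hζ (hi ▸ hb i)
      rw [e1, e2]
      rfl
  show (Finset.univ.val.map a).prod = (Finset.univ.val.map b).prod
  rw [hms]

theorem detChar_powFun {G : Type*} [Group G] [Fintype G] {χ : G → ℂ} (hχ : IsCharacter G χ)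
    {k : ℕ} (hk : k.Coprime (Nat.card G)) (g : G) :
    detChar (powFun χ k) g = detChar χ g ^ k := by
  obtain ⟨n, μ, hμ, hpk, hprod⟩ := exists_eigen_detChar hχ g
  obtain ⟨m, ν, hν, hpk', hprod'⟩ := exists_eigen_detChar (isCharacter_powFun hχ hk) g
  rw [← hprod, ← hprod', ← Finset.prod_pow]
  apply prod_eq_of_powerSums (orderOf_pos g) ν (fun i => μ i ^ k) hν
  · intro i
    rw [← pow_mul, mul_comm, pow_mul, hμ i, one_pow]
  · intro j
    rw [← hpk' j, powFun_apply, ← pow_mul, hpk]
    exact Finset.sum_congr rfl fun i _ => by rw [← pow_mul, mul_comm]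

theorem detOrder_powFun_dvd {G : Type*} [Group G] [Fintype G] {χ : G → ℂ} (hχ : IsCharacter G χ)
    {k : ℕ} (hk : k.Coprime (Nat.card G)) : detOrder (powFun χ k) ∣ detOrder χ := by
  unfold detOrder
  apply orderOf_dvd_of_pow_eq_one
  funext g
  rw [Pi.pow_apply, detChar_powFun hχ hk, ← pow_mul, mul_comm, pow_mul]
  have := congrFun (pow_orderOf_eq_one (detChar χ)) g
  rw [Pi.pow_apply] at this
  rw [this, Pi.one_apply, one_pow]

end Cfsg.Agent.Lib.Helper2_GalThompson
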