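import Mathlib
import Cfsg.Agent.Lib.CharOddIndex
import Cfsg.Agent.Lib.Helper2_GalThompson
import Cfsg.Agent.Lib.Helper2_PPart

/-!
# Galois fixed characters and normal subgroups of odd index
-/

set_option autoImplicit false

namespace Cfsg.Agent.Lib.Helper2_GalOdd

open Cfsg Cfsg.Agent.Lib.CharBasic Cfsg.Agent.Lib.CharOrtho
  Cfsg.Agent.Lib.CharComplete Cfsg.Agent.Lib.CharIntegral Cfsg.Agent.Lib.CharMore
  Cfsg.Agent.Lib.CharInd Cfsg.Agent.Lib.CharGallagher Cfsg.Agent.Lib.CharQuot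
  Cfsg.Agent.Lib.CharClifford Cfsg.Agent.Lib.CharPerm Cfsg.Agent.Lib.CharOddIndex
  Cfsg.Agent.Lib.CharPow Cfsg.Agent.Lib.CharPow2 Cfsg.Agent.Lib.Helper2_GalThompson
  Cfsg.Agent.S4735
open scoped ComplexConjugate

universe u

variable {G : Type u} [Group G] [Fintype G]

theorem classInner_powIrr {A : G → ℂ} {k : ℕ} (hk : k.Coprime (Nat.card G))
    (hA : ∀ g, A (g ^ k) = A g) (β : IrrCharacter G) :
    classInner A ((powIrr hk β : IrrCharacter G) : G → ℂ) = classInner A (β : G → ℂ) := by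
  have h : A = powFun A k := funext fun g => (hA g).symm
  conv_lhs => rw [h]
  rw [powIrr_coe]
  exact classInner_powFun A β hk

theorem parity_inner_gal {A B : G → ℂ} (hA : IsCharacter G A) (hB : IsCharacter G B) {k e : ℕ}
    (hk : k.Coprime (Nat.card G)) (hke : ∀ g : G, g ^ (k ^ (2 ^ e)) = g)
    (hAr : ∀ g, A (g ^ k) = A g) (hBr : ∀ g, B (g ^ k) = B g)
    (honly : ∀ β : IrrCharacter G, (∀ g, (β : G → ℂ) (g ^ k) = (β : G → ℂ) g) →
      classInner B (β : G → ℂ) ≠ 0 → (β : G → ℂ) = 1)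
    {s a b : ℕ} (hs : classInner A B = s) (ha : classInner A 1 = a) (hb : classInner B 1 = b) :
    s ≡ a * b [MOD 2] := by
  classical
  haveI : Fact (Nat.Prime 2) := ⟨Nat.prime_two⟩
  obtain ⟨mA, hmA, -⟩ := exists_mult hA
  obtain ⟨mB, hmB, hBe⟩ := exists_mult hB
  have hsum : s = ∑ β : IrrCharacter G, mA β * mB β := by
    have : (s : ℂ) = ((∑ β : IrrCharacter G, mA β * mB β : ℕ) : ℂ) := by
      rw [← hs]
      conv_lhs => rw [hBe]
      rw [classInner_sum_right]
      push_cast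
      refine Finset.sum_congr rfl fun β _ => ?_
      rw [classInner_smul_right, Complex.conj_natCast, hmA]
      ring
    exact_mod_cast this
  set one : IrrCharacter G := ⟨1, isIrr_one⟩ with hone
  have ha' : mA one = a := by
    have := hmA one
    rw [show ((one : IrrCharacter G) : G → ℂ) = 1 from rfl, ha] at this
    exact_mod_cast this.symm
  have hb' : mB one = b := by
    have := hmB one
    rw [show ((one : IrrCharacter G) : G → ℂ) = 1 from rfl, hb] at this
    exact_mod_cast this.symm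
  have hmAc : ∀ β, mA (powIrr hk β) = mA β := by
    intro β
    have h1 := hmA (powIrr hk β)
    rw [classInner_powIrr hk hAr, hmA] at h1
    exact_mod_cast h1.symm
  have hmBc : ∀ β, mB (powIrr hk β) = mB β := by
    intro β
    have h1 := hmB (powIrr hk β)
    rw [classInner_powIrr hk hBr, hmB] at h1
    exact_mod_cast h1.symm
  have S := sum_modEq_powIrr 2 hk e hke (fun β => mA β * mB β)
    (fun β => by simp only [hmAc, hmBc])
  rw [← hsum] at S
  have S2 : ∑ β : IrrCharacter G, (if powIrr hk β = β then mA β * mB β else 0) = a * b := by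
    rw [Finset.sum_eq_single one]
    · rw [if_pos, ha', hb']
      apply Subtype.ext
      funext g
      rfl
    · intro β _ hβ
      split_ifs with hfix
      · have h0 : mB β = 0 := by
          by_contra hne
          apply hβ
          apply Subtype.ext
          apply honly β
          · intro g
            exact congrFun (congrArg Subtype.val hfix) g
          · rw [hmB]
            exact_mod_cast hne
        rw [h0, mul_zero]
      · rfl
    · intro h
      exact absurd (Finset.mem_univ _) h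
  rw [S2] at S
  exact S

variable (N : Subgroup G) [hN : N.Normal] [Fintype N]

omit [Fintype G] [Fintype N] in
theorem mem_of_two_pow (hodd : Odd N.index) {u : G} {s : ℕ} (h : u ^ (2 ^ s) = 1) : u ∈ N := by
  rw [← QuotientGroup.eq_one_iff]
  have h1 : orderOf (u : G ⧸ N) ∣ 2 ^ s := by
    apply orderOf_dvd_of_pow_eq_one
    rw [← QuotientGroup.mk_pow, h]
    rfl
  by_cases hfin : N.index = 0
  · rw [hfin] at hodd
    exact absurd hodd (by decide)
  haveI : N.FiniteIndex := ⟨hfin⟩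
  haveI : Finite (G ⧸ N) := Subgroup.finite_quotient_of_finiteIndex
  have h2 : orderOf (u : G ⧸ N) ∣ N.index := orderOf_dvd_natCard _
  have h3 : Nat.Coprime (2 ^ s) N.index :=
    Nat.Coprime.pow_left _ (Nat.coprime_two_left.2 hodd)
  exact orderOf_eq_one_iff.1 (Nat.eq_one_of_dvd_coprimes h3 h1 h2)

theorem restrict_parity_gal (hodd : Odd N.index) {k e : ℕ}
    (hk : k.Coprime (Nat.card G)) (hke : ∀ g : G, g ^ (k ^ (2 ^ e)) = g)
    (hk₂ : ∀ g : G, Odd (orderOf g) → g ^ k = g⁻¹) (χ₁ χ₂ : IrrCharacter G)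
    (h1 : ∀ g, (χ₁ : G → ℂ) (g ^ k) = (χ₁ : G → ℂ) g)
    (h2 : ∀ g, (χ₂ : G → ℂ) (g ^ k) = (χ₂ : G → ℂ) g) {s : ℕ}
    (hs : classInner (fun n : N => (χ₁ : G → ℂ) n) (fun n : N => (χ₂ : G → ℂ) n) = s) :
    s ≡ (if χ₁ = χ₂ then 1 else 0) [MOD 2] := by
  classical
  have hA : IsCharacter G ((χ₁ : G → ℂ) * (conjIrr χ₂ : G → ℂ)) :=
    isCharacter_mul (isCharacter_of_isIrr χ₁.2) (isCharacter_of_isIrr (conjIrr χ₂).2)
  have hB : IsCharacter G (indFun N (1 : N → ℂ)) :=
    isCharacter_indFun N _ (isCharacter_of_isIrr isIrr_one)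
  have hAr : ∀ g, ((χ₁ : G → ℂ) * (conjIrr χ₂ : G → ℂ)) (g ^ k) =
      ((χ₁ : G → ℂ) * (conjIrr χ₂ : G → ℂ)) g := by
    intro g
    rw [Pi.mul_apply, Pi.mul_apply, conjIrr_apply, conjIrr_apply, h1, h2]
  have hBr : ∀ g, indFun N (1 : N → ℂ) (g ^ k) = indFun N (1 : N → ℂ) g := by
    intro g
    have := congrFun (indFun_hom_pow N (1 : N →* ℂˣ) hk) g
    have e1 : ((1 : N →* ℂˣ) ^ k) = 1 := by
      ext n
      simp
    rw [e1] at this
    exact this
  have hAB : classInner ((χ₁ : G → ℂ) * (conjIrr χ₂ : G → ℂ)) (indFun N (1 : N → ℂ)) = s := by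
    rw [← classInner_conj_symm, frobenius_reciprocity N _ _ (isClassFunction_of_isCharacter hA),
      ← hs]
    unfold classInner
    rw [map_mul, map_inv₀, Complex.conj_natCast, map_sum]
    congr 1
    refine Finset.sum_congr rfl fun n _ => ?_
    simp only [Pi.one_apply, one_mul, Complex.conj_conj, Pi.mul_apply, conjIrr_apply]
  have hA1 : classInner ((χ₁ : G → ℂ) * (conjIrr χ₂ : G → ℂ)) 1 =
      ((if χ₁ = χ₂ then 1 else 0 : ℕ) : ℂ) := by
    have : classInner ((χ₁ : G → ℂ) * (conjIrr χ₂ : G → ℂ)) 1 =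
        classInner (χ₁ : G → ℂ) (χ₂ : G → ℂ) := by
      unfold classInner
      congr 1
      refine Finset.sum_congr rfl fun g _ => ?_
      simp only [Pi.one_apply, map_one, mul_one, Pi.mul_apply, conjIrr_apply]
    rw [this, classInner_irr χ₁.2 χ₂.2]
    by_cases h : χ₁ = χ₂
    · rw [if_pos h, if_pos (congrArg Subtype.val h)]; simp
    · rw [if_neg h, if_neg (fun hh => h (Subtype.ext hh))]; simp
  have hB1 : classInner (indFun N (1 : N → ℂ)) 1 = ((1 : ℕ) : ℂ) := by
    rw [frobenius_reciprocity N _ _ (isClassFunction_of_isCharacter (isCharacter_of_isIrr isIrr_one))]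
    have : (fun h : N => (1 : G → ℂ) h) = (1 : N → ℂ) := rfl
    rw [this, classInner_irr_self isIrr_one, Nat.cast_one]
  have key := parity_inner_gal hA hB hk hke hAr hBr ?_ hAB hA1 hB1
  · rw [mul_one] at key
    exact key
  · intro β hβr hβ
    have hker := (classInner_ind_one_ne_zero_iff N hN β.2).mp hβ
    obtain ⟨β', hβ', he⟩ := exists_deflate_irr N β.2 hker
    haveI := Fintype.ofFinite (G ⧸ N)
    have h3 := real_irr_eq_one_of_odd (G := G ⧸ N) hodd ⟨β', hβ'⟩ (by
      intro q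
      obtain ⟨g, rfl⟩ := QuotientGroup.mk_surjective q
      obtain ⟨a, b, s, hab, ha, hb⟩ :=
        Cfsg.Agent.Lib.Helper2_PPart.exists_parts Nat.prime_two g
      have hu : g ^ a ∈ N := mem_of_two_pow N hodd ha
      have hq : (QuotientGroup.mk g : G ⧸ N) = QuotientGroup.mk (g ^ b) := by
        conv_lhs => rw [← hab]
        rw [QuotientGroup.mk_mul, (QuotientGroup.eq_one_iff _).2 hu, one_mul]
      have hvodd : Odd (orderOf (g ^ b)) := by
        rw [← Nat.not_even_iff_odd, even_iff_two_dvd]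
        exact hb
      have h4 : (β : G → ℂ) (g ^ b)⁻¹ = (β : G → ℂ) (g ^ b) := by
        rw [← hk₂ _ hvodd, hβr]
      rw [isCharacter_inv (isCharacter_of_isIrr β.2)] at h4
      have h5 := Complex.conj_eq_iff_im.mp h4
      rw [he] at h5
      show (β' (QuotientGroup.mk g)).im = 0
      rw [hq]
      exact h5)
    rw [he]
    ext g
    exact congrFun h3 _

/-- Uniqueness of the Galois fixed character over a given irreducible character of `N`. -/
theorem gal_unique (hodd : Odd N.index) {k e : ℕ}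
    (hk : k.Coprime (Nat.card G)) (hke : ∀ g : G, g ^ (k ^ (2 ^ e)) = g)
    (hk₂ : ∀ g : G, Odd (orderOf g) → g ^ k = g⁻¹) (χ₁ χ₂ : IrrCharacter G)
    (h1 : ∀ g, (χ₁ : G → ℂ) (g ^ k) = (χ₁ : G → ℂ) g)
    (h2 : ∀ g, (χ₂ : G → ℂ) (g ^ k) = (χ₂ : G → ℂ) g) (φ : IrrCharacter N)
    (hc1 : classInner (fun n : N => (χ₁ : G → ℂ) n) (φ : N → ℂ) ≠ 0)
    (hc2 : classInner (fun n : N => (χ₂ : G → ℂ) n) (φ : N → ℂ) ≠ 0) : χ₁ = χ₂ := by
  classical
  obtain ⟨e₁, he₁⟩ := classInner_char_nat (isCharacter_restrict N (isCharacter_of_isIrr χ₁.2))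
    (isCharacter_of_isIrr φ.2)
  obtain ⟨e₂, he₂⟩ := classInner_char_nat (isCharacter_restrict N (isCharacter_of_isIrr χ₂.2))
    (isCharacter_of_isIrr φ.2)
  have c1 := clifford N hN χ₁.2 φ.2 hc1
  have c2 := clifford N hN χ₂.2 φ.2 hc2
  set S := Finset.univ.filter (fun ψ : IrrCharacter N => ∃ g : G, (ψ : N → ℂ) = conjFun N hN φ g)
    with hS
  set O : N → ℂ := ∑ ψ ∈ S, (ψ : N → ℂ) with hO
  have hOO : classInner O O = (S.card : ℂ) := by
    rw [hO, classInner_sum_left]
    have : ∀ ψ ∈ S, classInner (ψ : N → ℂ) (∑ ψ' ∈ S, (ψ' : N → ℂ)) = 1 := by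
      intro ψ hψ
      rw [classInner_sum_right, Finset.sum_eq_single ψ]
      · exact classInner_irr_self ψ.2
      · intro b _ hb
        exact classInner_irr_ne ψ.2 b.2 (fun h => hb (Subtype.ext h.symm))
      · intro h; exact absurd hψ h
    rw [Finset.sum_congr rfl this]
    simp
  rw [he₁] at c1
  rw [he₂] at c2
  have f : ∀ (a b : ℕ), classInner ((a : ℂ) • O) ((b : ℂ) • O) = ((a * b * S.card : ℕ) : ℂ) := by
    intro a b
    rw [classInner_smul_left, classInner_smul_right, hOO, Complex.conj_natCast]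
    push_cast; ring
  have p11 := (ZMod.natCast_eq_natCast_iff _ _ 2).2
    (restrict_parity_gal N hodd hk hke hk₂ χ₁ χ₁ h1 h1 (s := e₁ * e₁ * S.card)
      (by rw [c1]; exact f _ _))
  have p22 := (ZMod.natCast_eq_natCast_iff _ _ 2).2
    (restrict_parity_gal N hodd hk hke hk₂ χ₂ χ₂ h2 h2 (s := e₂ * e₂ * S.card)
      (by rw [c2]; exact f _ _))
  have p12 := (ZMod.natCast_eq_natCast_iff _ _ 2).2
    (restrict_parity_gal N hodd hk hke hk₂ χ₁ χ₂ h1 h2 (s := e₁ * e₂ * S.card)
      (by rw [c1, c2]; exact f _ _))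
  rw [if_pos rfl] at p11 p22
  by_contra hne
  rw [if_neg hne] at p12
  push_cast at p11 p22 p12
  have key : ∀ a b c : ZMod 2, a * a * c = 1 → b * b * c = 1 → a * b * c = 0 → False := by decide
  exact key _ _ _ p11 p22 p12

end Cfsg.Agent.Lib.Helper2_GalOdd
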