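import Mathlib
import Cfsg.Agent.Lib.Helper2_GalOdd
import Cfsg.Agent.Lib.CharCover2
import Cfsg.Agent.Lib.CharLinExt

/-!
# Galois fixed extensions over normal subgroups of odd index
-/

set_option autoImplicit false

namespace Cfsg.Agent.Lib.Helper2_GalOdd2

open Cfsg Cfsg.Agent.Lib.CharBasic Cfsg.Agent.Lib.CharOrtho
  Cfsg.Agent.Lib.CharComplete Cfsg.Agent.Lib.CharIntegral Cfsg.Agent.Lib.CharMore
  Cfsg.Agent.Lib.CharInd Cfsg.Agent.Lib.CharGallagher Cfsg.Agent.Lib.CharQuot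
  Cfsg.Agent.Lib.CharClifford Cfsg.Agent.Lib.CharPerm Cfsg.Agent.Lib.CharOddIndex
  Cfsg.Agent.Lib.CharPow Cfsg.Agent.Lib.CharPow2 Cfsg.Agent.Lib.Helper2_GalThompson
  Cfsg.Agent.Lib.Helper2_GalOdd Cfsg.Agent.Lib.CharIto Cfsg.Agent.Lib.CharCover
  Cfsg.Agent.Lib.CharCover2 Cfsg.Agent.Lib.CharLinear Cfsg.Agent.Lib.CharLinExt
  Cfsg.Agent.S4735
open scoped ComplexConjugate

universe u

section basic

variable {G : Type u} [Group G] [Fintype G] (N : Subgroup G) [hN : N.Normal] [Fintype N]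

/-- existence of a Galois fixed character over a Galois fixed character -/
theorem gal_exists (hodd : Odd N.index) {k e : ℕ}
    (hk : k.Coprime (Nat.card G)) (hke : ∀ g : G, g ^ (k ^ (2 ^ e)) = g)
    (θ : IrrCharacter N) (hθ : ∀ n : N, (θ : N → ℂ) (n ^ k) = (θ : N → ℂ) n) :
    ∃ χ : IrrCharacter G, classInner (fun n : N => (χ : G → ℂ) n) (θ : N → ℂ) ≠ 0 ∧
      ∀ g, (χ : G → ℂ) (g ^ k) = (χ : G → ℂ) g := by
  classical
  haveI : Fact (Nat.Prime 2) := ⟨Nat.prime_two⟩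
  have hInd : IsCharacter G (indFun N (θ : N → ℂ)) :=
    isCharacter_indFun N _ (isCharacter_of_isIrr θ.2)
  obtain ⟨m, hm, hme⟩ := exists_mult hInd
  have hm' : ∀ ψ : IrrCharacter G,
      classInner (fun n : N => (ψ : G → ℂ) n) (θ : N → ℂ) = m ψ := by
    intro ψ
    have h1 := hm ψ
    rw [frobenius_reciprocity N _ _ (isClassFunction_of_isCharacter (isCharacter_of_isIrr ψ.2)),
      ← classInner_conj_symm] at h1
    have h2 := congrArg conj h1
    simpa using h2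
  set S := Finset.univ.filter
    (fun ψ : IrrCharacter N => ∃ g : G, (ψ : N → ℂ) = conjFun N hN θ g) with hS
  have hdeg : ∀ ψ : IrrCharacter G, (m ψ : ℂ) * (ψ : G → ℂ) 1 =
      (m ψ : ℂ) ^ 2 * S.card * (θ : N → ℂ) 1 := by
    intro ψ
    by_cases h0 : m ψ = 0
    · simp [h0]
    · have hc : classInner (fun n : N => (ψ : G → ℂ) n) (θ : N → ℂ) ≠ 0 := by
        rw [hm']
        exact_mod_cast h0
      have hcl := congrFun (clifford N hN ψ.2 θ.2 hc) 1
      rw [hm'] at hcl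
      have h4 : ∀ ψ' ∈ S, (ψ' : N → ℂ) 1 = (θ : N → ℂ) 1 := by
        intro ψ' hψ'
        obtain ⟨g, hg⟩ := (Finset.mem_filter.mp hψ').2
        rw [hg, conjFun_apply]
        exact congrArg (θ : N → ℂ) (Subtype.ext (by simp))
      have h5 : (ψ : G → ℂ) 1 = (m ψ : ℂ) * ((S.card : ℂ) * (θ : N → ℂ) 1) := by
        have h6 : (ψ : G → ℂ) 1 = (m ψ : ℂ) * ∑ ψ' ∈ S, (ψ' : N → ℂ) 1 := by
          simpa [Finset.sum_apply] using hcl
        rw [h6, Finset.sum_congr rfl h4, Finset.sum_const, nsmul_eq_mul]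
      rw [h5]
      ring
  have hsum : S.card * ∑ ψ, m ψ ^ 2 = N.index := by
    have h1 := indFun_one N (θ : N → ℂ)
    have h2 := congrFun hme 1
    simp only [Finset.sum_apply, Pi.smul_apply, smul_eq_mul, hdeg] at h2
    rw [h1] at h2
    have h3 : (θ : N → ℂ) 1 * (N.index : ℂ) =
        (θ : N → ℂ) 1 * ((S.card * ∑ ψ, m ψ ^ 2 : ℕ) : ℂ) := by
      rw [mul_comm, h2]
      push_cast
      rw [Finset.mul_sum, Finset.mul_sum]
      exact Finset.sum_congr rfl fun ψ _ => by ring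
    exact_mod_cast (mul_left_cancel₀ (irr_degree_ne_zero θ.2) h3).symm
  have hodd2 : ¬ 2 ∣ ∑ ψ, m ψ ^ 2 := by
    intro h
    have : 2 ∣ N.index := hsum ▸ Dvd.dvd.mul_left h _
    exact (Nat.not_even_iff_odd.2 hodd) (even_iff_two_dvd.2 this)
  have hkN := coprime_card_subgroup N hk
  have hmσ : ∀ ψ, m (powIrr hk ψ) = m ψ := by
    intro ψ
    have h1 := hm' (powIrr hk ψ)
    have h2 : (fun n : N => ((powIrr hk ψ : IrrCharacter G) : G → ℂ) n) =
        powFun (fun n : N => (ψ : G → ℂ) n) k := rfl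
    have h3 : (θ : N → ℂ) = powFun (θ : N → ℂ) k := funext fun n => (hθ n).symm
    rw [h2] at h1
    nth_rewrite 1 [h3] at h1
    rw [classInner_powFun _ _ hkN, hm'] at h1
    exact_mod_cast h1.symm
  have S1 := sum_modEq_powIrr 2 hk e hke (fun ψ => m ψ ^ 2) (fun ψ => by simp only [hmσ])
  have hne : ∑ ψ, (if powIrr hk ψ = ψ then m ψ ^ 2 else 0) ≠ 0 := by
    intro h0
    rw [h0] at S1
    exact hodd2 ((Nat.modEq_zero_iff_dvd).1 S1)
  obtain ⟨ψ, -, hψ⟩ := Finset.exists_ne_zero_of_sum_ne_zero hne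
  have hfix : powIrr hk ψ = ψ := by
    by_contra h
    exact hψ (if_neg h)
  rw [if_pos hfix] at hψ
  refine ⟨ψ, ?_, fun g => congrFun (congrArg Subtype.val hfix) g⟩
  rw [hm']
  intro h0
  apply hψ
  have : m ψ = 0 := by exact_mod_cast h0
  rw [this]
  rfl

/-- Galois fixed extension over a cyclic quotient of odd order -/
theorem gal_ext_cyclic (hodd : Odd N.index) {k e : ℕ}
    (hk : k.Coprime (Nat.card G)) (hke : ∀ g : G, g ^ (k ^ (2 ^ e)) = g)
    (θ : IrrCharacter N) (hθ : ∀ n : N, (θ : N → ℂ) (n ^ k) = (θ : N → ℂ) n)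
    (hinv : ∀ g : G, conjFun N hN (θ : N → ℂ) g = θ) (hcyc : IsCyclic (G ⧸ N)) :
    ∃ χ : IrrCharacter G, (∀ n : N, (χ : G → ℂ) n = (θ : N → ℂ) n) ∧
      ∀ g, (χ : G → ℂ) (g ^ k) = (χ : G → ℂ) g := by
  obtain ⟨χ, hc, hfix⟩ := gal_exists N hodd hk hke θ hθ
  refine ⟨χ, ?_, hfix⟩
  obtain ⟨e', h1, -, h3⟩ := degree_ratio_invariant' N hN θ.2 hinv χ.2 hc
  rw [h3 hcyc, Nat.cast_one, one_mul] at h1
  have h4 := restrict_of_invariant N hN χ.2 θ.2 hinv hc
  have h5 := congrFun h4 1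
  simp only [Pi.smul_apply, smul_eq_mul, OneMemClass.coe_one] at h5
  rw [h1] at h5
  have h6 : classInner (fun n : N => (χ : G → ℂ) n) (θ : N → ℂ) = 1 := by
    have := irr_degree_ne_zero θ.2
    field_simp at h5
    exact h5.symm
  rw [h6, one_smul] at h4
  exact fun n => congrFun h4 n

end basic

section transport

variable {G : Type u} [Group G]

/-- a function on `N` viewed on `N.subgroupOf H` -/
noncomputable def resTo (N H : Subgroup G) (θ : N → ℂ) : (N.subgroupOf H) → ℂ :=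
  fun x => θ ⟨((x : H) : G), Subgroup.mem_subgroupOf.1 x.2⟩

theorem resTo_apply (N H : Subgroup G) (θ : N → ℂ) (x : N.subgroupOf H) :
    resTo N H θ x = θ ⟨((x : H) : G), Subgroup.mem_subgroupOf.1 x.2⟩ := rfl

theorem isIrr_resTo [Finite G] {N H : Subgroup G} (hle : N ≤ H) {θ : N → ℂ}
    (hθ : IsIrrCharacter N θ) : IsIrrCharacter (N.subgroupOf H) (resTo N H θ) := by
  haveI : Fintype N := Fintype.ofFinite _
  haveI : Fintype (N.subgroupOf H) := Fintype.ofFinite _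
  exact isIrr_comp_mulEquiv (Subgroup.subgroupOfEquivOfLe hle) hθ

theorem resTo_fixed (N H : Subgroup G) {θ : N → ℂ} {k : ℕ} (hθ : ∀ n : N, θ (n ^ k) = θ n)
    (x : N.subgroupOf H) : resTo N H θ (x ^ k) = resTo N H θ x := by
  rw [resTo_apply, resTo_apply,
    ← hθ ⟨((x : H) : G), Subgroup.mem_subgroupOf.1 x.2⟩]
  rfl

theorem resTo_inv (N H : Subgroup G) (hN : N.Normal) (hN' : (N.subgroupOf H).Normal) {θ : N → ℂ}
    (hinv : ∀ g : G, conjFun N hN θ g = θ) (h : H) :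
    conjFun (N.subgroupOf H) hN' (resTo N H θ) h = resTo N H θ := by
  funext x
  rw [conjFun_apply, resTo_apply, resTo_apply]
  exact congrFun (hinv (h : G)) ⟨((x : H) : G), Subgroup.mem_subgroupOf.1 x.2⟩

end transport

section pgroup

variable {G : Type u} [Group G] [Fintype G]

/-- Galois fixed extension when the quotient is a `q`-group, `q` odd -/
theorem gal_ext_pgroup {q : ℕ} (hq : q.Prime) (hqodd : Odd q) {k e : ℕ}
    (hk : k.Coprime (Nat.card G)) (hke : ∀ g : G, g ^ (k ^ (2 ^ e)) = g)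
    (hk₂ : ∀ g : G, Odd (orderOf g) → g ^ k = g⁻¹) :
    ∀ (n : ℕ) (N : Subgroup G) (hN : N.Normal) (_ : N.index = q ^ n) (θ : N → ℂ)
      (_ : IsIrrCharacter N θ) (_ : ∀ x : N, θ (x ^ k) = θ x)
      (_ : ∀ g : G, conjFun N hN θ g = θ),
      ∃ χ : G → ℂ, IsIrrCharacter G χ ∧ (∀ x : N, χ x = θ x) ∧ ∀ g, χ (g ^ k) = χ g := by
  classical
  haveI : Fact q.Prime := ⟨hq⟩
  intro n
  induction n with
  | zero =>
    intro N hN hidx θ hθ hfix hinv
    haveI := hN
    haveI : Fintype N := Fintype.ofFinite _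
    have hcyc : IsCyclic (G ⧸ N) := by
      have h1 : Nat.card (G ⧸ N) = 1 := by rw [← Subgroup.index_eq_card, hidx, pow_zero]
      haveI : Subsingleton (G ⧸ N) := (Nat.card_eq_one_iff_unique.1 h1).1
      infer_instance
    obtain ⟨χ, h1, h2⟩ := gal_ext_cyclic N (by rw [hidx]; simp) hk hke ⟨θ, hθ⟩ hfix hinv hcyc
    exact ⟨χ, χ.2, h1, h2⟩
  | succ n ih =>
    intro N hN hidx θ hθ hfix hinv
    haveI := hN
    haveI : Fintype N := Fintype.ofFinite _
    have hcardQ : Nat.card (G ⧸ N) = q ^ (n + 1) := by rw [← Subgroup.index_eq_card, hidx]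
    have hQ : IsPGroup q (G ⧸ N) := IsPGroup.of_card hcardQ
    haveI : Nontrivial (G ⧸ N) := by
      rw [← Finite.one_lt_card_iff_nontrivial, hcardQ]
      exact Nat.one_lt_pow (Nat.succ_ne_zero n) hq.one_lt
    haveI := hQ.center_nontrivial
    obtain ⟨j, hj0, hj⟩ :=
      (hQ.to_subgroup (Subgroup.center (G ⧸ N))).nontrivial_iff_card.1 inferInstance
    obtain ⟨z', hz'⟩ := exists_prime_orderOf_dvd_card' (G := Subgroup.center (G ⧸ N)) q
      (by rw [hj]; exact dvd_pow_self q hj0.ne')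
    set z : G ⧸ N := (z' : G ⧸ N) with hz
    have hzo : orderOf z = q := by rw [hz, Subgroup.orderOf_coe, hz']
    have hzc : z ∈ Subgroup.center (G ⧸ N) := z'.2
    set Z := Subgroup.zpowers z with hZ
    have hZn : Z.Normal := by
      constructor
      intro c hc g
      have hcc : c ∈ Subgroup.center (G ⧸ N) := (Subgroup.zpowers_le.2 hzc) hc
      have h1 : g * c * g⁻¹ = c := by
        rw [Subgroup.mem_center_iff] at hcc
        rw [hcc g, mul_inv_cancel_right]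
      rw [h1]
      exact hc
    have hZcard : Nat.card Z = q := by rw [hZ, Nat.card_zpowers, hzo]
    set N₁ := Z.comap (QuotientGroup.mk' N) with hN₁def
    have hN₁ : N₁.Normal := hZn.comap _
    have hle : N ≤ N₁ := by
      intro x hx
      rw [hN₁def, Subgroup.mem_comap, QuotientGroup.mk'_apply, (QuotientGroup.eq_one_iff x).2 hx]
      exact Z.one_mem
    have hidx₁ : N₁.index = q ^ n := by
      rw [hN₁def, Subgroup.index_comap_of_surjective _ (QuotientGroup.mk'_surjective N)]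
      have h1 := Z.card_mul_index
      rw [hZcard, hcardQ, pow_succ'] at h1
      exact Nat.eq_of_mul_eq_mul_left hq.pos h1
    have hrel : (N.subgroupOf N₁).index = q := by
      have h1 := Subgroup.relIndex_mul_index hle
      rw [hidx, hidx₁, pow_succ'] at h1
      exact Nat.eq_of_mul_eq_mul_right (pow_pos hq.pos n) h1
    haveI : Fintype N₁ := Fintype.ofFinite _
    haveI : Fintype (N.subgroupOf N₁) := Fintype.ofFinite _
    have hN' : (N.subgroupOf N₁).Normal := inferInstance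
    have hkX : k.Coprime (Nat.card N₁) := coprime_card_subgroup N₁ hk
    have hkeX : ∀ x : N₁, x ^ (k ^ (2 ^ e)) = x := fun x => Subtype.ext (hke x)
    have hk₂X : ∀ x : N₁, Odd (orderOf x) → x ^ k = x⁻¹ :=
      fun x hx => Subtype.ext (hk₂ x (by rwa [Subgroup.orderOf_coe]))
    have hcyc : IsCyclic (N₁ ⧸ N.subgroupOf N₁) :=
      isCyclic_of_prime_card (p := q) (by rw [← Subgroup.index_eq_card, hrel])
    have hoddrel : Odd (N.subgroupOf N₁).index := by rw [hrel]; exact hqodd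
    set θ' : IrrCharacter (N.subgroupOf N₁) := ⟨resTo N N₁ θ, isIrr_resTo hle hθ⟩ with hθ'
    obtain ⟨θ₁, hres₁, hfix₁⟩ := gal_ext_cyclic (N.subgroupOf N₁) hoddrel hkX hkeX θ'
      (resTo_fixed N N₁ hfix) (resTo_inv N N₁ hN hN' hinv) hcyc
    have hinv₁ : ∀ g : G, conjFun N₁ hN₁ (θ₁ : N₁ → ℂ) g = θ₁ := by
      intro g
      set ψ : IrrCharacter N₁ := ⟨conjFun N₁ hN₁ θ₁ g, isIrr_conjFun N₁ hN₁ θ₁.2 g⟩ with hψ
      have hψfix : ∀ x, (ψ : N₁ → ℂ) (x ^ k) = (ψ : N₁ → ℂ) x := by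
        intro x
        show (θ₁ : N₁ → ℂ) ⟨g * ((x ^ k : N₁) : G) * g⁻¹, _⟩ =
          (θ₁ : N₁ → ℂ) ⟨g * (x : G) * g⁻¹, hN₁.conj_mem x x.2 g⟩
        rw [← hfix₁ ⟨g * (x : G) * g⁻¹, hN₁.conj_mem x x.2 g⟩]
        apply congrArg
        apply Subtype.ext
        simp [conj_pow]
      have hψres : (fun y : N.subgroupOf N₁ => (ψ : N₁ → ℂ) y) = θ' := by
        funext y
        have hmem : g * ((y : N₁) : G) * g⁻¹ ∈ N :=
          hN.conj_mem _ (Subgroup.mem_subgroupOf.1 y.2) g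
        have h1 := hres₁ ⟨⟨g * ((y : N₁) : G) * g⁻¹, hle hmem⟩, Subgroup.mem_subgroupOf.2 hmem⟩
        refine Eq.trans h1 ?_
        exact congrFun (hinv g) ⟨((y : N₁) : G), Subgroup.mem_subgroupOf.1 y.2⟩
      have hθ₁res : (fun y : N.subgroupOf N₁ => (θ₁ : N₁ → ℂ) y) = θ' := funext hres₁
      have h1 : ψ = θ₁ := gal_unique (N.subgroupOf N₁) hoddrel hkX hkeX hk₂X ψ θ₁ hψfix hfix₁ θ'
        (by rw [hψres, classInner_irr_self θ'.2]; exact one_ne_zero)
        (by rw [hθ₁res, classInner_irr_self θ'.2]; exact one_ne_zero)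
      exact congrArg Subtype.val h1
    obtain ⟨χ, hχ, hχres, hχfix⟩ := ih N₁ hN₁ hidx₁ θ₁ θ₁.2 hfix₁ hinv₁
    refine ⟨χ, hχ, fun x => ?_, hχfix⟩
    have h1 := hχres ⟨x, hle x.2⟩
    have h2 := hres₁ ⟨⟨x, hle x.2⟩, Subgroup.mem_subgroupOf.2 x.2⟩
    exact h1.trans h2

end pgroup

section general

variable {G : Type u} [Group G] [Fintype G] (N : Subgroup G) [hN : N.Normal] [Fintype N]

theorem gal_extends (hodd : Odd N.index) {k e : ℕ}
    (hk : k.Coprime (Nat.card G)) (hke : ∀ g : G, g ^ (k ^ (2 ^ e)) = g)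
    (hk₂ : ∀ g : G, Odd (orderOf g) → g ^ k = g⁻¹)
    (θ : IrrCharacter N) (hθ : ∀ n : N, (θ : N → ℂ) (n ^ k) = (θ : N → ℂ) n)
    (hinv : ∀ g : G, conjFun N hN (θ : N → ℂ) g = θ) :
    ∃ χ : G → ℂ, IsIrrCharacter G χ ∧ ∀ n : N, χ n = (θ : N → ℂ) n := by
  classical
  apply extends_of_sylow N hN θ.2 hinv
  intro p hp
  by_cases hp2 : p = 2
  · subst hp2
    exact ⟨N, le_rfl, θ, Nat.coprime_two_right.2 hodd, isCharacter_of_isIrr θ.2, fun n => rfl⟩
  · haveI : Fact p.Prime := ⟨hp⟩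
    have hpodd : Odd p := hp.odd_of_ne_two hp2
    obtain ⟨S⟩ : Nonempty (Sylow p (G ⧸ N)) := inferInstance
    set P := (S : Subgroup (G ⧸ N)).comap (QuotientGroup.mk' N) with hP
    have hle : N ≤ P := by
      intro x hx
      rw [hP, Subgroup.mem_comap, QuotientGroup.mk'_apply, (QuotientGroup.eq_one_iff x).2 hx]
      exact (S : Subgroup (G ⧸ N)).one_mem
    have hPidx : P.index = (S : Subgroup (G ⧸ N)).index :=
      Subgroup.index_comap_of_surjective _ (QuotientGroup.mk'_surjective N)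
    obtain ⟨m, hm⟩ := IsPGroup.iff_card.1 S.2
    have hrel : (N.subgroupOf P).index = p ^ m := by
      have h1 := Subgroup.relIndex_mul_index hle
      have h2 := (S : Subgroup (G ⧸ N)).card_mul_index
      rw [hPidx] at h1
      rw [hm, ← Subgroup.index_eq_card] at h2
      have h0 : 0 < (S : Subgroup (G ⧸ N)).index :=
        Nat.pos_of_ne_zero Subgroup.index_ne_zero_of_finite
      exact Nat.eq_of_mul_eq_mul_right h0 (h1.trans h2.symm)
    haveI : Fintype P := Fintype.ofFinite _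
    haveI : Fintype (N.subgroupOf P) := Fintype.ofFinite _
    have hN' : (N.subgroupOf P).Normal := inferInstance
    have hkX : k.Coprime (Nat.card P) := coprime_card_subgroup P hk
    have hkeX : ∀ x : P, x ^ (k ^ (2 ^ e)) = x := fun x => Subtype.ext (hke x)
    have hk₂X : ∀ x : P, Odd (orderOf x) → x ^ k = x⁻¹ :=
      fun x hx => Subtype.ext (hk₂ x (by rwa [Subgroup.orderOf_coe]))
    obtain ⟨η, hη, hηres, -⟩ := gal_ext_pgroup (G := P) hp hpodd hkX hkeX hk₂X m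
      (N.subgroupOf P) hN' hrel (resTo N P θ) (isIrr_resTo hle θ.2) (resTo_fixed N P hθ)
      (resTo_inv N P hN hN' hinv)
    refine ⟨P, hle, η, ?_, isCharacter_of_isIrr hη, fun n => ?_⟩
    · rw [hPidx]
      exact ((Nat.Prime.coprime_iff_not_dvd hp).2 S.not_dvd_index).symm
    · exact hηres ⟨⟨n, hle n.2⟩, Subgroup.mem_subgroupOf.2 n.2⟩

/-- an invariant Galois fixed character has a Galois fixed extension -/
theorem gal_ext (hodd : Odd N.index) {k e : ℕ}
    (hk : k.Coprime (Nat.card G)) (hke : ∀ g : G, g ^ (k ^ (2 ^ e)) = g)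
    (hk₂ : ∀ g : G, Odd (orderOf g) → g ^ k = g⁻¹)
    (θ : IrrCharacter N) (hθ : ∀ n : N, (θ : N → ℂ) (n ^ k) = (θ : N → ℂ) n)
    (hinv : ∀ g : G, conjFun N hN (θ : N → ℂ) g = θ) :
    ∃ χ : IrrCharacter G, (∀ n : N, (χ : G → ℂ) n = (θ : N → ℂ) n) ∧
      ∀ g, (χ : G → ℂ) (g ^ k) = (χ : G → ℂ) g := by
  classical
  obtain ⟨χ₀, hχ₀, hres⟩ := gal_extends N hodd hk hke hk₂ θ hθ hinv
  have hresfun : (fun n : N => χ₀ n) = θ := funext hres
  have hirrres : IsIrrCharacter N (fun n : N => χ₀ n) := by rw [hresfun]; exact θ.2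
  have hψ : IsIrrCharacter G (powFun χ₀ k) := isIrr_powFun hχ₀ hk
  have hψres : (fun n : N => powFun χ₀ k n) = θ := by
    funext n
    have h1 := hres (n ^ k)
    rw [hθ] at h1
    exact h1
  obtain ⟨β, hβ, hβN, hβη⟩ := gallagher_exists N hN hχ₀ hirrres hψ (by
    rw [hψres, hresfun, classInner_irr_self θ.2]; exact one_ne_zero)
  have hE0 : χ₀ 1 ≠ 0 := irr_degree_ne_zero hχ₀
  have hβ1 : β 1 = 1 := by
    have h1 := congrFun hβη 1
    rw [Pi.mul_apply, powFun_apply, one_pow] at h1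
    exact mul_right_cancel₀ hE0 (by rw [h1, one_mul])
  have hβc := isCharacter_of_isIrr hβ
  set lam := homOfLinear hβc hβ1 with hlam
  have hlamN : ∀ n : N, lam n = 1 := by
    intro n
    apply Units.ext
    rw [hlam, homOfLinear_apply, hβN n n.2, hβ1, Units.val_one]
  have hlamidx : lam ^ N.index = 1 := pow_index_eq_one_of_trivial N hN lam hlamN
  obtain ⟨j, hj⟩ := hodd
  set μ := lam ^ (j + 1) with hμ
  have hμ2 : ∀ g, μ g * μ g = lam g := by
    intro g
    have h1 : (lam ^ N.index) g = 1 := by rw [hlamidx]; rfl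
    rw [hj, MonoidHom.pow_apply] at h1
    rw [hμ, MonoidHom.pow_apply, ← pow_add]
    have h2 : j + 1 + (j + 1) = (2 * j + 1) + 1 := by ring
    rw [h2, pow_succ, h1, one_mul]
  have hμN : ∀ n ∈ N, μ n = 1 := by
    intro n hn
    rw [hμ, MonoidHom.pow_apply, hlamN ⟨n, hn⟩, one_pow]
  have hodd' : Odd N.index := ⟨j, hj⟩
  have hμσ : ∀ g, μ (g ^ k) = (μ g)⁻¹ := by
    intro g
    obtain ⟨a, b, s, hab, ha, hb⟩ :=
      Cfsg.Agent.Lib.Helper2_PPart.exists_parts Nat.prime_two g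
    have hu : g ^ a ∈ N := mem_of_two_pow N hodd' ha
    have hvodd : Odd (orderOf (g ^ b)) := by
      rw [← Nat.not_even_iff_odd, even_iff_two_dvd]
      exact hb
    have h1 : μ g = μ (g ^ b) := by
      conv_lhs => rw [← hab]
      rw [map_mul, hμN _ hu, one_mul]
    rw [map_pow, h1, ← map_pow, hk₂ _ hvodd, map_inv]
  refine ⟨⟨(fun g => ((μ g : ℂˣ) : ℂ)) * χ₀, isIrr_hom_mul μ hχ₀⟩, ?_, ?_⟩
  · intro n
    show ((μ (n : G) : ℂˣ) : ℂ) * χ₀ n = (θ : N → ℂ) n
    rw [hμN n n.2, Units.val_one, one_mul, hres]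
  · intro g
    show ((μ (g ^ k) : ℂˣ) : ℂ) * χ₀ (g ^ k) = ((μ g : ℂˣ) : ℂ) * χ₀ g
    have h1 : χ₀ (g ^ k) = ((lam g : ℂˣ) : ℂ) * χ₀ g := (congrFun hβη g).symm
    rw [h1, hμσ, ← hμ2 g, ← mul_assoc, ← Units.val_mul, inv_mul_cancel_left]

end general

end Cfsg.Agent.Lib.Helper2_GalOdd2
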