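import Mathlib
import Cfsg.Prelude.Def_BrauerPairs
import Cfsg.Agent.Lib.Helper2_ExtFMT
import Cfsg.Agent.Lib.Helper2_Fong

set_option autoImplicit false

namespace Cfsg.Agent.Lib.Helper2_MaxPair

open Cfsg Cfsg.Agent.Lib.Helper2_BlockLocal Cfsg.Agent.Lib.Helper2_BlockOm
  Cfsg.Agent.Lib.Helper2_BlockOsima Cfsg.Agent.Lib.Helper2_BlockBasic
  Cfsg.Agent.Lib.Helper2_BlockOrtho Cfsg.Agent.Lib.Helper2_BlockMinMax
  Cfsg.Agent.Lib.Helper2_BlockInd Cfsg.Agent.Lib.Helper2_BlockDefect
  Cfsg.Agent.Lib.Helper2_BlockPCore Cfsg.Agent.Lib.Helper2_BlockNormal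
  Cfsg.Agent.Lib.Helper2_BlockBrauer Cfsg.Agent.Lib.Helper2_BlockFMT
  Cfsg.Agent.Lib.Helper2_BrauerPairs Cfsg.Agent.Lib.Helper2_SecondMain
  Cfsg.Agent.Lib.Helper2_BP1 Cfsg.Agent.Lib.Helper2_BP2 Cfsg.Agent.Lib.Helper2_BP3
  Cfsg.Agent.Lib.Helper2_BP4 Cfsg.Agent.Lib.Helper2_BP5 Cfsg.Agent.Lib.Helper2_BP6
  Cfsg.Agent.Lib.Helper2_BP7 Cfsg.Agent.Lib.Helper2_BP8 Cfsg.Agent.Lib.Helper2_BP9
  Cfsg.Agent.Lib.Helper2_BP10 Cfsg.Agent.Lib.Helper2_BP11 Cfsg.Agent.Lib.Helper2_BP12
  Cfsg.Agent.Lib.Helper2_BP13 Cfsg.Agent.Lib.Helper2_BP14 Cfsg.Agent.Lib.Helper2_ExtFMT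
  Cfsg.Agent.Lib.Helper2_Fong Cfsg.Agent.Lib.Helper2_EA
  Cfsg.Agent.Lib.Helper2_BlockSection
  Cfsg.Agent.Lib.Helper2_BlockCover2 Cfsg.Agent.Lib.Helper2_Basic
  Cfsg.Agent.Lib.CharBasic Cfsg.Agent.Lib.CharOrtho
  Cfsg.Agent.Lib.CharComplete Cfsg.Agent.Lib.CharIntegral Cfsg.Agent.Lib.CharMore
  Cfsg.Agent.Lib.CharPerm Cfsg.Agent.Lib.CharInd
open scoped ComplexConjugate Classical
open Relation

universe u

variable {M : Ideal AlgInt} {p : ℕ} {G : Type u} [Group G]

theorem val_le_of_le [Finite G] {A A' : Subgroup G} (h : A ≤ A') :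
    (Nat.card A).factorization p ≤ (Nat.card A').factorization p :=
  (Nat.factorization_le_iff_dvd Nat.card_pos.ne' Nat.card_pos.ne').mpr
    (Subgroup.card_dvd_of_le h) p

theorem val_sup_add_inf [Finite G] (H N : Subgroup G)
    (hLE : H ≤ Subgroup.normalizer (N : Set G)) :
    (Nat.card (H ⊔ N : Subgroup G)).factorization p +
      (Nat.card (H ⊓ N : Subgroup G)).factorization p =
    (Nat.card H).factorization p + (Nat.card N).factorization p := by
  have h7 := congrArg (fun n => n.factorization p) (card_sup_mul_card_inf H N hLE)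
  beta_reduce at h7
  rw [Nat.factorization_mul Nat.card_pos.ne' Nat.card_pos.ne',
    Nat.factorization_mul Nat.card_pos.ne' Nat.card_pos.ne', Finsupp.add_apply,
    Finsupp.add_apply] at h7
  exact h7

theorem card_eq_pow_val [Finite G] [Fact p.Prime] {R : Subgroup G} (hR : IsPGroup p R) :
    Nat.card R = p ^ (Nat.card R).factorization p := by
  have hp : p.Prime := Fact.out
  obtain ⟨k, hk⟩ := IsPGroup.iff_card.mp hR
  rw [hk, hp.factorization_pow, Finsupp.single_eq_same]

theorem pGroup_le_of_val [Finite G] [Fact p.Prime] {R L T : Subgroup G} (hR : IsPGroup p R)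
    (hRT : R ≤ T) (hLT : L ≤ T) (hRN : R ≤ Subgroup.normalizer (L : Set G))
    (hv : (Nat.card T).factorization p ≤ (Nat.card L).factorization p) : R ≤ L := by
  have hp : p.Prime := Fact.out
  have h1 := val_sup_add_inf (p := p) R L hRN
  have h2 : (Nat.card (R ⊔ L : Subgroup G)).factorization p ≤ (Nat.card T).factorization p :=
    val_le_of_le (sup_le hRT hLT)
  have h3 : (Nat.card R).factorization p ≤ (Nat.card (R ⊓ L : Subgroup G)).factorization p := by
    omega
  have h4 : R ⊓ L = R := by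
    apply Subgroup.eq_of_le_of_card_ge inf_le_left
    rw [card_eq_pow_val hR, card_eq_pow_val (hR.to_le (inf_le_left : R ⊓ L ≤ R))]
    exact Nat.pow_le_pow_right hp.pos h3
  exact inf_eq_left.mp h4

theorem stab_univ_iff [Finite G] {K : Subgroup G} {f : Set (IrrCharacter K)} {x : G}
    (hx : x ∈ Subgroup.normalizer (K : Set G)) :
    (∀ θ ∈ f, ∀ θ' : IrrCharacter K,
      (∀ h h' : K, (h' : G) = x * h * x⁻¹ → (θ' : K → ℂ) h' = (θ : K → ℂ) h) → θ' ∈ f) ↔
      StabilizesBlock K f x := by
  constructor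
  · intro h
    refine ⟨hx, fun χ hχ => ⟨mapIrr (conjAut K x hx) χ, ?_, ?_⟩⟩
    · apply h χ hχ
      intro k k' hk
      have : k' = conjAut K x hx k := Subtype.ext hk
      rw [this, mapIrr_apply]
    · intro k k' hk
      have : k' = conjAut K x hx k := Subtype.ext hk
      rw [this, mapIrr_apply]
  · rintro ⟨-, h⟩ θ hθ θ' hθ'
    obtain ⟨χ', hχ', hc⟩ := h θ hθ
    have : θ' = χ' := by
      apply Subtype.ext
      funext k'
      have hk : (k' : G) = x * ((conjAut K x hx).symm k' : K) * x⁻¹ := by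
        rw [conjAut_symm_coe]; group
      rw [hθ' _ _ hk, hc _ _ hk]
    rw [this]; exact hχ'

variable [Fintype G]

/-- the key inequality for a pair without proper normal extension -/
theorem val_stab_of_noExt [Fact p.Prime] (hM : IsPModular p M) {P T : Subgroup G}
    {e : Set (IrrCharacter (Subgroup.centralizer (P : Set G)))} (hPe : IsBrauerPair p M P e)
    (hno : NoExt p M P e) (hT : IsStab P e T) :
    ∃ y : Subgroup.centralizer (P : Set G), IsDefectClass M e y ∧
      (Nat.card T).factorization p +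
        (Nat.card (Subgroup.centralizer ({(y : G)} : Set G) ⊓
          Subgroup.centralizer (P : Set G) : Subgroup G)).factorization p ≤
      (Nat.card P).factorization p +
        (Nat.card (Subgroup.centralizer (P : Set G))).factorization p := by
  have hp : p.Prime := Fact.out
  obtain ⟨hPT, hKT, hTN, hinv⟩ := stab_facts hT
  obtain ⟨y, hy, hle⟩ := fong_card hM hKT (hTN.trans (normalizer_le_normalizer_centralizer P))
    hPe.2 hinv
  refine ⟨y, hy, ?_⟩
  set X := Subgroup.centralizer ({(y : G)} : Set G) ⊓ T with hX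
  have hPX : P ≤ X := le_inf (le_centralizer_singleton_of_mem y.2) hPT
  obtain ⟨S, hS⟩ := (hPe.1.comap_subtype (K := X)).exists_le_sylow
  set R := (S : Subgroup X).map X.subtype with hR
  have hRp : IsPGroup p R := S.2.map _
  have hRX : R ≤ X := by rintro _ ⟨a, -, rfl⟩; exact a.2
  have hPR : P ≤ R := by
    intro a ha
    exact ⟨⟨a, hPX ha⟩, hS (Subgroup.mem_comap.mpr ha), rfl⟩
  have hRcard : Nat.card R = p ^ (Nat.card X).factorization p := by
    rw [hR, Subgroup.card_map_of_injective (Subgroup.subtype_injective _),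
      Sylow.card_eq_multiplicity]
  have hRT : R ≤ T := hRX.trans inf_le_right
  obtain ⟨g, hg⟩ := exists_normal_extension hM hPe hRp hPR (hRT.trans hTN)
    (fun x hx => ((hT x).mp (hRT hx)).2) (y := (y : G))
    (mem_centralizer_of_le (hRX.trans inf_le_left)) (by rw [sbc_coe]; exact hy.2.1)
  have hRP := hno R g hg
  rw [hRP] at hRcard
  have h1 : (Nat.card P).factorization p = (Nat.card X).factorization p := by
    rw [hRcard, hp.factorization_pow, Finsupp.single_eq_same]
  omega

theorem center_le_centralizer_inf {P : Subgroup G} (y : Subgroup.centralizer (P : Set G)) :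
    P ⊓ Subgroup.centralizer (P : Set G) ≤
      Subgroup.centralizer ({(y : G)} : Set G) ⊓ Subgroup.centralizer (P : Set G) :=
  le_inf (inf_le_left.trans (le_centralizer_singleton_of_mem y.2)) inf_le_right

theorem val_stab_le_of_noExt [Fact p.Prime] (hM : IsPModular p M) {P T : Subgroup G}
    {e : Set (IrrCharacter (Subgroup.centralizer (P : Set G)))} (hPe : IsBrauerPair p M P e)
    (hno : NoExt p M P e) (hT : IsStab P e T) :
    (Nat.card T).factorization p ≤
      (Nat.card (P ⊔ Subgroup.centralizer (P : Set G) : Subgroup G)).factorization p := by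
  obtain ⟨y, -, hle⟩ := val_stab_of_noExt hM hPe hno hT
  have h1 := val_sup_add_inf (p := p) P (Subgroup.centralizer (P : Set G))
    (Subgroup.le_normalizer.trans (normalizer_le_normalizer_centralizer P))
  have h2 := val_le_of_le (p := p) (center_le_centralizer_inf y)
  omega

/-- the defect of `e` is that of `Z(P)` -/
theorem val_defect_of_noExt [Fact p.Prime] (hM : IsPModular p M) {P : Subgroup G}
    {e : Set (IrrCharacter (Subgroup.centralizer (P : Set G)))} (hPe : IsBrauerPair p M P e)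
    (hno : NoExt p M P e) :
    ∃ y : Subgroup.centralizer (P : Set G), IsDefectClass M e y ∧
        (Nat.card (Subgroup.centralizer ({(y : G)} : Set G) ⊓
          Subgroup.centralizer (P : Set G) : Subgroup G)).factorization p =
        (Nat.card (P ⊓ Subgroup.centralizer (P : Set G) : Subgroup G)).factorization p := by
  set T : Subgroup G := Subgroup.normalizer (P : Set G) ⊓
    invSub (subgroupBlockCoeff (Subgroup.centralizer (P : Set G)) e) with hTdef
  have hT : IsStab P e T := by
    intro y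
    rw [stabilizes_iff_inv, hTdef, Subgroup.mem_inf]
    constructor
    · rintro ⟨h1, h2⟩
      exact ⟨h1, normalizer_le_normalizer_centralizer P h1, h2⟩
    · rintro ⟨h1, -, h2⟩
      exact ⟨h1, h2⟩
  obtain ⟨hPT, hKT, hTN, hinv⟩ := stab_facts hT
  obtain ⟨y, hy, hle⟩ := val_stab_of_noExt hM hPe hno hT
  refine ⟨y, hy, ?_⟩
  have h1 := val_sup_add_inf (p := p) P (Subgroup.centralizer (P : Set G))
    (Subgroup.le_normalizer.trans (normalizer_le_normalizer_centralizer P))
  have h2 := val_le_of_le (p := p) (center_le_centralizer_inf y)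
  have h3 := val_le_of_le (p := p) (sup_le hPT hKT)
  omega

/-- criterion for `NoExt` via the block of `P C(P)` -/
theorem noExt_of_val [Fact p.Prime] (hM : IsPModular p M) {P T L : Subgroup G}
    {e : Set (IrrCharacter (Subgroup.centralizer (P : Set G)))}
    (hT : IsStab P e T) (hL : L = P ⊔ Subgroup.centralizer (P : Set G))
    {b : Set (IrrCharacter L)} (hb : IsPBlock M b)
    (hbe : ∀ l : L, blockCoeff b l = subgroupBlockCoeff _ e (l : G))
    (hbP : IsDefectGroup p M b (P.subgroupOf L))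
    (hv : (Nat.card T).factorization p ≤ (Nat.card L).factorization p) : NoExt p M P e := by
  have hPr := isPrime_of_modular hM
  obtain ⟨hPT, hKT, hTN, hinv⟩ := stab_facts hT
  have hPL : P ≤ L := hL ▸ le_sup_left
  have hKL : Subgroup.centralizer (P : Set G) ≤ L := hL ▸ le_sup_right
  intro R g h
  have hRT : R ≤ T := fun x hx => (hT x).mpr ⟨h.2.2.2.1 hx, h.2.2.2.2.1 x hx⟩
  have hRL : R ≤ L := by
    apply pGroup_le_of_val h.2.1.1 hRT (hL ▸ sup_le hPT hKT) _ hv
    rw [hL]
    exact (hRT.trans hTN).trans (normalizer_le_normalizer_sup P)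
  obtain ⟨y, hy, hy0⟩ := exists_unit_of_normalSubpair hPr h
  have hyK : y ∈ Subgroup.centralizer (P : Set G) := centralizer_anti h.2.2.1 hy
  have h1 := hbe ⟨y, hKL hyK⟩
  simp only at h1
  rw [← h1] at hy0
  obtain ⟨D, hD, hRD⟩ := le_defect_of_unit hM hb hy0 (A := R.subgroupOf L)
    h.2.1.1.comap_subtype (by
      intro a ha
      rw [Subgroup.mem_subgroupOf] at ha
      rw [Subgroup.mem_centralizer_singleton_iff]
      apply Subtype.ext
      exact Subgroup.mem_centralizer_iff.mp hy a ha)
  refine (Subgroup.eq_of_le_of_card_ge h.2.2.1 ?_).symm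
  calc Nat.card R = Nat.card (R.subgroupOf L) :=
        (Nat.card_congr (Subgroup.subgroupOfEquivOfLe hRL).toEquiv).symm
    _ ≤ Nat.card D := Nat.card_le_card_of_injective _ (Subgroup.inclusion_injective hRD)
    _ = Nat.card (P.subgroupOf L) := card_defect_eq hM hb hD hbP
    _ = Nat.card P := Nat.card_congr (Subgroup.subgroupOfEquivOfLe hPL).toEquiv

end Cfsg.Agent.Lib.Helper2_MaxPair
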