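import Mathlib
import Cfsg.Prelude.Def_BrauerPairs
import Cfsg.Agent.Lib.Helper2_MaxPair
import Cfsg.Agent.Lib.Helper2_CentralDef

set_option autoImplicit false

namespace Cfsg.Agent.Lib.Helper2_MaxPair2

open Cfsg Cfsg.Agent.Lib.Helper2_BlockLocal Cfsg.Agent.Lib.Helper2_BlockOm
  Cfsg.Agent.Lib.Helper2_BlockOsima Cfsg.Agent.Lib.Helper2_BlockBasic
  Cfsg.Agent.Lib.Helper2_BlockOrtho Cfsg.Agent.Lib.Helper2_BlockMinMax
  Cfsg.Agent.Lib.Helper2_BlockInd Cfsg.Agent.Lib.Helper2_BlockDefect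
  Cfsg.Agent.Lib.Helper2_BlockPCore Cfsg.Agent.Lib.Helper2_BlockNormal
  Cfsg.Agent.Lib.Helper2_BlockBrauer Cfsg.Agent.Lib.Helper2_BlockFMT
  Cfsg.Agent.Lib.Helper2_BrauerPairs Cfsg.Agent.Lib.Helper2_SecondMain
  Cfsg.Agent.Lib.Helper2_BP1 Cfsg.Agent.Lib.Helper2_BP2 Cfsg.Agent.Lib.Helper2_BP3
  Cfsg.Agent.Lib.Helper2_BP4 Cfsg.Agent.Lib.Helper2_BP5 Cfsg.Agent.Lib.Helper2_BP6
  Cfsg.Agent.Lib.Helper2_BP7 Cfsg.Agent.Lib.Helper2_BP8 Cfsg.Agent.Lib.Helper2_BP9
  Cfsg.Agent.Lib.Helper2_BP10 Cfsg.Agent.Lib.Helper2_BP11 Cfsg.Agent.Lib.Helper2_BP12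
  Cfsg.Agent.Lib.Helper2_BP13 Cfsg.Agent.Lib.Helper2_BP14 Cfsg.Agent.Lib.Helper2_ExtFMT
  Cfsg.Agent.Lib.Helper2_Fong Cfsg.Agent.Lib.Helper2_EA Cfsg.Agent.Lib.Helper2_MaxPair
  Cfsg.Agent.Lib.Helper2_CentralDef Cfsg.Agent.Lib.Helper2_BlockDefOrder
  Cfsg.Agent.Lib.Helper2_PPart
  Cfsg.Agent.Lib.Helper2_BlockSection
  Cfsg.Agent.Lib.Helper2_BlockCover2 Cfsg.Agent.Lib.Helper2_Basic
  Cfsg.Agent.Lib.CharBasic Cfsg.Agent.Lib.CharOrtho
  Cfsg.Agent.Lib.CharComplete Cfsg.Agent.Lib.CharIntegral Cfsg.Agent.Lib.CharMore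
  Cfsg.Agent.Lib.CharPerm Cfsg.Agent.Lib.CharInd
open scoped ComplexConjugate Classical
open Relation

universe u

variable {M : Ideal AlgInt} {p : ℕ} {G : Type u} [Group G]

theorem eq_of_noExt_le [Finite G] (hPr : M.IsPrime) {P : Subgroup G}
    {e : Set (IrrCharacter (Subgroup.centralizer (P : Set G)))} (hno : NoExt p M P e)
    {b : BrauerPairIdx G} (h : ReflTransGen (NormalSubpairRel p M) ⟨P, e⟩ b) : b = ⟨P, e⟩ := by
  induction h with
  | refl => rfl
  | @tail b' b _ hbc ih =>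
    subst ih
    obtain ⟨R, g⟩ := b
    have h1 : IsNormalSubpair p M P e R g := hbc
    have h2 := hno R g h1
    subst h2
    have h3 : e = g := eq_of_normal_same hPr h1
    rw [h3]

theorem maximal_of_noExt [Finite G] (hPr : M.IsPrime) {B : Set (IrrCharacter G)} {P : Subgroup G}
    {e : Set (IrrCharacter (Subgroup.centralizer (P : Set G)))}
    (hBe : IsBrauerPairOf p M B P e) (hno : NoExt p M P e) : IsMaximalBrauerPair p M B P e := by
  refine ⟨hBe, fun R g _ hle => ?_⟩
  have := eq_of_noExt_le hPr hno (b := ⟨R, g⟩) hle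
  exact congrArg Sigma.fst this

theorem exists_isStab [Finite G] (P : Subgroup G)
    (e : Set (IrrCharacter (Subgroup.centralizer (P : Set G)))) : ∃ T, IsStab P e T := by
  refine ⟨Subgroup.normalizer (P : Set G) ⊓
    invSub (subgroupBlockCoeff (Subgroup.centralizer (P : Set G)) e), ?_⟩
  intro y
  rw [stabilizes_iff_inv, Subgroup.mem_inf]
  constructor
  · rintro ⟨h1, h2⟩
    exact ⟨h1, normalizer_le_normalizer_centralizer P h1, h2⟩
  · rintro ⟨h1, -, h2⟩
    exact ⟨h1, h2⟩

theorem zc_le_center (Q : Subgroup G) :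
    Q.subgroupOf (Subgroup.centralizer (Q : Set G)) ≤
      Subgroup.center (Subgroup.centralizer (Q : Set G)) := by
  intro z hz
  rw [Subgroup.mem_subgroupOf] at hz
  rw [Subgroup.mem_center_iff]
  intro k
  apply Subtype.ext
  exact (Subgroup.mem_centralizer_iff.mp k.2 z hz).symm

theorem normal_of_le_center' {H : Type u} [Group H] {Z : Subgroup H}
    (h : Z ≤ Subgroup.center H) : Z.Normal := by
  constructor
  intro z hz g
  have := Subgroup.mem_center_iff.mp (h hz) g
  rw [this, mul_inv_cancel_right]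
  exact hz

theorem card_zc (Q : Subgroup G) :
    Nat.card (Q.subgroupOf (Subgroup.centralizer (Q : Set G))) =
      Nat.card (Q ⊓ Subgroup.centralizer (Q : Set G) : Subgroup G) := by
  rw [← Subgroup.inf_subgroupOf_right]
  exact Nat.card_congr (Subgroup.subgroupOfEquivOfLe inf_le_right).toEquiv

theorem val_card_add_index {H : Type u} [Group H] [Finite H] (A : Subgroup H) :
    (Nat.card A).factorization p + A.index.factorization p = (Nat.card H).factorization p := by
  rw [← A.card_mul_index, Nat.factorization_mul Nat.card_pos.ne'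
    Subgroup.index_ne_zero_of_finite, Finsupp.add_apply]

variable [Fintype G]

theorem exists_char_of_noExt [Fact p.Prime] (hM : IsPModular p M) {Q : Subgroup G}
    {e : Set (IrrCharacter (Subgroup.centralizer (Q : Set G)))} (hQe : IsBrauerPair p M Q e)
    (hno : NoExt p M Q e) :
    ∃ θ ∈ e, (∀ z : Subgroup.centralizer (Q : Set G), (z : G) ∈ Q →
        (θ : Subgroup.centralizer (Q : Set G) → ℂ) z =
          (θ : Subgroup.centralizer (Q : Set G) → ℂ) 1) ∧
      (charDegree (θ : Subgroup.centralizer (Q : Set G) → ℂ)).factorization p +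
        (Nat.card ↥(Q ⊓ Subgroup.centralizer (Q : Set G))).factorization p =
      (Nat.card (Subgroup.centralizer (Q : Set G))).factorization p := by
  obtain ⟨y, hy, hval⟩ := val_defect_of_noExt hM hQe hno
  have hZn := normal_of_le_center' (zc_le_center Q)
  obtain ⟨θ, hθ, hker⟩ := exists_ker_of_normal_pGroup hM hQe.2
    (Q.subgroupOf (Subgroup.centralizer (Q : Set G))) hZn hQe.1.comap_subtype
  refine ⟨θ, hθ, fun z hz => hker z (Subgroup.mem_subgroupOf.mpr hz), ?_⟩
  have h1 := degree_val_ge hM hy hθ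
  have h2 := val_card_add_index (p := p) (Subgroup.centralizer
    ({y} : Set (Subgroup.centralizer (Q : Set G))))
  rw [card_centralizer_sub, hval] at h2
  have h3 := degree_dvd_index _ θ hker
  obtain ⟨hd0, -, -⟩ := Cfsg.Agent.Lib.helper8_Defect.irr_charDegree θ.2
  have h4 := (Nat.factorization_le_iff_dvd hd0.ne' Subgroup.index_ne_zero_of_finite).mpr h3 p
  have h5 := val_card_add_index (p := p) (Q.subgroupOf (Subgroup.centralizer (Q : Set G)))
  rw [card_zc] at h5
  omega

theorem mem_of_noExt [Fact p.Prime] (hM : IsPModular p M) {Q : Subgroup G}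
    {e : Set (IrrCharacter (Subgroup.centralizer (Q : Set G)))} (hQe : IsBrauerPair p M Q e)
    (hno : NoExt p M Q e) {g : G} (hg : g ∈ Subgroup.normalizer (Q : Set G))
    (hst : StabilizesBlock (Subgroup.centralizer (Q : Set G)) e g)
    (ho : ∃ k : ℕ, orderOf g = p ^ k) : g ∈ Q ⊔ Subgroup.centralizer (Q : Set G) := by
  obtain ⟨T, hT⟩ := exists_isStab Q e
  obtain ⟨hPT, hKT, hTN, hinv⟩ := stab_facts hT
  have hv := val_stab_le_of_noExt hM hQe hno hT
  have hgT : g ∈ T := (hT g).mpr ⟨hg, hst⟩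
  have hR : IsPGroup p (Subgroup.zpowers g) := by
    obtain ⟨k, hk⟩ := ho
    apply IsPGroup.of_card (n := k)
    rw [Nat.card_zpowers, hk]
  have hRT : Subgroup.zpowers g ≤ T := Subgroup.zpowers_le.mpr hgT
  exact pGroup_le_of_val hR hRT (sup_le hPT hKT)
    ((hRT.trans hTN).trans (normalizer_le_normalizer_sup Q)) hv (Subgroup.mem_zpowers g)

theorem noExt_of_char [Fact p.Prime] (hM : IsPModular p M) {Q : Subgroup G}
    {e : Set (IrrCharacter (Subgroup.centralizer (Q : Set G)))} (hQe : IsBrauerPair p M Q e)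
    {θ : IrrCharacter (Subgroup.centralizer (Q : Set G))} (hθ : θ ∈ e)
    (hker : ∀ z : Subgroup.centralizer (Q : Set G), (z : G) ∈ Q →
        (θ : Subgroup.centralizer (Q : Set G) → ℂ) z =
          (θ : Subgroup.centralizer (Q : Set G) → ℂ) 1)
    (hdeg : (charDegree (θ : Subgroup.centralizer (Q : Set G) → ℂ)).factorization p +
        (Nat.card ↥(Q ⊓ Subgroup.centralizer (Q : Set G))).factorization p =
      (Nat.card (Subgroup.centralizer (Q : Set G))).factorization p)
    (hst : ∀ g : G, g ∈ Subgroup.normalizer (Q : Set G) →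
      StabilizesBlock (Subgroup.centralizer (Q : Set G)) e g → (∃ k : ℕ, orderOf g = p ^ k) →
      g ∈ Q ⊔ Subgroup.centralizer (Q : Set G)) : NoExt p M Q e := by
  have hPr := isPrime_of_modular hM
  have hp : p.Prime := Fact.out
  intro R g h
  have hRL : R ≤ Q ⊔ Subgroup.centralizer (Q : Set G) := by
    intro x hx
    apply hst x (h.2.2.2.1 hx) (h.2.2.2.2.1 x hx)
    obtain ⟨k, hk⟩ := h.2.1.1 ⟨x, hx⟩
    apply orderOf_eq_pow_of_pow_eq_one hp (s := k)
    have := congrArg Subtype.val hk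
    simpa using this
  obtain ⟨y, hy, hy0⟩ := exists_unit_of_normalSubpair hPr h
  have hyK : y ∈ Subgroup.centralizer (Q : Set G) := centralizer_anti h.2.2.1 hy
  have h1 := sbc_coe _ e ⟨y, hyK⟩
  simp only at h1
  rw [h1] at hy0
  obtain ⟨D, hD, hAD⟩ := le_defect_of_unit hM hQe.2 hy0
    (A := R.subgroupOf (Subgroup.centralizer (Q : Set G))) h.2.1.1.comap_subtype (by
      intro a ha
      rw [Subgroup.mem_subgroupOf] at ha
      rw [Subgroup.mem_centralizer_singleton_iff]
      apply Subtype.ext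
      exact Subgroup.mem_centralizer_iff.mp hy a ha)
  obtain ⟨g0, hg0, -, hcard⟩ := isDefectGroup_iff.mp hD
  haveI hZn := normal_of_le_center' (zc_le_center Q)
  have hZp : IsPGroup p (Q.subgroupOf (Subgroup.centralizer (Q : Set G))) :=
    hQe.1.comap_subtype
  have hdef := defect_central hM (Q.subgroupOf (Subgroup.centralizer (Q : Set G)))
    (zc_le_center Q) hZp hQe.2 hθ (fun z hz => hker z (Subgroup.mem_subgroupOf.mp hz))
    (by rw [card_zc]; exact hdeg) hg0
  have hA : Nat.card (R ⊓ Subgroup.centralizer (Q : Set G) : Subgroup G) ≤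
      Nat.card (Q ⊓ Subgroup.centralizer (Q : Set G) : Subgroup G) := by
    calc Nat.card (R ⊓ Subgroup.centralizer (Q : Set G) : Subgroup G)
        = Nat.card (R.subgroupOf (Subgroup.centralizer (Q : Set G))) := by
          rw [← Subgroup.inf_subgroupOf_right]
          exact (Nat.card_congr (Subgroup.subgroupOfEquivOfLe inf_le_right).toEquiv).symm
      _ ≤ Nat.card D := Nat.card_le_card_of_injective _ (Subgroup.inclusion_injective hAD)
      _ ≤ Nat.card (Q.subgroupOf (Subgroup.centralizer (Q : Set G))) := by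
          rw [hcard, card_eq_pow_val hZp]
          exact Nat.pow_le_pow_right hp.pos hdef
      _ = _ := card_zc Q
  have hsup : R ⊔ Subgroup.centralizer (Q : Set G) = Q ⊔ Subgroup.centralizer (Q : Set G) :=
    le_antisymm (sup_le hRL le_sup_right) (sup_le_sup_right h.2.2.1 _)
  have c1 := card_sup_mul_card_inf R (Subgroup.centralizer (Q : Set G))
    (h.2.2.2.1.trans (normalizer_le_normalizer_centralizer Q))
  have c2 := card_sup_mul_card_inf Q (Subgroup.centralizer (Q : Set G))
    (Subgroup.le_normalizer.trans (normalizer_le_normalizer_centralizer Q))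
  rw [hsup] at c1
  refine (Subgroup.eq_of_le_of_card_ge h.2.2.1 ?_).symm
  have c3 : Nat.card R * Nat.card (Subgroup.centralizer (Q : Set G)) ≤
      Nat.card Q * Nat.card (Subgroup.centralizer (Q : Set G)) := by
    rw [← c1, ← c2]
    exact Nat.mul_le_mul_left _ hA
  exact Nat.le_of_mul_le_mul_right c3 Nat.card_pos

end Cfsg.Agent.Lib.Helper2_MaxPair2
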