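import Mathlib
import Cfsg.Prelude.Def_KGroupFacts

/-!
# helper3: bounding the automorphism group through a Sylow normaliser
-/

set_option autoImplicit false
set_option linter.unusedSectionVars false

namespace Cfsg.Agent.Lib.Helper3_AutGen

/-- elements of prime order `p` with `p ∥ |G|` generate conjugate subgroups -/
theorem exists_conj_mem_zpowers {G : Type*} [Group G] [Finite G] {p m : ℕ} [hp : Fact p.Prime]
    (hcard : Nat.card G = p * m) (hm : ¬ p ∣ m) (x y : G) (hx : orderOf x = p)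
    (hy : orderOf y = p) : ∃ c : G, c * y * c⁻¹ ∈ Subgroup.zpowers x := by
  have hz : ∀ x : G, orderOf x = p → IsPGroup p (Subgroup.zpowers x) := fun x hx =>
    IsPGroup.of_card (n := 1) (by rw [Nat.card_zpowers, hx, pow_one])
  obtain ⟨P, hP⟩ := (hz x hx).exists_le_sylow
  obtain ⟨Q, hQ⟩ := (hz y hy).exists_le_sylow
  have hPc : Nat.card (P : Subgroup G) ≤ p := by
    obtain ⟨k, hk⟩ := IsPGroup.iff_card.mp P.isPGroup'
    have h1 : Nat.card (P : Subgroup G) ∣ p * m := hcard ▸ Subgroup.card_subgroup_dvd_card _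
    rw [hk] at h1 ⊢
    have hk1 : k ≤ 1 := by
      by_contra hc
      apply hm
      have h2 : p ^ 2 ∣ p * m := (pow_dvd_pow p (by omega)).trans h1
      rw [pow_two] at h2
      exact Nat.dvd_of_mul_dvd_mul_left hp.out.pos h2
    calc p ^ k ≤ p ^ 1 := Nat.pow_le_pow_right hp.out.pos hk1
      _ = p := pow_one p
  have hPeq : Subgroup.zpowers x = (P : Subgroup G) :=
    Subgroup.eq_of_le_of_card_ge hP (by rw [Nat.card_zpowers, hx]; exact hPc)
  obtain ⟨c, hc⟩ := MulAction.exists_smul_eq G P Q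
  have h3 : y ∈ (Q : Subgroup G) := hQ (Subgroup.mem_zpowers y)
  rw [← hc, Sylow.coe_subgroup_smul, Subgroup.mem_pointwise_smul_iff_inv_smul_mem, ← hPeq] at h3
  refine ⟨c⁻¹, ?_⟩
  simpa [MulAut.smul_def, MulAut.conj_inv_apply, mul_assoc] using h3

theorem exists_pow_of_mem_zpowers {G : Type*} [Group G] [Finite G] {a x : G}
    (h : x ∈ Subgroup.zpowers a) : ∃ k : ℕ, x = a ^ k := by
  obtain ⟨k, hk⟩ := (mem_powers_iff_mem_zpowers).mpr h
  exact ⟨k, hk.symm⟩

theorem aut_mem_of_data {G : Type*} [Group G] [Finite G] {p m : ℕ} [hp : Fact p.Prime]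
    (hcard : Nat.card G = p * m) (hm : ¬ p ∣ m)
    (a n t : G) (A : Subgroup (MulAut G))
    (hInn : ∀ g : G, MulAut.conj g ∈ A)
    (hgen : Subgroup.closure {a, n, t} = ⊤)
    (ha : orderOf a = p)
    (hpow : ∀ k : ℕ, ¬ p ∣ k → ∃ α ∈ A, α a = a ^ k)
    (hcent : ∀ g : G, g * a = a * g → g ∈ Subgroup.zpowers a)
    (hr : ∃ r : ℕ, n * a * n⁻¹ = a ^ r)
    (hn : ∀ m : ℕ, ∃ j : ℕ, a ^ j * n * (a ^ j)⁻¹ = n * a ^ m)
    (ht : ∀ g : G, g * n = n * g → g * g = 1 → g ≠ 1 → g = t)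
    (htn : t * n = n * t) (ht2 : t * t = 1) (ht1 : t ≠ 1)
    (φ : MulAut G) : φ ∈ A := by
  -- step 1
  have hφa : orderOf (φ a) = p := by rw [MulEquiv.orderOf_eq, ha]
  obtain ⟨c, hc⟩ := exists_conj_mem_zpowers hcard hm a (φ a) ha hφa
  obtain ⟨k, hk⟩ := exists_pow_of_mem_zpowers hc
  have hpk : ¬ p ∣ k := by
    intro hd
    have h1 : a ^ k = 1 := by rw [← ha] at hd; exact orderOf_dvd_iff_pow_eq_one.mp hd
    rw [h1] at hk
    have h2 : φ a = 1 := by
      have : φ a = c⁻¹ * (c * φ a * c⁻¹) * c := by group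
      rw [this, hk]; group
    rw [h2, orderOf_one] at hφa
    exact hp.out.one_lt.ne hφa
  obtain ⟨α, hα, hαa⟩ := hpow k hpk
  -- φ2 fixes a
  set φ2 : MulAut G := α⁻¹ * (MulAut.conj c * φ) with hφ2
  have h2a : φ2 a = a := by
    rw [hφ2, MulAut.mul_apply, MulAut.mul_apply, MulAut.conj_apply, hk, ← hαa]
    exact MulEquiv.symm_apply_apply α a
  obtain ⟨r, hr⟩ := hr
  have h2n : (n⁻¹ * φ2 n) * a = a * (n⁻¹ * φ2 n) := by
    have h1 : φ2 n * a * (φ2 n)⁻¹ = a ^ r := by
      have := congrArg φ2 hr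
      rwa [map_mul, map_mul, map_inv, map_pow, h2a] at this
    have h3 : φ2 n * a * (φ2 n)⁻¹ = n * a * n⁻¹ := by rw [h1, hr]
    have h4 : φ2 n * a = n * a * n⁻¹ * φ2 n := by
      rw [← h3]; group
    calc n⁻¹ * φ2 n * a = n⁻¹ * (φ2 n * a) := by group
      _ = n⁻¹ * (n * a * n⁻¹ * φ2 n) := by rw [h4]
      _ = a * (n⁻¹ * φ2 n) := by group
  obtain ⟨m', hm'⟩ := exists_pow_of_mem_zpowers (hcent _ h2n)
  obtain ⟨j, hj⟩ := hn m'
  have h2n' : φ2 n = a ^ j * n * (a ^ j)⁻¹ := by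
    rw [hj, ← hm']; group
  set φ3 : MulAut G := (MulAut.conj (a ^ j))⁻¹ * φ2 with hφ3
  have h3a : φ3 a = a := by
    rw [hφ3, MulAut.mul_apply, h2a, MulAut.conj_inv_apply]
    have : (a ^ j)⁻¹ * a * a ^ j = a := by
      rw [mul_assoc, ← pow_succ', pow_succ, ← mul_assoc, inv_mul_cancel, one_mul]
    exact this
  have h3n : φ3 n = n := by
    rw [hφ3, MulAut.mul_apply, h2n', MulAut.conj_inv_apply]
    group
  have h3t : φ3 t = t := by
    apply ht
    · have := congrArg φ3 htn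
      rwa [map_mul, map_mul, h3n] at this
    · have := congrArg φ3 ht2
      rwa [map_mul, map_one] at this
    · intro h
      apply ht1
      have : φ3 t = φ3 1 := by rw [h, map_one]
      exact φ3.injective this
  have h3 : φ3 = 1 := by
    ext x
    have hx : x ∈ Subgroup.closure {a, n, t} := by rw [hgen]; trivial
    induction hx using Subgroup.closure_induction with
    | mem y hy =>
      simp only [Set.mem_insert_iff, Set.mem_singleton_iff] at hy
      rcases hy with rfl | rfl | rfl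
      · exact h3a
      · exact h3n
      · exact h3t
    | one => simp
    | mul y z _ _ hy hz =>
      rw [map_mul, hy, hz]; rfl
    | inv y _ hy =>
      rw [map_inv, hy]; rfl
  have hφ : φ = (MulAut.conj c)⁻¹ * (α * (MulAut.conj (a ^ j) * φ3)) := by
    rw [hφ3, hφ2]; group
  rw [hφ, h3, mul_one]
  exact A.mul_mem (A.inv_mem (hInn c)) (A.mul_mem hα (hInn _))

/-- conjugating `n` by powers of `a` -/
theorem conj_n {G : Type*} [Group G] (a n : G) (h11 : a ^ 11 = 1) (h3 : n⁻¹ * a * n = a ^ 3)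
    (m : ℕ) : a ^ (6 * m) * n * (a ^ (6 * m))⁻¹ = n * a ^ m := by
  have h : ∀ j : ℕ, n⁻¹ * a ^ j * n = a ^ (3 * j) := by
    intro j
    have := conj_pow (a := n⁻¹) (b := a) (i := j)
    rw [inv_inv, h3, ← pow_mul] at this
    exact this.symm
  have h2 : a ^ (6 * m) * n = n * a ^ (3 * (6 * m)) := by
    rw [← h]; group
  rw [h2, mul_assoc]
  congr 1
  rw [mul_inv_eq_iff_eq_mul, ← pow_add]
  have : 3 * (6 * m) = 11 * m + (m + 6 * m) := by ring
  rw [this, pow_add, pow_mul, h11, one_pow, one_mul]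

/-- the order of the outer automorphism group is an isomorphism invariant -/
theorem card_out_congr {G H : Type} [Group G] [Group H] (e : G ≃* H) :
    Nat.card (Cfsg.Out G) = Nat.card (Cfsg.Out H) := by
  change (Cfsg.Inn G).index = (Cfsg.Inn H).index
  rw [← Subgroup.index_map_equiv (Cfsg.Inn G) (MulAut.congr e)]
  congr 1
  ext ψ
  constructor
  · rintro ⟨_, ⟨g, rfl⟩, rfl⟩
    refine ⟨e g, ?_⟩
    ext x
    simp [MulAut.congr]
  · rintro ⟨h, rfl⟩
    refine ⟨_, ⟨e.symm h, rfl⟩, ?_⟩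
    ext x
    simp [MulAut.congr]

end Cfsg.Agent.Lib.Helper3_AutGen
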