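import Mathlib
import Cfsg.Agent.Lib.Helper3_AutGen

/-!
# helper3: bounding the automorphism group through a Sylow normaliser (second form)
-/

set_option autoImplicit false
set_option linter.unusedSectionVars false

namespace Cfsg.Agent.Lib.Helper3_AutGen2

open Cfsg.Agent.Lib.Helper3_AutGen

theorem aut_mem_of_data2 {G : Type*} [Group G] [Finite G] {p m : ℕ} [hp : Fact p.Prime]
    (hcard : Nat.card G = p * m) (hm : ¬ p ∣ m)
    (a n : G) (A : Subgroup (MulAut G))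
    (hInn : ∀ g : G, MulAut.conj g ∈ A)
    (ha : orderOf a = p)
    (hpow : ∀ k : ℕ, ¬ p ∣ k → ∃ α ∈ A, α a = a ^ k)
    (hcent : ∀ g : G, g * a = a * g → g ∈ Subgroup.zpowers a)
    (hr : ∃ r : ℕ, n * a * n⁻¹ = a ^ r)
    (hn : ∀ m : ℕ, ∃ j : ℕ, a ^ j * n * (a ^ j)⁻¹ = n * a ^ m)
    (hfin : ∀ ψ : MulAut G, ψ a = a → ψ n = n → ψ = 1)
    (φ : MulAut G) : φ ∈ A := by
  have hφa : orderOf (φ a) = p := by rw [MulEquiv.orderOf_eq, ha]
  obtain ⟨c, hc⟩ := exists_conj_mem_zpowers hcard hm a (φ a) ha hφa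
  obtain ⟨k, hk⟩ := exists_pow_of_mem_zpowers hc
  have hpk : ¬ p ∣ k := by
    intro hd
    have h1 : a ^ k = 1 := by rw [← ha] at hd; exact orderOf_dvd_iff_pow_eq_one.mp hd
    rw [h1] at hk
    have h2 : φ a = 1 := by
      have : φ a = c⁻¹ * (c * φ a * c⁻¹) * c := by group
      rw [this, hk]; group
    rw [h2, orderOf_one] at hφa
    exact hp.out.one_lt.ne hφa
  obtain ⟨α, hα, hαa⟩ := hpow k hpk
  set φ2 : MulAut G := α⁻¹ * (MulAut.conj c * φ) with hφ2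
  have h2a : φ2 a = a := by
    rw [hφ2, MulAut.mul_apply, MulAut.mul_apply, MulAut.conj_apply, hk, ← hαa]
    exact MulEquiv.symm_apply_apply α a
  obtain ⟨r, hr⟩ := hr
  have h2n : (n⁻¹ * φ2 n) * a = a * (n⁻¹ * φ2 n) := by
    have h1 : φ2 n * a * (φ2 n)⁻¹ = a ^ r := by
      have := congrArg φ2 hr
      rwa [map_mul, map_mul, map_inv, map_pow, h2a] at this
    have h3 : φ2 n * a * (φ2 n)⁻¹ = n * a * n⁻¹ := by rw [h1, hr]
    have h4 : φ2 n * a = n * a * n⁻¹ * φ2 n := by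
      rw [← h3]; group
    calc n⁻¹ * φ2 n * a = n⁻¹ * (φ2 n * a) := by group
      _ = n⁻¹ * (n * a * n⁻¹ * φ2 n) := by rw [h4]
      _ = a * (n⁻¹ * φ2 n) := by group
  obtain ⟨m', hm'⟩ := exists_pow_of_mem_zpowers (hcent _ h2n)
  obtain ⟨j, hj⟩ := hn m'
  have h2n' : φ2 n = a ^ j * n * (a ^ j)⁻¹ := by
    rw [hj, ← hm']; group
  set φ3 : MulAut G := (MulAut.conj (a ^ j))⁻¹ * φ2 with hφ3
  have h3a : φ3 a = a := by
    rw [hφ3, MulAut.mul_apply, h2a, MulAut.conj_inv_apply]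
    have : (a ^ j)⁻¹ * a * a ^ j = a := by
      rw [mul_assoc, ← pow_succ', pow_succ, ← mul_assoc, inv_mul_cancel, one_mul]
    exact this
  have h3n : φ3 n = n := by
    rw [hφ3, MulAut.mul_apply, h2n', MulAut.conj_inv_apply]
    group
  have h3 : φ3 = 1 := hfin φ3 h3a h3n
  have hφ : φ = (MulAut.conj c)⁻¹ * (α * (MulAut.conj (a ^ j) * φ3)) := by
    rw [hφ3, hφ2]; group
  rw [hφ, h3, mul_one]
  exact A.mul_mem (A.inv_mem (hInn c)) (A.mul_mem hα (hInn _))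

/-- conjugating `n` by powers of `a` (order five) -/
theorem conj_n5 {G : Type*} [Group G] (a n : G) (h5 : a ^ 5 = 1) (h3 : n⁻¹ * a * n = a ^ 3)
    (m : ℕ) : a ^ (3 * m) * n * (a ^ (3 * m))⁻¹ = n * a ^ m := by
  have h : ∀ j : ℕ, n⁻¹ * a ^ j * n = a ^ (3 * j) := by
    intro j
    have := conj_pow (a := n⁻¹) (b := a) (i := j)
    rw [inv_inv, h3, ← pow_mul] at this
    exact this.symm
  have h2 : a ^ (3 * m) * n = n * a ^ (3 * (3 * m)) := by
    have h4 := h (3 * m)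
    calc a ^ (3 * m) * n = n * (n⁻¹ * a ^ (3 * m) * n) := by group
      _ = n * a ^ (3 * (3 * m)) := by rw [h4]
  rw [h2, mul_assoc]
  congr 1
  rw [mul_inv_eq_iff_eq_mul, ← pow_add]
  have : 3 * (3 * m) = 5 * m + (m + 3 * m) := by ring
  rw [this, pow_add, pow_mul, h5, one_pow, one_mul]

theorem card_out_eq_one_of {G : Type} [Group G] (h : ∀ φ : MulAut G, φ ∈ Cfsg.Inn G) :
    Nat.card (Cfsg.Out G) = 1 := by
  change (Cfsg.Inn G).index = 1
  rw [Subgroup.index_eq_one, eq_top_iff]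
  intro φ _
  exact h φ

end Cfsg.Agent.Lib.Helper3_AutGen2
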