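import Mathlib

/-!
# helper3: maximality of a point stabiliser from the suborbit lengths
-/

set_option autoImplicit false
set_option linter.unusedSectionVars false

namespace Cfsg.Agent.Lib.Helper3_Coatom

open MulAction

theorem card_inf_stab {G X : Type*} [Group G] [MulAction G X] (A : Subgroup G) (x : X) :
    (orbit A x).ncard * Nat.card ↥(A ⊓ stabilizer G x) = Nat.card A := by
  have h := (stabilizer A x).index_mul_card
  rw [index_stabilizer] at h
  rw [← h]
  congr 1
  exact Nat.card_congr ⟨fun g => ⟨⟨g.1, g.2.1⟩, g.2.2⟩, fun g => ⟨g.1.1, g.1.2, g.2⟩,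
    fun _ => rfl, fun _ => rfl⟩

theorem ncard_eq_sum_classes {X : Type*} {k : ℕ} (c : X → Fin k) (B : Set X) (hB : B.Finite)
    (I : Finset (Fin k)) (hI : ∀ x ∈ B, c x ∈ I) :
    B.ncard = ∑ i ∈ I, {x | x ∈ B ∧ c x = i}.ncard := by
  classical
  rw [Set.ncard_eq_toFinset_card B hB, Finset.card_eq_sum_card_fiberwise (f := c) (t := I)
    (by intro x hx; exact hI x (hB.mem_toFinset.mp hx))]
  apply Finset.sum_congr rfl
  intro i _
  rw [← Set.ncard_coe_finset]
  congr 1
  ext x
  simp

theorem isCoatom_stabilizer_of_classes {G X : Type*} [Group G] [Finite G] [MulAction G X] (a : X)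
    {k : ℕ} (c : X → Fin k) (n : Fin k → ℕ)
    (hn : ∀ i, {x | x ∈ orbit G a ∧ c x = i}.ncard = n i)
    (htr : ∀ x ∈ orbit G a, ∀ y ∈ orbit G a, c x = c y → ∃ h ∈ stabilizer G a, h • x = y)
    (hnum : ∀ I : Finset (Fin k), (∑ i ∈ I, n i) ∣ (∑ i, n i) →
      (∑ i ∈ I, n i) = 0 ∨ (∑ i ∈ I, n i) = 1 ∨ (∑ i ∈ I, n i) = ∑ i, n i)
    (hk : (∑ i, n i) ≠ 1) : IsCoatom (stabilizer G a) := by
  classical
  have hfin : ∀ K : Subgroup G, (orbit K a).Finite := fun K => Set.finite_range _
  have hfinG : (orbit G a).Finite := Set.finite_range _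
  have hcardG : (orbit G a).ncard = ∑ i, n i := by
    rw [ncard_eq_sum_classes c _ hfinG Finset.univ (fun _ _ => Finset.mem_univ _)]
    apply Finset.sum_congr rfl
    intro i _
    rw [hn]
  constructor
  · intro htop
    apply hk
    rw [← hcardG, Set.ncard_eq_one]
    refine ⟨a, ?_⟩
    ext x
    constructor
    · rintro ⟨g, rfl⟩
      have hg : g ∈ stabilizer G a := by rw [htop]; trivial
      exact hg
    · rintro rfl
      exact mem_orbit_self _
  · intro K hK
    have hsub : orbit K a ⊆ orbit G a := by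
      rintro _ ⟨g, rfl⟩
      exact ⟨g.1, rfl⟩
    set I : Finset (Fin k) := Finset.univ.filter fun i => ∃ x ∈ orbit K a, c x = i with hI
    have hBI : ∀ i ∈ I, {x | x ∈ orbit K a ∧ c x = i} = {x | x ∈ orbit G a ∧ c x = i} := by
      intro i hi
      obtain ⟨y, hy, hyi⟩ := (Finset.mem_filter.mp hi).2
      ext x
      constructor
      · rintro ⟨h1, h2⟩; exact ⟨hsub h1, h2⟩
      · rintro ⟨h1, h2⟩
        refine ⟨?_, h2⟩
        obtain ⟨h, hh, rfl⟩ := htr y (hsub hy) x h1 (by rw [hyi, h2])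
        obtain ⟨g, rfl⟩ := hy
        exact ⟨⟨h, hK.le hh⟩ * g, mul_smul (⟨h, hK.le hh⟩ : K) g a⟩
    have hcardB : (orbit K a).ncard = ∑ i ∈ I, n i := by
      rw [ncard_eq_sum_classes c _ (hfin K) I (fun x hx =>
        Finset.mem_filter.mpr ⟨Finset.mem_univ _, x, hx, rfl⟩)]
      apply Finset.sum_congr rfl
      intro i hi
      rw [hBI i hi, hn]
    have hdvd : (∑ i ∈ I, n i) ∣ (∑ i, n i) := by
      rw [← hcardB, ← hcardG]
      have h1 := card_inf_stab K a
      rw [inf_eq_right.mpr hK.le] at h1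
      have h2 := (stabilizer G a).index_mul_card
      rw [index_stabilizer] at h2
      have h3 : Nat.card K ∣ Nat.card G := Subgroup.card_subgroup_dvd_card K
      rw [← h1, ← h2] at h3
      exact Nat.dvd_of_mul_dvd_mul_right Nat.card_pos h3
    rcases hnum I hdvd with hI1 | hI1 | hI1
    · exfalso
      rw [← hcardB, Set.ncard_eq_zero (hfin K)] at hI1
      have : a ∈ orbit K a := mem_orbit_self a
      rw [hI1] at this
      exact this
    · exfalso
      apply hK.not_ge
      intro g hg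
      rw [← hcardB, Set.ncard_eq_one] at hI1
      obtain ⟨z, hz⟩ := hI1
      have h1 : g • a ∈ orbit K a := ⟨⟨g, hg⟩, rfl⟩
      have h2 : a ∈ orbit K a := mem_orbit_self a
      rw [hz, Set.mem_singleton_iff] at h1 h2
      rw [mem_stabilizer_iff, h1, h2]
    · rw [eq_top_iff]
      intro g _
      have heq : orbit K a = orbit G a :=
        Set.eq_of_subset_of_ncard_le hsub (by rw [hcardB, hcardG, hI1]) hfinG
      have h1 : g • a ∈ orbit K a := by rw [heq]; exact ⟨g, rfl⟩
      obtain ⟨⟨u, hu⟩, hua⟩ := h1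
      have hua' : u • a = g • a := hua
      have h2 : u⁻¹ * g ∈ stabilizer G a := by
        rw [mem_stabilizer_iff, mul_smul, ← hua', inv_smul_smul]
      have h3 := K.mul_mem hu (hK.le h2)
      rwa [mul_inv_cancel_left] at h3

end Cfsg.Agent.Lib.Helper3_Coatom
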