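import Mathlib
import Cfsg.Agent.Lib.Helper3_M24f
import Cfsg.Agent.Lib.Helper3_Coatom

/-!
# helper3: some maximal subgroups of `M24`
-/

set_option autoImplicit false
set_option linter.unusedSectionVars false
set_option linter.constructorNameAsVariable false

namespace Cfsg.Agent.Lib.Helper3_M24g

open Cfsg Cfsg.Agent.Lib.Helper3_Golay Cfsg.Agent.Lib.Helper3_Golay2 Cfsg.Agent.Lib.Helper3_Golay3
open Cfsg.Agent.Lib.Helper3_M24a Cfsg.Agent.Lib.Helper3_PermChain Cfsg.Agent.Lib.Helper3_M24b
open Cfsg.Agent.Lib.Helper3_M24c Cfsg.Agent.Lib.Helper3_M24d Cfsg.Agent.Lib.Helper3_M24e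
open Cfsg.Agent.Lib.Helper3_M24f Cfsg.Agent.Lib.Helper3_Fast Cfsg.Agent.Lib.Helper3_Coatom
open scoped Pointwise

theorem count_oct_oct {o : Finset GolayPt} (ho : o ∈ octads) (k : ℕ) :
    {x : Finset GolayPt | x ∈ octads ∧ (o ∩ x).card = k}.ncard =
      ((Finset.range 4096).filter fun n =>
        (pop24 (fcomb n) == 8 && pop24 (O0 &&& fcomb n) == k) = true).card := by
  obtain ⟨g, hg, rfl⟩ := trans_octads O0_mem ho
  rw [← ncard_code_set 8 (fun o => (dec O0 ∩ o).card = k) (fun x => pop24 (O0 &&& x) == k)
    (fun x => by rw [card_inter_dec]; simp)]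
  symm
  apply ncard_transfer g
  intro o
  change (o ∈ octads ∧ _) ↔ (g • o ∈ octads ∧ _)
  rw [smul_mem_octads_iff hg, ← Finset.smul_finset_inter, Finset.card_smul_finset]

def nOct : Fin 9 → ℕ := ![30, 0, 448, 0, 280, 0, 0, 0, 1]

theorem nOct_eq : ∀ k : Fin 9, ((Finset.range 4096).filter fun n =>
    (pop24 (fcomb n) == 8 && pop24 (O0 &&& fcomb n) == k.val) = true).card = nOct k := by
  decide +kernel

theorem coatom_octad {o : Finset GolayPt} (ho : o ∈ octads) :
    IsCoatom (MulAction.stabilizer M24 o) := by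
  have hle : ∀ x : Finset GolayPt, (o ∩ x).card < 9 := by
    intro x
    have : (o ∩ x).card ≤ o.card := Finset.card_le_card Finset.inter_subset_left
    have := ho.2
    omega
  apply isCoatom_stabilizer_of_classes o (k := 9)
    (fun x => ⟨(o ∩ x).card, hle x⟩) nOct
  · intro i
    rw [orbit_octad ho, ← nOct_eq i, ← count_oct_oct ho]
    congr 1
    ext x
    simp only [Set.mem_ofPred_eq, Fin.ext_iff]
  · intro x hx y hy hxy
    rw [orbit_octad ho] at hx hy
    simp only [Fin.ext_iff] at hxy
    obtain ⟨g, hg, h1, h2⟩ := oct_pair ho hx hy hxy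
    exact ⟨⟨g, hg⟩, h1, h2⟩
  · decide +kernel
  · decide +kernel

/-! ### pairs of complementary dodecads -/

/-- the pair formed by a set and its complement -/
def cpair (e : Finset GolayPt) : Finset (Finset GolayPt) := {e, eᶜ}

theorem smul_cpair (g : Equiv.Perm GolayPt) (e : Finset GolayPt) :
    g • cpair e = cpair (g • e) := by
  have : g • eᶜ = (g • e)ᶜ := by
    ext p
    rw [Finset.mem_compl, ← Finset.inv_smul_mem_iff, ← Finset.inv_smul_mem_iff, Finset.mem_compl]
  rw [cpair, cpair, Finset.smul_finset_insert, Finset.smul_finset_singleton, this]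

theorem cpair_compl (e : Finset GolayPt) : cpair eᶜ = cpair e := by
  rw [cpair, cpair, compl_compl, Finset.pair_comm]

theorem compl_mem_dodecads {e : Finset GolayPt} (he : e ∈ dodecads) : eᶜ ∈ dodecads := by
  refine ⟨compl_mem he.1, ?_⟩
  rw [Finset.card_compl, he.2]
  rfl

theorem card_inter_compl (d e : Finset GolayPt) : (d ∩ eᶜ).card + (d ∩ e).card = d.card := by
  have : d ∩ eᶜ = d \ e := by ext p; simp
  rw [this, Finset.card_sdiff_add_card_inter]

theorem cpair_eq_iff {e f : Finset GolayPt} : cpair e = cpair f → f = e ∨ f = eᶜ := by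
  intro h
  have : f ∈ cpair e := by rw [h]; simp [cpair]
  simpa [cpair] using this

theorem orbit_cpair {d : Finset GolayPt} (hd : d ∈ dodecads) :
    MulAction.orbit M24 (cpair d) = {x | ∃ e ∈ dodecads, x = cpair e} := by
  ext x
  constructor
  · rintro ⟨g, rfl⟩
    exact ⟨(g : Equiv.Perm GolayPt) • d, smul_mem_dodecads g.2 hd, smul_cpair _ _⟩
  · rintro ⟨e, he, rfl⟩
    obtain ⟨g, hg, rfl⟩ := trans_dodecads hd he
    exact ⟨⟨g, hg⟩, smul_cpair _ _⟩

theorem sup_cpair (d e : Finset GolayPt) :
    (cpair e).sup (fun f => (d ∩ f).card) = max (d ∩ e).card (d ∩ eᶜ).card := by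
  rw [cpair, Finset.sup_insert, Finset.sup_singleton]

theorem coatom_cpair {d : Finset GolayPt} (hd : d ∈ dodecads) :
    IsCoatom (MulAction.stabilizer M24 ({d, dᶜ} : Finset (Finset GolayPt))) := by
  change IsCoatom (MulAction.stabilizer M24 (cpair d))
  obtain ⟨p, hp⟩ : d.Nonempty := by
    rw [← Finset.card_pos, hd.2]; norm_num
  have hd12 := hd.2
  -- values of the invariant
  have hval : ∀ e ∈ dodecads, (d ∩ e).card = 0 ∨ (d ∩ e).card = 4 ∨ (d ∩ e).card = 6 ∨
      (d ∩ e).card = 8 ∨ (d ∩ e).card = 12 := by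
    intro e he
    by_cases h : e = d
    · subst h; simp [hd12]
    · rcases inter_dod_dod hd he h with h | h | h | h <;> simp [h]
  have h12 : ∀ e ∈ dodecads, (d ∩ e).card = 12 → e = d := by
    intro e he h
    by_contra hne
    rcases inter_dod_dod hd he hne with h' | h' | h' | h' <;> omega
  let c : Finset (Finset GolayPt) → Fin 3 := fun x =>
    if x.sup (fun f => (d ∩ f).card) = 12 then 0 else
      if x.sup (fun f => (d ∩ f).card) = 8 then 1 else 2
  have hc : ∀ e, c (cpair e) = if max (d ∩ e).card (d ∩ eᶜ).card = 12 then 0 else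
      if max (d ∩ e).card (d ∩ eᶜ).card = 8 then 1 else 2 := by
    intro e
    simp only [c, sup_cpair]
  -- representatives
  have hrep : ∀ x ∈ MulAction.orbit M24 (cpair d), ∃ e ∈ dodecads, x = cpair e ∧
      6 ≤ (d ∩ e).card := by
    intro x hx
    rw [orbit_cpair hd] at hx
    obtain ⟨e, he, rfl⟩ := hx
    by_cases h6 : 6 ≤ (d ∩ e).card
    · exact ⟨e, he, rfl, h6⟩
    · refine ⟨eᶜ, compl_mem_dodecads he, (cpair_compl e).symm, ?_⟩
      have := card_inter_compl d e
      omega
  have hc' : ∀ e ∈ dodecads, 6 ≤ (d ∩ e).card → c (cpair e) =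
      if (d ∩ e).card = 12 then 0 else if (d ∩ e).card = 8 then 1 else 2 := by
    intro e _ h6
    rw [hc]
    have := card_inter_compl d e
    rw [max_eq_left (by omega)]
  apply isCoatom_stabilizer_of_classes (cpair d) (k := 3) c ![1, 495, 792]
  · intro i
    fin_cases i
    · -- class 0
      have : {x | x ∈ MulAction.orbit M24 (cpair d) ∧ c x = (0 : Fin 3)} = {cpair d} := by
        ext x
        constructor
        · rintro ⟨hx, hcx⟩
          obtain ⟨e, he, rfl, h6⟩ := hrep x hx
          rw [hc' e he h6] at hcx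
          have : (d ∩ e).card = 12 := by
            by_contra h
            rw [if_neg h] at hcx
            split_ifs at hcx <;> exact absurd hcx (by decide)
          rw [h12 e he this]
          rfl
        · rintro rfl
          refine ⟨MulAction.mem_orbit_self _, ?_⟩
          rw [hc' d hd (by simp [hd12])]
          simp [hd12]
      change Set.ncard {x | x ∈ MulAction.orbit M24 (cpair d) ∧ c x = (0 : Fin 3)} = 1
      rw [this, Set.ncard_singleton]
    · -- class 1
      have : {x | x ∈ MulAction.orbit M24 (cpair d) ∧ c x = (1 : Fin 3)} =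
          cpair '' {e | e ∈ dodecads ∧ (d ∩ e).card = 8} := by
        ext x
        constructor
        · rintro ⟨hx, hcx⟩
          obtain ⟨e, he, rfl, h6⟩ := hrep x hx
          rw [hc' e he h6] at hcx
          refine ⟨e, ⟨he, ?_⟩, rfl⟩
          by_contra h
          split_ifs at hcx <;> exact absurd hcx (by decide)
        · rintro ⟨e, ⟨he, h8⟩, rfl⟩
          refine ⟨by rw [orbit_cpair hd]; exact ⟨e, he, rfl⟩, ?_⟩
          rw [hc' e he (by omega)]
          simp [h8]
      change Set.ncard {x | x ∈ MulAction.orbit M24 (cpair d) ∧ c x = (1 : Fin 3)} = 495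
      rw [this, Set.InjOn.ncard_image, (count_dod_dod hd).2.2]
      rintro e ⟨_, h8⟩ f ⟨_, h8'⟩ hef
      rcases cpair_eq_iff hef with h | h
      · exact h.symm
      · exfalso
        have := card_inter_compl d e
        rw [h] at h8'
        omega
    · -- class 2
      have : {x | x ∈ MulAction.orbit M24 (cpair d) ∧ c x = (2 : Fin 3)} =
          cpair '' {e | e ∈ dodecads ∧ p ∈ e ∧ (d ∩ e).card = 6} := by
        ext x
        constructor
        · rintro ⟨hx, hcx⟩
          obtain ⟨e, he, rfl, h6⟩ := hrep x hx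
          rw [hc' e he h6] at hcx
          have h6' : (d ∩ e).card = 6 := by
            rcases hval e he with h | h | h | h | h
            · omega
            · omega
            · exact h
            · simp [h] at hcx
            · simp [h] at hcx
          by_cases hpe : p ∈ e
          · exact ⟨e, ⟨he, hpe, h6'⟩, rfl⟩
          · refine ⟨eᶜ, ⟨compl_mem_dodecads he, by simpa using hpe, ?_⟩, cpair_compl e⟩
            have := card_inter_compl d e
            omega
        · rintro ⟨e, ⟨he, _, h8⟩, rfl⟩
          refine ⟨by rw [orbit_cpair hd]; exact ⟨e, he, rfl⟩, ?_⟩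
          rw [hc' e he (by omega)]
          simp [h8]
      change Set.ncard {x | x ∈ MulAction.orbit M24 (cpair d) ∧ c x = (2 : Fin 3)} = 792
      rw [this, Set.InjOn.ncard_image, (count_dod_dod_pt hd hp).2.2]
      rintro e ⟨_, hpe, _⟩ f ⟨_, hpf, _⟩ hef
      rcases cpair_eq_iff hef with h | h
      · exact h.symm
      · exfalso
        rw [h] at hpf
        simp at hpf
        exact hpf hpe
  · intro x hx y hy hxy
    obtain ⟨e, he, rfl, h6⟩ := hrep x hx
    obtain ⟨f, hf, rfl, h6'⟩ := hrep y hy
    rw [hc' e he h6, hc' f hf h6'] at hxy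
    have hef : (d ∩ e).card = (d ∩ f).card := by
      rcases hval e he with h | h | h | h | h <;> rcases hval f hf with h' | h' | h' | h' | h' <;>
        first
          | omega
          | (simp [h, h'] at hxy)
    obtain ⟨g, hg, h1, h2⟩ := dod_pair hd he hf hef
    refine ⟨⟨g, hg⟩, ?_, ?_⟩
    · change g • cpair d = cpair d
      rw [smul_cpair, h1]
    · change g • cpair e = cpair f
      rw [smul_cpair, h2]
  · decide +kernel
  · decide +kernel

end Cfsg.Agent.Lib.Helper3_M24g
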