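import Mathlib
import Cfsg.Agent.Lib.Helper3_M24g

/-!
# helper3: stabilisers of pairs of octads; ordered six-tuples
-/

set_option autoImplicit false
set_option linter.unusedSectionVars false
set_option linter.constructorNameAsVariable false

namespace Cfsg.Agent.Lib.Helper3_M24h

open Cfsg Cfsg.Agent.Lib.Helper3_Golay Cfsg.Agent.Lib.Helper3_Golay2 Cfsg.Agent.Lib.Helper3_Golay3
open Cfsg.Agent.Lib.Helper3_M24a Cfsg.Agent.Lib.Helper3_PermChain Cfsg.Agent.Lib.Helper3_M24b
open Cfsg.Agent.Lib.Helper3_M24c Cfsg.Agent.Lib.Helper3_M24d Cfsg.Agent.Lib.Helper3_M24e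
open Cfsg.Agent.Lib.Helper3_M24f Cfsg.Agent.Lib.Helper3_Fast Cfsg.Agent.Lib.Helper3_Coatom
open Cfsg.Agent.Lib.Helper3_M24g
open scoped Pointwise

theorem orbit_stab_oct {o o' : Finset GolayPt} (ho : o ∈ octads) (ho' : o' ∈ octads) :
    MulAction.orbit (MulAction.stabilizer M24 o) o' =
      {x | x ∈ octads ∧ (o ∩ x).card = (o ∩ o').card} := by
  ext x
  constructor
  · rintro ⟨⟨⟨g, hg⟩, hgo⟩, rfl⟩
    have h1 : g • o = o := hgo
    refine ⟨smul_mem_octads hg ho', ?_⟩
    change (o ∩ g • o').card = _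
    have h2 : (g • o ∩ g • o').card = (o ∩ o').card := by
      rw [← Finset.smul_finset_inter, Finset.card_smul_finset]
    rwa [h1] at h2
  · rintro ⟨hx, hc⟩
    obtain ⟨g, hg, h1, h2⟩ := oct_pair ho ho' hx hc.symm
    exact ⟨⟨⟨g, hg⟩, h1⟩, h2⟩

theorem card_stab_oct_oct {o o' : Finset GolayPt} (ho : o ∈ octads) (ho' : o' ∈ octads) (k : Fin 9)
    (hk : (o ∩ o').card = k.val) :
    nOct k * Nat.card ↥(MulAction.stabilizer M24 o ⊓ MulAction.stabilizer M24 o') = 322560 := by
  have h := card_inf_stabilizer (MulAction.stabilizer M24 o) o'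
  rw [orbit_stab_oct ho ho', card_stab_octad ho, hk, count_oct_oct ho, nOct_eq] at h
  exact h

theorem card_stab_oct_oct' {o o' : Finset GolayPt} (ho : o ∈ octads) (ho' : o' ∈ octads) :
    ((o ∩ o').card = 0 →
      Nat.card ↥(MulAction.stabilizer M24 o ⊓ MulAction.stabilizer M24 o') = 10752) ∧
    ((o ∩ o').card = 4 →
      Nat.card ↥(MulAction.stabilizer M24 o ⊓ MulAction.stabilizer M24 o') = 1152) ∧
    ((o ∩ o').card = 2 →
      Nat.card ↥(MulAction.stabilizer M24 o ⊓ MulAction.stabilizer M24 o') = 720) := by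
  refine ⟨fun h => ?_, fun h => ?_, fun h => ?_⟩
  · have := card_stab_oct_oct ho ho' 0 h
    simp only [nOct, Matrix.cons_val_zero] at this
    omega
  · have := card_stab_oct_oct ho ho' 4 h
    have h2 : nOct 4 = 280 := rfl
    rw [h2] at this
    omega
  · have := card_stab_oct_oct ho ho' 2 h
    have h2 : nOct 2 = 448 := rfl
    rw [h2] at this
    omega

/-! ### ordered tuples of at most six points -/

theorem exists_fresh (xs : List GolayPt) (h : xs.length < 24) : ∃ p, p ∉ xs := by
  by_contra hc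
  push Not at hc
  have : Fintype.card GolayPt ≤ xs.length := by
    calc Fintype.card GolayPt = (Finset.univ : Finset GolayPt).card := rfl
      _ ≤ xs.toFinset.card := Finset.card_le_card (fun p _ => List.mem_toFinset.mpr (hc p))
      _ ≤ xs.length := List.toFinset_card_le xs
  have h24 : Fintype.card GolayPt = 24 := rfl
  omega

theorem exists_map_list : ∀ (n : ℕ) (xs ys : List GolayPt), xs.length + n = 5 →
    ys.length = xs.length → xs.Nodup → ys.Nodup → ∃ g ∈ M24, xs.map g = ys := by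
  intro n
  induction n with
  | zero =>
    intro xs ys h5 hl hx hy
    obtain ⟨g, hg, hgx⟩ := exists_base_map xs (by omega) hx
    obtain ⟨k, hk, hky⟩ := exists_base_map ys (by omega) hy
    refine ⟨k * g⁻¹, M24.mul_mem hk (M24.inv_mem hg), ?_⟩
    rw [← hgx, ← hky, List.map_map]
    apply List.map_congr_left
    intro a _
    simp
  | succ n ih =>
    intro xs ys h5 hl hx hy
    obtain ⟨p, hp⟩ := exists_fresh xs (by omega)
    obtain ⟨q, hq⟩ := exists_fresh ys (by omega)
    obtain ⟨g, hg, hgm⟩ := ih (xs ++ [p]) (ys ++ [q]) (by simp; omega) (by simp [hl])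
      (by rw [List.nodup_append]; simp [hx]; exact fun a ha h => hp (h ▸ ha))
      (by rw [List.nodup_append]; simp [hy]; exact fun a ha h => hq (h ▸ ha))
    refine ⟨g, hg, ?_⟩
    rw [List.map_append] at hgm
    exact (List.append_inj hgm (by simp [hl])).1

def base6s : List GolayPt := [pt 23, pt 0, pt 1, pt 2, pt 3, pt 5]
def base6n : List GolayPt := [pt 23, pt 0, pt 1, pt 2, pt 3, pt 4]

theorem map_base_of_Fx {h : Equiv.Perm GolayPt} (hh : h ∈ Fx [3, 2, 1, 0, 23]) :
    baseL.map h = baseL := by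
  have h2 := hh.2
  simp only [baseL, List.map_cons, List.map_nil]
  rw [h2 (pt 23) (by simp), h2 (pt 0) (by simp), h2 (pt 1) (by simp), h2 (pt 2) (by simp),
    h2 (pt 3) (by simp)]

theorem nf6_aux {zs : List GolayPt} {f : GolayPt} {g h : Equiv.Perm GolayPt} {b : GolayPt}
    (hm : baseL.map g = zs) (hh : h ∈ Fx [3, 2, 1, 0, 23]) (hb : h b = g⁻¹ f) :
    (baseL ++ [b]).map ⇑(g * h) = zs ++ [f] := by
  rw [List.map_append]
  congr 1
  · have : baseL.map ⇑(g * h) = (baseL.map ⇑h).map ⇑g := by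
      rw [List.map_map]; rfl
    rw [this, map_base_of_Fx hh, hm]
  · simp [hb]

theorem nf6_special {zs : List GolayPt} {f : GolayPt} (hl : zs.length = 5)
    (hn : (zs ++ [f]).Nodup) {o : Finset GolayPt} (ho : o ∈ octads)
    (h : ∀ y ∈ zs ++ [f], y ∈ o) : ∃ g ∈ M24, base6s.map g = zs ++ [f] := by
  have hn5 : zs.Nodup := (List.nodup_append.mp hn).1
  have hf : f ∉ zs := by
    intro hc
    exact (List.nodup_append.mp hn).2.2 f hc f (by simp) rfl
  obtain ⟨g, hg, hm, hgo⟩ := octad_nf ho zs hl hn5 (fun y hy => h y (List.mem_append_left _ hy))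
  have h1 : g⁻¹ f ∈ dec O0 := by
    have : f ∈ g • dec O0 := by rw [hgo]; exact h f (by simp)
    rwa [← Finset.inv_smul_mem_iff] at this
  have h2 : g⁻¹ f ∉ baseL := by
    intro hc
    apply hf
    rw [← hm]
    have := List.mem_map_of_mem (f := ⇑g) hc
    simpa using this
  have h3 : ∀ p : GolayPt, p ∈ dec O0 → p ∉ baseL → p ∈ dec Msk6 := by decide +kernel
  obtain ⟨k, hk, _, hk5⟩ := lev6.2 _ (h3 _ h1 h2)
  exact ⟨g * k, M24.mul_mem hg hk.1, nf6_aux hm hk hk5⟩

theorem nf6_general {zs : List GolayPt} {f : GolayPt} (hl : zs.length = 5)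
    (hn : (zs ++ [f]).Nodup)
    (h : ¬ ∃ o ∈ octads, ∀ y ∈ zs ++ [f], y ∈ o) : ∃ g ∈ M24, base6n.map g = zs ++ [f] := by
  have hn5 : zs.Nodup := (List.nodup_append.mp hn).1
  obtain ⟨g, hg, hm⟩ := exists_base_map zs hl hn5
  have h1 : g⁻¹ f ∉ dec O0 := by
    intro hc
    apply h
    refine ⟨g • dec O0, smul_mem_octads hg O0_mem, ?_⟩
    intro y hy
    rcases List.mem_append.mp hy with hy | hy
    · rw [← hm] at hy
      obtain ⟨b, hb, rfl⟩ := List.mem_map.mp hy
      exact Finset.smul_mem_smul_finset (a := g) (base_mem_O0 b hb)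
    · rw [List.mem_singleton] at hy
      rw [hy, ← Finset.inv_smul_mem_iff]
      exact hc
  have h3 : ∀ p : GolayPt, p ∉ dec O0 → p ∈ dec Msk7 := by decide +kernel
  obtain ⟨k, hk, _, hk5⟩ := lev7.2 _ (h3 _ h1)
  have hk' : k ∈ Fx [3, 2, 1, 0, 23] :=
    ⟨hk.1, fun a ha => hk.2 a (by simp only [List.map_cons] at ha ⊢; exact List.mem_cons_of_mem _ ha)⟩
  exact ⟨g * k, M24.mul_mem hg hk.1, nf6_aux hm hk' hk5⟩

theorem map_trans {xs ys bs : List GolayPt} {g k : Equiv.Perm GolayPt} (hg : bs.map g = xs)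
    (hk : bs.map k = ys) : xs.map ⇑(k * g⁻¹) = ys := by
  rw [← hg, ← hk, List.map_map]
  apply List.map_congr_left
  intro a _
  simp

theorem exists_snoc {xs : List GolayPt} {n : ℕ} (h : xs.length = n + 1) :
    ∃ zs f, zs.length = n ∧ xs = zs ++ [f] := by
  have hne : xs ≠ [] := by intro hc; simp [hc] at h
  refine ⟨xs.dropLast, xs.getLast hne, by simp [h], (List.dropLast_append_getLast hne).symm⟩

/-- two lists of at most six distinct points, of the same type, are equivalent under `M24`. -/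
theorem list_equiv {xs ys : List GolayPt} (hlen : ys.length = xs.length) (h6 : xs.length ≤ 6)
    (hx : xs.Nodup) (hy : ys.Nodup)
    (htype : xs.length = 6 →
      ((∃ o ∈ octads, ∀ y ∈ xs, y ∈ o) ↔ (∃ o ∈ octads, ∀ y ∈ ys, y ∈ o))) :
    ∃ g ∈ M24, xs.map g = ys := by
  by_cases h5 : xs.length ≤ 5
  · exact exists_map_list (5 - xs.length) xs ys (by omega) hlen hx hy
  · replace htype := htype (by omega)
    obtain ⟨zs, f, hz, rfl⟩ := exists_snoc (n := 5) (xs := xs) (by omega)
    obtain ⟨ws, e, hw, rfl⟩ := exists_snoc (n := 5) (xs := ys) (by omega)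
    by_cases hs : ∃ o ∈ octads, ∀ y ∈ zs ++ [f], y ∈ o
    · obtain ⟨o, ho, h1⟩ := hs
      obtain ⟨o', ho', h2⟩ := htype.mp ⟨o, ho, h1⟩
      obtain ⟨g, hg, hgm⟩ := nf6_special hz hx ho h1
      obtain ⟨k, hk, hkm⟩ := nf6_special hw hy ho' h2
      exact ⟨k * g⁻¹, M24.mul_mem hk (M24.inv_mem hg), map_trans hgm hkm⟩
    · obtain ⟨g, hg, hgm⟩ := nf6_general hz hx hs
      obtain ⟨k, hk, hkm⟩ := nf6_general hw hy (fun hc => hs (htype.mpr hc))
      exact ⟨k * g⁻¹, M24.mul_mem hk (M24.inv_mem hg), map_trans hgm hkm⟩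

/-! ### blocks -/

theorem smul_of_map_toList {g : Equiv.Perm GolayPt} {A B : Finset GolayPt}
    (h : A.toList.map g = B.toList) : g • A = B := by
  ext p
  rw [← Finset.mem_toList (s := B), ← h, List.mem_map, Finset.mem_smul_finset]
  simp [Finset.mem_toList]

theorem blocks_of_map {g : Equiv.Perm GolayPt} : ∀ (As Bs : List (Finset GolayPt)),
    List.Forall₂ (fun A B => A.card = B.card) As Bs →
    (As.flatMap Finset.toList).map g = Bs.flatMap Finset.toList →
    List.Forall₂ (fun A B => g • A = B) As Bs := by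
  intro As Bs h
  induction h with
  | nil => intro _; exact List.Forall₂.nil
  | cons hab _ ih =>
    intro hm
    rw [List.flatMap_cons, List.flatMap_cons, List.map_append] at hm
    have := List.append_inj hm (by simp [hab])
    exact List.Forall₂.cons (smul_of_map_toList this.1) (ih this.2)

theorem nodup_flatMap_toList {As : List (Finset GolayPt)}
    (h : As.Pairwise (fun A B => Disjoint A B)) : (As.flatMap Finset.toList).Nodup := by
  rw [List.nodup_flatMap]
  refine ⟨fun A _ => A.nodup_toList, h.imp ?_⟩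
  intro A B hAB p hpA hpB
  exact Finset.disjoint_left.mp hAB (Finset.mem_toList.mp hpA) (Finset.mem_toList.mp hpB)

theorem length_flatMap_toList (As : List (Finset GolayPt)) :
    (As.flatMap Finset.toList).length = (As.map Finset.card).sum := by
  induction As with
  | nil => simp
  | cons A As ih => simp [List.flatMap_cons, ih]

theorem sum_card_eq {As Bs : List (Finset GolayPt)}
    (h : List.Forall₂ (fun A B => A.card = B.card) As Bs) :
    (Bs.map Finset.card).sum = (As.map Finset.card).sum := by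
  induction h with
  | nil => rfl
  | cons hab _ ih => simp [hab, ih]

/-- two systems of pairwise disjoint sets with at most six points in all, of the same shape and
type, are equivalent under `M24`. -/
theorem exists_blocks (As Bs : List (Finset GolayPt))
    (hc : List.Forall₂ (fun A B => A.card = B.card) As Bs)
    (hA : As.Pairwise (fun A B => Disjoint A B)) (hB : Bs.Pairwise (fun A B => Disjoint A B))
    (h6 : (As.map Finset.card).sum ≤ 6)
    (htype : (As.map Finset.card).sum = 6 →
      ((∃ o ∈ octads, ∀ A ∈ As, A ⊆ o) ↔ (∃ o ∈ octads, ∀ B ∈ Bs, B ⊆ o))) :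
    ∃ g ∈ M24, List.Forall₂ (fun A B => g • A = B) As Bs := by
  have hconv : ∀ (Cs : List (Finset GolayPt)) (o : Finset GolayPt),
      (∀ y ∈ Cs.flatMap Finset.toList, y ∈ o) ↔ ∀ A ∈ Cs, A ⊆ o := by
    intro Cs o
    constructor
    · intro h A hA p hp
      exact h p (List.mem_flatMap.mpr ⟨A, hA, Finset.mem_toList.mpr hp⟩)
    · intro h y hy
      obtain ⟨A, hA, hyA⟩ := List.mem_flatMap.mp hy
      exact h A hA (Finset.mem_toList.mp hyA)
  obtain ⟨g, hg, hm⟩ := list_equiv (xs := As.flatMap Finset.toList) (ys := Bs.flatMap Finset.toList)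
    (by rw [length_flatMap_toList, length_flatMap_toList, sum_card_eq hc])
    (by rw [length_flatMap_toList]; exact h6)
    (nodup_flatMap_toList hA) (nodup_flatMap_toList hB)
    (by rw [length_flatMap_toList]; simp only [hconv]; exact htype)
  exact ⟨g, hg, blocks_of_map As Bs hc hm⟩

end Cfsg.Agent.Lib.Helper3_M24h
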