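import Mathlib
import Cfsg.Prelude.Def_Sporadic_a

/-!
# helper3: counting in Steiner systems
-/

set_option autoImplicit false
set_option linter.unusedSectionVars false

namespace Cfsg.Agent.Lib.Helper3_Steiner

open Cfsg Finset

variable {α : Type*} [Fintype α] [DecidableEq α]

/-- the blocks as a finset -/
noncomputable def blocks (B : Set (Finset α)) : Finset (Finset α) := (Set.toFinite B).toFinset

@[simp] theorem mem_blocks {B : Set (Finset α)} {b : Finset α} : b ∈ blocks B ↔ b ∈ B := by
  simp [blocks]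

theorem ncard_eq_card_filter (B : Set (Finset α)) (P : Finset α → Prop) [DecidablePred P] :
    {c : Finset α | c ∈ B ∧ P c}.ncard = ((blocks B).filter P).card := by
  rw [← Set.ncard_coe_finset]
  congr 1
  ext c
  simp

theorem ncard_eq_card (B : Set (Finset α)) : B.ncard = (blocks B).card := by
  rw [← Set.ncard_coe_finset]
  congr 1
  ext c
  simp

/-- number of `t`-sets between `I` and `b`. -/
theorem card_between (I b : Finset α) (hI : I ⊆ b) (t : ℕ) (ht : I.card ≤ t) :
    ((powersetCard t b).filter (I ⊆ ·)).card = Nat.choose (b.card - I.card) (t - I.card) := by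
  rw [← card_sdiff_of_subset hI, ← card_powersetCard]
  symm
  apply card_bij (fun u _ => u ∪ I)
  · intro u hu
    rw [mem_powersetCard] at hu
    rw [mem_filter, mem_powersetCard]
    refine ⟨⟨union_subset (hu.1.trans sdiff_subset) hI, ?_⟩, subset_union_right⟩
    rw [card_union_of_disjoint, hu.2]
    · omega
    · exact disjoint_of_subset_left hu.1 sdiff_disjoint
  · intro u hu u' hu' h
    rw [mem_powersetCard] at hu hu'
    have d1 : Disjoint u I := disjoint_of_subset_left hu.1 sdiff_disjoint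
    have d2 : Disjoint u' I := disjoint_of_subset_left hu'.1 sdiff_disjoint
    have := congrArg (· \ I) h
    simpa [union_sdiff_right, d1.sdiff_eq_left, d2.sdiff_eq_left] using this
  · intro s hs
    rw [mem_filter, mem_powersetCard] at hs
    refine ⟨s \ I, ?_, ?_⟩
    · rw [mem_powersetCard]
      refine ⟨sdiff_subset_sdiff hs.1.1 le_rfl, ?_⟩
      rw [card_sdiff_of_subset hs.2, hs.1.2]
    · exact sdiff_union_of_subset hs.2

/-- the number of blocks through an `i`-set, `i ≤ t`. -/
theorem card_through_mul {t k : ℕ} {B : Set (Finset α)} (hB : IsSteinerSystem t k B)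
    (I : Finset α) (hI : I.card ≤ t) :
    ((blocks B).filter (I ⊆ ·)).card * Nat.choose (k - I.card) (t - I.card) =
      Nat.choose (Fintype.card α - I.card) (t - I.card) := by
  classical
  have hex : ∀ s : Finset α, ∃ b : Finset α, s.card = t → (b ∈ B ∧ s ⊆ b) ∧ ∀ y, (y ∈ B ∧ s ⊆ y) → y = b := by
    intro s
    by_cases hs : s.card = t
    · obtain ⟨b, hb, hu⟩ := hB.2 s hs
      exact ⟨b, fun _ => ⟨hb, hu⟩⟩
    · exact ⟨∅, fun h => absurd h hs⟩
  choose f hf using hex
  have h1 := card_between I univ (subset_univ _) t hI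
  rw [card_univ] at h1
  rw [← h1]
  have hmaps : ∀ s ∈ (powersetCard t (univ : Finset α)).filter (I ⊆ ·), f s ∈ (blocks B).filter (I ⊆ ·) := by
    intro s hs
    rw [mem_filter, mem_powersetCard] at hs
    rw [mem_filter, mem_blocks]
    exact ⟨(hf s hs.1.2).1.1, hs.2.trans (hf s hs.1.2).1.2⟩
  rw [card_eq_sum_card_fiberwise hmaps, ← smul_eq_mul, ← sum_const]
  apply sum_congr rfl
  intro b hb
  rw [mem_filter, mem_blocks] at hb
  rw [← hB.1 b hb.1, ← card_between I b hb.2 t hI]
  congr 1
  ext s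
  simp only [mem_filter, mem_powersetCard, subset_univ, true_and]
  constructor
  · rintro ⟨hs1, hs2⟩
    exact ⟨⟨hs1.2, hs2⟩, ((hf s hs1.2).2 b ⟨hb.1, hs1.1⟩).symm⟩
  · rintro ⟨⟨hs1, hs2⟩, rfl⟩
    exact ⟨⟨(hf s hs1).1.2, hs1⟩, hs2⟩

/-- the intersection number `λ_i`. -/
def lam (v k t i : ℕ) : ℕ := Nat.choose (v - i) (t - i) / Nat.choose (k - i) (t - i)

theorem card_through {t k : ℕ} {B : Set (Finset α)} (hB : IsSteinerSystem t k B) (htk : t ≤ k)
    (I : Finset α) (hI : I.card ≤ t) :
    ((blocks B).filter (I ⊆ ·)).card = lam (Fintype.card α) k t I.card := by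
  have h := card_through_mul hB I hI
  unfold lam
  rw [← h, Nat.mul_div_cancel]
  exact Nat.choose_pos (by omega)

/-- the fundamental double count. -/
theorem sum_choose {t k : ℕ} {B : Set (Finset α)} (hB : IsSteinerSystem t k B) (htk : t ≤ k)
    (s D : Finset α) (hsD : Disjoint s D) (j : ℕ) (hj : s.card + j ≤ t) :
    ∑ c ∈ (blocks B).filter (s ⊆ ·), Nat.choose (D ∩ c).card j =
      Nat.choose D.card j * lam (Fintype.card α) k t (s.card + j) := by
  have h1 : ∀ c : Finset α, Nat.choose (D ∩ c).card j = ∑ J ∈ powersetCard j D, if J ⊆ c then 1 else 0 := by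
    intro c
    rw [← card_powersetCard, ← sum_filter, ← card_eq_sum_ones]
    congr 1
    ext J
    simp only [mem_powersetCard, mem_filter, subset_inter_iff]
    tauto
  simp_rw [h1]
  rw [sum_comm, ← card_powersetCard, card_eq_sum_ones, sum_mul]
  apply sum_congr rfl
  intro J hJ
  rw [mem_powersetCard] at hJ
  rw [one_mul, ← sum_filter, ← card_eq_sum_ones, filter_filter]
  have hd : Disjoint s J := disjoint_of_subset_right hJ.1 hsD
  have hc : (s ∪ J).card = s.card + j := by rw [card_union_of_disjoint hd, hJ.2]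
  rw [← hc, ← card_through hB htk (s ∪ J) (by omega)]
  congr 1
  ext c
  simp only [mem_filter, union_subset_iff]

theorem sum_chooseZ {t k : ℕ} {B : Set (Finset α)} (hB : IsSteinerSystem t k B) (htk : t ≤ k)
    (s D : Finset α) (hsD : Disjoint s D) (j : ℕ) (hj : s.card + j ≤ t) :
    ∑ c ∈ (blocks B).filter (s ⊆ ·), (Nat.choose (D ∩ c).card j : ℤ) =
      (Nat.choose D.card j * lam (Fintype.card α) k t (s.card + j) : ℕ) := by
  rw [← sum_choose hB htk s D hsD j hj]
  push_cast
  rfl

/-- version without the base set `s`. -/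
theorem sum_chooseZ' {t k : ℕ} {B : Set (Finset α)} (hB : IsSteinerSystem t k B) (htk : t ≤ k)
    (D : Finset α) (j : ℕ) (hj : j ≤ t) :
    ∑ c ∈ blocks B, (Nat.choose (D ∩ c).card j : ℤ) =
      (Nat.choose D.card j * lam (Fintype.card α) k t j : ℕ) := by
  have := sum_chooseZ hB htk ∅ D (disjoint_empty_left _) j (by simpa using hj)
  simpa using this

/-- distinct blocks share fewer than `t` points. -/
theorem inter_card_lt {t k : ℕ} {B : Set (Finset α)} (hB : IsSteinerSystem t k B)
    {b c : Finset α} (hb : b ∈ B) (hc : c ∈ B) (hbc : b ≠ c) : (b ∩ c).card < t := by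
  by_contra h
  push Not at h
  obtain ⟨s, hs, hst⟩ := exists_subset_card_eq h
  obtain ⟨d, _, hu⟩ := hB.2 s hst
  have h1 := hu b ⟨hb, hs.trans inter_subset_left⟩
  have h2 := hu c ⟨hc, hs.trans inter_subset_right⟩
  exact hbc (h1.trans h2.symm)

theorem all_zero_of_sum {ι : Type*} [DecidableEq ι] (S : Finset ι) (b : ι) (hb : b ∈ S) (g : ι → ℤ)
    (hsum : ∑ c ∈ S, g c = g b) (hnn : ∀ c ∈ S, c ≠ b → 0 ≤ g c) :
    ∀ c ∈ S, c ≠ b → g c = 0 := by
  rw [← add_sum_erase S g hb] at hsum
  have h0 : ∑ c ∈ S.erase b, g c = 0 := by linarith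
  intro c hc hcb
  exact (sum_eq_zero_iff_of_nonneg (fun c hc => hnn c (mem_of_mem_erase hc) (ne_of_mem_erase hc))).mp h0 c
    (mem_erase.mpr ⟨hcb, hc⟩)

end Cfsg.Agent.Lib.Helper3_Steiner
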