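import Mathlib
import Cfsg.Agent.Lib.Helper3_M24h
import Cfsg.Agent.Lib.Helper3_Steiner

/-!
# helper3: pairs of small sets under `M24`; stabilisers of 2-sets and 3-sets are maximal
-/

set_option autoImplicit false
set_option linter.unusedSectionVars false
set_option linter.constructorNameAsVariable false

namespace Cfsg.Agent.Lib.Helper3_M24i

open Cfsg Cfsg.Agent.Lib.Helper3_Golay Cfsg.Agent.Lib.Helper3_Golay2 Cfsg.Agent.Lib.Helper3_Golay3
open Cfsg.Agent.Lib.Helper3_M24a Cfsg.Agent.Lib.Helper3_PermChain Cfsg.Agent.Lib.Helper3_M24b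
open Cfsg.Agent.Lib.Helper3_M24c Cfsg.Agent.Lib.Helper3_M24d Cfsg.Agent.Lib.Helper3_M24e
open Cfsg.Agent.Lib.Helper3_M24f Cfsg.Agent.Lib.Helper3_Fast Cfsg.Agent.Lib.Helper3_Coatom
open Cfsg.Agent.Lib.Helper3_M24g Cfsg.Agent.Lib.Helper3_M24h Cfsg.Agent.Lib.Helper3_Steiner
open scoped Pointwise

theorem card_pt : Fintype.card GolayPt = 24 := rfl

/-- number of `n`-sets meeting `T` in exactly `j` points -/
theorem card_filter_inter {α : Type*} [Fintype α] [DecidableEq α] (T : Finset α) (n j : ℕ)
    (hj : j ≤ n) :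
    ((Finset.univ.powersetCard n).filter (fun x => (T ∩ x).card = j)).card =
      T.card.choose j * (Fintype.card α - T.card).choose (n - j) := by
  rw [← Finset.card_compl, ← Finset.card_powersetCard, ← Finset.card_powersetCard,
    ← Finset.card_product]
  symm
  apply Finset.card_nbij' (fun uv => uv.1 ∪ uv.2) (fun x => (T ∩ x, Tᶜ ∩ x))
  · rintro ⟨u, v⟩ h
    simp only [Finset.coe_product, Set.mem_prod, Finset.mem_coe, Finset.mem_powersetCard] at h
    obtain ⟨⟨hu, hu'⟩, ⟨hv, hv'⟩⟩ := h
    have hd : Disjoint u v := Finset.disjoint_of_subset_left hu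
      (Finset.disjoint_of_subset_right hv disjoint_compl_right)
    have h1 : T ∩ (u ∪ v) = u := by
      ext p
      simp only [Finset.mem_inter, Finset.mem_union]
      constructor
      · rintro ⟨hT, h | h⟩
        · exact h
        · exact absurd hT (Finset.mem_compl.mp (hv h))
      · intro h; exact ⟨hu h, Or.inl h⟩
    simp only [Finset.coe_filter, Finset.mem_powersetCard, Set.mem_ofPred_eq]
    refine ⟨⟨Finset.subset_univ _, ?_⟩, by rw [h1, hu']⟩
    rw [Finset.card_union_of_disjoint hd, hu', hv']; omega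
  · intro x h
    simp only [Finset.coe_filter, Finset.mem_powersetCard, Set.mem_ofPred_eq] at h
    obtain ⟨⟨_, hx⟩, hxj⟩ := h
    simp only [Finset.coe_product, Set.mem_prod, Finset.mem_coe, Finset.mem_powersetCard]
    refine ⟨⟨Finset.inter_subset_left, hxj⟩, Finset.inter_subset_left, ?_⟩
    have h1 : (Tᶜ ∩ x).card + (T ∩ x).card = x.card := by
      have : Tᶜ ∩ x = x \ T := by ext p; simp [and_comm]
      rw [this, Finset.inter_comm, Finset.card_sdiff_add_card_inter]
    omega
  · rintro ⟨u, v⟩ h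
    simp only [Finset.coe_product, Set.mem_prod, Finset.mem_coe, Finset.mem_powersetCard] at h
    obtain ⟨⟨hu, hu'⟩, ⟨hv, hv'⟩⟩ := h
    ext p <;> simp only [Finset.mem_inter, Finset.mem_union, Finset.mem_compl]
    · constructor
      · rintro ⟨hT, h | h⟩
        · exact h
        · exact absurd hT (Finset.mem_compl.mp (hv h))
      · intro h; exact ⟨hu h, Or.inl h⟩
    · constructor
      · rintro ⟨hT, h | h⟩
        · exact absurd (hu h) hT
        · exact h
      · intro h; exact ⟨Finset.mem_compl.mp (hv h), Or.inr h⟩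
  · intro x _
    ext p
    simp only [Finset.mem_inter, Finset.mem_union, Finset.mem_compl]
    tauto

theorem ncard_inter (T : Finset GolayPt) (n j : ℕ) (hj : j ≤ n) :
    {x : Finset GolayPt | x.card = n ∧ (T ∩ x).card = j}.ncard =
      T.card.choose j * (24 - T.card).choose (n - j) := by
  rw [← card_pt, ← card_filter_inter T n j hj, ← Set.ncard_coe_finset]
  congr 1
  ext x
  simp [Finset.mem_powersetCard]

/-- number of `j`-sets `U` disjoint from `I` with `I ∪ U` inside an octad -/
theorem count_ext (I : Finset GolayPt) (j : ℕ) (hI : I.card ≤ 5) (hij : 5 ≤ I.card + j) :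
    {U : Finset GolayPt | U.card = j ∧ Disjoint I U ∧ ∃ o ∈ octads, I ∪ U ⊆ o}.ncard =
      lam 24 8 5 I.card * Nat.choose (8 - I.card) j := by
  classical
  have hset : {U : Finset GolayPt | U.card = j ∧ Disjoint I U ∧ ∃ o ∈ octads, I ∪ U ⊆ o} =
      ↑(((blocks octads).filter (I ⊆ ·)).biUnion (fun o => (o \ I).powersetCard j)) := by
    ext U
    simp only [Set.mem_ofPred_eq, Finset.coe_biUnion, Finset.coe_filter, mem_blocks,
      Set.mem_iUnion, Finset.mem_coe, Finset.mem_powersetCard, exists_prop]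
    constructor
    · rintro ⟨hU, hd, o, ho, hsub⟩
      refine ⟨o, ⟨ho, (Finset.union_subset_iff.mp hsub).1⟩, ?_, hU⟩
      intro p hp
      exact Finset.mem_sdiff.mpr ⟨(Finset.union_subset_iff.mp hsub).2 hp,
        fun hc => Finset.disjoint_left.mp hd hc hp⟩
    · rintro ⟨o, ⟨ho, hIo⟩, hsub, hU⟩
      refine ⟨hU, ?_, o, ho, Finset.union_subset hIo (hsub.trans Finset.sdiff_subset)⟩
      rw [Finset.disjoint_left]
      intro p hpI hpU
      exact (Finset.mem_sdiff.mp (hsub hpU)).2 hpI
  rw [hset, Set.ncard_coe_finset, Finset.card_biUnion]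
  · have : ∀ o ∈ (blocks octads).filter (I ⊆ ·), ((o \ I).powersetCard j).card =
        Nat.choose (8 - I.card) j := by
      intro o ho
      obtain ⟨ho1, ho2⟩ := Finset.mem_filter.mp ho
      rw [Finset.card_powersetCard, Finset.card_sdiff_of_subset ho2, (mem_blocks.mp ho1).2]
    rw [Finset.sum_congr rfl this, Finset.sum_const, smul_eq_mul,
      card_through steiner (by norm_num) I hI, card_pt]
  · intro o ho o' ho' hne
    rw [Function.onFun, Finset.disjoint_left]
    intro U hU hU'
    apply hne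
    obtain ⟨ho1, ho2⟩ := Finset.mem_filter.mp ho
    obtain ⟨ho1', ho2'⟩ := Finset.mem_filter.mp ho'
    obtain ⟨h1, h2⟩ := Finset.mem_powersetCard.mp hU
    obtain ⟨h1', _⟩ := Finset.mem_powersetCard.mp hU'
    apply octad_eq_of_five (u := I ∪ U) (mem_blocks.mp ho1) (mem_blocks.mp ho1')
    · rw [Finset.card_union_of_disjoint, h2]
      · exact hij
      · rw [Finset.disjoint_left]
        intro p hpI hpU
        exact (Finset.mem_sdiff.mp (h1 hpU)).2 hpI
    · exact Finset.union_subset ho2 (h1.trans Finset.sdiff_subset)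
    · exact Finset.union_subset ho2' (h1'.trans Finset.sdiff_subset)

theorem count_disj (I : Finset GolayPt) (j : ℕ) :
    {U : Finset GolayPt | U.card = j ∧ Disjoint I U}.ncard = Nat.choose (24 - I.card) j := by
  have : {U : Finset GolayPt | U.card = j ∧ Disjoint I U} = ↑(Iᶜ.powersetCard j) := by
    ext U
    simp only [Set.mem_ofPred_eq, Finset.mem_coe, Finset.mem_powersetCard]
    constructor
    · rintro ⟨h1, h2⟩
      refine ⟨?_, h1⟩
      intro p hp
      exact Finset.mem_compl.mpr (fun hc => Finset.disjoint_left.mp h2 hc hp)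
    · rintro ⟨h1, h2⟩
      refine ⟨h2, ?_⟩
      rw [Finset.disjoint_left]
      intro p hpI hpU
      exact Finset.mem_compl.mp (h1 hpU) hpI
  rw [this, Set.ncard_coe_finset, Finset.card_powersetCard, Finset.card_compl, card_pt]

theorem count_nonext (I : Finset GolayPt) (j : ℕ) (hI : I.card ≤ 5) (hij : 5 ≤ I.card + j) :
    {U : Finset GolayPt | U.card = j ∧ Disjoint I U ∧ ¬ ∃ o ∈ octads, I ∪ U ⊆ o}.ncard +
      lam 24 8 5 I.card * Nat.choose (8 - I.card) j = Nat.choose (24 - I.card) j := by
  rw [← count_ext I j hI hij, ← count_disj I j, ← Set.ncard_union_eq]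
  · congr 1
    ext U
    simp only [Set.mem_union, Set.mem_ofPred_eq]
    tauto
  · rw [Set.disjoint_left]
    rintro U ⟨_, _, h1⟩ ⟨_, _, h2⟩
    exact h1 h2

/-- equivalence of two sets relative to a third one -/
theorem pair_equiv {s x y : Finset GolayPt} (hxy : x.card = y.card)
    (hc : (s ∩ x).card = (s ∩ y).card) (h6 : (s ∪ x).card ≤ 6)
    (htype : (s ∪ x).card = 6 → ((∃ o ∈ octads, s ∪ x ⊆ o) ↔ (∃ o ∈ octads, s ∪ y ⊆ o))) :
    ∃ g ∈ M24, g • s = s ∧ g • x = y := by
  have e1 : ∀ z : Finset GolayPt, (s \ z).card + (s ∩ z).card = s.card :=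
    fun z => Finset.card_sdiff_add_card_inter s z
  have e2 : ∀ z : Finset GolayPt, (z \ s).card + (s ∩ z).card = z.card := by
    intro z; rw [Finset.inter_comm]; exact Finset.card_sdiff_add_card_inter z s
  have e3 : ∀ z : Finset GolayPt, (s ∪ z).card = (s ∩ z).card + (s \ z).card + (z \ s).card := by
    intro z
    have := Finset.card_union_add_card_inter s z
    have := e1 z
    have := e2 z
    omega
  have hdis : ∀ z : Finset GolayPt, [s ∩ z, s \ z, z \ s].Pairwise (fun A B => Disjoint A B) := by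
    intro z
    simp only [List.pairwise_cons, List.mem_cons, List.not_mem_nil, or_false, forall_eq_or_imp,
      forall_eq, IsEmpty.forall_iff, implies_true, List.Pairwise.nil, and_true]
    refine ⟨⟨?_, ?_⟩, ?_⟩ <;> rw [Finset.disjoint_left] <;> intro p h1 h2 <;>
      simp only [Finset.mem_inter, Finset.mem_sdiff] at h1 h2 <;> tauto
  have hsub : ∀ (z o : Finset GolayPt), (∀ A ∈ [s ∩ z, s \ z, z \ s], A ⊆ o) ↔ s ∪ z ⊆ o := by
    intro z o
    simp only [List.mem_cons, List.not_mem_nil, or_false, forall_eq_or_imp, forall_eq]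
    constructor
    · rintro ⟨h1, h2, h3⟩ p hp
      by_cases hps : p ∈ s <;> by_cases hpz : p ∈ z
      · exact h1 (Finset.mem_inter.mpr ⟨hps, hpz⟩)
      · exact h2 (Finset.mem_sdiff.mpr ⟨hps, hpz⟩)
      · exact h3 (Finset.mem_sdiff.mpr ⟨hpz, hps⟩)
      · rcases Finset.mem_union.mp hp with h | h <;> contradiction
    · intro h
      refine ⟨?_, ?_, ?_⟩ <;> intro p hp <;> apply h <;>
        simp only [Finset.mem_inter, Finset.mem_sdiff, Finset.mem_union] at hp ⊢ <;> tauto
  obtain ⟨g, hg, hF⟩ := exists_blocks [s ∩ x, s \ x, x \ s] [s ∩ y, s \ y, y \ s]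
    (by
      refine List.Forall₂.cons hc (List.Forall₂.cons ?_ (List.Forall₂.cons ?_ List.Forall₂.nil))
      · have := e1 x; have := e1 y; omega
      · have := e2 x; have := e2 y; omega)
    (hdis x) (hdis y)
    (by simp only [List.map_cons, List.map_nil, List.sum_cons, List.sum_nil]
        have := e3 x; omega)
    (by
      intro h
      simp only [hsub]
      apply htype
      simp only [List.map_cons, List.map_nil, List.sum_cons, List.sum_nil] at h
      have := e3 x; omega)
  simp only [List.forall₂_cons, List.forall₂_nil_right_iff, and_true] at hF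
  obtain ⟨h1, h2, h3⟩ := hF
  refine ⟨g, hg, ?_, ?_⟩
  · have : ∀ z : Finset GolayPt, s = (s ∩ z) ∪ (s \ z) := by
      intro z; ext p; simp only [Finset.mem_union, Finset.mem_inter, Finset.mem_sdiff]; tauto
    conv_lhs => rw [this x]
    rw [Finset.smul_finset_union, h1, h2, ← this y]
  · have : ∀ z : Finset GolayPt, z = (s ∩ z) ∪ (z \ s) := by
      intro z; ext p; simp only [Finset.mem_union, Finset.mem_inter, Finset.mem_sdiff]; tauto
    conv_lhs => rw [this x]
    rw [Finset.smul_finset_union, h1, h3, ← this y]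

end Cfsg.Agent.Lib.Helper3_M24i
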