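import Mathlib
import Cfsg.Agent.Lib.Helper3_M24i

/-!
# helper3: restriction homomorphisms, pointwise stabilisers of six points in `M24`
-/

set_option autoImplicit false
set_option linter.unusedSectionVars false
set_option linter.constructorNameAsVariable false

namespace Cfsg.Agent.Lib.Helper3_M24j

open Cfsg Cfsg.Agent.Lib.Helper3_Golay Cfsg.Agent.Lib.Helper3_Golay2 Cfsg.Agent.Lib.Helper3_Golay3
open Cfsg.Agent.Lib.Helper3_M24a Cfsg.Agent.Lib.Helper3_PermChain Cfsg.Agent.Lib.Helper3_M24b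
open Cfsg.Agent.Lib.Helper3_M24c Cfsg.Agent.Lib.Helper3_M24d Cfsg.Agent.Lib.Helper3_M24e
open Cfsg.Agent.Lib.Helper3_M24f Cfsg.Agent.Lib.Helper3_Fast Cfsg.Agent.Lib.Helper3_Coatom
open Cfsg.Agent.Lib.Helper3_M24g Cfsg.Agent.Lib.Helper3_M24h Cfsg.Agent.Lib.Helper3_Steiner
open Cfsg.Agent.Lib.Helper3_M24i
open scoped Pointwise

/-! ### restriction to an invariant finite set -/

section res

variable {G α : Type*} [Group G] [MulAction G α] [DecidableEq α]

theorem smul_mem_of_smul_eq {g : G} {E : Finset α} (h : g • E = E) {x : α} (hx : x ∈ E) :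
    g • x ∈ E := by
  have := Finset.smul_mem_smul_finset (a := g) hx
  rwa [h] at this

theorem inv_smul_eq_of_smul_eq {g : G} {E : Finset α} (h : g • E = E) : g⁻¹ • E = E := by
  rw [inv_smul_eq_iff, h]

/-- restriction of a subgroup stabilising `E` to `E` -/
def resHom (K : Subgroup G) (E : Finset α) (hK : ∀ g ∈ K, g • E = E) : K →* Equiv.Perm E where
  toFun g :=
    { toFun := fun x => ⟨(g : G) • (x : α), smul_mem_of_smul_eq (hK g g.2) x.2⟩
      invFun := fun x => ⟨(g : G)⁻¹ • (x : α),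
        smul_mem_of_smul_eq (inv_smul_eq_of_smul_eq (hK g g.2)) x.2⟩
      left_inv := fun x => by ext; simp
      right_inv := fun x => by ext; simp }
  map_one' := by ext x; simp
  map_mul' g h := by ext x; simp [mul_smul]

@[simp] theorem resHom_apply (K : Subgroup G) (E : Finset α) (hK : ∀ g ∈ K, g • E = E) (g : K)
    (x : E) : ((resHom K E hK g x : E) : α) = (g : G) • (x : α) := rfl

theorem mem_ker_resHom (K : Subgroup G) (E : Finset α) (hK : ∀ g ∈ K, g • E = E) (g : K) :
    g ∈ (resHom K E hK).ker ↔ ∀ x ∈ E, (g : G) • x = x := by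
  rw [MonoidHom.mem_ker]
  constructor
  · intro h x hx
    have := congrArg (fun e : Equiv.Perm E => ((e ⟨x, hx⟩ : E) : α)) h
    simpa using this
  · intro h
    ext x
    simpa using h x x.2

theorem card_eq_ker_mul_range (K : Subgroup G) (E : Finset α) (hK : ∀ g ∈ K, g • E = E) :
    Nat.card K = Nat.card (resHom K E hK).ker * Nat.card (resHom K E hK).range := by
  rw [← Subgroup.index_ker, Subgroup.card_mul_index]

end res

/-! ### pointwise stabilisers of lists -/

theorem card_fixL_map {g : Equiv.Perm GolayPt} (hg : g ∈ M24) (xs : List GolayPt) :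
    Nat.card (fixL M24 (xs.map g)) = Nat.card (fixL M24 xs) := by
  refine Nat.card_congr ⟨fun x => ⟨g⁻¹ * x.1 * g, ?_, ?_⟩, fun x => ⟨g * x.1 * g⁻¹, ?_, ?_⟩, ?_, ?_⟩
  · exact M24.mul_mem (M24.mul_mem (M24.inv_mem hg) x.2.1) hg
  · intro a ha
    have := x.2.2 (g a) (List.mem_map_of_mem ha)
    simp [Equiv.Perm.mul_apply, this]
  · exact M24.mul_mem (M24.mul_mem hg x.2.1) (M24.inv_mem hg)
  · intro a ha
    obtain ⟨b, hb, rfl⟩ := List.mem_map.mp ha
    have := x.2.2 b hb
    simp [Equiv.Perm.mul_apply, this]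
  · intro x; ext : 2; simp [mul_assoc]
  · intro x; ext : 2; simp [mul_assoc]

theorem card_Fx6n : Nat.card (Fx [4, 3, 2, 1, 0, 23]) = 3 := by
  have := card_level M24 ([3, 2, 1, 0, 23].map pt) (pt 4) (dec Msk7)
    (by
      intro g hg
      have h1 := inv_of_der (L := D6) (by decide +kernel) (by decide +kernel) hg Msk7
        (by decide +kernel)
      have h2 : pt 4 ∈ dec Msk7 := by decide +kernel
      have h3 := Finset.smul_mem_smul_finset (a := g) h2
      rwa [h1] at h3)
    (by
      intro c hc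
      obtain ⟨g, hg, _, h⟩ := lev7.2 c hc
      exact ⟨g, ⟨hg.1, fun a ha => hg.2 a (by
        simp only [List.map_cons] at ha ⊢; exact List.mem_cons_of_mem _ ha)⟩, h⟩)
  have h48 : Nat.card (fixL M24 ([3, 2, 1, 0, 23].map pt)) = 48 := card_Fx6
  rw [h48, card_dec' Msk7 16 (by decide +kernel)] at this
  have h3 : Nat.card (Fx [4, 3, 2, 1, 0, 23]) = Nat.card (fixL M24 (pt 4 :: [3, 2, 1, 0, 23].map pt)) :=
    rfl
  omega

theorem card_fixL_congr {xs ys : List GolayPt} (h : ∀ a, a ∈ xs ↔ a ∈ ys) :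
    Nat.card (fixL M24 xs) = Nat.card (fixL M24 ys) := by
  have : fixL M24 xs = fixL M24 ys := by
    ext g
    simp only [mem_fixL, h]
  rw [this]

theorem card_fix_finset (E : Finset GolayPt) :
    Nat.card {g : Equiv.Perm GolayPt // g ∈ M24 ∧ ∀ p ∈ E, g p = p} =
      Nat.card (fixL M24 E.toList) := by
  refine Nat.card_congr ⟨fun x => ⟨x.1, x.2.1, fun a ha => x.2.2 a (Finset.mem_toList.mp ha)⟩,
    fun x => ⟨x.1, x.2.1, fun a ha => x.2.2 a (Finset.mem_toList.mpr ha)⟩, ?_, ?_⟩
  · intro x; rfl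
  · intro x; rfl

theorem card_fix6_special {E : Finset GolayPt} (hE : E.card = 6) (h : ∃ o ∈ octads, E ⊆ o) :
    Nat.card {g : Equiv.Perm GolayPt // g ∈ M24 ∧ ∀ p ∈ E, g p = p} = 16 := by
  obtain ⟨o, ho, hEo⟩ := h
  obtain ⟨zs, f, hz, hzf⟩ := exists_snoc (n := 5) (xs := E.toList) (by rw [Finset.length_toList, hE])
  obtain ⟨g, hg, hgm⟩ := nf6_special (zs := zs) (f := f) hz (by rw [← hzf]; exact E.nodup_toList) ho
    (by rw [← hzf]; intro y hy; exact hEo (Finset.mem_toList.mp hy))
  rw [card_fix_finset, hzf, ← hgm, card_fixL_map hg, ← card_Fx7]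
  apply card_fixL_congr
  intro a
  simp only [base6s, List.map_cons, List.map_nil, List.mem_cons, List.not_mem_nil, or_false]
  tauto

theorem card_fix6_general {E : Finset GolayPt} (hE : E.card = 6) (h : ¬ ∃ o ∈ octads, E ⊆ o) :
    Nat.card {g : Equiv.Perm GolayPt // g ∈ M24 ∧ ∀ p ∈ E, g p = p} = 3 := by
  obtain ⟨zs, f, hz, hzf⟩ := exists_snoc (n := 5) (xs := E.toList) (by rw [Finset.length_toList, hE])
  obtain ⟨g, hg, hgm⟩ := nf6_general (zs := zs) (f := f) hz (by rw [← hzf]; exact E.nodup_toList)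
    (by
      rw [← hzf]
      rintro ⟨o, ho, hy⟩
      exact h ⟨o, ho, fun y hyE => hy y (Finset.mem_toList.mpr hyE)⟩)
  rw [card_fix_finset, hzf, ← hgm, card_fixL_map hg, ← card_Fx6n]
  apply card_fixL_congr
  intro a
  simp only [base6n, List.map_cons, List.map_nil, List.mem_cons, List.not_mem_nil, or_false]
  tauto

/-- every permutation of a set of at most six points is induced by `M24` -/
theorem exists_induce {E : Finset GolayPt} (hE : E.card ≤ 6) (σ : Equiv.Perm E) :
    ∃ g ∈ M24, ∀ p : E, g p = σ p := by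
  classical
  let f : GolayPt → GolayPt := fun p => if h : p ∈ E then σ ⟨p, h⟩ else p
  have hf : ∀ p : E, f p = σ p := by
    intro p
    simp only [f, p.2, dif_pos]
  have hfE : ∀ p ∈ E, f p ∈ E := by
    intro p hp
    rw [hf ⟨p, hp⟩]
    exact (σ ⟨p, hp⟩).2
  have hinj : Set.InjOn f E := by
    intro a ha b hb hab
    rw [hf ⟨a, ha⟩, hf ⟨b, hb⟩] at hab
    have := σ.injective (Subtype.ext hab)
    exact congrArg Subtype.val this
  have hmem : ∀ y, y ∈ E.toList.map f ↔ y ∈ E := by
    intro y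
    constructor
    · intro hy
      obtain ⟨a, ha, rfl⟩ := List.mem_map.mp hy
      exact hfE a (Finset.mem_toList.mp ha)
    · intro hy
      refine List.mem_map.mpr ⟨(σ.symm ⟨y, hy⟩ : E), Finset.mem_toList.mpr (σ.symm ⟨y, hy⟩).2, ?_⟩
      rw [hf]
      simp
  obtain ⟨g, hg, hgm⟩ := list_equiv (xs := E.toList) (ys := E.toList.map f) (by simp)
    (by rw [Finset.length_toList]; exact hE) E.nodup_toList
    (by
      apply List.Nodup.map_on _ E.nodup_toList
      intro a ha b hb hab
      exact hinj (Finset.mem_toList.mp ha) (Finset.mem_toList.mp hb) hab)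
    (by
      intro _
      simp only [hmem, Finset.mem_toList])
  refine ⟨g, hg, ?_⟩
  intro p
  rw [← hf]
  exact (List.map_inj_left.mp hgm) p (Finset.mem_toList.mpr p.2)

/-- order of the setwise stabiliser of a set all of whose permutations are induced -/
theorem card_stab_of_induce (E : Finset GolayPt)
    (h : ∀ σ : Equiv.Perm E, ∃ g ∈ M24, ∀ p : E, g p = σ p) :
    Nat.card (MulAction.stabilizer M24 E) =
      Nat.card {g : Equiv.Perm GolayPt // g ∈ M24 ∧ ∀ p ∈ E, g p = p} * E.card.factorial := by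
  have hK : ∀ g ∈ MulAction.stabilizer M24 E, g • E = E := fun g hg => hg
  rw [card_eq_ker_mul_range _ E hK]
  congr 1
  · refine Nat.card_congr ⟨fun x => ⟨x.1.1.1, x.1.1.2, ?_⟩, fun x => ⟨⟨⟨x.1, x.2.1⟩, ?_⟩, ?_⟩, ?_, ?_⟩
    · exact (mem_ker_resHom _ E hK x.1).mp x.2
    · show (⟨x.1, x.2.1⟩ : M24) • E = E
      ext p
      constructor
      · intro hp
        obtain ⟨q, hq, rfl⟩ := Finset.mem_smul_finset.mp hp
        have : x.1 q = q := x.2.2 q hq
        show x.1 q ∈ E
        rw [this]; exact hq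
      · intro hp
        exact Finset.mem_smul_finset.mpr ⟨p, hp, x.2.2 p hp⟩
    · rw [mem_ker_resHom]
      exact x.2.2
    · intro x; rfl
    · intro x; rfl
  · have : (resHom (MulAction.stabilizer M24 E) E hK).range = ⊤ := by
      rw [MonoidHom.range_eq_top]
      intro σ
      obtain ⟨g, hg, hgσ⟩ := h σ
      have hst : (⟨g, hg⟩ : M24) ∈ MulAction.stabilizer M24 E := by
        show (⟨g, hg⟩ : M24) • E = E
        apply Finset.eq_of_subset_of_card_le
        · intro p hp
          obtain ⟨q, hq, rfl⟩ := Finset.mem_smul_finset.mp hp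
          show g q ∈ E
          rw [hgσ ⟨q, hq⟩]
          exact (σ ⟨q, hq⟩).2
        · rw [Finset.card_smul_finset]
      refine ⟨⟨⟨g, hg⟩, hst⟩, ?_⟩
      apply Equiv.ext
      intro p
      apply Subtype.ext
      exact hgσ p
    rw [this, Nat.card_congr Subgroup.topEquiv.toEquiv, Nat.card_perm, Nat.card_eq_fintype_card,
      Fintype.card_coe]

end Cfsg.Agent.Lib.Helper3_M24j
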