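import Mathlib
import Cfsg.Agent.Lib.Helper3_M24j

/-!
# helper3: fixed points of elements of prime order at least five in `M24`, orbit lengths
-/

set_option autoImplicit false
set_option linter.unusedSectionVars false
set_option linter.constructorNameAsVariable false

namespace Cfsg.Agent.Lib.Helper3_Fixp

open Cfsg Cfsg.Agent.Lib.Helper3_Golay Cfsg.Agent.Lib.Helper3_Golay2 Cfsg.Agent.Lib.Helper3_Golay3
open Cfsg.Agent.Lib.Helper3_M24a Cfsg.Agent.Lib.Helper3_PermChain Cfsg.Agent.Lib.Helper3_M24b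
open Cfsg.Agent.Lib.Helper3_M24c Cfsg.Agent.Lib.Helper3_M24d Cfsg.Agent.Lib.Helper3_M24e
open Cfsg.Agent.Lib.Helper3_M24f Cfsg.Agent.Lib.Helper3_Fast Cfsg.Agent.Lib.Helper3_Coatom
open Cfsg.Agent.Lib.Helper3_M24g Cfsg.Agent.Lib.Helper3_M24h Cfsg.Agent.Lib.Helper3_Steiner
open Cfsg.Agent.Lib.Helper3_M24i Cfsg.Agent.Lib.Helper3_M24j
open scoped Pointwise

theorem card_modEq_fixed {α : Type*} [DecidableEq α] (g : Equiv.Perm α) (p : ℕ) [Fact p.Prime]
    (hg : g ^ p = 1) (X : Finset α) (hX : ∀ y, g y ∈ X ↔ y ∈ X) :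
    X.card ≡ (X.filter (fun y => g y = y)).card [MOD p] := by
  let g' : Equiv.Perm {y // y ∈ X} := g.subtypePerm hX
  have h1 : g' ^ p ^ 1 = 1 := by
    rw [pow_one]
    ext y
    simp [g', Equiv.Perm.subtypePerm_pow, hg]
  have h2 := Equiv.Perm.card_compl_support_modEq h1
  rw [Fintype.card_coe] at h2
  refine h2.symm.trans ?_
  have h3 : (g'.support)ᶜ.card = (X.filter (fun y => g y = y)).card := by
    apply Finset.card_bij (fun y _ => y.1)
    · intro y hy
      rw [Finset.mem_compl, Equiv.Perm.mem_support, not_not] at hy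
      rw [Finset.mem_filter]
      refine ⟨y.2, ?_⟩
      have := congrArg Subtype.val hy
      simpa [g'] using this
    · intro a _ b _ h
      exact Subtype.ext h
    · intro b hb
      rw [Finset.mem_filter] at hb
      refine ⟨⟨b, hb.1⟩, ?_, rfl⟩
      rw [Finset.mem_compl, Equiv.Perm.mem_support, not_not]
      apply Subtype.ext
      simpa [g'] using hb.2
  rw [h3]

theorem card_fixL5 {l : List GolayPt} (hl : l.length = 5) (hn : l.Nodup) :
    Nat.card (fixL M24 l) = 48 := by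
  obtain ⟨k, hk, rfl⟩ := exists_base_map l hl hn
  rw [card_fixL_map hk, ← card_Fx6]
  apply card_fixL_congr
  intro a
  simp only [baseL, List.map_cons, List.map_nil, List.mem_cons, List.not_mem_nil, or_false]
  tauto

theorem fixed_le_four {g : Equiv.Perm GolayPt} (hg : g ∈ M24) {p : ℕ} (hp : p.Prime) (h5 : 5 ≤ p)
    (ho : orderOf g = p) : (Finset.univ.filter (fun y => g y = y)).card ≤ 4 := by
  by_contra hc
  obtain ⟨l, hl, hn, hmem⟩ := exists_list_of_le (s := Finset.univ.filter (fun y => g y = y)) (n := 5)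
    (by omega)
  have h1 : g ∈ fixL M24 l := ⟨hg, fun a ha => (Finset.mem_filter.mp (hmem a ha)).2⟩
  have h2 : orderOf (⟨g, h1⟩ : fixL M24 l) ∣ Nat.card (fixL M24 l) := orderOf_dvd_natCard _
  rw [Subgroup.orderOf_mk, ho, card_fixL5 hl hn] at h2
  have h3 : p ∣ 2 ^ 4 * 3 := by norm_num; exact h2
  rcases (Nat.Prime.dvd_mul hp).mp h3 with h | h
  · have := Nat.le_of_dvd (by norm_num) (hp.dvd_of_dvd_pow h)
    omega
  · have := Nat.le_of_dvd (by norm_num) h
    omega

theorem fixed_eq {g : Equiv.Perm GolayPt} (hg : g ∈ M24) {p : ℕ} (hp : p.Prime) (h5 : 5 ≤ p)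
    (ho : orderOf g = p) : (Finset.univ.filter (fun y => g y = y)).card = 24 % p := by
  have : Fact p.Prime := ⟨hp⟩
  have h1 := card_modEq_fixed g p (by rw [← ho]; exact pow_orderOf_eq_one g) Finset.univ (by simp)
  have h2 := fixed_le_four hg hp h5 ho
  have h3 : (Finset.univ : Finset GolayPt).card = 24 := rfl
  rw [h3] at h1
  unfold Nat.ModEq at h1
  rw [h1, Nat.mod_eq_of_lt (by omega)]

/-- the basic constraint on the size of an invariant set -/
theorem inv_card_mod {K : Subgroup (Equiv.Perm GolayPt)} (hK : K ≤ M24) (F X : Finset GolayPt)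
    (hF : ∀ g ∈ K, ∀ a ∈ F, g a = a) (hX : ∀ g ∈ K, ∀ y, g y ∈ X ↔ y ∈ X) (hd : Disjoint F X)
    {p : ℕ} (hp : p.Prime) (h5 : 5 ≤ p) (hdvd : p ∣ Nat.card K) :
    X.card % p + F.card ≤ 24 % p := by
  have : Fact p.Prime := ⟨hp⟩
  obtain ⟨⟨g, hgK⟩, ho⟩ := exists_prime_orderOf_dvd_card' p hdvd
  rw [Subgroup.orderOf_mk] at ho
  have h1 := card_modEq_fixed g p (by rw [← ho]; exact pow_orderOf_eq_one g) X (hX g hgK)
  have h2 := fixed_eq (hK hgK) hp h5 ho
  have h4 := fixed_le_four (hK hgK) hp h5 ho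
  have h3 : (X.filter (fun y => g y = y)).card + F.card ≤
      (Finset.univ.filter (fun y => g y = y)).card := by
    rw [← Finset.card_union_of_disjoint]
    · apply Finset.card_le_card
      intro y hy
      rw [Finset.mem_filter]
      refine ⟨Finset.mem_univ _, ?_⟩
      rcases Finset.mem_union.mp hy with hy | hy
      · exact (Finset.mem_filter.mp hy).2
      · exact hF g hgK y hy
    · rw [Finset.disjoint_left]
      intro y hy hy2
      exact (Finset.disjoint_left.mp hd) hy2 (Finset.mem_filter.mp hy).1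
  unfold Nat.ModEq at h1
  rw [h1, Nat.mod_eq_of_lt (by omega), ← h2]
  exact h3

/-- orbit data for one level of a stabiliser chain of an arbitrary subgroup of `M24`. -/
theorem step {H : Subgroup (Equiv.Perm GolayPt)} (hH : H ≤ M24) (F : List GolayPt) (hF : F.Nodup)
    (b : GolayPt) (hb : b ∉ F) :
    ∃ O : Finset GolayPt, b ∈ O ∧ (∀ g ∈ fixL H F, ∀ y, g y ∈ O ↔ y ∈ O) ∧ (∀ a ∈ F, a ∉ O) ∧
      O.card + F.length ≤ 24 ∧
      Nat.card (fixL H F) = O.card * Nat.card (fixL H (b :: F)) ∧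
      ∀ p : ℕ, p.Prime → 5 ≤ p → p ∣ Nat.card (fixL H F) → O.card % p + F.length ≤ 24 % p := by
  classical
  let O : Finset GolayPt := Finset.univ.filter (fun c => ∃ g ∈ fixL H F, g b = c)
  have hO : ∀ c, c ∈ O ↔ ∃ g ∈ fixL H F, g b = c := by
    intro c; simp [O]
  have hinv : ∀ g ∈ fixL H F, ∀ y, g y ∈ O ↔ y ∈ O := by
    intro g hg y
    rw [hO, hO]
    constructor
    · rintro ⟨k, hk, h⟩
      refine ⟨g⁻¹ * k, (fixL H F).mul_mem ((fixL H F).inv_mem hg) hk, ?_⟩
      rw [Equiv.Perm.mul_apply, h]; simp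
    · rintro ⟨k, hk, h⟩
      exact ⟨g * k, (fixL H F).mul_mem hg hk, by rw [Equiv.Perm.mul_apply, h]⟩
  have hdis : ∀ a ∈ F, a ∉ O := by
    intro a ha hc
    obtain ⟨g, hg, h⟩ := (hO a).mp hc
    have h2 := hg.2 a ha
    rw [← h2] at h
    exact hb ((g.injective h) ▸ ha)
  have hdisj : Disjoint F.toFinset O := by
    rw [Finset.disjoint_left]
    intro a ha
    exact hdis a (List.mem_toFinset.mp ha)
  have hFc : F.toFinset.card = F.length := List.toFinset_card_of_nodup hF
  refine ⟨O, (hO b).mpr ⟨1, (fixL H F).one_mem, rfl⟩, hinv, hdis, ?_, ?_, ?_⟩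
  · rw [← hFc, add_comm, ← Finset.card_union_of_disjoint hdisj]
    exact Finset.card_le_univ _
  · exact card_level H F b O (fun g hg => (hO _).mpr ⟨g, hg, rfl⟩) (fun c hc => (hO c).mp hc)
  · intro p hp h5 hdvd
    rw [← hFc]
    exact inv_card_mod (K := fixL H F) (fun g hg => hH hg.1) F.toFinset O
      (fun g hg a ha => hg.2 a (List.mem_toFinset.mp ha)) hinv hdisj hp h5 hdvd

/-- an invariant set missing exactly one further point leaves a fixed point. -/
theorem fixed_of_compl {K : Subgroup (Equiv.Perm GolayPt)} (F : List GolayPt) (hF : F.Nodup)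
    (O : Finset GolayPt) (hFK : ∀ g ∈ K, ∀ a ∈ F, g a = a) (hinv : ∀ g ∈ K, ∀ y, g y ∈ O ↔ y ∈ O)
    (hdis : ∀ a ∈ F, a ∉ O) (hc : O.card + F.length = 23) :
    ∃ c, c ∉ F ∧ ∀ g ∈ K, g c = c := by
  have hdisj : Disjoint F.toFinset O := by
    rw [Finset.disjoint_left]
    intro a ha
    exact hdis a (List.mem_toFinset.mp ha)
  have hFc : F.toFinset.card = F.length := List.toFinset_card_of_nodup hF
  have h1 : (F.toFinset ∪ O)ᶜ.card = 1 := by
    rw [Finset.card_compl, Finset.card_union_of_disjoint hdisj, hFc]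
    have : Fintype.card GolayPt = 24 := rfl
    omega
  obtain ⟨c, hc⟩ := Finset.card_eq_one.mp h1
  have hmem : ∀ y, y ∈ (F.toFinset ∪ O)ᶜ ↔ y = c := by
    intro y; rw [hc, Finset.mem_singleton]
  have hcm := (hmem c).mpr rfl
  rw [Finset.mem_compl, Finset.mem_union, not_or, List.mem_toFinset] at hcm
  refine ⟨c, hcm.1, fun g hg => ?_⟩
  rw [← hmem, Finset.mem_compl, Finset.mem_union, not_or, List.mem_toFinset]
  refine ⟨fun h => ?_, fun h => hcm.2 ((hinv g hg c).mp h)⟩
  have h2 := hFK g hg _ h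
  exact hcm.1 ((g.injective h2) ▸ h)

end Cfsg.Agent.Lib.Helper3_Fixp
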