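import Mathlib
import Cfsg.Prelude.Def_KGroupFacts

set_option autoImplicit false

namespace Cfsg.Agent.Lib.Helper3_Out

variable {Ω : Type*} [Finite Ω]

theorem exists_perm_of_aut (G : Subgroup (Equiv.Perm Ω)) (Δ : Set Ω) (n : ℕ)
    (hfix : ∀ g ∈ G, ∀ x ∉ Δ, g x = x)
    (hΔ : ∀ g ∈ G, ∀ x ∈ Δ, g x ∈ Δ)
    (hidx : ∀ x ∈ Δ, (MulAction.stabilizer G x).index = n)
    (hC : ∀ H : Subgroup G, H.index = n → ∃ x ∈ Δ, H = MulAction.stabilizer G x)
    (hinj : ∀ x ∈ Δ, ∀ y ∈ Δ, MulAction.stabilizer G x = MulAction.stabilizer G y → x = y)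
    (φ : MulAut G) :
    ∃ π : Equiv.Perm Ω, (∀ x ∉ Δ, π x = x) ∧
      ∀ g : G, ((φ g : G) : Equiv.Perm Ω) = π * (g : Equiv.Perm Ω) * π⁻¹ := by
  classical
  have h1 : ∀ x ∈ Δ, ∃ y ∈ Δ,
      (MulAction.stabilizer G x).map φ.toMonoidHom = MulAction.stabilizer G y := by
    intro x hx
    apply hC
    rw [← hidx x hx]
    exact Subgroup.index_map_equiv _ φ
  choose! f hfΔ hf using h1
  let F : Ω → Ω := fun x => if x ∈ Δ then f x else x
  have hF1 : ∀ x ∈ Δ, F x = f x := fun x hx => if_pos hx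
  have hF2 : ∀ x ∉ Δ, F x = x := fun x hx => if_neg hx
  have hFΔ : ∀ x, F x ∈ Δ ↔ x ∈ Δ := by
    intro x
    by_cases hx : x ∈ Δ
    · simp [hF1 x hx, hx, hfΔ x hx]
    · simp [hF2 x hx, hx]
  have hFinj : Function.Injective F := by
    intro x y hxy
    by_cases hx : x ∈ Δ
    · have hy : y ∈ Δ := by rw [← hFΔ, ← hxy, hFΔ]; exact hx
      rw [hF1 x hx, hF1 y hy] at hxy
      apply hinj x hx y hy
      have h2 := hf x hx
      rw [hxy, ← hf y hy] at h2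
      exact Subgroup.map_injective φ.injective h2
    · have hy : y ∉ Δ := by rw [← hFΔ, ← hxy, hFΔ]; exact hx
      rwa [hF2 x hx, hF2 y hy] at hxy
  let π : Equiv.Perm Ω := Equiv.ofBijective F (Finite.injective_iff_bijective.mp hFinj)
  have hπ : ∀ x, π x = F x := fun _ => rfl
  refine ⟨π, fun x hx => hF2 x hx, fun g => ?_⟩
  rw [eq_mul_inv_iff_mul_eq]
  ext x
  rw [Equiv.Perm.mul_apply, Equiv.Perm.mul_apply, hπ, hπ]
  by_cases hx : x ∈ Δ
  · have hgx : (g : Equiv.Perm Ω) x ∈ Δ := hΔ _ g.2 x hx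
    rw [hF1 x hx, hF1 _ hgx]
    apply hinj _ (hΔ _ (φ g).2 _ (hfΔ x hx)) _ (hfΔ _ hgx)
    rw [← hf _ hgx]
    have e1 : MulAction.stabilizer G ((g : Equiv.Perm Ω) x) =
        (MulAction.stabilizer G x).map (MulAut.conj g).toMonoidHom :=
      MulAction.stabilizer_smul_eq_stabilizer_map_conj g x
    have e2 : MulAction.stabilizer G (((φ g : G) : Equiv.Perm Ω) (f x)) =
        (MulAction.stabilizer G (f x)).map (MulAut.conj (φ g)).toMonoidHom :=
      MulAction.stabilizer_smul_eq_stabilizer_map_conj (φ g) (f x)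
    rw [e1, e2, ← hf x hx, Subgroup.map_map, Subgroup.map_map]
    congr 1
    ext y
    simp
  · rw [hF2 x hx, hfix _ g.2 x hx, hF2 x hx, hfix _ (φ g).2 x hx]

theorem card_out_eq_one (G : Subgroup (Equiv.Perm Ω))
    (h : ∀ φ : MulAut G, ∃ π ∈ G, ∀ g : G,
      ((φ g : G) : Equiv.Perm Ω) = π * (g : Equiv.Perm Ω) * π⁻¹) :
    Nat.card (Cfsg.Out G) = 1 := by
  have : Cfsg.Inn G = ⊤ := by
    rw [eq_top_iff]
    intro φ _
    obtain ⟨π, hπ, h1⟩ := h φ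
    refine ⟨⟨π, hπ⟩, ?_⟩
    ext g
    rw [h1 g]
    simp
  exact Subgroup.index_eq_one.mpr this

end Cfsg.Agent.Lib.Helper3_Out
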