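import Mathlib
import Cfsg.Agent.Lib.Helper3_Out
import Cfsg.Agent.Lib.Helper3_Fixp

/-!
# helper3: automorphisms of pointwise stabilisers in `M24` are induced by permutations
-/

set_option autoImplicit false
set_option linter.unusedSectionVars false
set_option linter.constructorNameAsVariable false

namespace Cfsg.Agent.Lib.Helper3_Out2

open Cfsg Cfsg.Agent.Lib.Helper3_Golay Cfsg.Agent.Lib.Helper3_Golay2 Cfsg.Agent.Lib.Helper3_Golay3
open Cfsg.Agent.Lib.Helper3_M24a Cfsg.Agent.Lib.Helper3_PermChain Cfsg.Agent.Lib.Helper3_M24b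
open Cfsg.Agent.Lib.Helper3_M24c Cfsg.Agent.Lib.Helper3_M24d Cfsg.Agent.Lib.Helper3_M24e
open Cfsg.Agent.Lib.Helper3_M24f Cfsg.Agent.Lib.Helper3_Fast Cfsg.Agent.Lib.Helper3_Coatom
open Cfsg.Agent.Lib.Helper3_M24g Cfsg.Agent.Lib.Helper3_M24h Cfsg.Agent.Lib.Helper3_Steiner
open Cfsg.Agent.Lib.Helper3_M24i Cfsg.Agent.Lib.Helper3_M24j Cfsg.Agent.Lib.Helper3_Fixp
open Cfsg.Agent.Lib.Helper3_Out
open scoped Pointwise

theorem fix_of_map_eq {g : Equiv.Perm GolayPt} {F : List GolayPt} (h : F.map g = F) :
    ∀ a ∈ F, g a = a := by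
  have h2 : F.map g = F.map id := by rw [h, List.map_id]
  exact fun a ha => (List.map_inj_left.mp h2) a ha

/-- transitivity of a pointwise stabiliser on the remaining points -/
theorem exists_fixL_map {F : List GolayPt} (hF : F.Nodup) (xs ys : List GolayPt)
    (hlen : F.length + xs.length ≤ 5) (hl : ys.length = xs.length) (hx : (F ++ xs).Nodup)
    (hy : (F ++ ys).Nodup) : ∃ g ∈ fixL M24 F, xs.map g = ys := by
  obtain ⟨g, hg, hm⟩ := exists_map_list (5 - (F.length + xs.length)) (F ++ xs) (F ++ ys)
    (by simp; omega) (by simp [hl]) hx hy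
  rw [List.map_append] at hm
  obtain ⟨h1, h2⟩ := List.append_inj hm (by simp)
  exact ⟨g, ⟨hg, fix_of_map_eq h1⟩, h2⟩

theorem apply_notMem {G : Subgroup (Equiv.Perm GolayPt)} {F : List GolayPt}
    {g : Equiv.Perm GolayPt} (hg : g ∈ fixL G F) {x : GolayPt} (hx : x ∉ F) : g x ∉ F := by
  intro h
  have h2 := hg.2 _ h
  exact hx ((g.injective h2) ▸ h)

theorem card_fixL_cons {F : List GolayPt} (hF : F.Nodup) (h4 : F.length ≤ 4) {b : GolayPt}
    (hb : b ∉ F) : Nat.card (fixL M24 F) = (24 - F.length) * Nat.card (fixL M24 (b :: F)) := by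
  have h := card_level M24 F b (F.toFinset)ᶜ
    (by
      intro g hg
      rw [Finset.mem_compl, List.mem_toFinset]
      exact apply_notMem hg hb)
    (by
      intro c hc
      rw [Finset.mem_compl, List.mem_toFinset] at hc
      obtain ⟨g, hg, hm⟩ := exists_fixL_map hF [b] [c] (by simp; omega) rfl
        (by rw [List.nodup_append]; simp [hF]; exact fun a ha h => hb (h ▸ ha))
        (by rw [List.nodup_append]; simp [hF]; exact fun a ha h => hc (h ▸ ha))
      exact ⟨g, hg, by simpa using hm⟩)
  rw [Finset.card_compl, List.toFinset_card_of_nodup hF] at h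
  exact h

theorem card_stab_eq (G : Subgroup (Equiv.Perm GolayPt)) (F : List GolayPt) (x : GolayPt) :
    Nat.card (MulAction.stabilizer (fixL G F) x) = Nat.card (fixL G (x :: F)) := by
  refine Nat.card_congr ⟨fun y => ⟨y.1.1, y.1.2.1, ?_⟩, fun y => ⟨⟨y.1, y.2.1, ?_⟩, ?_⟩, ?_, ?_⟩
  · intro a ha
    rcases List.mem_cons.mp ha with rfl | ha
    · exact y.2
    · exact y.1.2.2 a ha
  · intro a ha
    exact y.2.2 a (List.mem_cons_of_mem _ ha)
  · exact y.2.2 x List.mem_cons_self
  · intro y; rfl
  · intro y; rfl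

theorem frame (F : List GolayPt) (hF : F.Nodup) (h2 : F.length ≤ 2)
    (hfp : ∀ H : Subgroup (Equiv.Perm GolayPt), H ≤ fixL M24 F →
      Nat.card (fixL M24 F) = (24 - F.length) * Nat.card H → ∃ c, c ∉ F ∧ ∀ g ∈ H, g c = c)
    (φ : MulAut (fixL M24 F)) :
    ∃ π : Equiv.Perm GolayPt, (∀ x ∈ F, π x = x) ∧
      ∀ g : fixL M24 F, ((φ g : fixL M24 F) : Equiv.Perm GolayPt) =
        π * (g : Equiv.Perm GolayPt) * π⁻¹ := by
  have hidx : ∀ x ∈ {x | x ∉ F}, (MulAction.stabilizer (fixL M24 F) x).index = 24 - F.length := by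
    intro x hx
    have h1 := (MulAction.stabilizer (fixL M24 F) x).index_mul_card
    rw [card_stab_eq, card_fixL_cons hF (by omega) hx] at h1
    exact Nat.eq_of_mul_eq_mul_right Nat.card_pos h1
  obtain ⟨π, h1, h3⟩ := exists_perm_of_aut (fixL M24 F) {x | x ∉ F} (24 - F.length)
    (by
      intro g hg x hx
      simp only [Set.mem_ofPred_eq, not_not] at hx
      exact hg.2 x hx)
    (fun g hg x hx => apply_notMem hg hx)
    hidx
    (by
      intro H hH
      have e1 : Nat.card (H.map (fixL M24 F).subtype) = Nat.card H :=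
        Subgroup.card_map_of_injective (Subgroup.subtype_injective _)
      obtain ⟨c, hc, hfix⟩ := hfp (H.map (fixL M24 F).subtype)
        (by
          rintro _ ⟨y, _, rfl⟩
          exact y.2)
        (by rw [e1, ← hH, H.index_mul_card])
      refine ⟨c, hc, ?_⟩
      apply Subgroup.eq_of_le_of_card_ge
      · intro y hy
        exact hfix _ ⟨y, hy, rfl⟩
      · have h5 := (MulAction.stabilizer (fixL M24 F) c).index_mul_card
        rw [hidx c hc, ← H.index_mul_card, hH] at h5
        exact (Nat.eq_of_mul_eq_mul_left (by omega) h5).le)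
    (by
      intro x hx y hy hxy
      by_contra hne
      obtain ⟨z, hz⟩ := exists_fresh (x :: y :: F) (by simp; omega)
      simp only [List.mem_cons, not_or] at hz
      simp only [Set.mem_ofPred_eq] at hx hy
      obtain ⟨g, hg, hm⟩ := exists_fixL_map hF [x, y] [x, z] (by simp; omega) rfl
        (by
          rw [List.nodup_append]
          refine ⟨hF, by simp [hne], ?_⟩
          intro a ha b hb hab
          simp only [List.mem_cons, List.not_mem_nil, or_false] at hb
          rcases hb with rfl | rfl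
          · exact hx (hab ▸ ha)
          · exact hy (hab ▸ ha))
        (by
          rw [List.nodup_append]
          refine ⟨hF, by simp [Ne.symm hz.1], ?_⟩
          intro a ha b hb hab
          simp only [List.mem_cons, List.not_mem_nil, or_false] at hb
          rcases hb with rfl | rfl
          · exact hx (hab ▸ ha)
          · exact hz.2.2 (hab ▸ ha))
      simp only [List.map_cons, List.map_nil, List.cons.injEq, and_true] at hm
      have h5 : (⟨g, hg⟩ : fixL M24 F) ∈ MulAction.stabilizer (fixL M24 F) x := hm.1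
      rw [hxy] at h5
      have h6 : g y = y := h5
      exact hz.2.1 (hm.2.symm.trans h6))
    φ
  refine ⟨π, fun x hx => h1 x (by simpa using hx), h3⟩

end Cfsg.Agent.Lib.Helper3_Out2
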