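import Mathlib
import Cfsg.Agent.Lib.Helper3_Out2

/-!
# helper3: a simplicity criterion (normal subgroups contain all elements of a prime order `p ‖ |G|`)
-/

set_option autoImplicit false
set_option linter.unusedSectionVars false
set_option linter.constructorNameAsVariable false

namespace Cfsg.Agent.Lib.Helper3_Simp

open Cfsg Cfsg.Agent.Lib.Helper3_Golay Cfsg.Agent.Lib.Helper3_Golay2 Cfsg.Agent.Lib.Helper3_Golay3
open Cfsg.Agent.Lib.Helper3_M24a Cfsg.Agent.Lib.Helper3_PermChain Cfsg.Agent.Lib.Helper3_M24b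
open Cfsg.Agent.Lib.Helper3_M24c Cfsg.Agent.Lib.Helper3_M24d Cfsg.Agent.Lib.Helper3_M24e
open Cfsg.Agent.Lib.Helper3_M24h Cfsg.Agent.Lib.Helper3_Out2
open scoped Pointwise

theorem mem_of_orderOf_prime {G : Type*} [Group G] [Finite G] {p m : ℕ} [hp : Fact p.Prime]
    (hcard : Nat.card G = p * m) (hm : ¬ p ∣ m) (N : Subgroup G) [hN : N.Normal]
    (hpN : p ∣ Nat.card N) (g : G) (hg : orderOf g = p) : g ∈ N := by
  obtain ⟨n, hn⟩ := exists_prime_orderOf_dvd_card' p hpN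
  have hn' : orderOf (n : G) = p := by rw [Subgroup.orderOf_coe]; exact hn
  have hz : ∀ x : G, orderOf x = p → IsPGroup p (Subgroup.zpowers x) := fun x hx =>
    IsPGroup.of_card (n := 1) (by rw [Nat.card_zpowers, hx, pow_one])
  obtain ⟨P, hP⟩ := (hz n.1 hn').exists_le_sylow
  obtain ⟨Q, hQ⟩ := (hz g hg).exists_le_sylow
  have hPc : Nat.card (P : Subgroup G) ≤ p := by
    obtain ⟨k, hk⟩ := IsPGroup.iff_card.mp P.isPGroup'
    have h1 : Nat.card (P : Subgroup G) ∣ p * m := hcard ▸ Subgroup.card_subgroup_dvd_card _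
    rw [hk] at h1 ⊢
    have hk1 : k ≤ 1 := by
      by_contra hc
      apply hm
      have h2 : p ^ 2 ∣ p * m := (pow_dvd_pow p (by omega)).trans h1
      rw [pow_two] at h2
      exact Nat.dvd_of_mul_dvd_mul_left hp.out.pos h2
    calc p ^ k ≤ p ^ 1 := Nat.pow_le_pow_right hp.out.pos hk1
      _ = p := pow_one p
  have hPeq : Subgroup.zpowers (n : G) = (P : Subgroup G) :=
    Subgroup.eq_of_le_of_card_ge hP (by rw [Nat.card_zpowers, hn']; exact hPc)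
  obtain ⟨c, hc⟩ := MulAction.exists_smul_eq G P Q
  have h3 : g ∈ (Q : Subgroup G) := hQ (Subgroup.mem_zpowers g)
  rw [← hc, Sylow.coe_subgroup_smul, Subgroup.mem_pointwise_smul_iff_inv_smul_mem, ← hPeq] at h3
  have h4 : (MulAut.conj c)⁻¹ • g ∈ N := by
    have : Subgroup.zpowers (n : G) ≤ N := by
      rw [Subgroup.zpowers_le]; exact n.2
    exact this h3
  have h5 := hN.conj_mem _ h4 c
  simpa [MulAut.smul_def, MulAut.conj_inv_apply, mul_assoc] using h5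

theorem isSimple_of_prime_gen {G : Type*} [Group G] [Finite G] [Nontrivial G] {p m : ℕ}
    [hp : Fact p.Prime] (hcard : Nat.card G = p * m) (hm : ¬ p ∣ m)
    (hN : ∀ N : Subgroup G, N.Normal → N ≠ ⊥ → p ∣ Nat.card N)
    (hgen : ∀ S : Subgroup G, (∀ g : G, orderOf g = p → g ∈ S) → S = ⊤) : IsSimpleGroup G where
  eq_bot_or_eq_top_of_normal N hNn := by
    by_cases hb : N = ⊥
    · exact Or.inl hb
    · right
      apply hgen
      intro g hg
      exact mem_of_orderOf_prime hcard hm N (hN N hNn hb) g hg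

section amb

variable {Ω : Type*}

theorem normal_trans {G N : Subgroup (Equiv.Perm Ω)} {Δ : Set Ω}
    (h2t : ∀ x ∈ Δ, ∀ y ∈ Δ, ∀ x' ∈ Δ, ∀ y' ∈ Δ, x ≠ y → x' ≠ y' → ∃ g ∈ G, g x = x' ∧ g y = y')
    (hΔ : ∀ g ∈ G, ∀ x ∈ Δ, g x ∈ Δ)
    (hfaith : ∀ g ∈ G, (∀ x ∈ Δ, g x = x) → g = 1)
    (hNG : N ≤ G) (hnorm : ∀ g ∈ G, ∀ n ∈ N, g * n * g⁻¹ ∈ N) (hN : N ≠ ⊥) :
    ∀ x' ∈ Δ, ∀ y' ∈ Δ, ∃ n ∈ N, n x' = y' := by
  intro x' hx' y' hy'
  by_cases hxy : x' = y'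
  · exact ⟨1, N.one_mem, hxy⟩
  obtain ⟨n, hn, hn1⟩ := (Subgroup.ne_bot_iff_exists_ne_one).mp hN |>.elim fun a ha =>
    (⟨a.1, a.2, fun h => ha (Subtype.ext h)⟩ : ∃ n, n ∈ N ∧ n ≠ 1)
  have : ∃ x ∈ Δ, n x ≠ x := by
    by_contra hc
    push Not at hc
    exact hn1 (hfaith n (hNG hn) hc)
  obtain ⟨x, hx, hnx⟩ := this
  obtain ⟨g, hg, h1, h2⟩ := h2t x hx (n x) (hΔ n (hNG hn) x hx) x' hx' y' hy' (Ne.symm hnx) hxy
  refine ⟨g * n * g⁻¹, hnorm g hg n hn, ?_⟩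
  rw [Equiv.Perm.mul_apply, Equiv.Perm.mul_apply, ← h1]
  simp [h2]

/-- no regular normal subgroup containing elements of two different orders -/
theorem no_regular {G N : Subgroup (Equiv.Perm Ω)} {Δ : Set Ω}
    (h2t : ∀ x ∈ Δ, ∀ y ∈ Δ, ∀ x' ∈ Δ, ∀ y' ∈ Δ, x ≠ y → x' ≠ y' → ∃ g ∈ G, g x = x' ∧ g y = y')
    (hΔ : ∀ g ∈ G, ∀ x ∈ Δ, g x ∈ Δ)
    (hNG : N ≤ G) (hnorm : ∀ g ∈ G, ∀ n ∈ N, g * n * g⁻¹ ∈ N) {x : Ω} (hx : x ∈ Δ)
    (hreg : ∀ n ∈ N, n x = x → n = 1) {a b : Equiv.Perm Ω} (ha : a ∈ N) (hb : b ∈ N)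
    (ha1 : a ≠ 1) (hb1 : b ≠ 1) : orderOf a = orderOf b := by
  have hax : a x ≠ x := fun h => ha1 (hreg a ha h)
  have hbx : b x ≠ x := fun h => hb1 (hreg b hb h)
  obtain ⟨g, hg, h1, h2⟩ := h2t x hx (a x) (hΔ a (hNG ha) x hx) x hx (b x) (hΔ b (hNG hb) x hx)
    (Ne.symm hax) (Ne.symm hbx)
  have hc : b⁻¹ * (g * a * g⁻¹) = 1 := by
    apply hreg _ (N.mul_mem (N.inv_mem hb) (hnorm g hg a ha))
    have h3 : g⁻¹ x = x := by rw [Equiv.Perm.inv_eq_iff_eq, h1]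
    simp only [Equiv.Perm.mul_apply, h3, h2]
    simp
  have hc2 : g * a * g⁻¹ = b := by
    rw [inv_mul_eq_one] at hc; exact hc.symm
  rw [← hc2]
  exact (MulEquiv.orderOf_eq (MulAut.conj g) a).symm

end amb

/-! ### tables -/

theorem prm_pow_pt {N : ℕ} (h : isPerm N = true) : ∀ (k i : ℕ), i < 24 →
    (prm N ^ k) (pt i) = pt ((ap N)^[k] i) := by
  intro k
  induction k with
  | zero => intro i _; simp
  | succ k ih =>
    intro i hi
    rw [pow_succ, Equiv.Perm.mul_apply, prm_pt h hi, ih _ (ap_lt h hi), Function.iterate_succ_apply]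

/-- the table has order `p` -/
def ordChk (p N : ℕ) : Bool :=
  ((List.range 24).any fun i => ap N i != i) && (List.range 24).all fun i => (ap N)^[p] i == i

theorem orderOf_prm {N p : ℕ} [hp : Fact p.Prime] (h : isPerm N = true) (hc : ordChk p N = true) :
    orderOf (prm N) = p := by
  rw [ordChk, Bool.and_eq_true, List.any_eq_true, List.all_eq_true] at hc
  obtain ⟨⟨i, hi, hne⟩, hall⟩ := hc
  rw [List.mem_range] at hi
  apply orderOf_eq_prime
  · ext q : 1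
    rw [← pt_idx q, prm_pow_pt h p _ (idx_lt q)]
    have := hall (idx q) (List.mem_range.mpr (idx_lt q))
    rw [beq_iff_eq] at this
    rw [this]; rfl
  · intro h1
    have h2 := prm_pt h hi
    rw [h1, Equiv.Perm.one_apply] at h2
    have h3 := congrArg idx h2
    rw [idx_pt _ hi, idx_pt _ (ap_lt h hi)] at h3
    simp [← h3] at hne

theorem le_lev {F : List ℕ} {b M : ℕ} (h : Level F b M) (S : Subgroup (Equiv.Perm GolayPt))
    (T : List ℕ) (hT : ∀ N ∈ T, Good S N) (hS : S ≤ M24) (hF : F.all (· < 24) = true) (hb : b < 24)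
    (hchk : chkTrans T F b M = true) (hnext : Fx (b :: F) ≤ S) : Fx F ≤ S := by
  apply le_level M24 S (F.map pt) (pt b) (↑(dec M)) h.1 _ hnext
  intro q hq
  rw [chkTrans, List.all_eq_true] at hchk
  have h1 := hchk (idx q) (List.mem_range.mpr (idx_lt q))
  rw [Finset.mem_coe, mem_dec] at hq
  rw [hq] at h1
  simp only [Bool.not_true, Bool.false_or, List.any_eq_true, Bool.and_eq_true, beq_iff_eq,
    List.all_eq_true] at h1
  obtain ⟨N, hN, h2, h3⟩ := h1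
  have hg := hT N hN
  refine ⟨prm N, ⟨hS hg.2, ?_⟩, hg.2, ?_⟩
  · intro a ha
    obtain ⟨i, hi, rfl⟩ := List.mem_map.mp ha
    have hi24 : i < 24 := by simpa using (List.all_eq_true.mp hF) i hi
    rw [prm_pt hg.1 hi24, h3 i hi]
  · rw [prm_pt hg.1 hb, h2, pt_idx]

end Cfsg.Agent.Lib.Helper3_Simp
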