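import Mathlib
import Cfsg.Agent.Lib.Helper3_Conj
import Cfsg.Agent.Lib.Helper3_Simp

/-!
# helper3: conjugacy classes of elements of order two and three in `M24`
-/

set_option autoImplicit false
set_option linter.unusedSectionVars false
set_option linter.constructorNameAsVariable false

namespace Cfsg.Agent.Lib.Helper3_ConjB

open Cfsg Cfsg.Agent.Lib.Helper3_Golay Cfsg.Agent.Lib.Helper3_Golay2 Cfsg.Agent.Lib.Helper3_Golay3
open Cfsg.Agent.Lib.Helper3_M24a Cfsg.Agent.Lib.Helper3_PermChain Cfsg.Agent.Lib.Helper3_M24b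
open Cfsg.Agent.Lib.Helper3_M24c Cfsg.Agent.Lib.Helper3_M24d Cfsg.Agent.Lib.Helper3_M24e
open Cfsg.Agent.Lib.Helper3_M24h Cfsg.Agent.Lib.Helper3_Fixp Cfsg.Agent.Lib.Helper3_Enum
open Cfsg.Agent.Lib.Helper3_Fix9 Cfsg.Agent.Lib.Helper3_Conj
open scoped Pointwise

theorem conj_apply' (k g : Equiv.Perm GolayPt) (x : GolayPt) :
    (k * g * k⁻¹) (k x) = k (g x) := by
  simp

theorem exists_moved {g : Equiv.Perm GolayPt} (h : g ≠ 1) : ∃ y, g y ≠ y := by
  by_contra hc
  push Not at hc
  exact h (Equiv.ext hc)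

theorem conj_trans {g c k t : Equiv.Perm GolayPt} (h : c * (k * g * k⁻¹) * c⁻¹ = t) :
    (c * k) * g * (c * k)⁻¹ = t := by
  rw [← h]; group

/-- involutions with a fixed point -/
theorem inv_fixed_nf {g : Equiv.Perm GolayPt} (hg : g ∈ M24) (h2 : orderOf g = 2)
    (hx : ∃ p, g p = p) : ∃ c ∈ M24, c * g * c⁻¹ = prm r2A := by
  have : Fact (Nat.Prime 2) := ⟨by norm_num⟩
  have hsq : g ^ 2 = 1 := by rw [← h2]; exact pow_orderOf_eq_one g
  have hgg : ∀ y, g (g y) = y := by
    intro y
    have := congrArg (fun f => f y) hsq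
    simpa [pow_two] using this
  have hne : g ≠ 1 := by
    intro h; rw [h, orderOf_one] at h2; norm_num at h2
  have hmod := card_modEq_fixed g 2 hsq Finset.univ (by simp)
  obtain ⟨p, hp⟩ := hx
  have hpos : 0 < (Finset.univ.filter fun y => g y = y).card :=
    Finset.card_pos.mpr ⟨p, by simp [hp]⟩
  have h1 : 1 < (Finset.univ.filter fun y => g y = y).card := by
    have h24 : (Finset.univ : Finset GolayPt).card = 24 := by decide +kernel
    rw [h24] at hmod
    have := hmod.symm
    unfold Nat.ModEq at this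
    omega
  obtain ⟨x1, hx1, x2, hx2, hx12⟩ := Finset.one_lt_card.mp h1
  rw [Finset.mem_filter] at hx1 hx2
  obtain ⟨y, hy⟩ := exists_moved hne
  have n1 : x1 ≠ y := fun h => hy (h ▸ hx1.2)
  have n2 : x2 ≠ y := fun h => hy (h ▸ hx2.2)
  have n3 : x1 ≠ g y := fun h => n1 (g.injective (hx1.2.trans h))
  have n4 : x2 ≠ g y := fun h => n2 (g.injective (hx2.2.trans h))
  obtain ⟨k, hk, hm⟩ := exists_map_list 1 [x1, x2, y, g y] [pt 23, pt 0, pt 1, pt 2] rfl rfl
    (by
      simp only [List.nodup_cons, List.mem_cons, List.not_mem_nil, or_false, not_or,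
        List.nodup_nil, and_true, not_false_eq_true]
      exact ⟨⟨hx12, n1, n3⟩, ⟨n2, n4⟩, Ne.symm hy⟩)
    (by decide +kernel)
  simp only [List.map_cons, List.map_nil, List.cons.injEq, and_true] at hm
  obtain ⟨m1, m2, m3, m4⟩ := hm
  have hU : isAut U2A = true := by decide +kernel
  have hUp := isPerm_of_isAut hU
  obtain ⟨c, hc, hcc⟩ := cls_nf U2A r2A C2A isInv hU (by decide +kernel) (by decide +kernel) chk2A
    (g := k * g * k⁻¹) (M24.mul_mem (M24.mul_mem hk hg) (M24.inv_mem hk))
    (by
      intro b hb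
      simp only [List.mem_cons, List.not_mem_nil, or_false] at hb
      rcases hb with rfl | rfl | rfl | rfl
      · rw [← m4, conj_apply', hgg, m3, m4, prm_pt hUp (by norm_num)]; decide +kernel
      · rw [← m3, conj_apply', m4, m3, prm_pt hUp (by norm_num)]; decide +kernel
      · rw [← m2, conj_apply', hx2.2, m2, prm_pt hUp (by norm_num)]; decide +kernel
      · rw [← m1, conj_apply', hx1.2, m1, prm_pt hUp (by norm_num)]; decide +kernel)
    (by
      intro x hx hgx
      apply isInv_of_sq hx
      rw [← hgx]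
      have : k * g * k⁻¹ * (k * g * k⁻¹) = k * (g ^ 2) * k⁻¹ := by rw [pow_two]; group
      rw [this, hsq]; group)
  exact ⟨c * k, M24.mul_mem hc hk, conj_trans hcc⟩

/-- fixed-point-free involutions -/
theorem inv_free_nf {g : Equiv.Perm GolayPt} (hg : g ∈ M24) (h2 : orderOf g = 2)
    (hf : ∀ p, g p ≠ p) : ∃ c ∈ M24, c * g * c⁻¹ = prm r2B := by
  have hsq : g ^ 2 = 1 := by rw [← h2]; exact pow_orderOf_eq_one g
  have hgg : ∀ y, g (g y) = y := by
    intro y
    have := congrArg (fun f => f y) hsq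
    simpa [pow_two] using this
  obtain ⟨y, hy1, hy2⟩ : ∃ y, y ≠ pt 23 ∧ y ≠ g (pt 23) := by
    have hc : 0 < ((Finset.univ : Finset GolayPt) \ {pt 23, g (pt 23)}).card := by
      have h1 := Finset.le_card_sdiff ({pt 23, g (pt 23)} : Finset GolayPt) Finset.univ
      have h2 : ({pt 23, g (pt 23)} : Finset GolayPt).card ≤ 2 := Finset.card_le_two
      have h24 : (Finset.univ : Finset GolayPt).card = 24 := by decide +kernel
      rw [h24] at h1
      omega
    obtain ⟨c, hc⟩ := Finset.card_pos.mp hc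
    rw [Finset.mem_sdiff] at hc
    simp only [Finset.mem_insert, Finset.mem_singleton, not_or] at hc
    exact ⟨c, hc.2.1, hc.2.2⟩
  have n3 : pt 23 ≠ g y := fun h => hy2 (by rw [h, hgg])
  have n4 : g (pt 23) ≠ g y := fun h => hy1 (g.injective h).symm
  obtain ⟨k, hk, hm⟩ := exists_map_list 1 [pt 23, g (pt 23), y, g y] [pt 23, pt 0, pt 1, pt 2]
    rfl rfl
    (by
      simp only [List.nodup_cons, List.mem_cons, List.not_mem_nil, or_false, not_or,
        List.nodup_nil, and_true, not_false_eq_true]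
      exact ⟨⟨(hf _).symm, hy1.symm, n3⟩, ⟨hy2.symm, n4⟩, (hf y).symm⟩)
    (by decide +kernel)
  simp only [List.map_cons, List.map_nil, List.cons.injEq, and_true] at hm
  obtain ⟨m1, m2, m3, m4⟩ := hm
  have hU : isAut U2B = true := by decide +kernel
  have hUp := isPerm_of_isAut hU
  obtain ⟨c, hc, hcc⟩ := cls_nf U2B r2B C2B (fun x => isInv x && fixc x == 0) hU
    (by decide +kernel) (by decide +kernel) chk2B
    (g := k * g * k⁻¹) (M24.mul_mem (M24.mul_mem hk hg) (M24.inv_mem hk))
    (by
      intro b hb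
      simp only [List.mem_cons, List.not_mem_nil, or_false] at hb
      rcases hb with rfl | rfl | rfl | rfl
      · rw [← m4, conj_apply', hgg, m3, m4, prm_pt hUp (by norm_num)]; decide +kernel
      · rw [← m3, conj_apply', m4, m3, prm_pt hUp (by norm_num)]; decide +kernel
      · rw [← m2, conj_apply', hgg, m1, m2, prm_pt hUp (by norm_num)]; decide +kernel
      · conv_lhs => rw [← m1]
        rw [conj_apply', m2, prm_pt hUp (by norm_num)]; decide +kernel)
    (by
      intro x hx hgx
      rw [Bool.and_eq_true, beq_iff_eq]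
      constructor
      · apply isInv_of_sq hx
        rw [← hgx]
        have : k * g * k⁻¹ * (k * g * k⁻¹) = k * (g ^ 2) * k⁻¹ := by rw [pow_two]; group
        rw [this, hsq]; group
      · apply fixc_zero_of hx
        intro p hp
        rw [← hgx] at hp
        apply hf (k⁻¹ p)
        have := congrArg (fun z => k⁻¹ z) hp
        simpa using this)
  exact ⟨c * k, M24.mul_mem hc hk, conj_trans hcc⟩

theorem fix_conj {c g t : Equiv.Perm GolayPt} (h : c * g * c⁻¹ = t) :
    (Finset.univ.filter fun p => g p = p) = c⁻¹ • (Finset.univ.filter fun p => t p = p) := by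
  ext p
  rw [Finset.mem_inv_smul_finset_iff, Finset.mem_filter, Finset.mem_filter, ← h]
  simp

theorem p2A : isPerm r2A = true := by decide +kernel
theorem p2B : isPerm r2B = true := by decide +kernel
theorem p3A : isPerm r3A = true := by decide +kernel
theorem p3B : isPerm r3B = true := by decide +kernel

theorem m2A : prm r2A ∈ M24 := prm_mem_M24 (by decide +kernel)
theorem m2B : prm r2B ∈ M24 := prm_mem_M24 (by decide +kernel)
theorem m3A : prm r3A ∈ M24 := prm_mem_M24 (by decide +kernel)
theorem m3B : prm r3B ∈ M24 := prm_mem_M24 (by decide +kernel)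

theorem o2A : orderOf (prm r2A) = 2 := by
  have : Fact (Nat.Prime 2) := ⟨by norm_num⟩
  exact Cfsg.Agent.Lib.Helper3_Simp.orderOf_prm p2A (by decide +kernel)
theorem o2B : orderOf (prm r2B) = 2 := by
  have : Fact (Nat.Prime 2) := ⟨by norm_num⟩
  exact Cfsg.Agent.Lib.Helper3_Simp.orderOf_prm p2B (by decide +kernel)
theorem o3A : orderOf (prm r3A) = 3 := by
  have : Fact (Nat.Prime 3) := ⟨by norm_num⟩
  exact Cfsg.Agent.Lib.Helper3_Simp.orderOf_prm p3A (by decide +kernel)
theorem o3B : orderOf (prm r3B) = 3 := by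
  have : Fact (Nat.Prime 3) := ⟨by norm_num⟩
  exact Cfsg.Agent.Lib.Helper3_Simp.orderOf_prm p3B (by decide +kernel)

theorem free2B : ∀ p, prm r2B p ≠ p := by
  intro p
  rw [prm_apply p2B]
  revert p
  decide +kernel

theorem free3B : ∀ p, prm r3B p ≠ p := by
  intro p
  rw [prm_apply p3B]
  revert p
  decide +kernel

def fixMask (k : ℕ) : ℕ := (List.range 24).foldr (fun i acc => (if ap k i == i then 1 else 0) + 2 * acc) 0

theorem fix2A : (Finset.univ.filter fun p => prm r2A p = p) ∈ octads := by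
  have h : (Finset.univ.filter fun p => prm r2A p = p) = dec (fixMask r2A) := by
    ext p
    rw [Finset.mem_filter, prm_apply p2A]
    revert p
    decide +kernel
  rw [h]
  exact ⟨dec_mem_of_code (by decide +kernel), by rw [card_dec]; decide +kernel⟩

theorem card_fix3A : (Finset.univ.filter fun p => prm r3A p = p).card = 6 := by
  rw [card_fixed_prm p3A]
  decide +kernel

/-- elements of order three with a fixed point -/
theorem ord3_fixed_nf {g : Equiv.Perm GolayPt} (hg : g ∈ M24) (h3 : orderOf g = 3)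
    (hx : ∃ p, g p = p) : ∃ c ∈ M24, c * g * c⁻¹ = prm r3A := by
  have : Fact (Nat.Prime 3) := ⟨by norm_num⟩
  have hcu : g ^ 3 = 1 := by rw [← h3]; exact pow_orderOf_eq_one g
  have hne : g ≠ 1 := by
    intro h; rw [h, orderOf_one] at h3; norm_num at h3
  have hmod := card_modEq_fixed g 3 hcu Finset.univ (by simp)
  obtain ⟨p, hp⟩ := hx
  have hpos : 0 < (Finset.univ.filter fun y => g y = y).card :=
    Finset.card_pos.mpr ⟨p, by simp [hp]⟩
  have h1 : 2 < (Finset.univ.filter fun y => g y = y).card := by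
    have h24 : (Finset.univ : Finset GolayPt).card = 24 := by decide +kernel
    rw [h24] at hmod
    have := hmod.symm
    unfold Nat.ModEq at this
    omega
  obtain ⟨x1, hx1, x2, hx2, x3, hx3, h12, h13, h23⟩ := Finset.two_lt_card.mp h1
  rw [Finset.mem_filter] at hx1 hx2 hx3
  obtain ⟨y, hy⟩ := exists_moved hne
  have n1 : ∀ x, g x = x → x ≠ y := fun x hx h => hy (h ▸ hx)
  have n2 : ∀ x, g x = x → x ≠ g y := fun x hx h => n1 x hx (g.injective (hx.trans h))
  obtain ⟨k, hk, hm⟩ := exists_map_list 0 [x1, x2, x3, y, g y] [pt 23, pt 0, pt 1, pt 2, pt 3]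
    rfl rfl
    (by
      simp only [List.nodup_cons, List.mem_cons, List.not_mem_nil, or_false, not_or,
        List.nodup_nil, and_true, not_false_eq_true]
      exact ⟨⟨h12, h13, n1 _ hx1.2, n2 _ hx1.2⟩, ⟨h23, n1 _ hx2.2, n2 _ hx2.2⟩,
        ⟨n1 _ hx3.2, n2 _ hx3.2⟩, Ne.symm hy⟩)
    (by decide +kernel)
  simp only [List.map_cons, List.map_nil, List.cons.injEq, and_true] at hm
  obtain ⟨m1, m2, m3, m4, m5⟩ := hm
  have hU : isAut U3A = true := by decide +kernel
  have hUp := isPerm_of_isAut hU
  obtain ⟨c, hc, hcc⟩ := cls_nf U3A r3A C3A isCube hU (by decide +kernel) (by decide +kernel) chk3A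
    (g := k * g * k⁻¹) (M24.mul_mem (M24.mul_mem hk hg) (M24.inv_mem hk))
    (by
      intro b hb
      simp only [List.mem_cons, List.not_mem_nil, or_false] at hb
      rcases hb with rfl | rfl | rfl | rfl
      · rw [← m4, conj_apply', m5, m4, prm_pt hUp (by norm_num)]; decide +kernel
      · rw [← m3, conj_apply', hx3.2, m3, prm_pt hUp (by norm_num)]; decide +kernel
      · rw [← m2, conj_apply', hx2.2, m2, prm_pt hUp (by norm_num)]; decide +kernel
      · rw [← m1, conj_apply', hx1.2, m1, prm_pt hUp (by norm_num)]; decide +kernel)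
    (by
      intro x hx hgx
      apply isCube_of hx
      rw [← hgx, conj_pow, hcu]; group)
  exact ⟨c * k, M24.mul_mem hc hk, conj_trans hcc⟩

/-- fixed-point-free elements of order three -/
theorem ord3_free_nf {g : Equiv.Perm GolayPt} (hg : g ∈ M24) (h3 : orderOf g = 3)
    (hf : ∀ p, g p ≠ p) : ∃ c ∈ M24, c * g * c⁻¹ = prm r3B := by
  have hcu : g ^ 3 = 1 := by rw [← h3]; exact pow_orderOf_eq_one g
  have hggg : ∀ y, g (g (g y)) = y := by
    intro y
    have := congrArg (fun f => f y) hcu
    simpa [pow_succ] using this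
  have a1 : ∀ y, g (g y) ≠ y := by
    intro y h
    apply hf y
    have := hggg y
    rw [h] at this
    exact this
  obtain ⟨z, hz1, hz2, hz3⟩ : ∃ z, z ≠ pt 23 ∧ z ≠ g (pt 23) ∧ z ≠ g (g (pt 23)) := by
    have hc : 0 < ((Finset.univ : Finset GolayPt) \ {pt 23, g (pt 23), g (g (pt 23))}).card := by
      have h1 := Finset.le_card_sdiff ({pt 23, g (pt 23), g (g (pt 23))} : Finset GolayPt)
        Finset.univ
      have h2 : ({pt 23, g (pt 23), g (g (pt 23))} : Finset GolayPt).card ≤ 3 :=
        Finset.card_le_three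
      have h24 : (Finset.univ : Finset GolayPt).card = 24 := by decide +kernel
      rw [h24] at h1
      omega
    obtain ⟨c, hc⟩ := Finset.card_pos.mp hc
    rw [Finset.mem_sdiff] at hc
    simp only [Finset.mem_insert, Finset.mem_singleton, not_or] at hc
    exact ⟨c, hc.2.1, hc.2.2.1, hc.2.2.2⟩
  have b1 : pt 23 ≠ g z := fun h => hz3 (g.injective (by rw [hggg, ← h]))
  have b2 : g (pt 23) ≠ g z := fun h => hz1 (g.injective h).symm
  have b3 : g (g (pt 23)) ≠ g z := fun h => hz2 (g.injective h).symm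
  obtain ⟨k, hk, hm⟩ := exists_map_list 0 [pt 23, g (pt 23), g (g (pt 23)), z, g z]
    [pt 23, pt 0, pt 1, pt 2, pt 3] rfl rfl
    (by
      simp only [List.nodup_cons, List.mem_cons, List.not_mem_nil, or_false, not_or,
        List.nodup_nil, and_true, not_false_eq_true]
      exact ⟨⟨(hf _).symm, (a1 _).symm, hz1.symm, b1⟩, ⟨(hf _).symm, hz2.symm, b2⟩,
        ⟨hz3.symm, b3⟩, (hf z).symm⟩)
    (by decide +kernel)
  simp only [List.map_cons, List.map_nil, List.cons.injEq, and_true] at hm
  obtain ⟨m1, m2, m3, m4, m5⟩ := hm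
  have hU : isAut U3B = true := by decide +kernel
  have hUp := isPerm_of_isAut hU
  obtain ⟨c, hc, hcc⟩ := cls_nf U3B r3B C3B (fun x => isCube x && fixc x == 0) hU
    (by decide +kernel) (by decide +kernel) chk3B
    (g := k * g * k⁻¹) (M24.mul_mem (M24.mul_mem hk hg) (M24.inv_mem hk))
    (by
      intro b hb
      simp only [List.mem_cons, List.not_mem_nil, or_false] at hb
      rcases hb with rfl | rfl | rfl | rfl
      · rw [← m4, conj_apply', m5, m4, prm_pt hUp (by norm_num)]; decide +kernel
      · rw [← m3, conj_apply', hggg, m1, m3, prm_pt hUp (by norm_num)]; decide +kernel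
      · rw [← m2, conj_apply', m3, m2, prm_pt hUp (by norm_num)]; decide +kernel
      · conv_lhs => rw [← m1]
        rw [conj_apply', m2, prm_pt hUp (by norm_num)]; decide +kernel)
    (by
      intro x hx hgx
      rw [Bool.and_eq_true, beq_iff_eq]
      constructor
      · apply isCube_of hx
        rw [← hgx, conj_pow, hcu]; group
      · apply fixc_zero_of hx
        intro p hp
        rw [← hgx] at hp
        apply hf (k⁻¹ p)
        have := congrArg (fun z => k⁻¹ z) hp
        simpa using this)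
  exact ⟨c * k, M24.mul_mem hc hk, conj_trans hcc⟩

end Cfsg.Agent.Lib.Helper3_ConjB
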