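import Mathlib
import Cfsg.Agent.Lib.Helper3_M24j

/-!
# helper3: explicit enumeration of small stabilisers in `M24`
-/

set_option autoImplicit false
set_option linter.unusedSectionVars false
set_option linter.constructorNameAsVariable false

namespace Cfsg.Agent.Lib.Helper3_Enum

open Cfsg Cfsg.Agent.Lib.Helper3_Golay Cfsg.Agent.Lib.Helper3_Golay2 Cfsg.Agent.Lib.Helper3_Golay3
open Cfsg.Agent.Lib.Helper3_M24a Cfsg.Agent.Lib.Helper3_PermChain Cfsg.Agent.Lib.Helper3_M24b
open Cfsg.Agent.Lib.Helper3_M24c Cfsg.Agent.Lib.Helper3_M24d Cfsg.Agent.Lib.Helper3_M24e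
open Cfsg.Agent.Lib.Helper3_M24f Cfsg.Agent.Lib.Helper3_Fast Cfsg.Agent.Lib.Helper3_Coatom
open Cfsg.Agent.Lib.Helper3_M24g Cfsg.Agent.Lib.Helper3_M24h Cfsg.Agent.Lib.Helper3_Steiner
open Cfsg.Agent.Lib.Helper3_M24i Cfsg.Agent.Lib.Helper3_M24j
open scoped Pointwise

theorem enum_step {F Ms : List ℕ} {b M : ℕ} (U : List ℕ) (hF : F.all (· < 24) = true) (hb : b < 24)
    (hU : U.all (inStb F Ms) = true) (hT : chkTr U b M = true)
    (hsub : ∀ g ∈ Stb F Ms, g (pt b) ∈ dec M) :
    ∀ g ∈ Stb F Ms, ∃ N ∈ U, isPerm N = true ∧ ∃ g' ∈ Stb (b :: F) Ms, g = prm N * g' := by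
  intro g hg
  have hq := hsub g hg
  rw [chkTr, List.all_eq_true] at hT
  have h1 := hT (idx (g (pt b))) (List.mem_range.mpr (idx_lt _))
  rw [mem_dec] at hq
  rw [hq] at h1
  simp only [Bool.not_true, Bool.false_or, List.any_eq_true, beq_iff_eq] at h1
  obtain ⟨N, hN, h2⟩ := h1
  have hgN := prm_mem_Stb hF ((List.all_eq_true.mp hU) N hN)
  refine ⟨N, hN, hgN.1, (prm N)⁻¹ * g, ?_, by simp⟩
  have h4 := (Stb F Ms).mul_mem ((Stb F Ms).inv_mem hgN.2) hg
  refine ⟨h4.1, ?_⟩
  intro a ha
  rw [List.map_cons] at ha
  rcases List.mem_cons.mp ha with rfl | ha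
  · rw [Equiv.Perm.mul_apply, Equiv.Perm.inv_eq_iff_eq, prm_pt hgN.1 hb, h2, pt_idx]
  · exact h4.2 a ha

theorem Stb_nil (F : List ℕ) : Stb F [] = Fx F := by
  rw [Stb, StM_nil]

/-- table of the composition (unverified; always checked with `isComp`) -/
def cmp (A B : ℕ) : ℕ := (List.range 24).foldr (fun i acc => ap A (ap B i) + 32 * acc) 0

def U5 : List ℕ := [984818244535754528103549039458486304, 981817674549948651020382668035590176, 972646303782634161045730064586672160, 968906083514973741211873616520742944, 967192268647656285892130118416173088, 983348392565677151799348970400253984, 962411357464364391274665116306802720, 971190925187465095387350163933956128, 965373495380530218107589411246278688, 983257403570942227315463843692808224, 981650373492508634020400455138838560, 984272839795815188486706117225154592, 978189268418984636841763657781577760, 979131409383927934299772763160184864, 961086520046113470521727546700630048, 963986539662824443053173619360860192, 967973583432999127906770890009446432, 971514113759178494102127272400652320,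 967533375121106613322417967324629024, 979003512155845838638610401681147936]
def U6 : List ℕ := [984818244535754528103549039458486304, 980504394422866046962412236452235296, 979416905286026856737440949975746592]
def U7 : List ℕ := [984818244535754528103549039458486304, 965128854020860192151391391390468128, 963721886883755259286232606933354528, 979121071158219704299181131031480352, 968708902336673183175954409307867168, 967812279691448225500382947153381408, 971592882964418941354553515258775584, 970499966350631336865513127433832480, 976448692869377735270425038196672544, 981818691054096003685363657089320992, 972512676110088067912772961567868960, 966182099583441531322624363496310816, 983548720921252936276249910206105632, 975346028712660580592452217730074656, 980224387687010295957922729495201824, 961365507626256404119956257276790816]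

theorem enum960 : ∀ g ∈ Fx [2, 1, 0, 23], ∃ a ∈ U5, ∃ b ∈ U6, ∃ c ∈ U7,
    isPerm a = true ∧ isPerm b = true ∧ isPerm c = true ∧ g = prm a * (prm b * prm c) := by
  intro g hg
  obtain ⟨a, ha, hpa, g1, hg1, rfl⟩ := enum_step (F := [2, 1, 0, 23]) (Ms := []) (b := 3) (M := Msk5) U5
    (by decide +kernel) (by decide +kernel) (by decide +kernel) (by decide +kernel)
    (by rw [Stb_nil]; exact lev5.1) g (by rw [Stb_nil]; exact hg)
  obtain ⟨b, hb, hpb, g2, hg2, rfl⟩ := enum_step (F := [3, 2, 1, 0, 23]) (Ms := []) (b := 5) (M := Msk6) U6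
    (by decide +kernel) (by decide +kernel) (by decide +kernel) (by decide +kernel)
    (by rw [Stb_nil]; exact lev6.1) g1 hg1
  obtain ⟨c, hc, hpc, g3, hg3, rfl⟩ := enum_step (F := [5, 3, 2, 1, 0, 23]) (Ms := []) (b := 4) (M := Msk7) U7
    (by decide +kernel) (by decide +kernel) (by decide +kernel) (by decide +kernel)
    (by rw [Stb_nil]; exact lev7.1) g2 hg2
  rw [Stb_nil, Fx8, Subgroup.mem_bot] at hg3
  subst hg3
  exact ⟨a, ha, b, hb, c, hc, hpa, hpb, hpc, by rw [mul_one]⟩

def chk960 (P : ℕ → Bool) : Bool :=
  U6.all fun b => U7.all fun c =>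
    isPerm (cmp b c) && isComp (cmp b c) b c && U5.all fun a =>
      isPerm (cmp a (cmp b c)) && isComp (cmp a (cmp b c)) a (cmp b c) && P (cmp a (cmp b c))

theorem forall960 (P : ℕ → Bool) (h : chk960 P = true) :
    ∀ g ∈ Fx [2, 1, 0, 23], ∃ k, isPerm k = true ∧ P k = true ∧ g = prm k := by
  intro g hg
  obtain ⟨a, ha, b, hb, c, hc, hpa, hpb, hpc, rfl⟩ := enum960 g hg
  rw [chk960, List.all_eq_true] at h
  have h1 := h b hb
  rw [List.all_eq_true] at h1
  have h2 := h1 c hc
  rw [Bool.and_eq_true, Bool.and_eq_true, List.all_eq_true] at h2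
  obtain ⟨⟨h3, h4⟩, h5⟩ := h2
  have h6 := h5 a ha
  rw [Bool.and_eq_true, Bool.and_eq_true] at h6
  obtain ⟨⟨h7, h8⟩, h9⟩ := h6
  refine ⟨_, h7, h9, ?_⟩
  rw [prm_comp h7 hpa h3 h8, prm_comp h3 hpb hpc h4]

/-! ### fixed points of tables -/

def fixc (k : ℕ) : ℕ := ((List.range 24).filter fun i => ap k i == i).length

def isInv (k : ℕ) : Bool := (List.range 24).all fun i => ap k (ap k i) == i

theorem card_fixed_prm {k : ℕ} (h : isPerm k = true) :
    (Finset.univ.filter fun y => prm k y = y).card = fixc k := by
  have h1 : (Finset.univ.filter fun y => prm k y = y).card =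
      ((Finset.range 24).filter fun i => ap k i = i).card := by
    apply Finset.card_bij (fun y _ => idx y)
    · intro y hy
      rw [Finset.mem_filter] at hy
      rw [Finset.mem_filter, Finset.mem_range]
      refine ⟨idx_lt y, ?_⟩
      rw [← idx_prm h y, hy.2]
    · intro a _ b _ hab
      rw [← pt_idx a, ← pt_idx b, hab]
    · intro i hi
      rw [Finset.mem_filter, Finset.mem_range] at hi
      refine ⟨pt i, ?_, idx_pt i hi.1⟩
      rw [Finset.mem_filter]
      exact ⟨Finset.mem_univ _, by rw [prm_pt h hi.1, hi.2]⟩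
  rw [h1, fixc]
  have : (fun i => ap k i == i) = (fun i => decide (ap k i = i)) := by
    funext i; simp [BEq.beq]
  rw [this]
  rfl

theorem isInv_of_sq {k : ℕ} (h : isPerm k = true) (h2 : prm k * prm k = 1) : isInv k = true := by
  rw [isInv, List.all_eq_true]
  intro i hi
  rw [List.mem_range] at hi
  rw [beq_iff_eq]
  have h3 := congrArg (fun f => idx (f (pt i))) h2
  simp only [Equiv.Perm.mul_apply, Equiv.Perm.one_apply] at h3
  rw [prm_pt h hi, prm_pt h (ap_lt h hi), idx_pt _ (ap_lt h (ap_lt h hi)), idx_pt _ hi] at h3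
  exact h3

theorem chk_inv : chk960 (fun k => !isInv k || k == NI || fixc k == 8) = true := by decide +kernel

/-- an involution of `M24` fixing the four base points has exactly eight fixed points -/
theorem inv_fix8 {t : Equiv.Perm GolayPt} (ht : t ∈ Fx [2, 1, 0, 23]) (h2 : t * t = 1) (h1 : t ≠ 1) :
    (Finset.univ.filter fun y => t y = y).card = 8 := by
  obtain ⟨k, hk, hP, rfl⟩ := forall960 _ chk_inv t ht
  rw [isInv_of_sq hk h2] at hP
  simp only [Bool.not_true, Bool.false_or, Bool.or_eq_true, beq_iff_eq] at hP
  rcases hP with rfl | hP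
  · exact absurd prm_NI h1
  · rw [card_fixed_prm hk, hP]

end Cfsg.Agent.Lib.Helper3_Enum
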