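import Mathlib
import Cfsg.Agent.Lib.Helper3_Out2

/-!
# helper3: permutations normalising `M24` or `M23` lie in `M24`
-/

set_option autoImplicit false
set_option linter.unusedSectionVars false
set_option linter.constructorNameAsVariable false

namespace Cfsg.Agent.Lib.Helper3_Nrm

open Cfsg Cfsg.Agent.Lib.Helper3_Golay Cfsg.Agent.Lib.Helper3_Golay2 Cfsg.Agent.Lib.Helper3_Golay3
open Cfsg.Agent.Lib.Helper3_M24a Cfsg.Agent.Lib.Helper3_PermChain Cfsg.Agent.Lib.Helper3_M24b
open Cfsg.Agent.Lib.Helper3_M24c Cfsg.Agent.Lib.Helper3_M24d Cfsg.Agent.Lib.Helper3_M24e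
open Cfsg.Agent.Lib.Helper3_M24f Cfsg.Agent.Lib.Helper3_Fast Cfsg.Agent.Lib.Helper3_Coatom
open Cfsg.Agent.Lib.Helper3_M24g Cfsg.Agent.Lib.Helper3_M24h Cfsg.Agent.Lib.Helper3_Steiner
open Cfsg.Agent.Lib.Helper3_M24i Cfsg.Agent.Lib.Helper3_M24j Cfsg.Agent.Lib.Helper3_Fixp
open Cfsg.Agent.Lib.Helper3_Out Cfsg.Agent.Lib.Helper3_Out2
open scoped Pointwise

/-- an 8-set with a pointwise stabiliser of order at least four is an octad -/
theorem oct_of_fix {X : Finset GolayPt} (hX : X.card = 8)
    (h : 4 ≤ Nat.card {g : Equiv.Perm GolayPt // g ∈ M24 ∧ ∀ p ∈ X, g p = p}) : X ∈ octads := by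
  obtain ⟨t, htX, ht⟩ := Finset.exists_subset_card_eq (show 5 ≤ X.card by omega)
  obtain ⟨b, hb, htb⟩ := exists_octad ht
  by_cases hXb : X ⊆ b
  · have := Finset.eq_of_subset_of_card_le hXb (by rw [hX, hb.2])
    rw [this]; exact hb
  · obtain ⟨x, hxX, hxb⟩ := Finset.not_subset.mp hXb
    have hxt : x ∉ t := fun h => hxb (htb h)
    have h6 : (insert x t).card = 6 := by rw [Finset.card_insert_of_notMem hxt, ht]
    have h3 := card_fix6_general h6 (by
      rintro ⟨o, ho, hs⟩
      have : o = b := octad_eq_of_five ho hb (u := t) (by omega)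
        (fun y hy => hs (Finset.mem_insert_of_mem hy)) htb
      exact hxb (this ▸ hs (Finset.mem_insert_self _ _)))
    have hle : Nat.card {g : Equiv.Perm GolayPt // g ∈ M24 ∧ ∀ p ∈ X, g p = p} ≤
        Nat.card {g : Equiv.Perm GolayPt // g ∈ M24 ∧ ∀ p ∈ insert x t, g p = p} :=
      Nat.card_le_card_of_injective
        (fun g => ⟨g.1, g.2.1, fun p hp => g.2.2 p (by
          rcases Finset.mem_insert.mp hp with rfl | hp
          · exact hxX
          · exact htX hp)⟩)
        (fun a b hab => Subtype.ext (congrArg (fun z => z.1) hab))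
    omega

/-- conjugation by `π` sends the pointwise stabiliser of an octad into `M24`: the image is an octad. -/
theorem smul_octad_of_conj {π : Equiv.Perm GolayPt} {o : Finset GolayPt} (ho : o ∈ octads)
    (h : ∀ g ∈ M24, (∀ p ∈ o, g p = p) → π * g * π⁻¹ ∈ M24) : π • o ∈ octads := by
  apply oct_of_fix
  · rw [Finset.card_smul_finset, ho.2]
  · have h16 := (octad_fixing ho).1
    have hle : Nat.card ↥(M24 ⊓ fixingSubgroup (Equiv.Perm GolayPt) (o : Set GolayPt)) ≤
        Nat.card {g : Equiv.Perm GolayPt // g ∈ M24 ∧ ∀ p ∈ π • o, g p = p} := by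
      refine Nat.card_le_card_of_injective (fun g => ⟨π * g.1 * π⁻¹, ?_, ?_⟩) ?_
      · have hg := g.2
        rw [Subgroup.mem_inf, mem_fixingSubgroup_iff] at hg
        exact h g.1 hg.1 (fun p hp => hg.2 p (Finset.mem_coe.mpr hp))
      · intro p hp
        have hg := g.2
        rw [Subgroup.mem_inf, mem_fixingSubgroup_iff] at hg
        obtain ⟨q, hq, rfl⟩ := Finset.mem_smul_finset.mp hp
        have := hg.2 q (Finset.mem_coe.mpr hq)
        rw [Equiv.Perm.smul_def] at this ⊢
        simp [Equiv.Perm.mul_apply, this]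
      · intro a b hab
        have := congrArg (fun z => z.1) hab
        simp only [mul_left_inj, mul_right_inj] at this
        exact Subtype.ext this
    omega

theorem smul_dec_fold {g : Equiv.Perm GolayPt} : ∀ L : List ℕ, (∀ o ∈ L, g • dec o ∈ Sup) →
    g • dec (L.foldr (· ^^^ ·) 0) ∈ Sup := by
  intro L
  induction L with
  | nil =>
    intro _
    have : dec 0 = ∅ := by decide +kernel
    simp only [List.foldr_nil, this, Finset.smul_finset_empty]
    exact empty_mem
  | cons a L ih =>
    intro h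
    rw [List.foldr_cons, dec_xor, smul_symmDiff]
    exact symmDiff_mem (h a List.mem_cons_self) (ih fun o ho => h o (List.mem_cons_of_mem _ ho))

/-- the basis words as sums of octads through the point `23` -/
def SpanL : List (List ℕ) := [[13062145], [9347075, 13062145], [13938692], [11100169, 13062145], [10170384], [11952160], [15515712], [13062145, 14254209], [9347075, 11731203], [12325377, 13062145], [11654144], [14919680]]

theorem spanL_ok : SpanL.map (fun L => L.foldr (· ^^^ ·) 0) = EL := by decide +kernel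

theorem spanL_oct : ∀ L ∈ SpanL, ∀ o ∈ L, code o = true ∧ popN 24 o = 8 ∧ o.testBit 23 = true := by
  decide +kernel

theorem mem_M24_of_octads {π : Equiv.Perm GolayPt}
    (h : ∀ o ∈ octads, pt 23 ∈ o → π • o ∈ octads) : π ∈ M24 := by
  apply mem_M24_of_gens
  intro m hm
  rw [← spanL_ok] at hm
  obtain ⟨L, hL, rfl⟩ := List.mem_map.mp hm
  apply smul_dec_fold
  intro o ho
  obtain ⟨h1, h2, h3⟩ := spanL_oct L hL o ho
  refine (h (dec o) ⟨dec_mem_of_code h1, by rw [card_dec, h2]⟩ ?_).1
  rw [mem_dec, idx_pt 23 (by norm_num)]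
  exact h3

theorem mem_M24_of_normalizes {π : Equiv.Perm GolayPt}
    (h : ∀ g ∈ fixL M24 [pt 23], π * g * π⁻¹ ∈ M24) : π ∈ M24 := by
  apply mem_M24_of_octads
  intro o ho h23
  apply smul_octad_of_conj ho
  intro g hg hfix
  apply h
  refine ⟨hg, ?_⟩
  intro a ha
  rw [List.mem_singleton] at ha
  rw [ha]
  exact hfix _ h23

end Cfsg.Agent.Lib.Helper3_Nrm
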