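import Mathlib
import Cfsg.Agent.Lib.Helper3_Nrm

/-!
# helper3: subgroups of index 23 in `M23` fix a point
-/

set_option autoImplicit false
set_option linter.unusedSectionVars false
set_option linter.constructorNameAsVariable false

namespace Cfsg.Agent.Lib.Helper3_FpA

open Cfsg Cfsg.Agent.Lib.Helper3_Golay Cfsg.Agent.Lib.Helper3_Golay2 Cfsg.Agent.Lib.Helper3_Golay3
open Cfsg.Agent.Lib.Helper3_M24a Cfsg.Agent.Lib.Helper3_PermChain Cfsg.Agent.Lib.Helper3_M24b
open Cfsg.Agent.Lib.Helper3_M24c Cfsg.Agent.Lib.Helper3_M24d Cfsg.Agent.Lib.Helper3_M24e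
open Cfsg.Agent.Lib.Helper3_M24f Cfsg.Agent.Lib.Helper3_Fast Cfsg.Agent.Lib.Helper3_Coatom
open Cfsg.Agent.Lib.Helper3_M24g Cfsg.Agent.Lib.Helper3_M24h Cfsg.Agent.Lib.Helper3_Steiner
open Cfsg.Agent.Lib.Helper3_M24i Cfsg.Agent.Lib.Helper3_M24j Cfsg.Agent.Lib.Helper3_Fixp
open Cfsg.Agent.Lib.Helper3_Out Cfsg.Agent.Lib.Helper3_Out2 Cfsg.Agent.Lib.Helper3_Nrm
open scoped Pointwise

theorem fixL_self {H G : Subgroup (Equiv.Perm GolayPt)} {F : List GolayPt} (hH : H ≤ fixL G F) :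
    fixL H F = H := by
  ext g
  rw [mem_fixL]
  exact ⟨fun h => h.1, fun h => ⟨h, (hH h).2⟩⟩

theorem fixed_of_card_one {K : Subgroup (Equiv.Perm GolayPt)} {O : Finset GolayPt} {b : GolayPt}
    (hb : b ∈ O) (hinv : ∀ g ∈ K, ∀ y, g y ∈ O ↔ y ∈ O) (h1 : O.card = 1) : ∀ g ∈ K, g b = b := by
  obtain ⟨c, rfl⟩ := Finset.card_eq_one.mp h1
  intro g hg
  have h2 := (hinv g hg b).mpr hb
  rw [Finset.mem_singleton] at h2 hb
  rw [h2, hb]

theorem fixed_point_M23 (H : Subgroup (Equiv.Perm GolayPt)) (hH : H ≤ fixL M24 [pt 23])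
    (hc : Nat.card (fixL M24 [pt 23]) = (24 - [pt 23].length) * Nat.card H) :
    ∃ c, c ∉ [pt 23] ∧ ∀ g ∈ H, g c = c := by
  have h0 : Nat.card (fixL M24 [pt 23]) = 10200960 := card_Fx2
  rw [h0] at hc
  simp only [List.length_cons, List.length_nil] at hc
  have hcH : Nat.card H = 443520 := by omega
  obtain ⟨O, hbO, hinv, hdis, hle, hcard, hp⟩ := step (H := H) (fun g hg => (hH hg).1) [pt 23]
    (by simp) (pt 0) (by decide +kernel)
  rw [fixL_self hH] at hinv hcard hp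
  rw [hcH] at hcard hp
  have h11 := hp 11 (by norm_num) (by norm_num) (by norm_num)
  have h7 := hp 7 (by norm_num) (by norm_num) (by norm_num)
  simp only [List.length_cons, List.length_nil] at hle h11 h7
  have hpos : 0 < O.card := Finset.card_pos.mpr ⟨_, hbO⟩
  have hdvd : O.card ∣ 443520 := ⟨_, hcard⟩
  have hcases : O.card = 1 ∨ O.card = 22 := by
    generalize O.card = n at *
    have hn : n ≤ 23 := by omega
    clear hcard hp
    interval_cases n <;> omega
  rcases hcases with h1 | h22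
  · exact ⟨pt 0, by decide +kernel, fixed_of_card_one hbO hinv h1⟩
  · exact fixed_of_compl [pt 23] (by simp) O (fun g hg => (hH hg).2) hinv hdis (by simp [h22])

end Cfsg.Agent.Lib.Helper3_FpA
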