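import Mathlib
import Cfsg.Agent.Lib.Helper3_FpA
import Cfsg.Agent.Lib.Helper3_Enum

/-!
# helper3: subgroups of index 24 in `M24` fix a point
-/

set_option autoImplicit false
set_option linter.unusedSectionVars false
set_option linter.constructorNameAsVariable false

namespace Cfsg.Agent.Lib.Helper3_FpB

open Cfsg Cfsg.Agent.Lib.Helper3_Golay Cfsg.Agent.Lib.Helper3_Golay2 Cfsg.Agent.Lib.Helper3_Golay3
open Cfsg.Agent.Lib.Helper3_M24a Cfsg.Agent.Lib.Helper3_PermChain Cfsg.Agent.Lib.Helper3_M24b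
open Cfsg.Agent.Lib.Helper3_M24c Cfsg.Agent.Lib.Helper3_M24d Cfsg.Agent.Lib.Helper3_M24e
open Cfsg.Agent.Lib.Helper3_M24f Cfsg.Agent.Lib.Helper3_Fast Cfsg.Agent.Lib.Helper3_Coatom
open Cfsg.Agent.Lib.Helper3_M24g Cfsg.Agent.Lib.Helper3_M24h Cfsg.Agent.Lib.Helper3_Steiner
open Cfsg.Agent.Lib.Helper3_M24i Cfsg.Agent.Lib.Helper3_M24j Cfsg.Agent.Lib.Helper3_Fixp
open Cfsg.Agent.Lib.Helper3_Out Cfsg.Agent.Lib.Helper3_Out2 Cfsg.Agent.Lib.Helper3_Nrm
open Cfsg.Agent.Lib.Helper3_FpA Cfsg.Agent.Lib.Helper3_Enum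
open scoped Pointwise

/-- a group of order 40 has commuting elements of orders 5 and 2 -/
theorem exists_comm_of_card_40 {K : Type*} [Group K] (hc : Nat.card K = 40) :
    ∃ g t : K, orderOf g = 5 ∧ orderOf t = 2 ∧ t * g * t⁻¹ = g := by
  have : Fact (Nat.Prime 5) := ⟨by norm_num⟩
  have : Fact (Nat.Prime 2) := ⟨by norm_num⟩
  have hfin : Finite K := Nat.finite_of_card_ne_zero (by omega)
  have hfin2 : Finite (ConjAct K) := hfin
  obtain ⟨P⟩ : Nonempty (Sylow 5 K) := inferInstance
  have h1 : Nat.card (Sylow 5 K) ≡ 1 [MOD 5] := card_sylow_modEq_one 5 K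
  have h2 : Nat.card (Sylow 5 K) ∣ (P : Subgroup K).index := P.card_dvd_index
  have h3 : ¬ 5 ∣ (P : Subgroup K).index := P.not_dvd_index
  have h4 : (P : Subgroup K).index ∣ 40 := hc ▸ Subgroup.index_dvd_card _
  have h5 : (P : Subgroup K).index ∣ 8 := by
    have hcop : Nat.Coprime (P : Subgroup K).index 5 :=
      ((Nat.Prime.coprime_iff_not_dvd (by norm_num)).mpr h3).symm
    exact Nat.Coprime.dvd_of_dvd_mul_left hcop (by norm_num; exact h4)
  have h6 : Nat.card (Sylow 5 K) = 1 := by
    have h7 := h2.trans h5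
    have h8 := Nat.le_of_dvd (by norm_num) h7
    generalize Nat.card (Sylow 5 K) = n at *
    unfold Nat.ModEq at h1
    interval_cases n <;> omega
  have hsub : Subsingleton (Sylow 5 K) := (Nat.card_eq_one_iff_unique.mp h6).1
  have hN : (P : Subgroup K).Normal := inferInstance
  have hP5 : Nat.card (P : Subgroup K) ≤ 5 := by
    obtain ⟨n, hn⟩ := IsPGroup.iff_card.mp P.isPGroup'
    have h7 : Nat.card (P : Subgroup K) ∣ 40 := hc ▸ Subgroup.card_subgroup_dvd_card _
    have hcop : Nat.Coprime (Nat.card (P : Subgroup K)) 8 := by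
      rw [hn]; exact Nat.Coprime.pow_left _ (by norm_num)
    exact Nat.le_of_dvd (by norm_num) (Nat.Coprime.dvd_of_dvd_mul_left hcop (by norm_num; exact h7))
  obtain ⟨g, hg⟩ := exists_prime_orderOf_dvd_card' (G := K) 5 (by rw [hc]; norm_num)
  have hgP : g ∈ (P : Subgroup K) := by
    have hz : IsPGroup 5 (Subgroup.zpowers g) := by
      apply IsPGroup.of_card (n := 1)
      rw [Nat.card_zpowers, hg, pow_one]
    obtain ⟨Q, hQ⟩ := hz.exists_le_sylow
    rw [Subsingleton.elim P Q]
    exact hQ (Subgroup.mem_zpowers g)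
  have hg1 : g ≠ 1 := by
    rintro rfl
    simp at hg
  -- the class of g
  have hidx := (MulAction.stabilizer (ConjAct K) g).index_mul_card
  rw [MulAction.index_stabilizer] at hidx
  have hcK : Nat.card (ConjAct K) = 40 := hc
  rw [hcK] at hidx
  have horb : (MulAction.orbit (ConjAct K) g).ncard ≤ 4 := by
    have hs : MulAction.orbit (ConjAct K) g ⊆ ((P : Subgroup K) : Set K) \ {1} := by
      rintro _ ⟨x, rfl⟩
      refine ⟨?_, ?_⟩
      · change x • g ∈ (P : Subgroup K)
        rw [ConjAct.smul_def]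
        exact hN.conj_mem g hgP _
      · simp only [Set.mem_singleton_iff]
        rw [ConjAct.smul_def]
        intro h
        apply hg1
        have : g = (ConjAct.ofConjAct x)⁻¹ * (ConjAct.ofConjAct x * g * (ConjAct.ofConjAct x)⁻¹) *
            ConjAct.ofConjAct x := by group
        rw [this, h]; group
    have h7 := Set.ncard_le_ncard hs (Set.toFinite _)
    have h8 : (((P : Subgroup K) : Set K) \ {1}).ncard = Nat.card (P : Subgroup K) - 1 := by
      rw [Set.ncard_sdiff (by simp), Set.ncard_singleton]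
      rfl
    omega
  have h2dvd : 2 ∣ Nat.card (MulAction.stabilizer (ConjAct K) g) := by
    generalize (MulAction.orbit (ConjAct K) g).ncard = c at *
    generalize Nat.card (MulAction.stabilizer (ConjAct K) g) = s at *
    interval_cases c <;> omega
  obtain ⟨t, ht⟩ := exists_prime_orderOf_dvd_card' 2 h2dvd
  refine ⟨g, ConjAct.ofConjAct t.1, hg, ?_, ?_⟩
  · rw [← ht, ← Subgroup.orderOf_coe]
    exact MulEquiv.orderOf_eq ConjAct.ofConjAct t.1
  · have := t.2
    rw [MulAction.mem_stabilizer_iff, ConjAct.smul_def] at this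
    exact this

theorem no40 (K : Subgroup (Equiv.Perm GolayPt)) (hK : K ≤ Fx [2, 1, 0, 23])
    (hc : Nat.card K = 40) : False := by
  have : Fact (Nat.Prime 5) := ⟨by norm_num⟩
  obtain ⟨⟨g, hgK⟩, ⟨t, htK⟩, hg, ht, hcomm⟩ := exists_comm_of_card_40 hc
  rw [Subgroup.orderOf_mk] at hg ht
  have hcomm' : t * g * t⁻¹ = g := congrArg Subtype.val hcomm
  have hcm : ∀ y, t (g y) = g (t y) := by
    intro y
    have h1 : t * g = g * t := by rw [← mul_inv_eq_iff_eq_mul]; exact hcomm'
    exact congrArg (fun f => f y) h1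
  have ht2 : t * t = 1 := by rw [← pow_two, ← ht]; exact pow_orderOf_eq_one t
  have ht1 : t ≠ 1 := by rintro rfl; simp at ht
  have h8 := inv_fix8 (hK htK) ht2 ht1
  have h4 := fixed_eq (hK hgK).1 (by norm_num) (by norm_num) hg
  set Fg := Finset.univ.filter fun y => g y = y with hFg
  set Ft := Finset.univ.filter fun y => t y = y with hFt
  have hF4 : ([2, 1, 0, 23].map pt).toFinset = Fg := by
    apply Finset.eq_of_subset_of_card_le
    · intro y hy
      rw [hFg, Finset.mem_filter]
      exact ⟨Finset.mem_univ _, (hK hgK).2 y (List.mem_toFinset.mp hy)⟩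
    · rw [h4]; decide +kernel
  have hsub : Fg ⊆ Ft := by
    rw [← hF4]
    intro y hy
    rw [hFt, Finset.mem_filter]
    exact ⟨Finset.mem_univ _, (hK htK).2 y (List.mem_toFinset.mp hy)⟩
  have hX : (Ft \ Fg).card = 4 := by
    rw [Finset.card_sdiff_of_subset hsub, h8, h4]
  have hmod := card_modEq_fixed g 5 (by rw [← hg]; exact pow_orderOf_eq_one g) (Ft \ Fg) (by
    intro y
    simp only [Finset.mem_sdiff, hFt, hFg, Finset.mem_filter, Finset.mem_univ, true_and]
    rw [hcm, g.injective.eq_iff, g.injective.eq_iff])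
  have hemp : ((Ft \ Fg).filter fun y => g y = y) = ∅ := by
    rw [Finset.filter_eq_empty_iff]
    intro y hy h
    rw [Finset.mem_sdiff] at hy
    exact hy.2 (by rw [hFg, Finset.mem_filter]; exact ⟨Finset.mem_univ _, h⟩)
  rw [hemp, hX] at hmod
  revert hmod
  decide

theorem fixed_point_M24 (H : Subgroup (Equiv.Perm GolayPt)) (hH : H ≤ fixL M24 [])
    (hc : Nat.card (fixL M24 []) = (24 - ([] : List GolayPt).length) * Nat.card H) :
    ∃ c, c ∉ ([] : List GolayPt) ∧ ∀ g ∈ H, g c = c := by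
  have h0 : Nat.card (fixL M24 []) = 244823040 := card_Fx1
  rw [h0] at hc
  simp only [List.length_nil] at hc
  have hcH : Nat.card H = 10200960 := by omega
  have hHM : H ≤ M24 := fun g hg => (hH hg).1
  obtain ⟨O, hbO, hinv, hdis, hle, hcard, hp⟩ := step hHM [] (by simp) (pt 23) (by simp)
  rw [fixL_nil] at hinv hcard hp
  rw [hcH] at hcard hp
  have h23 := hp 23 (by norm_num) (by norm_num) (by norm_num)
  simp only [List.length_nil] at hle h23
  have hpos : 0 < O.card := Finset.card_pos.mpr ⟨_, hbO⟩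
  have hcases : O.card = 1 ∨ O.card = 23 ∨ O.card = 24 := by omega
  rcases hcases with h1 | h1 | h1
  · exact ⟨pt 23, by simp, fixed_of_card_one hbO hinv h1⟩
  · exact fixed_of_compl [] (by simp) O (by simp) hinv hdis (by simp [h1])
  exfalso
  rw [h1] at hcard
  have hc1 : Nat.card (fixL H [pt 23]) = 425040 := by omega
  clear hbO hinv hdis hle hcard hp h23 hpos h1 O
  obtain ⟨O, hbO, -, -, hle, hcard, hp⟩ := step hHM [pt 23] (by simp) (pt 0) (by decide +kernel)
  rw [hc1] at hcard hp
  have h23 := hp 23 (by norm_num) (by norm_num) (by norm_num)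
  simp only [List.length_cons, List.length_nil] at hle h23
  have hpos : 0 < O.card := Finset.card_pos.mpr ⟨_, hbO⟩
  have h1 : O.card = 23 := by omega
  rw [h1] at hcard
  have hc2 : Nat.card (fixL H [pt 0, pt 23]) = 18480 := by omega
  clear hbO hle hcard hp h23 hpos h1 O
  obtain ⟨O, hbO, -, -, hle, hcard, hp⟩ := step hHM [pt 0, pt 23] (by decide +kernel) (pt 1)
    (by decide +kernel)
  rw [hc2] at hcard hp
  have h11 := hp 11 (by norm_num) (by norm_num) (by norm_num)
  have h7 := hp 7 (by norm_num) (by norm_num) (by norm_num)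
  simp only [List.length_cons, List.length_nil] at hle h11 h7
  have hpos : 0 < O.card := Finset.card_pos.mpr ⟨_, hbO⟩
  have h1 : O.card = 22 := by omega
  rw [h1] at hcard
  have hc3 : Nat.card (fixL H [pt 1, pt 0, pt 23]) = 840 := by omega
  clear hbO hle hcard hp h11 h7 hpos h1 O
  obtain ⟨O, hbO, -, -, hle, hcard, hp⟩ := step hHM [pt 1, pt 0, pt 23] (by decide +kernel) (pt 2)
    (by decide +kernel)
  rw [hc3] at hcard hp
  have h5 := hp 5 (by norm_num) (by norm_num) (by norm_num)
  have h7 := hp 7 (by norm_num) (by norm_num) (by norm_num)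
  simp only [List.length_cons, List.length_nil] at hle h5 h7
  have hpos : 0 < O.card := Finset.card_pos.mpr ⟨_, hbO⟩
  have h1 : O.card = 21 := by
    clear hcard hp hbO
    generalize O.card = n at *
    have hn : n ≤ 21 := by omega
    interval_cases n <;> omega
  rw [h1] at hcard
  have hc4 : Nat.card (fixL H [pt 2, pt 1, pt 0, pt 23]) = 40 := by omega
  exact no40 (fixL H [pt 2, pt 1, pt 0, pt 23]) (fun g hg => ⟨hHM hg.1, hg.2⟩) hc4

end Cfsg.Agent.Lib.Helper3_FpB
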