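import Mathlib
import Cfsg.Agent.Lib.Helper3_FpB

/-!
# helper3: a nontrivial element of `M24` fixes at most eight points; small invariant sets
-/

set_option autoImplicit false
set_option linter.unusedSectionVars false
set_option linter.constructorNameAsVariable false

namespace Cfsg.Agent.Lib.Helper3_Fix9

open Cfsg Cfsg.Agent.Lib.Helper3_Golay Cfsg.Agent.Lib.Helper3_Golay2 Cfsg.Agent.Lib.Helper3_Golay3
open Cfsg.Agent.Lib.Helper3_M24a Cfsg.Agent.Lib.Helper3_PermChain Cfsg.Agent.Lib.Helper3_M24b
open Cfsg.Agent.Lib.Helper3_M24c Cfsg.Agent.Lib.Helper3_M24d Cfsg.Agent.Lib.Helper3_M24e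
open Cfsg.Agent.Lib.Helper3_M24f Cfsg.Agent.Lib.Helper3_Fast Cfsg.Agent.Lib.Helper3_Coatom
open Cfsg.Agent.Lib.Helper3_M24g Cfsg.Agent.Lib.Helper3_M24h Cfsg.Agent.Lib.Helper3_Steiner
open Cfsg.Agent.Lib.Helper3_M24i Cfsg.Agent.Lib.Helper3_M24j Cfsg.Agent.Lib.Helper3_Fixp
open Cfsg.Agent.Lib.Helper3_Out Cfsg.Agent.Lib.Helper3_Out2 Cfsg.Agent.Lib.Helper3_Nrm
open Cfsg.Agent.Lib.Helper3_FpA Cfsg.Agent.Lib.Helper3_Enum Cfsg.Agent.Lib.Helper3_FpB
open scoped Pointwise

theorem chk_fix6 : chk960 (fun k => !(ap k 3 == 3 && ap k 4 == 4) || k == NI || fixc k == 6) = true := by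
  decide +kernel

theorem fix6_base {t : Equiv.Perm GolayPt} (ht : t ∈ Fx [4, 3, 2, 1, 0, 23]) (h1 : t ≠ 1) :
    (Finset.univ.filter fun y => t y = y).card = 6 := by
  obtain ⟨k, hk, hP, rfl⟩ := forall960 _ chk_fix6 t
    ⟨ht.1, fun a ha => ht.2 a (by
      simp only [List.map_cons, List.map_nil, List.mem_cons, List.not_mem_nil, or_false] at ha ⊢
      tauto)⟩
  have h3 : ap k 3 = 3 := by
    have := ht.2 (pt 3) (by simp)
    rw [prm_pt hk (by norm_num)] at this
    have h := congrArg idx this
    rwa [idx_pt _ (ap_lt hk (by norm_num)), idx_pt _ (by norm_num)] at h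
  have h4 : ap k 4 = 4 := by
    have := ht.2 (pt 4) (by simp)
    rw [prm_pt hk (by norm_num)] at this
    have h := congrArg idx this
    rwa [idx_pt _ (ap_lt hk (by norm_num)), idx_pt _ (by norm_num)] at h
  rw [h3, h4] at hP
  simp only [beq_self_eq_true, Bool.and_self, Bool.not_true, Bool.false_or, Bool.or_eq_true,
    beq_iff_eq] at hP
  rcases hP with rfl | hP
  · exact absurd prm_NI h1
  · rw [card_fixed_prm hk, hP]

theorem card_fixed_conj (g k : Equiv.Perm GolayPt) :
    (Finset.univ.filter fun y => (k⁻¹ * g * k) y = y).card =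
      (Finset.univ.filter fun y => g y = y).card := by
  apply Finset.card_bij (fun y _ => k y)
  · intro y hy
    rw [Finset.mem_filter] at hy ⊢
    refine ⟨Finset.mem_univ _, ?_⟩
    have := hy.2
    simp only [Equiv.Perm.mul_apply] at this
    rw [Equiv.Perm.inv_eq_iff_eq] at this
    exact this
  · intro a _ b _ h
    exact k.injective h
  · intro b hb
    rw [Finset.mem_filter] at hb
    refine ⟨k⁻¹ b, ?_, by simp⟩
    rw [Finset.mem_filter]
    refine ⟨Finset.mem_univ _, ?_⟩
    simp [Equiv.Perm.mul_apply, hb.2]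

theorem fix_le_eight {g : Equiv.Perm GolayPt} (hg : g ∈ M24) (h1 : g ≠ 1) :
    (Finset.univ.filter fun y => g y = y).card ≤ 8 := by
  by_contra hc
  set S := Finset.univ.filter fun y => g y = y with hS
  have hSm : ∀ y, y ∈ S → g y = y := fun y hy => by
    rw [hS, Finset.mem_filter] at hy; exact hy.2
  obtain ⟨t, htS, ht⟩ := Finset.exists_subset_card_eq (show 5 ≤ S.card by omega)
  obtain ⟨b, hb, htb⟩ := exists_octad ht
  have hSb : ¬ S ⊆ b := by
    intro h
    have := Finset.card_le_card h
    rw [hb.2] at this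
    omega
  obtain ⟨x, hxS, hxb⟩ := Finset.not_subset.mp hSb
  have hxt : x ∉ t := fun h => hxb (htb h)
  obtain ⟨k, hk, hkm⟩ := nf6_general (zs := t.toList) (f := x) (by simp [ht])
    (by
      rw [List.nodup_append]
      refine ⟨t.nodup_toList, by simp, ?_⟩
      intro a ha c hc hac
      rw [List.mem_singleton] at hc
      exact hxt (hc ▸ hac ▸ Finset.mem_toList.mp ha))
    (by
      rintro ⟨o, ho, hs⟩
      have : o = b := octad_eq_of_five ho hb (u := t) (by omega)
        (fun y hy => hs y (List.mem_append_left _ (Finset.mem_toList.mpr hy))) htb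
      exact hxb (this ▸ hs x (by simp)))
  have hmem : k⁻¹ * g * k ∈ Fx [4, 3, 2, 1, 0, 23] := by
    refine ⟨M24.mul_mem (M24.mul_mem (M24.inv_mem hk) hg) hk, ?_⟩
    intro a ha
    have ha' : a ∈ base6n := by
      simp only [List.map_cons, List.map_nil, List.mem_cons, List.not_mem_nil, or_false] at ha
      simp only [base6n, List.mem_cons, List.not_mem_nil, or_false]
      tauto
    have h2 : k a ∈ t.toList ++ [x] := by
      rw [← hkm]; exact List.mem_map_of_mem ha'
    have h3 : g (k a) = k a := by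
      rcases List.mem_append.mp h2 with h | h
      · exact hSm _ (htS (Finset.mem_toList.mp h))
      · rw [List.mem_singleton] at h
        rw [h]; exact hSm _ hxS
    simp [Equiv.Perm.mul_apply, h3]
  have hne : k⁻¹ * g * k ≠ 1 := by
    intro h
    apply h1
    have : g = k * (k⁻¹ * g * k) * k⁻¹ := by group
    rw [this, h]; group
  have h6 := fix6_base hmem hne
  rw [card_fixed_conj] at h6
  rw [hS] at hc
  omega

/-- a subgroup of `M24` acting on an invariant set `Y`, fixing further points, nine in all -/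
theorem card_le_factorial {H : Subgroup (Equiv.Perm GolayPt)} (hH : H ≤ M24) (F : List GolayPt)
    (hF : F.Nodup) (Y : Finset GolayPt) (hFH : ∀ g ∈ H, ∀ a ∈ F, g a = a)
    (hinv : ∀ g ∈ H, ∀ y, g y ∈ Y ↔ y ∈ Y) (hdis : ∀ a ∈ F, a ∉ Y) (h9 : 9 ≤ Y.card + F.length) :
    Nat.card H ≤ Y.card.factorial := by
  have hK : ∀ g ∈ H, g • Y = Y := by
    intro g hg
    ext y
    rw [← Finset.inv_smul_mem_iff, Equiv.Perm.smul_def]
    exact hinv g⁻¹ (H.inv_mem hg) y
  rw [card_eq_ker_mul_range H Y hK]
  have hker : (resHom H Y hK).ker = ⊥ := by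
    rw [eq_bot_iff]
    intro g hg
    rw [mem_ker_resHom] at hg
    rw [Subgroup.mem_bot]
    by_contra hne
    have hne' : (g : Equiv.Perm GolayPt) ≠ 1 := fun h => hne (Subtype.ext h)
    have h8 := fix_le_eight (hH g.2) hne'
    have hdisj : Disjoint F.toFinset Y := by
      rw [Finset.disjoint_left]
      intro a ha
      exact hdis a (List.mem_toFinset.mp ha)
    have : (F.toFinset ∪ Y).card ≤ (Finset.univ.filter fun y => (g : Equiv.Perm GolayPt) y = y).card := by
      apply Finset.card_le_card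
      intro y hy
      rw [Finset.mem_filter]
      refine ⟨Finset.mem_univ _, ?_⟩
      rcases Finset.mem_union.mp hy with hy | hy
      · exact hFH g g.2 y (List.mem_toFinset.mp hy)
      · exact hg y hy
    rw [Finset.card_union_of_disjoint hdisj, List.toFinset_card_of_nodup hF] at this
    omega
  rw [hker]
  simp only [Subgroup.card_bot, one_mul]
  calc Nat.card (resHom H Y hK).range ≤ Nat.card (Equiv.Perm Y) :=
        Nat.card_le_card_of_injective _ Subtype.val_injective
    _ = Y.card.factorial := by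
        rw [Nat.card_eq_fintype_card, Fintype.card_perm, Fintype.card_coe]

end Cfsg.Agent.Lib.Helper3_Fix9
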