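import Mathlib
import Cfsg.Agent.Lib.Helper3_Fix9

/-!
# helper3: the stabiliser of an octad induces the alternating group on it
-/

set_option autoImplicit false
set_option linter.unusedSectionVars false
set_option linter.constructorNameAsVariable false

namespace Cfsg.Agent.Lib.Helper3_Oct8

open Cfsg Cfsg.Agent.Lib.Helper3_Golay Cfsg.Agent.Lib.Helper3_Golay2 Cfsg.Agent.Lib.Helper3_Golay3
open Cfsg.Agent.Lib.Helper3_M24a Cfsg.Agent.Lib.Helper3_PermChain Cfsg.Agent.Lib.Helper3_M24b
open Cfsg.Agent.Lib.Helper3_M24c Cfsg.Agent.Lib.Helper3_M24d Cfsg.Agent.Lib.Helper3_M24e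
open Cfsg.Agent.Lib.Helper3_M24f Cfsg.Agent.Lib.Helper3_Fast Cfsg.Agent.Lib.Helper3_Coatom
open Cfsg.Agent.Lib.Helper3_M24g Cfsg.Agent.Lib.Helper3_M24h Cfsg.Agent.Lib.Helper3_Steiner
open Cfsg.Agent.Lib.Helper3_M24i Cfsg.Agent.Lib.Helper3_M24j Cfsg.Agent.Lib.Helper3_Fixp
open Cfsg.Agent.Lib.Helper3_Fix9
open scoped Pointwise

theorem smul_eq_of_fix {g : Equiv.Perm GolayPt} {E : Finset GolayPt} (h : ∀ p ∈ E, g p = p) :
    g • E = E := by
  ext p
  constructor
  · intro hp
    obtain ⟨q, hq, rfl⟩ := Finset.mem_smul_finset.mp hp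
    rw [Equiv.Perm.smul_def, h q hq]; exact hq
  · intro hp
    exact Finset.mem_smul_finset.mpr ⟨p, hp, h p hp⟩

theorem hst (o : Finset GolayPt) : ∀ g ∈ MulAction.stabilizer M24 o, g • o = o :=
  fun _ hg => MulAction.mem_stabilizer_iff.mp hg

/-- restriction of the stabiliser of `o` to `o` -/
abbrev resO (o : Finset GolayPt) : MulAction.stabilizer M24 o →* Equiv.Perm o :=
  resHom (MulAction.stabilizer M24 o) o (hst o)

theorem card_ker_res {o : Finset GolayPt} (ho : o ∈ octads) :
    Nat.card (resO o).ker = 16 := by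
  rw [← (octad_fixing ho).1]
  refine Nat.card_congr ⟨fun x => ⟨x.1.1.1, Subgroup.mem_inf.mpr ⟨x.1.1.2, ?_⟩⟩,
    fun x => ⟨⟨⟨x.1, (Subgroup.mem_inf.mp x.2).1⟩, ?_⟩, ?_⟩, ?_, ?_⟩
  · rw [mem_fixingSubgroup_iff]
    intro p hp
    exact (mem_ker_resHom _ o _ x.1).mp x.2 p (Finset.mem_coe.mp hp)
  · have h2 := (Subgroup.mem_inf.mp x.2).2
    rw [mem_fixingSubgroup_iff] at h2
    exact smul_eq_of_fix (fun p hp => h2 p (Finset.mem_coe.mpr hp))
  · rw [mem_ker_resHom]
    have h2 := (Subgroup.mem_inf.mp x.2).2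
    rw [mem_fixingSubgroup_iff] at h2
    exact fun p hp => h2 p (Finset.mem_coe.mpr hp)
  · intro x; rfl
  · intro x; rfl

theorem range_res_octad {o : Finset GolayPt} (ho : o ∈ octads) :
    (resO o).range = alternatingGroup o := by
  apply Equiv.Perm.eq_alternatingGroup_of_index_eq_two
  have h1 : Nat.card (MulAction.stabilizer M24 o) =
      Nat.card (resO o).ker * Nat.card (resO o).range :=
    card_eq_ker_mul_range (MulAction.stabilizer M24 o) o (hst o)
  rw [card_stab_octad ho, card_ker_res ho] at h1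
  have h2 := (resO o).range.index_mul_card
  rw [Nat.card_perm, Nat.card_eq_fintype_card (α := o), Fintype.card_coe, ho.2] at h2
  have h3 : Nat.factorial 8 = 40320 := rfl
  rw [h3] at h2
  have h4 : Nat.card (resO o).range = 20160 := by
    omega
  rw [h4] at h2
  omega

/-- an element of `M24` stabilising an octad induces an even permutation on it -/
theorem sign_res {o : Finset GolayPt} (ho : o ∈ octads) (g : MulAction.stabilizer M24 o) :
    Equiv.Perm.sign (resO o g) = 1 := by
  have : resO o g ∈ alternatingGroup o := by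
    rw [← range_res_octad ho]; exact ⟨g, rfl⟩
  exact Equiv.Perm.mem_alternatingGroup.mp this

end Cfsg.Agent.Lib.Helper3_Oct8
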