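import Mathlib
import Cfsg.Agent.Lib.Helper3_Oct8

/-!
# helper3: the octad stabiliser splits
-/

set_option autoImplicit false
set_option linter.unusedSectionVars false
set_option linter.constructorNameAsVariable false

namespace Cfsg.Agent.Lib.Helper3_Oct8b

open Cfsg Cfsg.Agent.Lib.Helper3_Golay Cfsg.Agent.Lib.Helper3_Golay2 Cfsg.Agent.Lib.Helper3_Golay3
open Cfsg.Agent.Lib.Helper3_M24a Cfsg.Agent.Lib.Helper3_PermChain Cfsg.Agent.Lib.Helper3_M24b
open Cfsg.Agent.Lib.Helper3_M24c Cfsg.Agent.Lib.Helper3_M24d Cfsg.Agent.Lib.Helper3_M24e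
open Cfsg.Agent.Lib.Helper3_M24f Cfsg.Agent.Lib.Helper3_Fast Cfsg.Agent.Lib.Helper3_Coatom
open Cfsg.Agent.Lib.Helper3_M24g Cfsg.Agent.Lib.Helper3_M24h Cfsg.Agent.Lib.Helper3_Steiner
open Cfsg.Agent.Lib.Helper3_M24i Cfsg.Agent.Lib.Helper3_M24j Cfsg.Agent.Lib.Helper3_Fixp
open Cfsg.Agent.Lib.Helper3_Fix9 Cfsg.Agent.Lib.Helper3_Oct8
open scoped Pointwise

theorem eq_one_of_fix9 {o : Finset GolayPt} (ho : o ∈ octads) {p : GolayPt} (hp : p ∉ o)
    {g : Equiv.Perm GolayPt} (hg : g ∈ M24) (h1 : ∀ x ∈ o, g x = x) (h2 : g p = p) : g = 1 := by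
  by_contra hne
  have h3 := fix_le_eight hg hne
  have hsub : insert p o ⊆ Finset.univ.filter fun y => g y = y := by
    intro y hy
    rw [Finset.mem_filter]
    refine ⟨Finset.mem_univ _, ?_⟩
    rcases Finset.mem_insert.mp hy with rfl | hy
    · exact h2
    · exact h1 y hy
  have h4 := Finset.card_le_card hsub
  rw [Finset.card_insert_of_notMem hp, ho.2] at h4
  omega

theorem mem_T_iff {o : Finset GolayPt} {g : Equiv.Perm GolayPt} :
    g ∈ M24 ⊓ fixingSubgroup (Equiv.Perm GolayPt) (o : Set GolayPt) ↔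
      g ∈ M24 ∧ ∀ x ∈ o, g x = x := by
  rw [Subgroup.mem_inf, mem_fixingSubgroup_iff]
  constructor
  · rintro ⟨h1, h2⟩
    exact ⟨h1, fun x hx => h2 x (Finset.mem_coe.mpr hx)⟩
  · rintro ⟨h1, h2⟩
    exact ⟨h1, fun x hx => h2 x (Finset.mem_coe.mp hx)⟩

theorem exists_T_map {o : Finset GolayPt} (ho : o ∈ octads) {p q : GolayPt} (hp : p ∉ o)
    (hq : q ∉ o) :
    ∃ t ∈ M24 ⊓ fixingSubgroup (Equiv.Perm GolayPt) (o : Set GolayPt), t p = q := by
  have hmem : ∀ t : ↥(M24 ⊓ fixingSubgroup (Equiv.Perm GolayPt) (o : Set GolayPt)),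
      t.1 p ∈ oᶜ := by
    intro t
    rw [Finset.mem_compl]
    intro h
    have := (mem_T_iff.mp t.2).2 _ h
    exact hp (by rw [← t.1.injective this]; exact h)
  let f : ↥(M24 ⊓ fixingSubgroup (Equiv.Perm GolayPt) (o : Set GolayPt)) → ↥(oᶜ) :=
    fun t => ⟨t.1 p, hmem t⟩
  have hinj : Function.Injective f := by
    intro t t' h
    have h1 : t.1 p = t'.1 p := congrArg Subtype.val h
    have h2 := mem_T_iff.mp (t'⁻¹ * t).2
    have h3 : ((t'⁻¹ * t : ↥(M24 ⊓ fixingSubgroup (Equiv.Perm GolayPt) (o : Set GolayPt))) :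
        Equiv.Perm GolayPt) = 1 := by
      refine eq_one_of_fix9 ho hp h2.1 h2.2 ?_
      simp [h1]
    have h4 : t'⁻¹ * t = 1 := Subtype.ext h3
    exact (inv_mul_eq_one.mp h4).symm
  have hbij := hinj.bijective_of_nat_card_le (by
    rw [(octad_fixing ho).1, Nat.card_eq_fintype_card, Fintype.card_coe, Finset.card_compl, ho.2]
    decide)
  obtain ⟨t, ht⟩ := hbij.2 ⟨q, Finset.mem_compl.mpr hq⟩
  exact ⟨t.1, t.2, congrArg Subtype.val ht⟩

end Cfsg.Agent.Lib.Helper3_Oct8b
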