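import Mathlib
import Cfsg.Agent.Lib.Helper3_Oct8b

/-!
# helper3: hexad stabilisers in the dodecad stabiliser
-/

set_option autoImplicit false
set_option linter.unusedSectionVars false
set_option linter.constructorNameAsVariable false

namespace Cfsg.Agent.Lib.Helper3_Hex

open Cfsg Cfsg.Agent.Lib.Helper3_Golay Cfsg.Agent.Lib.Helper3_Golay2 Cfsg.Agent.Lib.Helper3_Golay3
open Cfsg.Agent.Lib.Helper3_M24a Cfsg.Agent.Lib.Helper3_PermChain Cfsg.Agent.Lib.Helper3_M24b
open Cfsg.Agent.Lib.Helper3_M24c Cfsg.Agent.Lib.Helper3_M24d Cfsg.Agent.Lib.Helper3_M24e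
open Cfsg.Agent.Lib.Helper3_M24f Cfsg.Agent.Lib.Helper3_Fast Cfsg.Agent.Lib.Helper3_Coatom
open Cfsg.Agent.Lib.Helper3_M24g Cfsg.Agent.Lib.Helper3_M24h Cfsg.Agent.Lib.Helper3_Steiner
open Cfsg.Agent.Lib.Helper3_M24i Cfsg.Agent.Lib.Helper3_M24j Cfsg.Agent.Lib.Helper3_Fixp
open Cfsg.Agent.Lib.Helper3_Fix9 Cfsg.Agent.Lib.Helper3_Oct8
open scoped Pointwise

theorem eq_one_of_fix5_dod {d : Finset GolayPt} (hd : d ∈ dodecads) {g : Equiv.Perm GolayPt}
    (hg : g ∈ M24) (hgd : g • d = d) {S : Finset GolayPt} (hS : S ⊆ d) (h5 : 5 ≤ S.card)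
    (hfix : ∀ p ∈ S, g p = p) : g = 1 := by
  obtain ⟨t, htS, ht⟩ := Finset.exists_subset_card_eq h5
  let e := t.equivFinOfCardEq ht
  let x : Fin 5 ↪ GolayPt := ⟨fun i => (e.symm i).1, fun i j h => e.symm.injective (Subtype.ext h)⟩
  have hx : ∀ i, x i ∈ d := fun i => hS (htS (e.symm i).2)
  obtain ⟨u, hu, huniq⟩ := sharp5 hd x x hx hx
  have h1 := huniq ⟨⟨g, hg⟩, hgd⟩ (fun i => hfix _ (htS (e.symm i).2))
  have h2 := huniq 1 (fun i => rfl)
  have h3 := h1.trans h2.symm
  exact congrArg (fun z : MulAction.stabilizer M24 d => z.1.1) h3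

theorem symmDiff_oct_oct {o o' : Finset GolayPt} (ho : o ∈ octads) (ho' : o' ∈ octads)
    (h₂ : (o ∩ o').card = 2) : symmDiff o o' ∈ dodecads := by
  refine ⟨symmDiff_mem ho.1 ho'.1, ?_⟩
  have := card_symmDiff_add o o'
  rw [ho.2, ho'.2, h₂] at this
  omega

theorem stab_oct_oct_iso {o o' : Finset GolayPt} (ho : o ∈ octads) (ho' : o' ∈ octads)
    (h₂ : (o ∩ o').card = 2) :
    Nonempty (↥(MulAction.stabilizer M24 o ⊓ MulAction.stabilizer M24 o') ≃*
      Equiv.Perm (Fin 6)) := by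
  have hd := symmDiff_oct_oct ho ho' h₂
  have hE : (o \ o').card = 6 := by
    have := Finset.card_sdiff_add_card_inter o o'
    rw [ho.2, h₂] at this
    omega
  have hmem : ∀ g ∈ MulAction.stabilizer M24 o ⊓ MulAction.stabilizer M24 o',
      g • o = o ∧ g • o' = o' := fun g hg => Subgroup.mem_inf.mp hg
  have hK : ∀ g ∈ MulAction.stabilizer M24 o ⊓ MulAction.stabilizer M24 o',
      g • (o \ o') = o \ o' := by
    intro g hg
    rw [Finset.smul_finset_sdiff, (hmem g hg).1, (hmem g hg).2]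
  have hinj : Function.Injective (resHom _ (o \ o') hK) := by
    rw [← MonoidHom.ker_eq_bot_iff, eq_bot_iff]
    intro g hg
    rw [mem_ker_resHom] at hg
    have hgd : g.1 • symmDiff o o' = symmDiff o o' := by
      rw [Finset.smul_finset_symmDiff, (hmem g.1 g.2).1, (hmem g.1 g.2).2]
    have := eq_one_of_fix5_dod hd g.1.2 hgd (S := o \ o')
      (fun p hp => Finset.mem_symmDiff.mpr (Or.inl (Finset.mem_sdiff.mp hp))) (by omega) hg
    exact Subgroup.mem_bot.mpr (Subtype.ext (Subtype.ext this))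
  have hbij := hinj.bijective_of_nat_card_le (by
    rw [(card_stab_oct_oct' ho ho').2.2 h₂, Nat.card_perm, Nat.card_eq_fintype_card,
      Fintype.card_coe, hE]
    decide)
  have e6 : ↥(o \ o') ≃ Fin 6 := Fintype.equivFinOfCardEq (by rw [Fintype.card_coe, hE])
  exact ⟨(MulEquiv.ofBijective _ hbij).trans e6.permCongrHom⟩

theorem stab_dod_hex {d : Finset GolayPt} (hd : d ∈ dodecads) {o : Finset GolayPt}
    (ho : o ∈ octads) (h6 : (o ∩ d).card = 6) :
    symmDiff o d ∈ octads ∧ (o ∩ symmDiff o d).card = 2 ∧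
    MulAction.stabilizer M24 d ⊓ MulAction.stabilizer M24 (o ∩ d) =
      MulAction.stabilizer M24 o ⊓ MulAction.stabilizer M24 (symmDiff o d) := by
  have ho' : symmDiff o d ∈ octads := by
    refine ⟨symmDiff_mem ho.1 hd.1, ?_⟩
    have := card_symmDiff_add o d
    rw [ho.2, hd.2, h6] at this
    omega
  refine ⟨ho', ?_, ?_⟩
  · have h1 : o ∩ symmDiff o d = o \ d := by
      ext p
      simp only [Finset.mem_inter, Finset.mem_symmDiff, Finset.mem_sdiff]
      tauto
    rw [h1]
    have := Finset.card_sdiff_add_card_inter o d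
    rw [ho.2, h6] at this
    omega
  · ext g
    simp only [Subgroup.mem_inf, MulAction.mem_stabilizer_iff]
    constructor
    · rintro ⟨h1, h2⟩
      have h3 : g • o = o := by
        refine octad_eq_of_five (u := o ∩ d) (smul_mem_octads g.2 ho) ho (by omega) ?_
          Finset.inter_subset_left
        rw [← h2]
        exact Finset.smul_finset_subset_smul_finset Finset.inter_subset_left
      refine ⟨h3, ?_⟩
      rw [Finset.smul_finset_symmDiff, h3, h1]
    · rintro ⟨h1, h2⟩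
      have h3 : g • d = d := by
        have : d = symmDiff o (symmDiff o d) := (symmDiff_symmDiff_cancel_left o d).symm
        rw [this, Finset.smul_finset_symmDiff, h1, h2]
      refine ⟨h3, ?_⟩
      rw [Finset.smul_finset_inter, h1, h3]

end Cfsg.Agent.Lib.Helper3_Hex
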