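import Mathlib
import Cfsg.Agent.Lib.Helper3_Simp
import Cfsg.Agent.Lib.Helper3_Enum

/-!
# helper3: normal subgroups of pointwise stabilisers in `M24`
-/

set_option autoImplicit false
set_option linter.unusedSectionVars false
set_option linter.constructorNameAsVariable false

namespace Cfsg.Agent.Lib.Helper3_Simp2

open Cfsg Cfsg.Agent.Lib.Helper3_Golay Cfsg.Agent.Lib.Helper3_Golay2 Cfsg.Agent.Lib.Helper3_Golay3
open Cfsg.Agent.Lib.Helper3_M24a Cfsg.Agent.Lib.Helper3_PermChain Cfsg.Agent.Lib.Helper3_M24b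
open Cfsg.Agent.Lib.Helper3_M24c Cfsg.Agent.Lib.Helper3_M24d Cfsg.Agent.Lib.Helper3_M24e
open Cfsg.Agent.Lib.Helper3_M24h Cfsg.Agent.Lib.Helper3_Out2 Cfsg.Agent.Lib.Helper3_Simp
open Cfsg.Agent.Lib.Helper3_Enum
open scoped Pointwise

theorem h2t_fixL {F : List GolayPt} (hF : F.Nodup) (h3 : F.length ≤ 3) :
    ∀ x ∈ {x | x ∉ F}, ∀ y ∈ {x | x ∉ F}, ∀ x' ∈ {x | x ∉ F}, ∀ y' ∈ {x | x ∉ F}, x ≠ y → x' ≠ y' →
      ∃ g ∈ fixL M24 F, g x = x' ∧ g y = y' := by
  intro x hx y hy x' hx' y' hy' hxy hxy'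
  simp only [Set.mem_ofPred_eq] at hx hy hx' hy'
  have nd : ∀ a b : GolayPt, a ∉ F → b ∉ F → a ≠ b → (F ++ [a, b]).Nodup := by
    intro a b ha hb hab
    rw [List.nodup_append]
    refine ⟨hF, by simp [hab], ?_⟩
    intro c hc d hd hcd
    simp only [List.mem_cons, List.not_mem_nil, or_false] at hd
    rcases hd with rfl | rfl
    · exact ha (hcd ▸ hc)
    · exact hb (hcd ▸ hc)
  obtain ⟨g, hg, hm⟩ := exists_fixL_map hF [x, y] [x', y'] (by simp; omega) rfl (nd x y hx hy hxy)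
    (nd x' y' hx' hy' hxy')
  simp only [List.map_cons, List.map_nil, List.cons.injEq, and_true] at hm
  exact ⟨g, hg, hm.1, hm.2⟩

theorem faith_fixL {F : List GolayPt} : ∀ g ∈ fixL M24 F, (∀ x ∈ {x | x ∉ F}, g x = x) → g = 1 := by
  intro g hg h
  ext x : 1
  by_cases hx : x ∈ F
  · exact hg.2 x hx
  · exact h x hx

theorem trans_normal {F : List GolayPt} (hF : F.Nodup) (h3 : F.length ≤ 3)
    {N : Subgroup (Equiv.Perm GolayPt)} (hNG : N ≤ fixL M24 F)
    (hnorm : ∀ g ∈ fixL M24 F, ∀ n ∈ N, g * n * g⁻¹ ∈ N) (hN : N ≠ ⊥) :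
    ∀ x' ∈ {x | x ∉ F}, ∀ y' ∈ {x | x ∉ F}, ∃ n ∈ N, n x' = y' :=
  normal_trans (h2t_fixL hF h3) (fun _ hg _ hx => apply_notMem hg hx) faith_fixL hNG hnorm hN

theorem card_normal {F : List GolayPt} (hF : F.Nodup) (h3 : F.length ≤ 3)
    {N : Subgroup (Equiv.Perm GolayPt)} (hNG : N ≤ fixL M24 F)
    (hnorm : ∀ g ∈ fixL M24 F, ∀ n ∈ N, g * n * g⁻¹ ∈ N) (hN : N ≠ ⊥) {x : GolayPt} (hx : x ∉ F) :
    Nat.card N = (24 - F.length) * Nat.card (fixL N [x]) := by
  have h := card_level N [] x (F.toFinset)ᶜ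
    (by
      intro g hg
      rw [Finset.mem_compl, List.mem_toFinset]
      exact apply_notMem (hNG hg.1) hx)
    (by
      intro c hc
      rw [Finset.mem_compl, List.mem_toFinset] at hc
      obtain ⟨n, hn, h1⟩ := trans_normal hF h3 hNG hnorm hN x hx c hc
      exact ⟨n, ⟨hn, by simp⟩, h1⟩)
  rw [Finset.card_compl, List.toFinset_card_of_nodup hF, fixL_nil] at h
  exact h

/-- passage from normal subgroups of the subtype to subgroups of the ambient group -/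
theorem amb_of_normal {G : Subgroup (Equiv.Perm GolayPt)} (N : Subgroup G) (hN : N.Normal)
    (hb : N ≠ ⊥) :
    N.map G.subtype ≤ G ∧ (∀ g ∈ G, ∀ n ∈ N.map G.subtype, g * n * g⁻¹ ∈ N.map G.subtype) ∧
      N.map G.subtype ≠ ⊥ ∧ Nat.card (N.map G.subtype) = Nat.card N := by
  refine ⟨?_, ?_, ?_, Subgroup.card_map_of_injective (Subgroup.subtype_injective _)⟩
  · rintro _ ⟨y, _, rfl⟩
    exact y.2
  · rintro g hg _ ⟨y, hy, rfl⟩
    exact ⟨⟨g, hg⟩ * y * ⟨g, hg⟩⁻¹, hN.conj_mem y hy _, rfl⟩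
  · intro h
    apply hb
    rwa [Subgroup.map_eq_bot_iff_of_injective _ (Subgroup.subtype_injective _)] at h

theorem top_of_le_map {G : Subgroup (Equiv.Perm GolayPt)} (S : Subgroup G)
    (h : G ≤ S.map G.subtype) : S = ⊤ := by
  rw [eq_top_iff]
  intro g _
  obtain ⟨s, hs, he⟩ := h g.2
  have : s = g := Subtype.ext he
  exact this ▸ hs

theorem good_all (S : Subgroup (Equiv.Perm GolayPt)) (V : List ℕ) (L : List (ℕ × ℕ × ℕ × ℕ))
    (h0 : ∀ N ∈ V, Good S N) (hL : chkSLP V L = true) :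
    ∀ N ∈ L.map (fun s => s.2.1) ++ V, Good S N := by
  intro N hN
  rcases List.mem_append.mp hN with hN | hN
  · obtain ⟨s, hs, rfl⟩ := List.mem_map.mp hN
    exact chkSLP_sound S L V h0 hL s hs
  · exact h0 N hN

/-- initial tables: the identity and elements of order `p` of the stabiliser -/
theorem good_init {p : ℕ} [Fact p.Prime] (F Ms : List ℕ) (hF : F.all (· < 24) = true)
    (S : Subgroup (Equiv.Perm GolayPt))
    (h : ∀ g ∈ Stb F Ms, orderOf g = p → g ∈ S) (V : List ℕ)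
    (hc : V.all (fun N => inStb F Ms N && ordChk p N) = true) : ∀ N ∈ NI :: V, Good S N := by
  intro N hN
  rcases List.mem_cons.mp hN with rfl | hN
  · exact ⟨by decide +kernel, by rw [prm_NI]; exact S.one_mem⟩
  · have h1 := (List.all_eq_true.mp hc) N hN
    rw [Bool.and_eq_true] at h1
    have h3 := prm_mem_Stb hF h1.1
    exact ⟨h3.1, h _ h3.2 (orderOf_prm h3.1 h1.2)⟩

/-- hypotheses on subgroups of the subtype, moved to the ambient group -/
theorem gen_transfer {G : Subgroup (Equiv.Perm GolayPt)} {p : ℕ}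
    (hgen : ∀ S : Subgroup (Equiv.Perm GolayPt), S ≤ G → (∀ g ∈ G, orderOf g = p → g ∈ S) → G ≤ S) :
    ∀ S : Subgroup G, (∀ g : G, orderOf g = p → g ∈ S) → S = ⊤ := by
  intro S hS
  apply top_of_le_map
  apply hgen
  · rintro _ ⟨y, _, rfl⟩
    exact y.2
  · intro g hg ho
    exact ⟨⟨g, hg⟩, hS _ (by rw [Subgroup.orderOf_mk]; exact ho), rfl⟩

end Cfsg.Agent.Lib.Helper3_Simp2
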