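import Mathlib
import Cfsg.Agent.Lib.Helper3_Simp2

/-!
# helper3: normal subgroups of the stabiliser of a dodecad
-/

set_option autoImplicit false
set_option linter.unusedSectionVars false
set_option linter.constructorNameAsVariable false

namespace Cfsg.Agent.Lib.Helper3_Simp3

open Cfsg Cfsg.Agent.Lib.Helper3_Golay Cfsg.Agent.Lib.Helper3_Golay2 Cfsg.Agent.Lib.Helper3_Golay3
open Cfsg.Agent.Lib.Helper3_M24a Cfsg.Agent.Lib.Helper3_PermChain Cfsg.Agent.Lib.Helper3_M24b
open Cfsg.Agent.Lib.Helper3_M24c Cfsg.Agent.Lib.Helper3_M24d Cfsg.Agent.Lib.Helper3_M24e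
open Cfsg.Agent.Lib.Helper3_M24h Cfsg.Agent.Lib.Helper3_Out2 Cfsg.Agent.Lib.Helper3_Simp
open Cfsg.Agent.Lib.Helper3_Enum Cfsg.Agent.Lib.Helper3_Simp2
open scoped Pointwise

abbrev GD : Subgroup (Equiv.Perm GolayPt) := StM [D0]

theorem mem_GD {g : Equiv.Perm GolayPt} : g ∈ GD ↔ g ∈ M24 ∧ g • dec D0 = dec D0 := by
  rw [mem_StM]; simp

theorem apply_mem_D {g : Equiv.Perm GolayPt} (hg : g ∈ GD) {x : GolayPt} (hx : x ∈ dec D0) :
    g x ∈ dec D0 := by
  have := Finset.smul_mem_smul_finset (a := g) hx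
  rwa [(mem_GD.mp hg).2] at this

theorem exists_fresh_D (xs : List GolayPt) (h : xs.length < 12) : ∃ p ∈ dec D0, p ∉ xs := by
  by_contra hc
  push Not at hc
  have : (dec D0).card ≤ xs.length := by
    calc (dec D0).card ≤ xs.toFinset.card :=
          Finset.card_le_card (fun p hp => List.mem_toFinset.mpr (hc p hp))
      _ ≤ xs.length := List.toFinset_card_le xs
  rw [D0_mem.2] at this
  omega

theorem exists_map_list_D : ∀ (n : ℕ) (xs ys : List GolayPt), xs.length + n = 5 →
    ys.length = xs.length → xs.Nodup → ys.Nodup → (∀ x ∈ xs, x ∈ dec D0) → (∀ y ∈ ys, y ∈ dec D0) →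
    ∃ g ∈ GD, xs.map g = ys := by
  intro n
  induction n with
  | zero =>
    intro xs ys h5 hl hx hy hxD hyD
    obtain ⟨g, hg, hgx, hgd⟩ := dodecad_nf D0_mem xs (by omega) hx hxD
    obtain ⟨k, hk, hky, hkd⟩ := dodecad_nf D0_mem ys (by omega) hy hyD
    refine ⟨k * g⁻¹, mem_GD.mpr ⟨M24.mul_mem hk (M24.inv_mem hg), ?_⟩, ?_⟩
    · rw [mul_smul, inv_smul_eq_iff.mpr hgd.symm, hkd]
    · rw [← hgx, ← hky, List.map_map]
      apply List.map_congr_left
      intro a _
      simp
  | succ n ih =>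
    intro xs ys h5 hl hx hy hxD hyD
    obtain ⟨p, hpD, hp⟩ := exists_fresh_D xs (by omega)
    obtain ⟨q, hqD, hq⟩ := exists_fresh_D ys (by omega)
    obtain ⟨g, hg, hgm⟩ := ih (xs ++ [p]) (ys ++ [q]) (by simp; omega) (by simp [hl])
      (by rw [List.nodup_append]; simp [hx]; exact fun a ha h => hp (h ▸ ha))
      (by rw [List.nodup_append]; simp [hy]; exact fun a ha h => hq (h ▸ ha))
      (by
        intro x hx'
        rcases List.mem_append.mp hx' with h | h
        · exact hxD x h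
        · rw [List.mem_singleton] at h; rw [h]; exact hpD)
      (by
        intro x hx'
        rcases List.mem_append.mp hx' with h | h
        · exact hyD x h
        · rw [List.mem_singleton] at h; rw [h]; exact hqD)
    refine ⟨g, hg, ?_⟩
    rw [List.map_append] at hgm
    exact (List.append_inj hgm (by simp [hl])).1

theorem exists_fixL_map_D {F : List GolayPt} (hFD : ∀ a ∈ F, a ∈ dec D0) (xs ys : List GolayPt)
    (hlen : F.length + xs.length ≤ 5) (hl : ys.length = xs.length) (hx : (F ++ xs).Nodup)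
    (hy : (F ++ ys).Nodup) (hxD : ∀ a ∈ xs, a ∈ dec D0) (hyD : ∀ a ∈ ys, a ∈ dec D0) :
    ∃ g ∈ fixL GD F, xs.map g = ys := by
  obtain ⟨g, hg, hm⟩ := exists_map_list_D (5 - (F.length + xs.length)) (F ++ xs) (F ++ ys)
    (by simp; omega) (by simp [hl]) hx hy
    (by
      intro a ha
      rcases List.mem_append.mp ha with h | h
      · exact hFD a h
      · exact hxD a h)
    (by
      intro a ha
      rcases List.mem_append.mp ha with h | h
      · exact hFD a h
      · exact hyD a h)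
  rw [List.map_append] at hm
  obtain ⟨h1, h2⟩ := List.append_inj hm (by simp)
  exact ⟨g, ⟨hg, fix_of_map_eq h1⟩, h2⟩

/-- the points of the dodecad outside `F` -/
def DeltaD (F : List GolayPt) : Set GolayPt := {x | x ∈ dec D0 ∧ x ∉ F}

theorem h2t_D {F : List GolayPt} (hF : F.Nodup) (hFD : ∀ a ∈ F, a ∈ dec D0) (h3 : F.length ≤ 3) :
    ∀ x ∈ DeltaD F, ∀ y ∈ DeltaD F, ∀ x' ∈ DeltaD F, ∀ y' ∈ DeltaD F, x ≠ y → x' ≠ y' →
      ∃ g ∈ fixL GD F, g x = x' ∧ g y = y' := by
  intro x hx y hy x' hx' y' hy' hxy hxy'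
  have nd : ∀ a b : GolayPt, a ∉ F → b ∉ F → a ≠ b → (F ++ [a, b]).Nodup := by
    intro a b ha hb hab
    rw [List.nodup_append]
    refine ⟨hF, by simp [hab], ?_⟩
    intro c hc d hd hcd
    simp only [List.mem_cons, List.not_mem_nil, or_false] at hd
    rcases hd with rfl | rfl
    · exact ha (hcd ▸ hc)
    · exact hb (hcd ▸ hc)
  obtain ⟨g, hg, hm⟩ := exists_fixL_map_D hFD [x, y] [x', y'] (by simp; omega) rfl
    (nd x y hx.2 hy.2 hxy) (nd x' y' hx'.2 hy'.2 hxy')
    (by simp [hx.1, hy.1]) (by simp [hx'.1, hy'.1])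
  simp only [List.map_cons, List.map_nil, List.cons.injEq, and_true] at hm
  exact ⟨g, hg, hm.1, hm.2⟩

theorem hΔ_D {F : List GolayPt} : ∀ g ∈ fixL GD F, ∀ x ∈ DeltaD F, g x ∈ DeltaD F :=
  fun _ hg _ hx => ⟨apply_mem_D hg.1 hx.1, apply_notMem hg hx.2⟩

theorem faith_D {F : List GolayPt} : ∀ g ∈ fixL GD F, (∀ x ∈ DeltaD F, g x = x) → g = 1 := by
  intro g hg h
  have hall : ∀ x ∈ dec D0, g x = x := by
    intro x hx
    by_cases hxF : x ∈ F
    · exact hg.2 x hxF
    · exact h x ⟨hx, hxF⟩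
  have : g ∈ Stb [3, 2, 1, 0, 23] [D0] := by
    refine ⟨hg.1, ?_⟩
    intro a ha
    apply hall
    revert a
    decide +kernel
  rwa [Stb5D0, Subgroup.mem_bot] at this

theorem card_DeltaD {F : List GolayPt} (hF : F.Nodup) (hFD : ∀ a ∈ F, a ∈ dec D0) :
    (dec D0 \ F.toFinset).card = 12 - F.length := by
  rw [Finset.card_sdiff_of_subset (fun a ha => hFD a (List.mem_toFinset.mp ha)), D0_mem.2,
    List.toFinset_card_of_nodup hF]

theorem card_fixL_cons_D {F : List GolayPt} (hF : F.Nodup) (hFD : ∀ a ∈ F, a ∈ dec D0)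
    (h4 : F.length ≤ 4) {b : GolayPt} (hbD : b ∈ dec D0) (hb : b ∉ F) :
    Nat.card (fixL GD F) = (12 - F.length) * Nat.card (fixL GD (b :: F)) := by
  have h := card_level GD F b (dec D0 \ F.toFinset)
    (by
      intro g hg
      rw [Finset.mem_sdiff, List.mem_toFinset]
      exact ⟨apply_mem_D hg.1 hbD, apply_notMem hg hb⟩)
    (by
      intro c hc
      rw [Finset.mem_sdiff, List.mem_toFinset] at hc
      obtain ⟨g, hg, hm⟩ := exists_fixL_map_D hFD [b] [c] (by simp; omega) rfl
        (by rw [List.nodup_append]; simp [hF]; exact fun a ha h => hb (h ▸ ha))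
        (by rw [List.nodup_append]; simp [hF]; exact fun a ha h => hc.2 (h ▸ ha))
        (by simp [hbD]) (by simp [hc.1])
      exact ⟨g, hg, by simpa using hm⟩)
  rw [card_DeltaD hF hFD] at h
  exact h

theorem card_normal_D {F : List GolayPt} (hF : F.Nodup) (hFD : ∀ a ∈ F, a ∈ dec D0)
    (h3 : F.length ≤ 3) {N : Subgroup (Equiv.Perm GolayPt)} (hNG : N ≤ fixL GD F)
    (hnorm : ∀ g ∈ fixL GD F, ∀ n ∈ N, g * n * g⁻¹ ∈ N) (hN : N ≠ ⊥) {x : GolayPt}
    (hx : x ∈ DeltaD F) :
    Nat.card N = (12 - F.length) * Nat.card (fixL N [x]) := by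
  have h := card_level N [] x (dec D0 \ F.toFinset)
    (by
      intro g hg
      rw [Finset.mem_sdiff, List.mem_toFinset]
      exact hΔ_D g (hNG hg.1) x hx)
    (by
      intro c hc
      rw [Finset.mem_sdiff, List.mem_toFinset] at hc
      obtain ⟨n, hn, h1⟩ := normal_trans (h2t_D hF hFD h3) hΔ_D faith_D hNG hnorm hN x hx c hc
      exact ⟨n, ⟨hn, by simp⟩, h1⟩)
  rw [card_DeltaD hF hFD, fixL_nil] at h
  exact h

theorem card_D5 : Nat.card (Stb [3, 2, 1, 0, 23] [D0]) = 1 := by
  rw [Stb5D0]; simp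

theorem card_D4 : Nat.card (Stb [2, 1, 0, 23] [D0]) = 8 := by
  have := card_fixL_cons_D (F := [2, 1, 0, 23].map pt) (by decide +kernel) (by decide +kernel)
    (by simp) (b := pt 3) (by decide +kernel) (by decide +kernel)
  have h5 : Nat.card (fixL GD (pt 3 :: [2, 1, 0, 23].map pt)) = 1 := card_D5
  rw [h5] at this
  simp only [List.length_map, List.length_cons, List.length_nil] at this
  exact this

theorem card_D3 : Nat.card (Stb [1, 0, 23] [D0]) = 72 := by
  have := card_fixL_cons_D (F := [1, 0, 23].map pt) (by decide +kernel) (by decide +kernel)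
    (by simp) (b := pt 2) (by decide +kernel) (by decide +kernel)
  have h5 : Nat.card (fixL GD (pt 2 :: [1, 0, 23].map pt)) = 8 := card_D4
  rw [h5] at this
  simp only [List.length_map, List.length_cons, List.length_nil] at this
  exact this

theorem card_D2 : Nat.card (Stb [0, 23] [D0]) = 720 := by
  have := card_fixL_cons_D (F := [0, 23].map pt) (by decide +kernel) (by decide +kernel)
    (by simp) (b := pt 1) (by decide +kernel) (by decide +kernel)
  have h5 : Nat.card (fixL GD (pt 1 :: [0, 23].map pt)) = 72 := card_D3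
  rw [h5] at this
  simp only [List.length_map, List.length_cons, List.length_nil] at this
  exact this

theorem card_D1 : Nat.card (Stb [23] [D0]) = 7920 := by
  have := card_fixL_cons_D (F := [23].map pt) (by decide +kernel) (by decide +kernel)
    (by simp) (b := pt 0) (by decide +kernel) (by decide +kernel)
  have h5 : Nat.card (fixL GD (pt 0 :: [23].map pt)) = 720 := card_D2
  rw [h5] at this
  simp only [List.length_map, List.length_cons, List.length_nil] at this
  exact this

theorem card_D0 : Nat.card (Stb [] [D0]) = 95040 := by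
  have := card_fixL_cons_D (F := [].map pt) (by decide +kernel) (by decide +kernel)
    (by simp) (b := pt 23) (by decide +kernel) (by decide +kernel)
  have h5 : Nat.card (fixL GD (pt 23 :: [].map pt)) = 7920 := card_D1
  rw [h5] at this
  simp only [List.length_map, List.length_cons, List.length_nil] at this
  exact this

theorem le_levD {F : List ℕ} {b M : ℕ} (S : Subgroup (Equiv.Perm GolayPt))
    (T : List ℕ) (hT : ∀ N ∈ T, Good S N) (hS : S ≤ GD) (hF : F.all (· < 24) = true) (hb : b < 24)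
    (hbD : pt b ∈ dec D0) (hbF : pt b ∉ F.map pt)
    (hM : ∀ q, q ∈ dec D0 → q ∉ F.map pt → q ∈ dec M)
    (hchk : chkTrans T F b M = true) (hnext : Stb (b :: F) [D0] ≤ S) : Stb F [D0] ≤ S := by
  apply le_level GD S (F.map pt) (pt b) (↑(dec M))
    (fun g hg => hM _ (apply_mem_D hg.1 hbD) (apply_notMem hg hbF)) _ hnext
  intro q hq
  rw [chkTrans, List.all_eq_true] at hchk
  have h1 := hchk (idx q) (List.mem_range.mpr (idx_lt q))
  rw [Finset.mem_coe, mem_dec] at hq
  rw [hq] at h1
  simp only [Bool.not_true, Bool.false_or, List.any_eq_true, Bool.and_eq_true, beq_iff_eq,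
    List.all_eq_true] at h1
  obtain ⟨N, hN, h2, h3⟩ := h1
  have hg := hT N hN
  refine ⟨prm N, ⟨hS hg.2, ?_⟩, hg.2, ?_⟩
  · intro a ha
    obtain ⟨i, hi, rfl⟩ := List.mem_map.mp ha
    have hi24 : i < 24 := by simpa using (List.all_eq_true.mp hF) i hi
    rw [prm_pt hg.1 hi24, h3 i hi]
  · rw [prm_pt hg.1 hb, h2, pt_idx]

end Cfsg.Agent.Lib.Helper3_Simp3
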