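import Mathlib
import Cfsg.Agent.Lib.Helper3_Hex
import Cfsg.Agent.Lib.Helper3_Simp3

/-!
# helper3: three-point stabilisers in the dodecad stabiliser
-/

set_option autoImplicit false
set_option linter.unusedSectionVars false
set_option linter.constructorNameAsVariable false

namespace Cfsg.Agent.Lib.Helper3_Dod3

open Cfsg Cfsg.Agent.Lib.Helper3_Golay Cfsg.Agent.Lib.Helper3_Golay2 Cfsg.Agent.Lib.Helper3_Golay3
open Cfsg.Agent.Lib.Helper3_M24a Cfsg.Agent.Lib.Helper3_PermChain Cfsg.Agent.Lib.Helper3_M24b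
open Cfsg.Agent.Lib.Helper3_M24c Cfsg.Agent.Lib.Helper3_M24d Cfsg.Agent.Lib.Helper3_M24e
open Cfsg.Agent.Lib.Helper3_M24f Cfsg.Agent.Lib.Helper3_Fast Cfsg.Agent.Lib.Helper3_Coatom
open Cfsg.Agent.Lib.Helper3_M24g Cfsg.Agent.Lib.Helper3_M24h Cfsg.Agent.Lib.Helper3_Steiner
open Cfsg.Agent.Lib.Helper3_M24i Cfsg.Agent.Lib.Helper3_M24j Cfsg.Agent.Lib.Helper3_Fixp
open Cfsg.Agent.Lib.Helper3_Fix9 Cfsg.Agent.Lib.Helper3_Oct8 Cfsg.Agent.Lib.Helper3_Simp3
open scoped Pointwise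

/-- normal form for three points of a dodecad -/
theorem dod3_nf {d : Finset GolayPt} (hd : d ∈ dodecads) {p q r : GolayPt} (hp : p ∈ d)
    (hq : q ∈ d) (hr : r ∈ d) (hpq : p ≠ q) (hpr : p ≠ r) (hqr : q ≠ r) :
    ∃ g ∈ M24, g (pt 23) = p ∧ g (pt 0) = q ∧ g (pt 1) = r ∧ g • dec D0 = d := by
  have hc : 2 ≤ (d \ {p, q, r}).card := by
    have h1 := Finset.le_card_sdiff ({p, q, r} : Finset GolayPt) d
    have h2 : ({p, q, r} : Finset GolayPt).card ≤ 3 := Finset.card_le_three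
    rw [hd.2] at h1
    omega
  obtain ⟨t, ht, ht2⟩ := Finset.exists_subset_card_eq hc
  obtain ⟨a, b, hab, rfl⟩ := Finset.card_eq_two.mp ht2
  have ha := Finset.mem_sdiff.mp (ht (Finset.mem_insert_self a _))
  have hb := Finset.mem_sdiff.mp (ht (Finset.mem_insert_of_mem (Finset.mem_singleton_self b)))
  simp only [Finset.mem_insert, Finset.mem_singleton, not_or] at ha hb
  obtain ⟨g, hg, hm, hgd⟩ := dodecad_nf hd [p, q, r, a, b] rfl (by
    simp only [List.nodup_cons, List.mem_cons, List.not_mem_nil, or_false, not_or,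
      List.nodup_nil, and_true, not_false_eq_true]
    exact ⟨⟨hpq, hpr, Ne.symm ha.2.1, Ne.symm hb.2.1⟩, ⟨hqr, Ne.symm ha.2.2.1, Ne.symm hb.2.2.1⟩,
      ⟨Ne.symm ha.2.2.2, Ne.symm hb.2.2.2⟩, hab⟩) (by
    intro y hy
    simp only [List.mem_cons, List.not_mem_nil, or_false] at hy
    rcases hy with rfl | rfl | rfl | rfl | rfl
    · exact hp
    · exact hq
    · exact hr
    · exact ha.1
    · exact hb.1)
  simp only [baseL, List.map_cons, List.cons.injEq] at hm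
  exact ⟨g, hg, hm.1, hm.2.1, hm.2.2.1, hgd⟩

theorem mem_K3 {d : Finset GolayPt} {p q r : GolayPt} {x : M24} :
    x ∈ MulAction.stabilizer M24 d ⊓ MulAction.stabilizer M24 p ⊓ MulAction.stabilizer M24 q ⊓
      MulAction.stabilizer M24 r ↔ x.1 • d = d ∧ x.1 p = p ∧ x.1 q = q ∧ x.1 r = r := by
  simp only [Subgroup.mem_inf, and_assoc]
  exact Iff.rfl

theorem card_K3 {d : Finset GolayPt} (hd : d ∈ dodecads) {p q r : GolayPt} (hp : p ∈ d)
    (hq : q ∈ d) (hr : r ∈ d) (hpq : p ≠ q) (hpr : p ≠ r) (hqr : q ≠ r) :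
    Nat.card ↥(MulAction.stabilizer M24 d ⊓ MulAction.stabilizer M24 p ⊓
      MulAction.stabilizer M24 q ⊓ MulAction.stabilizer M24 r) = 72 := by
  obtain ⟨g, hg, rfl, rfl, rfl, rfl⟩ := dod3_nf hd hp hq hr hpq hpr hqr
  rw [← card_D3]
  refine Nat.card_congr ⟨fun x => ⟨g⁻¹ * x.1.1 * g, ?_⟩,
    fun x => ⟨⟨g * x.1 * g⁻¹, M24.mul_mem (M24.mul_mem hg (Stb_le _ _ x.2)) (M24.inv_mem hg)⟩, ?_⟩,
    ?_, ?_⟩
  · have hx := mem_K3.mp x.2
    rw [mem_Stb]
    refine ⟨M24.mul_mem (M24.mul_mem (M24.inv_mem hg) x.1.2) hg, ?_, ?_⟩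
    · intro m hm
      rw [List.mem_singleton] at hm
      subst hm
      rw [mul_smul, mul_smul, hx.1, inv_smul_smul]
    · intro i hi
      simp only [List.mem_cons, List.not_mem_nil, or_false] at hi
      rcases hi with rfl | rfl | rfl
      · rw [Equiv.Perm.mul_apply, Equiv.Perm.mul_apply, hx.2.2.2]; simp
      · rw [Equiv.Perm.mul_apply, Equiv.Perm.mul_apply, hx.2.2.1]; simp
      · rw [Equiv.Perm.mul_apply, Equiv.Perm.mul_apply, hx.2.1]; simp
  · have hx := mem_Stb.mp x.2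
    rw [mem_K3]
    refine ⟨?_, ?_, ?_, ?_⟩
    · change (g * x.1 * g⁻¹) • g • dec D0 = g • dec D0
      rw [mul_smul, mul_smul, inv_smul_smul, hx.2.1 D0 (by simp)]
    · change (g * x.1 * g⁻¹) (g (pt 23)) = g (pt 23)
      rw [Equiv.Perm.mul_apply, Equiv.Perm.mul_apply]
      simp [hx.2.2 23 (by simp)]
    · change (g * x.1 * g⁻¹) (g (pt 0)) = g (pt 0)
      rw [Equiv.Perm.mul_apply, Equiv.Perm.mul_apply]
      simp [hx.2.2 0 (by simp)]
    · change (g * x.1 * g⁻¹) (g (pt 1)) = g (pt 1)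
      rw [Equiv.Perm.mul_apply, Equiv.Perm.mul_apply]
      simp [hx.2.2 1 (by simp)]
  · intro x; apply Subtype.ext; apply Subtype.ext; simp only; group
  · intro x; apply Subtype.ext; simp only; group

theorem smul_compl_eq {g : Equiv.Perm GolayPt} {d : Finset GolayPt} : g • dᶜ = dᶜ ↔ g • d = d := by
  rw [Finset.compl_eq_univ_sdiff, Finset.smul_finset_sdiff, Finset.smul_finset_univ,
    ← Finset.compl_eq_univ_sdiff, ← Finset.compl_eq_univ_sdiff, compl_inj_iff]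

/-- the dodecad stabiliser is transitive outside the dodecad -/
theorem trans_outside {d : Finset GolayPt} (hd : d ∈ dodecads) {x y : GolayPt} (hx : x ∉ d)
    (hy : y ∉ d) : ∃ g ∈ M24, g • d = d ∧ g x = y := by
  obtain ⟨k1, hk1, hk1p, hk1d⟩ := dodecad_flag_nf (compl_mem_dodecads hd) (Finset.mem_compl.mpr hx)
  obtain ⟨k2, hk2, hk2p, hk2d⟩ := dodecad_flag_nf (compl_mem_dodecads hd) (Finset.mem_compl.mpr hy)
  refine ⟨k2 * k1⁻¹, M24.mul_mem hk2 (M24.inv_mem hk1), ?_, ?_⟩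
  · rw [← smul_compl_eq, mul_smul, ← hk1d, inv_smul_smul, hk2d, hk1d]
  · rw [Equiv.Perm.mul_apply, ← hk1p, ← hk2p]; simp

theorem trans_K3 {d : Finset GolayPt} (hd : d ∈ dodecads) {p q r : GolayPt} (hp : p ∈ d)
    (hq : q ∈ d) (hr : r ∈ d) (hpq : p ≠ q) (hpr : p ≠ r) (hqr : q ≠ r) {x y : GolayPt}
    (hx : x ∉ d) (hy : y ∉ d) :
    ∃ g ∈ (MulAction.stabilizer M24 d ⊓ MulAction.stabilizer M24 p ⊓
      MulAction.stabilizer M24 q ⊓ MulAction.stabilizer M24 r),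
      ((g : ↥M24) : Equiv.Perm GolayPt) x = y := by
  obtain ⟨h, hh, hhd, hhx⟩ := trans_outside hd hx hy
  have hin : ∀ z ∈ d, h z ∈ d := fun z hz => smul_mem_of_smul_eq hhd hz
  obtain ⟨k, hk, hkx⟩ := threeTrans_outside (compl_mem_dodecads hd) (Finset.mem_compl.mpr hy)
    ⟨![h p, h q, h r], by
      intro i j hij
      fin_cases i <;> fin_cases j <;> simp_all⟩
    ⟨![p, q, r], by
      intro i j hij
      fin_cases i <;> fin_cases j <;> simp_all⟩
    (by
      intro i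
      rw [Finset.mem_compl, not_not]
      fin_cases i
      · exact hin p hp
      · exact hin q hq
      · exact hin r hr)
    (by
      intro i
      rw [Finset.mem_compl, not_not]
      fin_cases i
      · exact hp
      · exact hq
      · exact hr)
  have hk' : k.1 • dᶜ = dᶜ ∧ k.1 y = y := Subgroup.mem_inf.mp hk
  refine ⟨k * ⟨h, hh⟩, mem_K3.mpr ⟨?_, ?_, ?_, ?_⟩, ?_⟩
  · change (k.1 * h) • d = d
    rw [mul_smul, hhd, smul_compl_eq.mp hk'.1]
  · exact hkx 0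
  · exact hkx 1
  · exact hkx 2
  · change k.1 (h x) = y
    rw [hhx, hk'.2]

end Cfsg.Agent.Lib.Helper3_Dod3
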