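import Mathlib
import Cfsg.Agent.Lib.Helper3_ConjB
import Cfsg.Agent.Lib.Helper3_Hex
import Cfsg.Prelude.Def_Spor_Mathieu

/-!
# helper3: the 12-point action of M11 is elusive
-/

set_option autoImplicit false

namespace Cfsg.Agent.Lib.Helper3_Elus

open Cfsg
open scoped Pointwise

theorem elusive (g : Equiv.Perm Cfsg.GolayPt) (hg : g ∈ Cfsg.Spor.M11) (hord : (orderOf g).Prime) :
    ∃ x : Cfsg.GolayPt, x ∉ Cfsg.Spor.squareDodecad ∧ g x = x := by
  have hd : Cfsg.Spor.squareDodecad ∈ Cfsg.dodecads := by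
    refine ⟨⟨Cfsg.qrWord 0, Submodule.subset_span (Or.inl ⟨0, rfl⟩), rfl⟩, ?_⟩
    decide +kernel
  obtain ⟨⟨hgM, hgd⟩, hg0⟩ : (g ∈ Cfsg.M24 ∧ g • Cfsg.Spor.squareDodecad = Cfsg.Spor.squareDodecad) ∧
      g (some 0) = some 0 := hg
  have hne : g ≠ 1 := by
    intro h
    rw [h, orderOf_one] at hord
    exact Nat.not_prime_one hord
  have h4 : ((Finset.univ.filter fun p => g p = p) ∩ Cfsg.Spor.squareDodecad).card ≤ 4 := by
    by_contra hc
    apply hne
    apply Cfsg.Agent.Lib.Helper3_Hex.eq_one_of_fix5_dod hd hgM hgd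
      (S := (Finset.univ.filter fun p => g p = p) ∩ Cfsg.Spor.squareDodecad)
      Finset.inter_subset_right (by omega)
    intro p hp
    exact (Finset.mem_filter.mp (Finset.mem_inter.mp hp).1).2
  have hfin : 5 ≤ (Finset.univ.filter fun p => g p = p).card →
      ∃ x : Cfsg.GolayPt, x ∉ Cfsg.Spor.squareDodecad ∧ g x = x := by
    intro h5
    have h1 := Finset.card_sdiff_add_card_inter (Finset.univ.filter fun p => g p = p)
      Cfsg.Spor.squareDodecad
    have h2 : 0 < ((Finset.univ.filter fun p => g p = p) \ Cfsg.Spor.squareDodecad).card := by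
      omega
    obtain ⟨x, hx⟩ := Finset.card_pos.mp h2
    rw [Finset.mem_sdiff, Finset.mem_filter] at hx
    exact ⟨x, hx.2, hx.1.2⟩
  by_cases h2 : orderOf g = 2
  · obtain ⟨c, hc, hcc⟩ := Cfsg.Agent.Lib.Helper3_ConjB.inv_fixed_nf hgM h2 ⟨_, hg0⟩
    apply hfin
    rw [Cfsg.Agent.Lib.Helper3_ConjB.fix_conj hcc, Finset.card_smul_finset,
      Cfsg.Agent.Lib.Helper3_ConjB.fix2A.2]
    norm_num
  by_cases h3 : orderOf g = 3
  · obtain ⟨c, hc, hcc⟩ := Cfsg.Agent.Lib.Helper3_ConjB.ord3_fixed_nf hgM h3 ⟨_, hg0⟩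
    apply hfin
    rw [Cfsg.Agent.Lib.Helper3_ConjB.fix_conj hcc, Finset.card_smul_finset,
      Cfsg.Agent.Lib.Helper3_ConjB.card_fix3A]
    norm_num
  have : Fact (orderOf g).Prime := ⟨hord⟩
  have hinv : ∀ y, g y ∈ Cfsg.Spor.squareDodecadᶜ ↔ y ∈ Cfsg.Spor.squareDodecadᶜ := by
    intro y
    rw [Finset.mem_compl, Finset.mem_compl, not_iff_not]
    constructor
    · intro h
      have h2 : g • y ∈ g • Cfsg.Spor.squareDodecad := by rw [hgd]; exact h
      exact (Finset.smul_mem_smul_finset_iff g).mp h2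
    · intro h
      have := Finset.smul_mem_smul_finset (a := g) h
      rwa [hgd] at this
  have hmod := Cfsg.Agent.Lib.Helper3_Fixp.card_modEq_fixed g (orderOf g) (pow_orderOf_eq_one g)
    Cfsg.Spor.squareDodecadᶜ hinv
  rw [(Cfsg.Agent.Lib.Helper3_M24g.compl_mem_dodecads hd).2] at hmod
  have hpos : 0 < (Cfsg.Spor.squareDodecadᶜ.filter fun y => g y = y).card := by
    by_contra hc
    have h0 : (Cfsg.Spor.squareDodecadᶜ.filter fun y => g y = y).card = 0 := by omega
    rw [h0] at hmod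
    have hdvd : orderOf g ∣ 12 := (Nat.modEq_zero_iff_dvd).mp hmod
    have hle : orderOf g ≤ 12 := Nat.le_of_dvd (by norm_num) hdvd
    generalize orderOf g = n at *
    interval_cases n <;> first | omega | (exfalso; revert hord; norm_num) | (exfalso; revert hdvd; norm_num)
  obtain ⟨x, hx⟩ := Finset.card_pos.mp hpos
  rw [Finset.mem_filter, Finset.mem_compl] at hx
  exact ⟨x, hx.1, hx.2⟩

end Cfsg.Agent.Lib.Helper3_Elus
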