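import Mathlib
import Cfsg.Prelude.Def_Sporadic_a

/-!
# helper3: bit-mask model of the length-24 code
-/

set_option autoImplicit false
set_option linter.unusedSectionVars false

namespace Cfsg.Agent.Lib.Helper3_Golay

open Cfsg

/-- index of a point: residues `0..22`, the extra point is `23`. -/
def idx : GolayPt → ℕ
  | none => 23
  | some x => x.val

/-- the word with a given bit mask -/
def wd (m : ℕ) : GolayPt → ZMod 2 := fun p => if m.testBit (idx p) then 1 else 0

theorem wd_zero : wd 0 = 0 := by
  funext p; simp [wd]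

theorem wd_xor (a b : ℕ) : wd (a ^^^ b) = wd a + wd b := by
  funext p
  simp only [wd, Nat.testBit_xor, Pi.add_apply]
  cases a.testBit (idx p) <;> cases b.testBit (idx p) <;> decide

/-- xor-combination of a list of masks selected by the bits of `n`. -/
def combL : List ℕ → ℕ → ℕ
  | [], _ => 0
  | m :: ms, n => (if n % 2 = 1 then m else 0) ^^^ combL ms (n / 2)

theorem wd_combL_mem (ms : List ℕ) : ∀ n : ℕ,
    wd (combL ms n) ∈ Submodule.span (ZMod 2) (wd '' {m | m ∈ ms}) := by
  induction ms with
  | nil => intro n; simp [combL, wd_zero]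
  | cons m ms ih =>
    intro n
    rw [combL, wd_xor]
    apply Submodule.add_mem
    · split_ifs
      · exact Submodule.subset_span ⟨m, by simp, rfl⟩
      · rw [wd_zero]; exact Submodule.zero_mem _
    · exact Submodule.span_mono (Set.image_mono (by intro x hx; simp at hx ⊢; exact Or.inr hx)) (ih _)

/-- check a predicate on all xor-combinations. -/
def allComb : List ℕ → ℕ → (ℕ → Bool) → Bool
  | [], acc, P => P acc
  | m :: ms, acc, P => allComb ms acc P && allComb ms (acc ^^^ m) P

theorem allComb_spec (ms : List ℕ) : ∀ (acc : ℕ) (P : ℕ → Bool), allComb ms acc P = true →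
    ∀ w ∈ Submodule.span (ZMod 2) (wd '' {m | m ∈ ms}), ∃ x, w = wd x ∧ P (acc ^^^ x) = true := by
  induction ms with
  | nil =>
    intro acc P h w hw
    simp at hw
    exact ⟨0, by rw [hw, wd_zero], by simpa [allComb] using h⟩
  | cons m ms ih =>
    intro acc P h w hw
    rw [allComb, Bool.and_eq_true] at h
    have hset : wd '' {x | x ∈ m :: ms} = insert (wd m) (wd '' {x | x ∈ ms}) := by
      ext v; simp [Set.mem_image, eq_comm]
    rw [hset, Submodule.mem_span_insert] at hw
    obtain ⟨a, z, hz, rfl⟩ := hw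
    have ha : a = 0 ∨ a = 1 := by revert a; decide
    rcases ha with rfl | rfl
    · obtain ⟨x, hx, hP⟩ := ih acc P h.1 z hz
      exact ⟨x, by simp [hx], hP⟩
    · obtain ⟨x, hx, hP⟩ := ih (acc ^^^ m) P h.2 z hz
      refine ⟨m ^^^ x, by rw [wd_xor, hx, one_smul], ?_⟩
      rw [← Nat.xor_assoc]; exact hP

/-- masks of the 23 translates of the squares. -/
def QL : List ℕ := [340831, 681662, 1363324, 2726648, 5453296, 2517985, 5035970, 1683333, 3366666, 6733332, 5078057, 1767507, 3535014, 7070028, 5751449, 3114291, 6228582, 4068557, 8137114, 7885621, 7382635, 6376663, 4364719]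

/-- the systematic basis (twelve octads). -/
def EL : List ℕ := [13062145, 4845570, 13938692, 7221256, 10170384, 11952160, 15515712, 2019456,
  4038912, 8077824, 11654144, 14919680]

set_option maxRecDepth 100000 in
theorem qrWord_eq : ∀ t : ZMod 23, ∀ p : GolayPt, qrWord t p = wd (QL.getD t.val 0) p := by
  decide +kernel

theorem one_eq : (1 : GolayPt → ZMod 2) = wd 16777215 := by
  funext p
  revert p
  decide +kernel

/-- all generator masks -/
def GenL : List ℕ := QL ++ [16777215]

theorem wd_mem_of_mem_GL : ∀ m ∈ GenL, wd m ∈ golayCode := by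
  have h1 : ∀ m ∈ GenL, (∃ t : ZMod 23, QL.getD t.val 0 = m) ∨ m = 16777215 := by decide +kernel
  intro m hm
  rcases h1 m hm with ⟨t, rfl⟩ | rfl
  · have : qrWord t = wd (QL.getD t.val 0) := funext (qrWord_eq t)
    rw [← this]
    exact Submodule.subset_span (Or.inl ⟨t, rfl⟩)
  · rw [← one_eq]
    exact Submodule.subset_span (Or.inr rfl)

theorem span_GL_le : Submodule.span (ZMod 2) (wd '' {m | m ∈ GenL}) ≤ golayCode := by
  rw [Submodule.span_le]
  rintro _ ⟨m, hm, rfl⟩
  exact wd_mem_of_mem_GL m hm

theorem wd_mem_of_mem_EL : ∀ m ∈ EL, wd m ∈ golayCode := by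
  have h1 : ∀ m ∈ EL, ∃ d ∈ [8390313, 280, 8389785, 1400, 8390330, 8390551, 8390093, 2000, 1347, 101,
      8390243, 8390181], combL GenL d = m := by decide +kernel
  intro m hm
  obtain ⟨d, _, rfl⟩ := h1 m hm
  exact span_GL_le (wd_combL_mem GenL d)

/-- membership test for the code. -/
def code (x : ℕ) : Bool := combL EL (x % 4096) == x

theorem wd_mem_of_code {x : ℕ} (h : code x = true) : wd x ∈ golayCode := by
  have h1 : combL EL (x % 4096) = x := by simpa [code] using h
  rw [← h1]
  have := wd_combL_mem EL (x % 4096)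
  refine (Submodule.span_le.mpr ?_) this
  rintro _ ⟨m, hm, rfl⟩
  exact wd_mem_of_mem_EL m hm

theorem golayCode_eq : golayCode = Submodule.span (ZMod 2) (wd '' {m | m ∈ EL}) := by
  apply le_antisymm
  · unfold golayCode
    rw [Submodule.span_le]
    have h1 : ∀ m ∈ GenL, combL EL (m % 4096) = m := by decide +kernel
    have h2 : ∀ t : ZMod 23, QL.getD t.val 0 ∈ GenL := by decide +kernel
    rintro w (⟨t, rfl⟩ | rfl)
    · have : qrWord t = wd (QL.getD t.val 0) := funext (qrWord_eq t)
      rw [this, ← h1 _ (h2 t)]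
      exact wd_combL_mem EL _
    · have h3 : (1 : GolayPt → ZMod 2) = wd (combL EL (16777215 % 4096)) := by
        rw [h1 16777215 (by decide +kernel)]; exact one_eq
      change (1 : GolayPt → ZMod 2) ∈ _
      rw [h3]
      exact wd_combL_mem EL _
  · rw [Submodule.span_le]
    rintro _ ⟨m, hm, rfl⟩
    exact wd_mem_of_mem_EL m hm

/-- reflection: a Boolean property checked on the 4096 code masks holds for all code words. -/
theorem forall_code (P : ℕ → Bool) (h : allComb EL 0 P = true) :
    ∀ w ∈ golayCode, ∃ x, w = wd x ∧ P x = true := by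
  intro w hw
  rw [golayCode_eq] at hw
  obtain ⟨x, hx, hP⟩ := allComb_spec EL 0 P h w hw
  exact ⟨x, hx, by simpa using hP⟩

end Cfsg.Agent.Lib.Helper3_Golay
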