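import Mathlib
import Cfsg.Agent.Lib.Helper3_Golay

/-!
# helper3: bit-mask model of the length-24 code, II: weights, supports
-/

set_option autoImplicit false
set_option linter.unusedSectionVars false

namespace Cfsg.Agent.Lib.Helper3_Golay2

open Cfsg Cfsg.Agent.Lib.Helper3_Golay

/-- number of ones among the lowest `k` bits. -/
def popN : ℕ → ℕ → ℕ
  | 0, _ => 0
  | k + 1, m => m % 2 + popN k (m / 2)

theorem popN_eq_sum (k : ℕ) : ∀ m : ℕ, popN k m = ∑ i ∈ Finset.range k, if m.testBit i then 1 else 0 := by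
  induction k with
  | zero => intro m; simp [popN]
  | succ k ih =>
    intro m
    rw [popN, ih, Finset.sum_range_succ', add_comm]
    congr 1
    · apply Finset.sum_congr rfl
      intro i _
      rw [Nat.testBit_succ]
    · rw [Nat.testBit_zero]
      rcases Nat.mod_two_eq_zero_or_one m with h | h <;> simp [h]

theorem sum_idx {M : Type*} [AddCommMonoid M] (f : ℕ → M) :
    ∑ p : GolayPt, f (idx p) = ∑ i ∈ Finset.range 24, f i := by
  rw [Fintype.sum_option, Finset.sum_range_succ, add_comm]
  congr 1

/-- the set with a given bit mask -/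
def dec (m : ℕ) : Finset GolayPt := Finset.univ.filter fun p => m.testBit (idx p) = true

theorem mem_dec {m : ℕ} {p : GolayPt} : p ∈ dec m ↔ m.testBit (idx p) = true := by
  simp [dec]

theorem support_wd (m : ℕ) : support₂ (wd m) = dec m := by
  ext p
  simp only [support₂, wd, dec, Finset.mem_filter, Finset.mem_univ, true_and]
  cases h : m.testBit (idx p) <;> simp [h]

theorem card_dec (m : ℕ) : (dec m).card = popN 24 m := by
  rw [popN_eq_sum, dec, Finset.card_filter]
  exact sum_idx (fun i => if m.testBit i = true then 1 else 0)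

theorem hammingNorm_wd (m : ℕ) : hammingNorm (wd m) = popN 24 m := by
  rw [← card_dec, ← support_wd]
  rfl

theorem dec_and (a b : ℕ) : dec (a &&& b) = dec a ∩ dec b := by
  ext p; simp [mem_dec, Nat.testBit_and]

theorem dec_or (a b : ℕ) : dec (a ||| b) = dec a ∪ dec b := by
  ext p; simp [mem_dec, Nat.testBit_or]

theorem dec_xor (a b : ℕ) : dec (a ^^^ b) = symmDiff (dec a) (dec b) := by
  ext p
  simp only [mem_dec, Nat.testBit_xor, Finset.mem_symmDiff]
  cases a.testBit (idx p) <;> cases b.testBit (idx p) <;> simp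

theorem exists_idx {i : ℕ} (hi : i < 24) : ∃ p : GolayPt, idx p = i := by
  revert i
  decide +kernel

theorem idx_lt (p : GolayPt) : idx p < 24 := by
  revert p
  decide +kernel

theorem idx_injective : Function.Injective idx := by
  intro p q
  revert p q
  decide +kernel

theorem dec_injOn {a b : ℕ} (ha : a < 2 ^ 24) (hb : b < 2 ^ 24) (h : dec a = dec b) : a = b := by
  apply Nat.eq_of_testBit_eq
  intro i
  by_cases hi : i < 24
  · obtain ⟨p, rfl⟩ := exists_idx hi
    have : p ∈ dec a ↔ p ∈ dec b := by rw [h]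
    rw [mem_dec, mem_dec] at this
    cases h1 : a.testBit (idx p) <;> cases h2 : b.testBit (idx p) <;> simp_all
  · have h24 : 2 ^ 24 ≤ 2 ^ i := Nat.pow_le_pow_right (by norm_num) (by omega)
    rw [Nat.testBit_lt_two_pow (lt_of_lt_of_le ha h24), Nat.testBit_lt_two_pow (lt_of_lt_of_le hb h24)]

theorem wd_eq_iff_dec {a b : ℕ} : wd a = wd b ↔ dec a = dec b := by
  constructor
  · intro h; rw [← support_wd, ← support_wd, h]
  · intro h
    funext p
    have : p ∈ dec a ↔ p ∈ dec b := by rw [h]
    rw [mem_dec, mem_dec] at this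
    simp only [wd]
    cases h1 : a.testBit (idx p) <;> cases h2 : b.testBit (idx p) <;> simp_all

/-- every code word is `wd x` with `x` a 24-bit mask passing the test `code`. -/
theorem exists_code : ∀ w ∈ golayCode, ∃ x, w = wd x ∧ x < 2 ^ 24 ∧ code x = true := by
  intro w hw
  obtain ⟨x, hx, hP⟩ := forall_code (fun x => decide (x < 2 ^ 24) && code x) (by decide +kernel) w hw
  simp only [Bool.and_eq_true, decide_eq_true_eq] at hP
  exact ⟨x, hx, hP.1, hP.2⟩

theorem mem_supports_iff {s : Finset GolayPt} :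
    s ∈ supports (golayCode : Set (GolayPt → ZMod 2)) ↔ ∃ x, x < 2 ^ 24 ∧ code x = true ∧ s = dec x := by
  constructor
  · rintro ⟨w, hw, rfl⟩
    obtain ⟨x, rfl, h1, h2⟩ := exists_code w hw
    exact ⟨x, h1, h2, support_wd x⟩
  · rintro ⟨x, _, h2, rfl⟩
    exact ⟨wd x, wd_mem_of_code h2, support_wd x⟩

theorem dec_mem_supports_iff {x : ℕ} (hx : x < 2 ^ 24) :
    dec x ∈ supports (golayCode : Set (GolayPt → ZMod 2)) ↔ code x = true := by
  rw [mem_supports_iff]
  constructor
  · rintro ⟨y, hy, hc, h⟩
    rw [dec_injOn hx hy h]; exact hc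
  · intro h; exact ⟨x, hx, h, rfl⟩

end Cfsg.Agent.Lib.Helper3_Golay2
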