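import Mathlib
import Cfsg.Agent.Lib.Helper3_Golay2

/-!
# helper3: bit-mask model of the length-24 code, III: weights, counts, the 5-design
-/

set_option autoImplicit false
set_option linter.unusedSectionVars false
set_option linter.constructorNameAsVariable false

namespace Cfsg.Agent.Lib.Helper3_Golay3

open Cfsg Cfsg.Agent.Lib.Helper3_Golay Cfsg.Agent.Lib.Helper3_Golay2

abbrev Sup : Set (Finset GolayPt) := supports (golayCode : Set (GolayPt → ZMod 2))

theorem weight_cases (w : GolayPt → ZMod 2) (hw : w ∈ golayCode) :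
    hammingNorm w = 0 ∨ hammingNorm w = 8 ∨ hammingNorm w = 12 ∨ hammingNorm w = 16 ∨
      hammingNorm w = 24 := by
  obtain ⟨x, rfl, hP⟩ := forall_code
    (fun x => let n := popN 24 x
      n == 0 || n == 8 || n == 12 || n == 16 || n == 24) (by decide +kernel) w hw
  rw [hammingNorm_wd]
  simpa [or_assoc] using hP

theorem card_support₂ (w : GolayPt → ZMod 2) : (support₂ w).card = hammingNorm w := rfl

theorem card_cases {s : Finset GolayPt} (hs : s ∈ Sup) :
    s.card = 0 ∨ s.card = 8 ∨ s.card = 12 ∨ s.card = 16 ∨ s.card = 24 := by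
  obtain ⟨w, hw, rfl⟩ := hs
  exact weight_cases w hw

theorem support₂_add (v w : GolayPt → ZMod 2) :
    support₂ (v + w) = symmDiff (support₂ v) (support₂ w) := by
  ext p
  simp only [support₂, Finset.mem_filter, Finset.mem_univ, true_and, Pi.add_apply,
    Finset.mem_symmDiff]
  generalize v p = a
  generalize w p = b
  revert a b
  decide

theorem symmDiff_mem {s t : Finset GolayPt} (hs : s ∈ Sup) (ht : t ∈ Sup) : symmDiff s t ∈ Sup := by
  obtain ⟨v, hv, rfl⟩ := hs
  obtain ⟨w, hw, rfl⟩ := ht
  exact ⟨v + w, golayCode.add_mem hv hw, support₂_add v w⟩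

theorem empty_mem : (∅ : Finset GolayPt) ∈ Sup :=
  ⟨0, golayCode.zero_mem, by ext p; simp [support₂]⟩

theorem univ_mem : (Finset.univ : Finset GolayPt) ∈ Sup :=
  ⟨1, Submodule.subset_span (Or.inr rfl), by ext p; simp [support₂]⟩

theorem compl_mem {s : Finset GolayPt} (hs : s ∈ Sup) : sᶜ ∈ Sup := by
  have := symmDiff_mem hs univ_mem
  rwa [show symmDiff s Finset.univ = sᶜ from by
    ext p; simp [Finset.mem_symmDiff]] at this

theorem card_symmDiff_add {α : Type*} [DecidableEq α] (s t : Finset α) :
    (symmDiff s t).card + 2 * (s ∩ t).card = s.card + t.card := by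
  have h1 : symmDiff s t = (s \ t) ∪ (t \ s) := rfl
  have h2 : Disjoint (s \ t) (t \ s) := by
    rw [Finset.disjoint_left]; intro a ha hb
    simp only [Finset.mem_sdiff] at ha hb; exact ha.2 hb.1
  rw [h1, Finset.card_union_of_disjoint h2]
  have h3 := Finset.card_sdiff_add_card_inter s t
  have h4 := Finset.card_sdiff_add_card_inter t s
  rw [Finset.inter_comm t s] at h4
  omega

theorem even_inter {s t : Finset GolayPt} (hs : s ∈ Sup) (ht : t ∈ Sup) : Even (s ∩ t).card := by
  have h := card_symmDiff_add s t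
  have h1 := card_cases hs
  have h2 := card_cases ht
  have h3 := card_cases (symmDiff_mem hs ht)
  rw [Nat.even_iff]
  omega

theorem mem_octads {s : Finset GolayPt} : s ∈ octads ↔ s ∈ Sup ∧ s.card = 8 := Iff.rfl
theorem mem_dodecads {s : Finset GolayPt} : s ∈ dodecads ↔ s ∈ Sup ∧ s.card = 12 := Iff.rfl

/-- two members of the code sharing many points coincide -/
theorem eq_of_card_symmDiff_lt {s t : Finset GolayPt} (hs : s ∈ Sup) (ht : t ∈ Sup)
    (h : (symmDiff s t).card < 8) : s = t := by
  have h3 := card_cases (symmDiff_mem hs ht)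
  have h0 : (symmDiff s t).card = 0 := by omega
  rw [Finset.card_eq_zero] at h0
  exact symmDiff_eq_bot.mp h0

theorem octad_eq_of_five {s t u : Finset GolayPt} (hs : s ∈ octads) (ht : t ∈ octads)
    (hu : 5 ≤ u.card) (hus : u ⊆ s) (hut : u ⊆ t) : s = t := by
  apply eq_of_card_symmDiff_lt hs.1 ht.1
  have h := card_symmDiff_add s t
  have h5 : u.card ≤ (s ∩ t).card := Finset.card_le_card (Finset.subset_inter hus hut)
  have := hs.2
  have := ht.2
  omega

/-! ### counting -/

theorem forall_lt_4096 (P : ℕ → Prop) (h : ∀ a < 64, ∀ b < 64, P (64 * a + b)) :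
    ∀ n < 4096, P n := by
  intro n hn
  have := h (n / 64) (by omega) (n % 64) (by omega)
  rwa [Nat.div_add_mod] at this

theorem combL_props : ∀ n < 4096, combL EL n % 4096 = n ∧ combL EL n < 2 ^ 24 := by
  apply forall_lt_4096
  decide +kernel

theorem code_combL {n : ℕ} (hn : n < 4096) : code (combL EL n) = true := by
  simp [code, (combL_props n hn).1]

/-- the members of the code satisfying a Boolean test on masks -/
def codeFin (Q : ℕ → Bool) : Finset (Finset GolayPt) :=
  ((Finset.range 4096).filter fun n => Q (combL EL n) = true).image fun n => dec (combL EL n)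

theorem mem_codeFin {Q : ℕ → Bool} {s : Finset GolayPt} :
    s ∈ codeFin Q ↔ ∃ x, x < 2 ^ 24 ∧ code x = true ∧ Q x = true ∧ s = dec x := by
  simp only [codeFin, Finset.mem_image, Finset.mem_filter, Finset.mem_range]
  constructor
  · rintro ⟨n, ⟨hn, hQ⟩, rfl⟩
    exact ⟨_, (combL_props n hn).2, code_combL hn, hQ, rfl⟩
  · rintro ⟨x, hx, hc, hQ, rfl⟩
    have h1 : combL EL (x % 4096) = x := by simpa [code] using hc
    exact ⟨x % 4096, ⟨Nat.mod_lt _ (by norm_num), by rw [h1]; exact hQ⟩, by rw [h1]⟩

theorem card_codeFin (Q : ℕ → Bool) :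
    (codeFin Q).card = ((Finset.range 4096).filter fun n => Q (combL EL n) = true).card := by
  apply Finset.card_image_of_injOn
  intro a ha b hb h
  simp only [Finset.coe_filter, Finset.mem_range, Set.mem_ofPred_eq] at ha hb
  have h1 := dec_injOn (combL_props a ha.1).2 (combL_props b hb.1).2 h
  rw [← (combL_props a ha.1).1, ← (combL_props b hb.1).1, h1]

theorem wordsOfWeight_eq (k : ℕ) :
    wordsOfWeight (golayCode : Set (GolayPt → ZMod 2)) k = ↑(codeFin fun x => popN 24 x == k) := by
  ext s
  simp only [wordsOfWeight, Set.mem_ofPred_eq, Finset.mem_coe, mem_codeFin, mem_supports_iff]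
  constructor
  · rintro ⟨⟨x, hx, hc, rfl⟩, hk⟩
    exact ⟨x, hx, hc, by rw [card_dec] at hk; simp [hk], rfl⟩
  · rintro ⟨x, hx, hc, hQ, rfl⟩
    exact ⟨⟨x, hx, hc, rfl⟩, by rw [card_dec]; simpa using hQ⟩

/-- the octads as a finite set -/
def octF : Finset (Finset GolayPt) := codeFin fun x => popN 24 x == 8
/-- the dodecads as a finite set -/
def dodF : Finset (Finset GolayPt) := codeFin fun x => popN 24 x == 12

theorem octads_eq : octads = ↑octF := wordsOfWeight_eq 8
theorem dodecads_eq : dodecads = ↑dodF := wordsOfWeight_eq 12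

theorem card_octF : octF.card = 759 := by
  rw [octF, card_codeFin]
  decide +kernel

theorem card_dodF : dodF.card = 2576 := by
  rw [dodF, card_codeFin]
  decide +kernel

theorem ncard_octads : octads.ncard = 759 := by
  rw [octads_eq, Set.ncard_coe_finset, card_octF]

theorem ncard_dodecads : dodecads.ncard = 2576 := by
  rw [dodecads_eq, Set.ncard_coe_finset, card_dodF]

theorem mem_octF {s : Finset GolayPt} : s ∈ octF ↔ s ∈ octads := by
  rw [octads_eq]; rfl

theorem mem_dodF {s : Finset GolayPt} : s ∈ dodF ↔ s ∈ dodecads := by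
  rw [dodecads_eq]; rfl

theorem exists_octad {s : Finset GolayPt} (hs : s.card = 5) : ∃ b ∈ octads, s ⊆ b := by
  have hdisj : (↑octF : Set (Finset GolayPt)).PairwiseDisjoint fun b => b.powersetCard 5 := by
    intro b hb c hc hbc
    rw [Function.onFun, Finset.disjoint_left]
    intro u hub huc
    rw [Finset.mem_powersetCard] at hub huc
    exact hbc (octad_eq_of_five (mem_octF.mp hb) (mem_octF.mp hc) (le_of_eq hub.2.symm) hub.1 huc.1)
  have hcard : (octF.biUnion fun b => b.powersetCard 5).card = 42504 := by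
    rw [Finset.card_biUnion hdisj]
    have : ∀ b ∈ octF, (b.powersetCard 5).card = 56 := by
      intro b hb
      rw [Finset.card_powersetCard, (mem_octF.mp hb).2]
      decide
    rw [Finset.sum_congr rfl this, Finset.sum_const, card_octF, smul_eq_mul]
  have hsub : (octF.biUnion fun b => b.powersetCard 5) ⊆
      (Finset.univ : Finset GolayPt).powersetCard 5 := by
    intro u hu
    rw [Finset.mem_biUnion] at hu
    obtain ⟨b, _, hb⟩ := hu
    rw [Finset.mem_powersetCard] at hb ⊢
    exact ⟨Finset.subset_univ _, hb.2⟩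
  have heq := Finset.eq_of_subset_of_card_le hsub (by
    rw [hcard, Finset.card_powersetCard, Finset.card_univ,
      show Fintype.card GolayPt = 24 from by simp [Fintype.card_option, ZMod.card],
      show Nat.choose 24 5 = 42504 from by decide +kernel])
  have : s ∈ (Finset.univ : Finset GolayPt).powersetCard 5 := by
    rw [Finset.mem_powersetCard]; exact ⟨Finset.subset_univ _, hs⟩
  rw [← heq, Finset.mem_biUnion] at this
  obtain ⟨b, hb, hsb⟩ := this
  exact ⟨b, mem_octF.mp hb, (Finset.mem_powersetCard.mp hsb).1⟩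

theorem steiner : IsSteinerSystem 5 8 octads := by
  refine ⟨fun b hb => hb.2, fun s hs => ?_⟩
  obtain ⟨b, hb, hsb⟩ := exists_octad hs
  refine ⟨b, ⟨hb, hsb⟩, ?_⟩
  rintro c ⟨hc, hsc⟩
  exact octad_eq_of_five hc hb (le_of_eq hs.symm) hsc hsb

theorem sum_mul_eq_zero (v w : GolayPt → ZMod 2) (hv : v ∈ golayCode) (hw : w ∈ golayCode) :
    ∑ i, v i * w i = 0 := by
  have h1 : ∀ i, v i * w i = if i ∈ support₂ v ∩ support₂ w then 1 else 0 := by
    intro i
    simp only [support₂, Finset.mem_inter, Finset.mem_filter, Finset.mem_univ, true_and]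
    generalize v i = a
    generalize w i = b
    revert a b
    decide
  rw [Finset.sum_congr rfl fun i _ => h1 i, Finset.sum_boole]
  have h2 := even_inter (⟨v, hv, rfl⟩ : support₂ v ∈ Sup) (⟨w, hw, rfl⟩ : support₂ w ∈ Sup)
  have h3 : (Finset.univ.filter fun i => i ∈ support₂ v ∩ support₂ w) = support₂ v ∩ support₂ w := by
    ext i; simp
  rw [h3]
  exact (ZMod.natCast_eq_zero_iff_even).mpr h2

end Cfsg.Agent.Lib.Helper3_Golay3
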