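import Mathlib
import Cfsg.Agent.Lib.Helper3_Golay3

/-!
# helper3: faster evaluation of weights and code words by table look-up
-/

set_option autoImplicit false
set_option linter.unusedSectionVars false
set_option linter.constructorNameAsVariable false

namespace Cfsg.Agent.Lib.Helper3_Fast

open Cfsg Cfsg.Agent.Lib.Helper3_Golay Cfsg.Agent.Lib.Helper3_Golay2 Cfsg.Agent.Lib.Helper3_Golay3

def popT : ℕ := 95125173855764218123276304889944061997689682402263585766959741291920687686033329201817409157123347502415384089435969498586180241031507595463600295898153685276653211633572815512294064538494957912327413386667662218713394765509704508661031522276467630197481635010039778342554499416459730172574551513689147646224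

def pop8 (b : ℕ) : ℕ := (popT >>> (4 * b)) % 16

/-- weight of the low 24 bits, by three table look-ups -/
def pop24 (x : ℕ) : ℕ := pop8 (x % 256) + pop8 (x / 256 % 256) + pop8 (x / 65536 % 256)

theorem popN_add (a b : ℕ) : ∀ x, popN (a + b) x = popN a x + popN b (x / 2 ^ a) := by
  induction a with
  | zero => intro x; simp [popN]
  | succ a ih =>
    intro x
    rw [show a + 1 + b = (a + b) + 1 from by omega, popN, popN, ih, Nat.div_div_eq_div_mul,
      pow_succ, mul_comm 2, add_assoc]

theorem popN_mod (a : ℕ) : ∀ x, popN a (x % 2 ^ a) = popN a x := by
  induction a with
  | zero => intro x; simp [popN]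
  | succ a ih =>
    intro x
    rw [popN, popN, ← ih (x / 2)]
    congr 1
    · rw [pow_succ, Nat.mod_mul_left_mod]
    · congr 1
      rw [pow_succ, mul_comm, Nat.mod_mul_right_div_self]

theorem pop8_eq : ∀ b < 256, pop8 b = popN 8 b := by decide +kernel

theorem pop8_mod (x : ℕ) : pop8 (x % 256) = popN 8 x := by
  rw [pop8_eq _ (Nat.mod_lt _ (by norm_num))]
  exact popN_mod 8 x

theorem popN_eq_pop24 (x : ℕ) : popN 24 x = pop24 x := by
  rw [pop24, pop8_mod, pop8_mod, pop8_mod, show (24 : ℕ) = 8 + (8 + 8) from rfl, popN_add, popN_add,
    Nat.div_div_eq_div_mul]
  norm_num [add_assoc]

def cT1 : ℕ := 239510434820274484582990021118980983058065035983932422742857089676379683193280701497805739257111506311983523676792601614103705453893104186446304275556025705311706521679889737507838043027650129569524445515896878743591137186693463246848865625044561441637378123989740741737084160787267541966105167481045864428001303886005048377488815857689393365140475677037785323422672783152808326207574393042981716014969628508671865993941298976958860366526160550257688123870806016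
def cT2 : ℕ := 2170801978877056321206066550973645231370018518148737010460888627484320594131954417005307800194815298264957691227617220182861712980008484935104406725257219755645831506356463650249473718557211287114430814465724194914313158489264210233264328116331432912057880136939143465690909374580877009309300185414866380981791077099760077532401440591524037543454007497739766655759863206419661742301300073101175805721402921519000902489630112648558377488461552587503226534655688704

/-- the code word with information bits `n < 4096`, by two table look-ups -/
def fcomb (n : ℕ) : ℕ :=
  ((cT1 >>> (24 * (n % 64))) % 16777216) ^^^ ((cT2 >>> (24 * (n / 64))) % 16777216)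

theorem combL_eq_fcomb_aux : ∀ a < 64, ∀ b < 64, combL EL (64 * a + b) = fcomb (64 * a + b) := by
  decide +kernel

theorem combL_eq_fcomb (n : ℕ) (hn : n < 4096) : combL EL n = fcomb n := by
  have h1 : n / 64 < 64 := by omega
  have h2 : n % 64 < 64 := by omega
  have h3 : 64 * (n / 64) + n % 64 = n := Nat.div_add_mod n 64
  have h4 := combL_eq_fcomb_aux (n / 64) h1 (n % 64) h2
  exact h3 ▸ h4

/-- counting code words through the fast functions -/
theorem card_filter_fast (Q : ℕ → Bool) :
    ((Finset.range 4096).filter fun n => Q (combL EL n) = true).card =
      ((Finset.range 4096).filter fun n => Q (fcomb n) = true).card := by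
  have : (Finset.range 4096).filter (fun n => Q (combL EL n) = true) =
      (Finset.range 4096).filter (fun n => Q (fcomb n) = true) :=
    Finset.filter_congr (fun n hn => by rw [combL_eq_fcomb n (Finset.mem_range.mp hn)])
  rw [this]

end Cfsg.Agent.Lib.Helper3_Fast
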