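import Mathlib
import Cfsg.Agent.Lib.Helper3_Fix9

/-!
# helper3: subgroups of index 22 in `M22` fix a point; swapping elements are not inner on `M22`
-/

set_option autoImplicit false
set_option linter.unusedSectionVars false
set_option linter.constructorNameAsVariable false

namespace Cfsg.Agent.Lib.Helper3_FpC

open Cfsg Cfsg.Agent.Lib.Helper3_Golay Cfsg.Agent.Lib.Helper3_Golay2 Cfsg.Agent.Lib.Helper3_Golay3
open Cfsg.Agent.Lib.Helper3_M24a Cfsg.Agent.Lib.Helper3_PermChain Cfsg.Agent.Lib.Helper3_M24b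
open Cfsg.Agent.Lib.Helper3_M24c Cfsg.Agent.Lib.Helper3_M24d Cfsg.Agent.Lib.Helper3_M24e
open Cfsg.Agent.Lib.Helper3_M24f Cfsg.Agent.Lib.Helper3_Fast Cfsg.Agent.Lib.Helper3_Coatom
open Cfsg.Agent.Lib.Helper3_M24g Cfsg.Agent.Lib.Helper3_M24h Cfsg.Agent.Lib.Helper3_Steiner
open Cfsg.Agent.Lib.Helper3_M24i Cfsg.Agent.Lib.Helper3_M24j Cfsg.Agent.Lib.Helper3_Fixp
open Cfsg.Agent.Lib.Helper3_Out Cfsg.Agent.Lib.Helper3_Out2 Cfsg.Agent.Lib.Helper3_Nrm
open Cfsg.Agent.Lib.Helper3_FpA Cfsg.Agent.Lib.Helper3_Enum Cfsg.Agent.Lib.Helper3_FpB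
open Cfsg.Agent.Lib.Helper3_Fix9
open scoped Pointwise

theorem compl_inv {K : Subgroup (Equiv.Perm GolayPt)} (F : List GolayPt) (O : Finset GolayPt)
    (hFK : ∀ g ∈ K, ∀ a ∈ F, g a = a) (hinv : ∀ g ∈ K, ∀ y, g y ∈ O ↔ y ∈ O) :
    ∀ g ∈ K, ∀ y, g y ∈ (F.toFinset ∪ O)ᶜ ↔ y ∈ (F.toFinset ∪ O)ᶜ := by
  intro g hg y
  simp only [Finset.mem_compl, Finset.mem_union, List.mem_toFinset, hinv g hg y]
  have : g y ∈ F ↔ y ∈ F := by
    constructor
    · intro h
      have h2 := hFK g hg _ h
      exact (g.injective h2) ▸ h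
    · intro h
      rw [hFK g hg y h]; exact h
  rw [this]

theorem fixed_point_M22 (H : Subgroup (Equiv.Perm GolayPt)) (hH : H ≤ fixL M24 [pt 0, pt 23])
    (hc : Nat.card (fixL M24 [pt 0, pt 23]) = (24 - [pt 0, pt 23].length) * Nat.card H) :
    ∃ c, c ∉ [pt 0, pt 23] ∧ ∀ g ∈ H, g c = c := by
  have h0 : Nat.card (fixL M24 [pt 0, pt 23]) = 443520 := card_Fx3
  rw [h0] at hc
  simp only [List.length_cons, List.length_nil] at hc
  have hcH : Nat.card H = 20160 := by omega
  have hHM : H ≤ M24 := fun g hg => (hH hg).1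
  have hnd : [pt 0, pt 23].Nodup := by decide +kernel
  obtain ⟨O, hbO, hinv, hdis, hle, hcard, hp⟩ := step hHM [pt 0, pt 23] hnd (pt 1)
    (by decide +kernel)
  rw [fixL_self hH] at hinv hcard hp
  rw [hcH] at hcard hp
  have h5 := hp 5 (by norm_num) (by norm_num) (by norm_num)
  have h7 := hp 7 (by norm_num) (by norm_num) (by norm_num)
  simp only [List.length_cons, List.length_nil] at hle h5 h7
  have hpos : 0 < O.card := Finset.card_pos.mpr ⟨_, hbO⟩
  have hdvd : O.card ∣ 20160 := ⟨_, hcard⟩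
  have hcases : O.card = 1 ∨ O.card = 7 ∨ O.card = 15 ∨ O.card = 21 := by
    generalize O.card = n at *
    have hn : n ≤ 22 := by omega
    clear hcard hp
    interval_cases n <;> omega
  have hFH : ∀ g ∈ H, ∀ a ∈ [pt 0, pt 23], g a = a := fun g hg => (hH hg).2
  rcases hcases with h1 | h1 | h1 | h1
  · exact ⟨pt 1, by decide +kernel, fixed_of_card_one hbO hinv h1⟩
  · exfalso
    have := card_le_factorial hHM [pt 0, pt 23] hnd O hFH hinv hdis (by simp [h1])
    rw [hcH, h1] at this
    revert this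
    decide
  · exfalso
    have hdisj : Disjoint [pt 0, pt 23].toFinset O := by
      rw [Finset.disjoint_left]
      intro a ha
      exact hdis a (List.mem_toFinset.mp ha)
    have hY : ([pt 0, pt 23].toFinset ∪ O)ᶜ.card = 7 := by
      rw [Finset.card_compl, Finset.card_union_of_disjoint hdisj, List.toFinset_card_of_nodup hnd, h1]
      rfl
    have := card_le_factorial hHM [pt 0, pt 23] hnd _ hFH (compl_inv _ O hFH hinv)
      (by
        intro a ha
        rw [Finset.mem_compl, Finset.mem_union, not_or, not_and, not_not]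
        intro h
        exact absurd (List.mem_toFinset.mpr ha) h)
      (by rw [hY]; simp)
    rw [hcH, hY] at this
    revert this
    decide
  · exact fixed_of_compl [pt 0, pt 23] hnd O hFH hinv hdis (by simp [h1])

/-- an element of `M24` interchanging the two base points does not act on `M22` as an inner
automorphism -/
theorem not_inner {g : Equiv.Perm GolayPt} (hg : g ∈ M24) (h1 : g (pt 23) = pt 0)
    (h2 : g (pt 0) = pt 23) :
    ¬ ∃ h ∈ fixL M24 [pt 0, pt 23], ∀ x ∈ fixL M24 [pt 0, pt 23], g * x * g⁻¹ = h * x * h⁻¹ := by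
  rintro ⟨h, hh, hx⟩
  set c := h⁻¹ * g with hc
  have hcM : c ∈ M24 := M24.mul_mem (M24.inv_mem hh.1) hg
  have hcomm : ∀ x ∈ fixL M24 [pt 0, pt 23], c * x = x * c := by
    intro x hxm
    have := hx x hxm
    rw [hc]
    have e : h⁻¹ * g * x = h⁻¹ * (g * x * g⁻¹) * g := by group
    rw [e, this]; group
  have hh0 : h⁻¹ (pt 0) = pt 0 := by rw [Equiv.Perm.inv_eq_iff_eq, hh.2 _ (by simp)]
  have hh23 : h⁻¹ (pt 23) = pt 23 := by rw [Equiv.Perm.inv_eq_iff_eq, hh.2 _ (by simp)]
  have hc23 : c (pt 23) = pt 0 := by rw [hc, Equiv.Perm.mul_apply, h1, hh0]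
  have hc0 : c (pt 0) = pt 23 := by rw [hc, Equiv.Perm.mul_apply, h2, hh23]
  have hne : pt 0 ≠ pt 23 := by decide +kernel
  have hfix : ∀ a, a ∉ [pt 0, pt 23] → c a = a := by
    intro a ha
    by_contra hb
    have hbF : c a ∉ [pt 0, pt 23] := by
      intro hmem
      simp only [List.mem_cons, List.not_mem_nil, or_false] at hmem ha
      rcases hmem with hm | hm
      · rw [← hc23] at hm
        exact ha (Or.inr (c.injective hm))
      · rw [← hc0] at hm
        exact ha (Or.inl (c.injective hm))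
    obtain ⟨z, hz⟩ := exists_fresh (a :: c a :: [pt 0, pt 23]) (by simp)
    simp only [List.mem_cons, List.not_mem_nil, or_false, not_or] at hz ha hbF
    obtain ⟨x, hxm, hm⟩ := exists_fixL_map (F := [pt 0, pt 23]) (by decide +kernel) [a, c a] [a, z]
      (by simp) rfl
      (by
        simp only [List.cons_append, List.nil_append, List.nodup_cons, List.mem_cons,
          List.not_mem_nil, or_false, not_or, List.nodup_nil, and_true, not_false_eq_true]
        refine ⟨⟨hne, Ne.symm ha.1, Ne.symm hbF.1⟩, ⟨Ne.symm ha.2, Ne.symm hbF.2⟩, Ne.symm hb⟩)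
      (by
        simp only [List.cons_append, List.nil_append, List.nodup_cons, List.mem_cons,
          List.not_mem_nil, or_false, not_or, List.nodup_nil, and_true, not_false_eq_true]
        refine ⟨⟨hne, Ne.symm ha.1, Ne.symm hz.2.2.1⟩, ⟨Ne.symm ha.2, Ne.symm hz.2.2.2⟩, Ne.symm hz.1⟩)
    simp only [List.map_cons, List.map_nil, List.cons.injEq, and_true] at hm
    have h5 := congrArg (fun f => f a) (hcomm x hxm)
    simp only [Equiv.Perm.mul_apply] at h5
    rw [hm.1, hm.2] at h5
    exact hz.2.1 h5.symm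
  have hc1 : c ≠ 1 := by
    intro h
    rw [h] at hc0
    exact hne hc0
  have h8 := fix_le_eight hcM hc1
  have h22 : ([pt 0, pt 23].toFinset)ᶜ.card ≤ (Finset.univ.filter fun y => c y = y).card := by
    apply Finset.card_le_card
    intro y hy
    rw [Finset.mem_compl, List.mem_toFinset] at hy
    rw [Finset.mem_filter]
    exact ⟨Finset.mem_univ _, hfix y hy⟩
  have h22' : ([pt 0, pt 23].toFinset)ᶜ.card = 22 := by decide +kernel
  omega

end Cfsg.Agent.Lib.Helper3_FpC
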