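import Mathlib

/-!
# helper3: stabiliser chains in permutation groups
-/

set_option autoImplicit false
set_option linter.unusedSectionVars false

namespace Cfsg.Agent.Lib.Helper3_PermChain

variable {α : Type*}

/-- elements of `G` fixing each point of the list -/
def fixL (G : Subgroup (Equiv.Perm α)) (F : List α) : Subgroup (Equiv.Perm α) where
  carrier := {g | g ∈ G ∧ ∀ a ∈ F, g a = a}
  one_mem' := ⟨G.one_mem, fun _ _ => rfl⟩
  mul_mem' := by
    rintro g h ⟨hg, hg'⟩ ⟨hh, hh'⟩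
    exact ⟨G.mul_mem hg hh, fun a ha => by rw [Equiv.Perm.mul_apply, hh' a ha, hg' a ha]⟩
  inv_mem' := by
    rintro g ⟨hg, hg'⟩
    exact ⟨G.inv_mem hg, fun a ha => by rw [Equiv.Perm.inv_eq_iff_eq, hg' a ha]⟩

theorem mem_fixL {G : Subgroup (Equiv.Perm α)} {F : List α} {g : Equiv.Perm α} :
    g ∈ fixL G F ↔ g ∈ G ∧ ∀ a ∈ F, g a = a := Iff.rfl

theorem fixL_nil (G : Subgroup (Equiv.Perm α)) : fixL G [] = G := by
  ext g; simp [mem_fixL]

theorem fixL_le (G : Subgroup (Equiv.Perm α)) (F : List α) : fixL G F ≤ G := fun _ h => h.1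

theorem card_level (G : Subgroup (Equiv.Perm α)) (F : List α) (b : α) (O : Finset α)
    (h1 : ∀ g ∈ fixL G F, g b ∈ O) (h2 : ∀ c ∈ O, ∃ g ∈ fixL G F, g b = c) :
    Nat.card (fixL G F) = O.card * Nat.card (fixL G (b :: F)) := by
  have h := (MulAction.stabilizer (fixL G F) b).index_mul_card
  rw [MulAction.index_stabilizer] at h
  have ho : MulAction.orbit (fixL G F) b = ↑O := by
    ext c
    constructor
    · rintro ⟨⟨g, hg⟩, rfl⟩
      exact h1 g hg
    · intro hc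
      obtain ⟨g, hg, rfl⟩ := h2 c hc
      exact ⟨⟨g, hg⟩, rfl⟩
  rw [ho, Set.ncard_coe_finset] at h
  rw [← h]
  congr 1
  refine Nat.card_congr ⟨fun x => ⟨x.1.1, x.1.2.1, ?_⟩, fun x => ⟨⟨x.1, x.2.1, ?_⟩, ?_⟩, ?_, ?_⟩
  · intro a ha
    rcases List.mem_cons.mp ha with rfl | ha
    · exact x.2
    · exact x.1.2.2 a ha
  · intro a ha
    exact x.2.2 a (List.mem_cons_of_mem _ ha)
  · exact x.2.2 b List.mem_cons_self
  · intro x; rfl
  · intro x; rfl

theorem le_level (G S : Subgroup (Equiv.Perm α)) (F : List α) (b : α) (O : Set α)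
    (h1 : ∀ g ∈ fixL G F, g b ∈ O) (h2 : ∀ c ∈ O, ∃ g ∈ fixL G F, g ∈ S ∧ g b = c)
    (h3 : fixL G (b :: F) ≤ S) : fixL G F ≤ S := by
  intro g hg
  obtain ⟨u, hu, huS, hub⟩ := h2 _ (h1 g hg)
  have : u⁻¹ * g ∈ fixL G (b :: F) := by
    have h4 := (fixL G F).mul_mem ((fixL G F).inv_mem hu) hg
    refine ⟨h4.1, ?_⟩
    intro a ha
    rcases List.mem_cons.mp ha with rfl | ha
    · rw [Equiv.Perm.mul_apply, Equiv.Perm.inv_eq_iff_eq, hub]
    · exact h4.2 a ha
  have h5 := S.mul_mem huS (h3 this)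
  rwa [mul_inv_cancel_left] at h5

/-- multiple transitivity relative to a base list, fixing `F`, inside `Ω`. -/
def MT (G : Subgroup (Equiv.Perm α)) (Ω : Set α) (F bs : List α) : Prop :=
  ∀ ys : List α, ys.length = bs.length → (F ++ ys).Nodup → (∀ y ∈ ys, y ∈ Ω) →
    ∃ g ∈ fixL G F, bs.map g = ys

theorem MT_nil (G : Subgroup (Equiv.Perm α)) (Ω : Set α) (F : List α) : MT G Ω F [] := by
  intro ys h _ _
  refine ⟨1, (fixL G F).one_mem, ?_⟩
  simp only [List.length_nil, List.length_eq_zero_iff] at h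
  simp [h]

theorem MT_cons (G : Subgroup (Equiv.Perm α)) (Ω : Set α) (F bs : List α) (b : α)
    (hΩ : ∀ g ∈ G, ∀ x, g x ∈ Ω ↔ x ∈ Ω)
    (h : ∀ c ∈ Ω, c ∉ F → ∃ g ∈ fixL G F, g b = c) (ih : MT G Ω (b :: F) bs) :
    MT G Ω F (b :: bs) := by
  intro ys hl hnd hys
  match ys, hl with
  | y :: ys, hl =>
    have hnd' : ((y :: F) ++ ys).Nodup := by
      have : (F ++ y :: ys).Perm ((y :: F) ++ ys) := by
        simp
      exact this.nodup_iff.mp hnd
    have hyF : y ∉ F := by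
      intro hy
      have := (List.nodup_cons.mp hnd').1
      exact this (List.mem_append_left _ hy)
    obtain ⟨u, hu, hub⟩ := h y (hys y List.mem_cons_self) hyF
    have hmap : (b :: F) ++ ys.map ⇑u⁻¹ = ((y :: F) ++ ys).map ⇑u⁻¹ := by
      rw [List.map_append, List.map_cons]
      congr 1
      congr 1
      · rw [eq_comm, Equiv.Perm.inv_eq_iff_eq, hub]
      · have : F.map ⇑u⁻¹ = F.map id := by
          apply List.map_congr_left
          intro a ha
          rw [id, Equiv.Perm.inv_eq_iff_eq, hu.2 a ha]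
        rw [this, List.map_id]
    obtain ⟨g, hg, hgm⟩ := ih (ys.map ⇑u⁻¹) (by simpa using hl)
      (by rw [hmap]; exact hnd'.map u⁻¹.injective)
      (by
        intro z hz
        obtain ⟨w, hw, rfl⟩ := List.mem_map.mp hz
        exact (hΩ u⁻¹ (G.inv_mem hu.1) w).mpr (hys w (List.mem_cons_of_mem _ hw)))
    refine ⟨u * g, ⟨G.mul_mem hu.1 hg.1, ?_⟩, ?_⟩
    · intro a ha
      rw [Equiv.Perm.mul_apply, hg.2 a (List.mem_cons_of_mem _ ha), hu.2 a ha]
    · rw [List.map_cons, Equiv.Perm.mul_apply, hg.2 b List.mem_cons_self, hub]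
      congr 1
      have : bs.map ⇑(u * g) = (bs.map ⇑g).map ⇑u := by
        rw [List.map_map]; rfl
      rw [this, hgm, List.map_map]
      have : (⇑u ∘ ⇑u⁻¹) = id := by funext z; simp
      rw [this, List.map_id]

theorem MT_apply {G : Subgroup (Equiv.Perm α)} {Ω : Set α} {F bs : List α} (h : MT G Ω F bs)
    {n : ℕ} (hn : bs.length = n) (x : Fin n ↪ α) (hx : ∀ i, x i ∈ Ω) (hxF : ∀ i, x i ∉ F)
    (hF : F.Nodup) :
    ∃ g ∈ fixL G F, ∀ i : Fin n, g (bs.get (i.cast hn.symm)) = x i := by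
  obtain ⟨g, hg, hgm⟩ := h (List.ofFn x) (by simp [hn]) (by
      rw [List.nodup_append]
      refine ⟨hF, (List.nodup_ofFn).mpr x.injective, ?_⟩
      intro a ha b hb hab
      rw [List.mem_ofFn] at hb
      obtain ⟨i, rfl⟩ := hb
      exact hxF i (hab ▸ ha))
    (by
      intro y hy
      rw [List.mem_ofFn] at hy
      obtain ⟨i, rfl⟩ := hy
      exact hx i)
  refine ⟨g, hg, fun i => ?_⟩
  have h1 : (bs.map ⇑g)[i.1]'(by simp [hn]) = (List.ofFn x)[i.1]'(by simp) := by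
    simp only [hgm]
  simpa using h1

theorem isMultiplyPretransitive_of_MT {G : Subgroup (Equiv.Perm α)} {bs : List α}
    (h : MT G Set.univ [] bs) : MulAction.IsMultiplyPretransitive G α bs.length := by
  rw [MulAction.isMultiplyPretransitive_iff]
  intro x y
  obtain ⟨g, hg, hgx⟩ := MT_apply h rfl x (fun _ => trivial) (fun _ => by simp) List.nodup_nil
  obtain ⟨k, hk, hky⟩ := MT_apply h rfl y (fun _ => trivial) (fun _ => by simp) List.nodup_nil
  refine ⟨⟨k * g⁻¹, G.mul_mem hk.1 (G.inv_mem hg.1)⟩, ?_⟩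
  ext i
  change (k * g⁻¹) (x i) = y i
  rw [← hgx i, ← hky i]
  simp

end Cfsg.Agent.Lib.Helper3_PermChain
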