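import Mathlib
import Cfsg.Agent.Lib.Helper3_Golay3
import Cfsg.Agent.Lib.Helper3_PermChain

/-!
# helper3: permutations of the 24 points as packed tables; membership in `M24`
-/

set_option autoImplicit false
set_option linter.unusedSectionVars false
set_option linter.constructorNameAsVariable false

namespace Cfsg.Agent.Lib.Helper3_M24a

open Cfsg Cfsg.Agent.Lib.Helper3_Golay Cfsg.Agent.Lib.Helper3_Golay2 Cfsg.Agent.Lib.Helper3_Golay3
open scoped Pointwise

/-- the point with a given index -/
def pt (i : ℕ) : GolayPt := if i = 23 then none else some (i : ZMod 23)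

theorem pt_idx (p : GolayPt) : pt (idx p) = p := by
  revert p; decide +kernel

theorem idx_pt : ∀ i < 24, idx (pt i) = i := by decide +kernel

/-- entry `i` of a packed table (five bits per entry) -/
def ap (N i : ℕ) : ℕ := (N >>> (5 * i)) % 32

/-- the function of a packed table -/
def pfun (N : ℕ) (p : GolayPt) : GolayPt := pt (ap N (idx p))

def imgAux (N m : ℕ) : ℕ → ℕ
  | 0 => 0
  | k + 1 => imgAux N m k ||| (if m.testBit k then 1 <<< ap N k else 0)

/-- image of a mask under a packed table -/
def img (N m : ℕ) : ℕ := imgAux N m 24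

theorem testBit_imgAux (N m j : ℕ) : ∀ k, (imgAux N m k).testBit j = true ↔
    ∃ i < k, m.testBit i = true ∧ ap N i = j := by
  intro k
  induction k with
  | zero => simp [imgAux]
  | succ k ih =>
    rw [imgAux, Nat.testBit_or, Bool.or_eq_true, ih]
    constructor
    · rintro (⟨i, hi, h1, h2⟩ | h)
      · exact ⟨i, by omega, h1, h2⟩
      · by_cases hm : m.testBit k = true
        · rw [if_pos hm, Nat.one_shiftLeft, Nat.testBit_two_pow] at h
          simp only [decide_eq_true_eq] at h
          exact ⟨k, by omega, hm, h⟩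
        · rw [if_neg hm] at h
          simp at h
    · rintro ⟨i, hi, h1, h2⟩
      rcases Nat.lt_succ_iff_lt_or_eq.mp hi with hi | rfl
      · exact Or.inl ⟨i, hi, h1, h2⟩
      · right
        rw [if_pos h1, Nat.one_shiftLeft, Nat.testBit_two_pow]
        simp [h2]

theorem testBit_img (N m j : ℕ) : (img N m).testBit j = true ↔
    ∃ i < 24, m.testBit i = true ∧ ap N i = j := testBit_imgAux N m j 24

/-- the table is a permutation of `0..23`. -/
def isPerm (N : ℕ) : Bool := img N 16777215 == 16777215

theorem testBit_full (j : ℕ) : (16777215 : ℕ).testBit j = true ↔ j < 24 := by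
  have : (16777215 : ℕ) = 2 ^ 24 - 1 := by norm_num
  rw [this, Nat.testBit_two_pow_sub_one]
  simp

theorem ap_lt {N : ℕ} (h : isPerm N = true) {i : ℕ} (hi : i < 24) : ap N i < 24 := by
  have h1 : img N 16777215 = 16777215 := by simpa [isPerm] using h
  rw [← testBit_full, ← h1, testBit_img]
  exact ⟨i, hi, (testBit_full i).mpr hi, rfl⟩

theorem pfun_bijective {N : ℕ} (h : isPerm N = true) : Function.Bijective (pfun N) := by
  apply Function.Surjective.bijective_of_finite
  intro q
  have h1 : img N 16777215 = 16777215 := by simpa [isPerm] using h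
  have h2 := (testBit_full (idx q)).mpr (idx_lt q)
  rw [← h1, testBit_img] at h2
  obtain ⟨i, hi, _, h3⟩ := h2
  refine ⟨pt i, ?_⟩
  rw [pfun, idx_pt i hi, h3, pt_idx]

/-- the permutation of a packed table (the identity for junk tables) -/
noncomputable def prm (N : ℕ) : Equiv.Perm GolayPt :=
  if h : Function.Bijective (pfun N) then Equiv.ofBijective _ h else 1

theorem prm_apply {N : ℕ} (h : isPerm N = true) (p : GolayPt) : prm N p = pfun N p := by
  rw [prm, dif_pos (pfun_bijective h)]
  rfl

theorem idx_prm {N : ℕ} (h : isPerm N = true) (p : GolayPt) : idx (prm N p) = ap N (idx p) := by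
  rw [prm_apply h, pfun, idx_pt _ (ap_lt h (idx_lt p))]

theorem prm_pt {N : ℕ} (h : isPerm N = true) {i : ℕ} (hi : i < 24) : prm N (pt i) = pt (ap N i) := by
  rw [prm_apply h, pfun, idx_pt i hi]

theorem smul_dec {N : ℕ} (h : isPerm N = true) (m : ℕ) : prm N • dec m = dec (img N m) := by
  ext q
  rw [Finset.mem_smul_finset, mem_dec, testBit_img]
  constructor
  · rintro ⟨p, hp, rfl⟩
    exact ⟨idx p, idx_lt p, mem_dec.mp hp, by rw [Equiv.Perm.smul_def, idx_prm h]⟩
  · rintro ⟨i, hi, h1, h2⟩
    refine ⟨pt i, by rw [mem_dec, idx_pt i hi]; exact h1, ?_⟩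
    rw [Equiv.Perm.smul_def, prm_pt h hi, h2, pt_idx]

theorem eq_prm {N : ℕ} (h : isPerm N = true) (g : Equiv.Perm GolayPt) (hg : ∀ p, g p = pfun N p) :
    g = prm N := by
  ext p : 1
  rw [hg, prm_apply h]

/-! ### membership in `M24` -/

theorem Sup_finite : Sup.Finite := Set.toFinite _

theorem mem_M24_iff {g : Equiv.Perm GolayPt} : g ∈ M24 ↔ ∀ s ∈ Sup, g • s ∈ Sup := by
  rw [MulAction.mem_stabilizer_set' Sup_finite]

theorem smul_symmDiff (g : Equiv.Perm GolayPt) (s t : Finset GolayPt) :
    g • symmDiff s t = symmDiff (g • s) (g • t) := by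
  ext p
  simp only [Finset.mem_symmDiff, ← Finset.inv_smul_mem_iff]

theorem mem_M24_of_gens {g : Equiv.Perm GolayPt} (h : ∀ m ∈ EL, g • dec m ∈ Sup) : g ∈ M24 := by
  rw [mem_M24_iff]
  rintro _ ⟨w, hw, rfl⟩
  have hw' : w ∈ Submodule.span (ZMod 2) (wd '' {m | m ∈ EL}) := by
    rw [← golayCode_eq]; exact hw
  clear hw
  induction hw' using Submodule.span_induction with
  | mem x hx =>
    obtain ⟨m, hm, rfl⟩ := hx
    rw [support_wd]; exact h m hm
  | zero =>
    have : support₂ (0 : GolayPt → ZMod 2) = ∅ := by ext p; simp [support₂]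
    rw [this, Finset.smul_finset_empty]
    exact empty_mem
  | add x y _ _ hx hy =>
    rw [support₂_add, smul_symmDiff]
    exact symmDiff_mem hx hy
  | smul a x _ hx =>
    have ha : a = 0 ∨ a = 1 := by revert a; decide
    rcases ha with rfl | rfl
    · have : support₂ ((0 : ZMod 2) • x) = ∅ := by ext p; simp [support₂]
      rw [this, Finset.smul_finset_empty]
      exact empty_mem
    · rwa [one_smul]

theorem dec_mem_of_code {x : ℕ} (h : code x = true) : dec x ∈ Sup :=
  ⟨wd x, wd_mem_of_code h, support_wd x⟩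

/-- Boolean test: the table is a permutation preserving the code. -/
def isAut (N : ℕ) : Bool := isPerm N && EL.all fun m => code (img N m)

theorem prm_mem_M24 {N : ℕ} (h : isAut N = true) : prm N ∈ M24 := by
  rw [isAut, Bool.and_eq_true, List.all_eq_true] at h
  apply mem_M24_of_gens
  intro m hm
  rw [smul_dec h.1]
  exact dec_mem_of_code (h.2 m hm)

theorem smul_mem_Sup {g : Equiv.Perm GolayPt} (hg : g ∈ M24) {s : Finset GolayPt} (hs : s ∈ Sup) :
    g • s ∈ Sup := mem_M24_iff.mp hg s hs

theorem smul_mem_octads {g : Equiv.Perm GolayPt} (hg : g ∈ M24) {s : Finset GolayPt}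
    (hs : s ∈ octads) : g • s ∈ octads :=
  ⟨smul_mem_Sup hg hs.1, by rw [Finset.card_smul_finset]; exact hs.2⟩

theorem smul_mem_dodecads {g : Equiv.Perm GolayPt} (hg : g ∈ M24) {s : Finset GolayPt}
    (hs : s ∈ dodecads) : g • s ∈ dodecads :=
  ⟨smul_mem_Sup hg hs.1, by rw [Finset.card_smul_finset]; exact hs.2⟩

/-! ### straight-line programs -/

/-- `K = A ∘ B` as tables -/
def isComp (K A B : ℕ) : Bool := (List.range 24).all fun i => ap K i == ap A (ap B i)

theorem prm_comp {K A B : ℕ} (hK : isPerm K = true) (hA : isPerm A = true) (hB : isPerm B = true)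
    (h : isComp K A B = true) : prm K = prm A * prm B := by
  rw [isComp, List.all_eq_true] at h
  ext p : 1
  apply idx_injective
  rw [Equiv.Perm.mul_apply, idx_prm hK, idx_prm hA, idx_prm hB]
  simpa using h (idx p) (List.mem_range.mpr (idx_lt p))

/-- a table which is a permutation lying in `S` -/
def Good (S : Subgroup (Equiv.Perm GolayPt)) (N : ℕ) : Prop := isPerm N = true ∧ prm N ∈ S

/-- check a straight-line program: `(0,K,A,B)`: `K = A B`; `(1,K,A,B)`: `K A = B`;
`(_,K,A,B)`: `A K = B`. -/
def chkSLP : List ℕ → List (ℕ × ℕ × ℕ × ℕ) → Bool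
  | _, [] => true
  | V, (t, K, A, B) :: r => V.contains A && V.contains B && isPerm K &&
      (if t = 0 then isComp K A B else if t = 1 then isComp B K A else isComp B A K) &&
      chkSLP (K :: V) r

theorem chkSLP_sound (S : Subgroup (Equiv.Perm GolayPt)) : ∀ (L : List (ℕ × ℕ × ℕ × ℕ)) (V : List ℕ),
    (∀ N ∈ V, Good S N) → chkSLP V L = true → ∀ s ∈ L, Good S s.2.1 := by
  intro L
  induction L with
  | nil => intro V _ _ s hs; simp at hs
  | cons a L ih =>
    obtain ⟨t, K, A, B⟩ := a
    intro V hV h s hs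
    rw [chkSLP] at h
    simp only [Bool.and_eq_true, List.contains_iff_mem] at h
    obtain ⟨⟨⟨⟨hA, hB⟩, hK⟩, hc⟩, hr⟩ := h
    have hgA := hV A hA
    have hgB := hV B hB
    have hgK : Good S K := by
      refine ⟨hK, ?_⟩
      split_ifs at hc
      · rw [prm_comp hK hgA.1 hgB.1 hc]
        exact S.mul_mem hgA.2 hgB.2
      · have := prm_comp hgB.1 hK hgA.1 hc
        have h2 : prm K = prm B * (prm A)⁻¹ := by rw [this]; group
        rw [h2]
        exact S.mul_mem hgB.2 (S.inv_mem hgA.2)
      · have := prm_comp hgB.1 hgA.1 hK hc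
        have h2 : prm K = (prm A)⁻¹ * prm B := by rw [this]; group
        rw [h2]
        exact S.mul_mem (S.inv_mem hgA.2) hgB.2
    rcases List.mem_cons.mp hs with rfl | hs
    · exact hgK
    · refine ih (K :: V) ?_ hr s hs
      intro N hN
      rcases List.mem_cons.mp hN with rfl | hN
      · exact hgK
      · exact hV N hN

/-! ### invariant sets -/

/-- the set with mask `m` is invariant under `g` -/
def Inv (g : Equiv.Perm GolayPt) (m : ℕ) : Prop := g • dec m = dec m

theorem Inv_and {g : Equiv.Perm GolayPt} {a b : ℕ} (ha : Inv g a) (hb : Inv g b) : Inv g (a &&& b) := by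
  rw [Inv, dec_and, Finset.smul_finset_inter, ha, hb]

theorem Inv_xor {g : Equiv.Perm GolayPt} {a b : ℕ} (ha : Inv g a) (hb : Inv g b) : Inv g (a ^^^ b) := by
  rw [Inv, dec_xor, smul_symmDiff, ha, hb]

theorem Inv_full (g : Equiv.Perm GolayPt) : Inv g 16777215 := by
  have : dec 16777215 = Finset.univ := by
    ext p; simp [mem_dec, testBit_full, idx_lt]
  rw [Inv, this, Finset.smul_finset_univ]

theorem dec_single {i : ℕ} (hi : i < 24) : dec (1 <<< i) = {pt i} := by
  ext p
  rw [mem_dec, Nat.one_shiftLeft, Nat.testBit_two_pow, Finset.mem_singleton]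
  simp only [decide_eq_true_eq]
  constructor
  · intro h; rw [h, pt_idx]
  · intro h; rw [h, idx_pt i hi]

theorem Inv_single {g : Equiv.Perm GolayPt} {i : ℕ} (hi : i < 24) : Inv g (1 <<< i) ↔ g (pt i) = pt i := by
  rw [Inv, dec_single hi, Finset.smul_finset_singleton, Finset.singleton_inj, Equiv.Perm.smul_def]

theorem dec_subset {a x : ℕ} (h : a &&& x = a) : dec a ⊆ dec x := by
  rw [← h, dec_and]; exact Finset.inter_subset_right

theorem Inv_octad {g : Equiv.Perm GolayPt} (hg : g ∈ M24) {a x : ℕ} (ha : Inv g a)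
    (hx : code x = true) (hx8 : popN 24 x = 8) (hax : a &&& x = a) (ha5 : 5 ≤ popN 24 a) :
    Inv g x := by
  have ho : dec x ∈ octads := ⟨dec_mem_of_code hx, by rw [card_dec, hx8]⟩
  apply octad_eq_of_five (u := dec a) (smul_mem_octads hg ho) ho (by rw [card_dec]; exact ha5)
  · rw [← ha]
    exact Finset.smul_finset_subset_smul_finset (dec_subset hax)
  · exact dec_subset hax

/-- check a derivation of invariant sets: `(0,x,a,b)`: `x = a ∩ b`; `(1,x,a,b)`: `x = a Δ b`;
`(_,x,a,_)`: `x` an octad containing the invariant set `a` of at least five points. -/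
def chkDer : List ℕ → List (ℕ × ℕ × ℕ × ℕ) → Bool
  | _, [] => true
  | I, (t, x, a, b) :: r => I.contains a && I.contains b &&
      (if t = 0 then x == a &&& b else if t = 1 then x == a ^^^ b else
        code x && popN 24 x == 8 && (a &&& x == a) && decide (5 ≤ popN 24 a)) &&
      chkDer (x :: I) r

theorem chkDer_sound {g : Equiv.Perm GolayPt} (hg : g ∈ M24) :
    ∀ (L : List (ℕ × ℕ × ℕ × ℕ)) (I : List ℕ),
    (∀ m ∈ I, Inv g m) → chkDer I L = true → ∀ s ∈ L, Inv g s.2.1 := by
  intro L
  induction L with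
  | nil => intro V _ _ s hs; simp at hs
  | cons a L ih =>
    obtain ⟨t, x, a, b⟩ := a
    intro I hI h s hs
    rw [chkDer] at h
    simp only [Bool.and_eq_true, List.contains_iff_mem] at h
    obtain ⟨⟨⟨ha, hb⟩, hc⟩, hr⟩ := h
    have hx : Inv g x := by
      split_ifs at hc
      · have : x = a &&& b := by simpa using hc
        rw [this]; exact Inv_and (hI a ha) (hI b hb)
      · have : x = a ^^^ b := by simpa using hc
        rw [this]; exact Inv_xor (hI a ha) (hI b hb)
      · simp only [Bool.and_eq_true, beq_iff_eq, decide_eq_true_eq] at hc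
        exact Inv_octad hg (hI a ha) hc.1.1.1 hc.1.1.2 hc.1.2 hc.2
    rcases List.mem_cons.mp hs with rfl | hs
    · exact hx
    · refine ih (x :: I) ?_ hr s hs
      intro N hN
      rcases List.mem_cons.mp hN with rfl | hN
      · exact hx
      · exact hI N hN

end Cfsg.Agent.Lib.Helper3_M24a
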