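import Mathlib
import Cfsg.Agent.Lib.Helper3_M24b

/-!
# helper3: stabilisers of points and sets in `M24`; orbits on code words
-/

set_option autoImplicit false
set_option linter.unusedSectionVars false
set_option linter.constructorNameAsVariable false

namespace Cfsg.Agent.Lib.Helper3_M24c

open Cfsg Cfsg.Agent.Lib.Helper3_Golay Cfsg.Agent.Lib.Helper3_Golay2 Cfsg.Agent.Lib.Helper3_Golay3
open Cfsg.Agent.Lib.Helper3_M24a Cfsg.Agent.Lib.Helper3_PermChain
open scoped Pointwise

/-- elements of `M24` leaving invariant each set of the list of masks -/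
def StM (Ms : List ℕ) : Subgroup (Equiv.Perm GolayPt) where
  carrier := {g | g ∈ M24 ∧ ∀ m ∈ Ms, Inv g m}
  one_mem' := ⟨M24.one_mem, fun m _ => one_smul _ _⟩
  mul_mem' := by
    rintro g h ⟨hg, hg'⟩ ⟨hh, hh'⟩
    exact ⟨M24.mul_mem hg hh, fun m hm => by rw [Helper3_M24a.Inv, mul_smul, hh' m hm, hg' m hm]⟩
  inv_mem' := by
    rintro g ⟨hg, hg'⟩
    exact ⟨M24.inv_mem hg, fun m hm => by rw [Helper3_M24a.Inv, inv_smul_eq_iff, hg' m hm]⟩

theorem mem_StM {Ms : List ℕ} {g : Equiv.Perm GolayPt} :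
    g ∈ StM Ms ↔ g ∈ M24 ∧ ∀ m ∈ Ms, g • dec m = dec m := Iff.rfl

theorem StM_nil : StM [] = M24 := by
  ext g; simp [mem_StM]

/-- the subgroup of `M24` fixing the points of `F` and leaving the sets of `Ms` invariant. -/
abbrev Stb (F Ms : List ℕ) : Subgroup (Equiv.Perm GolayPt) := fixL (StM Ms) (F.map pt)

theorem mem_Stb {F Ms : List ℕ} {g : Equiv.Perm GolayPt} :
    g ∈ Stb F Ms ↔ g ∈ M24 ∧ (∀ m ∈ Ms, g • dec m = dec m) ∧ ∀ i ∈ F, g (pt i) = pt i := by
  rw [mem_fixL, mem_StM, and_assoc]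
  simp

theorem Stb_le (F Ms : List ℕ) : Stb F Ms ≤ M24 := fun _ h => h.1.1

/-- initial invariant sets -/
def initI (F Ms : List ℕ) : List ℕ := 16777215 :: (F.map (1 <<< ·) ++ Ms)

theorem inv_of_der {F Ms : List ℕ} {L : List (ℕ × ℕ × ℕ × ℕ)} (hF : F.all (· < 24) = true)
    (h : chkDer (initI F Ms) L = true) {g : Equiv.Perm GolayPt} (hg : g ∈ Stb F Ms) :
    ∀ m ∈ L.map (fun s => s.2.1) ++ initI F Ms, Inv g m := by
  have h0 : ∀ m ∈ initI F Ms, Inv g m := by
    intro m hm
    rcases List.mem_cons.mp hm with rfl | hm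
    · exact Inv_full g
    · rcases List.mem_append.mp hm with hm | hm
      · obtain ⟨i, hi, rfl⟩ := List.mem_map.mp hm
        have hi24 : i < 24 := by simpa using (List.all_eq_true.mp hF) i hi
        rw [Inv_single hi24]
        exact hg.2 _ (List.mem_map_of_mem hi)
      · exact hg.1.2 m hm
  intro m hm
  rcases List.mem_append.mp hm with hm | hm
  · obtain ⟨s, hs, rfl⟩ := List.mem_map.mp hm
    exact chkDer_sound hg.1.1 L _ h0 h s hs
  · exact h0 m hm

/-- Boolean membership test for tables -/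
def inStb (F Ms : List ℕ) (N : ℕ) : Bool :=
  isAut N && F.all (fun i => ap N i == i) && Ms.all (fun m => img N m == m)

theorem isPerm_of_isAut {N : ℕ} (h : isAut N = true) : isPerm N = true := by
  rw [isAut, Bool.and_eq_true] at h; exact h.1

theorem prm_mem_Stb {F Ms : List ℕ} {N : ℕ} (hF : F.all (· < 24) = true)
    (h : inStb F Ms N = true) : isPerm N = true ∧ prm N ∈ Stb F Ms := by
  rw [inStb, Bool.and_eq_true, Bool.and_eq_true, List.all_eq_true, List.all_eq_true] at h
  obtain ⟨⟨h1, h2⟩, h3⟩ := h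
  have hp := isPerm_of_isAut h1
  refine ⟨hp, ?_⟩
  rw [mem_Stb]
  refine ⟨prm_mem_M24 h1, ?_, ?_⟩
  · intro m hm
    rw [smul_dec hp]
    have := h3 m hm
    rw [beq_iff_eq] at this
    rw [this]
  · intro i hi
    have hi24 : i < 24 := by simpa using (List.all_eq_true.mp hF) i hi
    have := h2 i hi
    rw [beq_iff_eq] at this
    rw [prm_pt hp hi24, this]

/-- for each `c` in `M` some table of `U` maps `b` to `c`. -/
def chkTr (U : List ℕ) (b M : ℕ) : Bool :=
  (List.range 24).all fun c => !M.testBit c || U.any fun N => ap N b == c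

/-- the orbit of `b` under `Stb F Ms` is `M`. -/
def LevelG (F Ms : List ℕ) (b M : ℕ) : Prop :=
  (∀ g ∈ Stb F Ms, g (pt b) ∈ dec M) ∧ (∀ q ∈ dec M, ∃ g ∈ Stb F Ms, g (pt b) = q)

theorem levelG {F Ms : List ℕ} {b M : ℕ} (L : List (ℕ × ℕ × ℕ × ℕ)) (U : List ℕ)
    (hF : F.all (· < 24) = true)
    (hb : b < 24) (hder : chkDer (initI F Ms) L = true)
    (hM : (L.map (fun s => s.2.1) ++ initI F Ms).contains M = true) (hbM : M.testBit b = true)
    (hU : U.all (inStb F Ms) = true)
    (hT : chkTr U b M = true) : LevelG F Ms b M := by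
  constructor
  · intro g hg
    have h1 := inv_of_der hF hder hg M (by simpa using hM)
    have h2 : pt b ∈ dec M := by rw [mem_dec, idx_pt b hb]; exact hbM
    have h3 := Finset.smul_mem_smul_finset (a := g) h2
    rwa [h1] at h3
  · intro q hq
    rw [chkTr, List.all_eq_true] at hT
    have h1 := hT (idx q) (List.mem_range.mpr (idx_lt q))
    rw [mem_dec] at hq
    rw [hq] at h1
    simp only [Bool.not_true, Bool.false_or, List.any_eq_true, beq_iff_eq] at h1
    obtain ⟨N, hN, h2⟩ := h1
    have hg := prm_mem_Stb hF ((List.all_eq_true.mp hU) N hN)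
    refine ⟨prm N, hg.2, ?_⟩
    rw [prm_pt hg.1 hb, h2, pt_idx]

theorem card_levelG {F Ms : List ℕ} {b M : ℕ} (h : LevelG F Ms b M) :
    Nat.card (Stb F Ms) = popN 24 M * Nat.card (Stb (b :: F) Ms) := by
  rw [← card_dec]
  exact card_level (StM Ms) _ _ (dec M) h.1 h.2

theorem Stb_eq_bot {F Ms : List ℕ} (L : List (ℕ × ℕ × ℕ × ℕ)) (hF : F.all (· < 24) = true)
    (hder : chkDer (initI F Ms) L = true)
    (hall : (List.range 24).all
      (fun i => (L.map (fun s => s.2.1) ++ initI F Ms).contains (1 <<< i)) = true) :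
    Stb F Ms = ⊥ := by
  rw [eq_bot_iff]
  intro g hg
  have h1 := inv_of_der hF hder hg
  rw [Subgroup.mem_bot]
  ext p : 1
  have h2 := (List.all_eq_true.mp hall) (idx p) (List.mem_range.mpr (idx_lt p))
  have h3 := h1 _ (by simpa using h2)
  rw [Inv_single (idx_lt p), pt_idx] at h3
  exact h3

theorem levG_MT {F Ms : List ℕ} {b M W : ℕ} {bs : List GolayPt} (h : LevelG F Ms b M)
    (hW : W = 16777215 ∨ W ∈ Ms)
    (hc : ∀ p : GolayPt, p ∈ dec W → p ∉ F.map pt → p ∈ dec M)
    (ih : MT (StM Ms) (↑(dec W)) (pt b :: F.map pt) bs) :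
    MT (StM Ms) (↑(dec W)) (F.map pt) (pt b :: bs) := by
  apply MT_cons _ _ _ _ _ ?_ ?_ ih
  · intro g hg x
    have hI : g • dec W = dec W := by
      rcases hW with rfl | hW
      · exact Inv_full g
      · exact hg.2 W hW
    constructor
    · intro hx
      have : g x ∈ g • dec W := by rw [hI]; exact hx
      rw [← Equiv.Perm.smul_def, Finset.smul_mem_smul_finset_iff] at this
      exact this
    · intro hx
      have := Finset.smul_mem_smul_finset (a := g) (Finset.mem_coe.mp hx)
      rw [hI] at this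
      exact this
  · intro c hcW hcF
    exact h.2 c (hc c hcW hcF)

/-! ### orbits on code words -/

theorem img_lt {N : ℕ} (h : isPerm N = true) (m : ℕ) : img N m < 2 ^ 24 := by
  apply Nat.lt_pow_two_of_testBit
  intro j hj
  by_contra hc
  rw [Bool.not_eq_false] at hc
  obtain ⟨i, hi, _, h2⟩ := (testBit_img N m j).mp hc
  have := ap_lt h hi
  omega

def orbStep (x : ℕ) : List ℕ → List ℕ → ℕ → List ℕ × ℕ
  | [], td, sn => (td, sn)
  | N :: gs, td, sn =>
      if sn.testBit (img N x % 4096) then orbStep x gs td sn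
      else orbStep x gs (img N x :: td) (sn ||| (1 <<< (img N x % 4096)))

def orbLoop (gens : List ℕ) : ℕ → List ℕ → ℕ → ℕ
  | 0, _, sn => sn
  | _ + 1, [], sn => sn
  | f + 1, x :: td, sn => orbLoop gens f (orbStep x gens td sn).1 (orbStep x gens td sn).2

/-- bit set (indexed by the low twelve bits) of the orbit of the code word `r`. -/
def orbSet (gens : List ℕ) (r : ℕ) : ℕ := orbLoop gens 5000 [r] (1 <<< (r % 4096))

section
variable (H : Subgroup (Equiv.Perm GolayPt)) (r : ℕ)

/-- `x` is a 24-bit mask in the `H`-orbit of `r`. -/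
def Rch (x : ℕ) : Prop := x < 2 ^ 24 ∧ ∃ g ∈ H, g • dec r = dec x

def SeenOK (sn : ℕ) : Prop := ∀ n, sn.testBit n = true → ∃ x, Rch H r x ∧ x % 4096 = n

variable {H r}

theorem Rch_img {x N : ℕ} (hx : Rch H r x) (hN : Good H N) : Rch H r (img N x) := by
  obtain ⟨_, g, hg, h⟩ := hx
  exact ⟨img_lt hN.1 x, prm N * g, H.mul_mem hN.2 hg, by rw [mul_smul, h, smul_dec hN.1]⟩

theorem orbStep_ok {x : ℕ} (hx : Rch H r x) : ∀ (gs td : List ℕ) (sn : ℕ), (∀ N ∈ gs, Good H N) →
    (∀ y ∈ td, Rch H r y) → SeenOK H r sn →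
    (∀ y ∈ (orbStep x gs td sn).1, Rch H r y) ∧ SeenOK H r (orbStep x gs td sn).2 := by
  intro gs
  induction gs with
  | nil => intro td sn _ h1 h2; exact ⟨h1, h2⟩
  | cons N gs ih =>
    intro td sn hg h1 h2
    rw [orbStep]
    have hgs : ∀ N ∈ gs, Good H N := fun K hK => hg K (List.mem_cons_of_mem _ hK)
    split_ifs with hc
    · exact ih td sn hgs h1 h2
    · have hy := Rch_img hx (hg N List.mem_cons_self)
      apply ih _ _ hgs
      · intro y hy'
        rcases List.mem_cons.mp hy' with rfl | hy'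
        · exact hy
        · exact h1 y hy'
      · intro n hn
        rw [Nat.testBit_or, Bool.or_eq_true] at hn
        rcases hn with hn | hn
        · exact h2 n hn
        · rw [Nat.one_shiftLeft, Nat.testBit_two_pow] at hn
          simp only [decide_eq_true_eq] at hn
          exact ⟨_, hy, hn⟩

theorem orbLoop_ok {gens : List ℕ} (hg : ∀ N ∈ gens, Good H N) : ∀ (f : ℕ) (td : List ℕ) (sn : ℕ),
    (∀ y ∈ td, Rch H r y) → SeenOK H r sn → SeenOK H r (orbLoop gens f td sn) := by
  intro f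
  induction f with
  | zero => intro td sn _ h2; exact h2
  | succ f ih =>
    intro td sn h1 h2
    match td with
    | [] => exact h2
    | x :: td =>
      rw [orbLoop]
      have := orbStep_ok (h1 x List.mem_cons_self) gens td sn hg
        (fun y hy => h1 y (List.mem_cons_of_mem _ hy)) h2
      exact ih _ _ this.1 this.2

theorem orbSet_ok {gens : List ℕ} (hg : ∀ N ∈ gens, Good H N) (hr : r < 2 ^ 24) :
    SeenOK H r (orbSet gens r) := by
  have hr' : Rch H r r := ⟨hr, 1, H.one_mem, one_smul _ _⟩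
  apply orbLoop_ok hg
  · intro y hy
    rw [List.mem_singleton] at hy
    rw [hy]; exact hr'
  · intro n hn
    rw [Nat.one_shiftLeft, Nat.testBit_two_pow] at hn
    simp only [decide_eq_true_eq] at hn
    exact ⟨r, hr', hn⟩

theorem code_eq {x : ℕ} (h : code x = true) : combL EL (x % 4096) = x := by simpa [code] using h

theorem reach_of_orbSet {gens : List ℕ} (hH : H ≤ M24) (hg : ∀ N ∈ gens, Good H N)
    (hr : r < 2 ^ 24) (hrc : code r = true) {y : ℕ} (hyc : code y = true)
    (h : (orbSet gens r).testBit (y % 4096) = true) : ∃ g ∈ H, g • dec r = dec y := by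
  obtain ⟨x, ⟨hx, g, hg', hgx⟩, hxy⟩ := orbSet_ok hg hr _ h
  have hxc : code x = true := by
    rw [← dec_mem_supports_iff hx, ← hgx]
    exact smul_mem_Sup (hH hg') (dec_mem_of_code hrc)
  have : x = y := by rw [← code_eq hxc, ← code_eq hyc, hxy]
  exact ⟨g, hg', by rw [hgx, this]⟩

end

theorem allComb_combL (ms : List ℕ) : ∀ (acc : ℕ) (P : ℕ → Bool), allComb ms acc P = true →
    ∀ n, P (acc ^^^ combL ms n) = true := by
  induction ms with
  | nil => intro acc P h n; simpa [combL, allComb] using h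
  | cons m ms ih =>
    intro acc P h n
    rw [allComb, Bool.and_eq_true] at h
    rw [combL]
    split_ifs
    · rw [← Nat.xor_assoc]; exact ih _ P h.2 _
    · rw [Nat.zero_xor]; exact ih _ P h.1 _

/-- a Boolean property checked on the 4096 code masks holds for every code mask. -/
theorem forall_code_mask (P : ℕ → Bool) (h : allComb EL 0 P = true) {y : ℕ}
    (hy : code y = true) : P y = true := by
  have := allComb_combL EL 0 P h (y % 4096)
  rwa [Nat.zero_xor, code_eq hy] at this

/-- all code words satisfying `Q` lie in the orbit of `r` under `Stb F Ms`. -/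
theorem orbit_all {F Ms gens : List ℕ} {r : ℕ} (S : ℕ) (Q : ℕ → Bool)
    (hF : F.all (· < 24) = true) (hg : gens.all (inStb F Ms) = true)
    (hr : r < 2 ^ 24) (hrc : code r = true) (hS : orbSet gens r = S)
    (hchk : allComb EL 0 (fun y => !Q y || S.testBit (y % 4096)) = true)
    {y : ℕ} (hyc : code y = true) (hQ : Q y = true) : ∃ g ∈ Stb F Ms, g • dec r = dec y := by
  have h1 := forall_code_mask _ hchk hyc
  simp only [hQ, Bool.not_true, Bool.false_or] at h1
  apply reach_of_orbSet (Stb_le F Ms) (gens := gens) ?_ hr hrc hyc (by rw [hS]; exact h1)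
  intro N hN
  exact prm_mem_Stb hF ((List.all_eq_true.mp hg) N hN)

end Cfsg.Agent.Lib.Helper3_M24c
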