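import Mathlib
import Cfsg.Agent.Lib.Helper3_M24c

/-!
# helper3: normal forms for octads and dodecads under `M24`
-/

set_option autoImplicit false
set_option linter.unusedSectionVars false
set_option linter.constructorNameAsVariable false

namespace Cfsg.Agent.Lib.Helper3_M24d

open Cfsg Cfsg.Agent.Lib.Helper3_Golay Cfsg.Agent.Lib.Helper3_Golay2 Cfsg.Agent.Lib.Helper3_Golay3
open Cfsg.Agent.Lib.Helper3_M24a Cfsg.Agent.Lib.Helper3_PermChain Cfsg.Agent.Lib.Helper3_M24b
open Cfsg.Agent.Lib.Helper3_M24c
open scoped Pointwise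

/-- the base octad -/
def O0 : ℕ := 8536111
/-- the base dodecad -/
def D0 : ℕ := 11472927
/-- the five base points -/
def B5m : ℕ := 8388623
def baseL : List GolayPt := [pt 23, pt 0, pt 1, pt 2, pt 3]

def gens48 : List ℕ := [980504394422866046962412236452235296, 964862721552653238424309835408443424, 966182099583441531322624363496310816]
def S48 : ℕ := 4319491173354514350420426077754462578881393987070436209763298345752189102040135942497813175721040947819623467083601288574911015881468322405561763464505087085329234463400653807166375602603930732361029992067334961990428039644938244058248373211520233105878185298957627038500020694684622508151368111385016250481097911355010626979864443986115653644111217623248805452108650591041947111286211400991952896738448172612421304317376899371494174603886571613890152470021354469716478244689006387936276899179257233035686777901313292246778079146051282321866589981734627193397553419099739394419104815823924316999200457000498527024091174312146863253616384588548098659245527023456323998824415198925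85744795565484553218508219064646172568197286083612652952534047090509646476002631037586975105133700986484238789796557129145953628254293589133921986629176293049750485177854971996710905441202620321003136321608925894716147317353300421772020593673982212765383698618650930842690049324935218647725851563477808884700110256896711064690186137899467212423362658743701568227969101851778286852614929421290901726231081847552779661657447827852081610676572177894222816591240636265465004426556002881280728794404175233106881802038904854264565202944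

theorem exists_base_map (ys : List GolayPt) (hl : ys.length = 5) (hn : ys.Nodup) :
    ∃ g ∈ M24, baseL.map g = ys := by
  obtain ⟨g, hg, h⟩ := MT5 ys hl (by simpa using hn) (fun _ _ => trivial)
  exact ⟨g, hg.1, h⟩

theorem exists_list_of_le {s : Finset GolayPt} {n : ℕ} (h : n ≤ s.card) :
    ∃ ys : List GolayPt, ys.length = n ∧ ys.Nodup ∧ ∀ y ∈ ys, y ∈ s := by
  obtain ⟨t, hts, ht⟩ := Finset.exists_subset_card_eq h
  exact ⟨t.toList, by simp [ht], t.nodup_toList, fun y hy => hts (Finset.mem_toList.mp hy)⟩

theorem exists_list_cons {s : Finset GolayPt} {p : GolayPt} (hp : p ∈ s) {n : ℕ}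
    (h : n + 1 ≤ s.card) :
    ∃ ys : List GolayPt, (p :: ys).length = n + 1 ∧ (p :: ys).Nodup ∧ ∀ y ∈ p :: ys, y ∈ s := by
  obtain ⟨ys, h1, h2, h3⟩ := exists_list_of_le (s := s.erase p) (n := n)
    (by rw [Finset.card_erase_of_mem hp]; omega)
  refine ⟨ys, by simp [h1], ?_, ?_⟩
  · rw [List.nodup_cons]
    exact ⟨fun hc => (Finset.mem_erase.mp (h3 p hc)).1 rfl, h2⟩
  · intro y hy
    rcases List.mem_cons.mp hy with rfl | hy
    · exact hp
    · exact (Finset.mem_erase.mp (h3 y hy)).2

theorem O0_mem : dec O0 ∈ octads :=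
  ⟨dec_mem_of_code (by decide +kernel), by rw [card_dec]; decide +kernel⟩

theorem D0_mem : dec D0 ∈ dodecads :=
  ⟨dec_mem_of_code (by decide +kernel), by rw [card_dec]; decide +kernel⟩

theorem base_mem_O0 : ∀ b ∈ baseL, b ∈ dec O0 := by decide +kernel
theorem base_mem_D0 : ∀ b ∈ baseL, b ∈ dec D0 := by decide +kernel
theorem mem_B5 : ∀ b : GolayPt, b ∈ dec B5m ↔ b ∈ baseL := by decide +kernel

theorem octad_nf {o : Finset GolayPt} (ho : o ∈ octads) (ys : List GolayPt) (hl : ys.length = 5)
    (hn : ys.Nodup) (hys : ∀ y ∈ ys, y ∈ o) : ∃ g ∈ M24, baseL.map g = ys ∧ g • dec O0 = o := by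
  obtain ⟨g, hg, hm⟩ := exists_base_map ys hl hn
  refine ⟨g, hg, hm, ?_⟩
  apply octad_eq_of_five (u := ys.toFinset) (smul_mem_octads hg O0_mem) ho
  · rw [List.toFinset_card_of_nodup hn, hl]
  · intro y hy
    rw [List.mem_toFinset, ← hm] at hy
    obtain ⟨b, hb, rfl⟩ := List.mem_map.mp hy
    exact Finset.smul_mem_smul_finset (a := g) (base_mem_O0 b hb)
  · intro y hy
    exact hys y (List.mem_toFinset.mp hy)

theorem and_eq_of_dec_subset {a y : ℕ} (ha : a < 2 ^ 24) (h : dec a ⊆ dec y) : a &&& y = a := by
  apply dec_injOn (lt_of_le_of_lt Nat.and_le_left ha) ha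
  rw [dec_and]
  exact Finset.inter_eq_left.mpr h

theorem dod48 {y : ℕ} (hyc : code y = true) (h12 : popN 24 y = 12) (hB : B5m &&& y = B5m) :
    ∃ g ∈ Stb [3, 2, 1, 0, 23] [], g • dec D0 = dec y :=
  orbit_all (gens := gens48) S48 (fun y => popN 24 y == 12 && (B5m &&& y == B5m))
    (by decide +kernel) (by decide +kernel) (by decide +kernel) (by decide +kernel)
    (by decide +kernel) (by decide +kernel) hyc (by simp [h12, hB])

theorem map_base_of_Stb {h : Equiv.Perm GolayPt} (hh : h ∈ Stb [3, 2, 1, 0, 23] []) :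
    baseL.map h = baseL := by
  have h2 := (mem_Stb.mp hh).2.2
  simp only [baseL, List.map_cons, List.map_nil]
  rw [h2 23 (by simp), h2 0 (by simp), h2 1 (by simp), h2 2 (by simp), h2 3 (by simp)]

theorem dodecad_nf {d : Finset GolayPt} (hd : d ∈ dodecads) (ys : List GolayPt) (hl : ys.length = 5)
    (hn : ys.Nodup) (hys : ∀ y ∈ ys, y ∈ d) : ∃ g ∈ M24, baseL.map g = ys ∧ g • dec D0 = d := by
  obtain ⟨g, hg, hm⟩ := exists_base_map ys hl hn
  have hd' := smul_mem_dodecads (M24.inv_mem hg) hd
  obtain ⟨y, hy, hyc, hyd⟩ := mem_supports_iff.mp hd'.1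
  have h12 : popN 24 y = 12 := by rw [← card_dec, ← hyd]; exact hd'.2
  have hB : B5m &&& y = B5m := by
    apply and_eq_of_dec_subset (by decide +kernel)
    intro b hb
    rw [mem_B5] at hb
    rw [← hyd, Finset.mem_inv_smul_finset_iff]
    apply hys
    rw [← hm]
    exact List.mem_map_of_mem hb
  obtain ⟨h, hh, hhd⟩ := dod48 hyc h12 hB
  refine ⟨g * h, M24.mul_mem hg (Stb_le _ _ hh), ?_, ?_⟩
  · have : baseL.map ⇑(g * h) = (baseL.map ⇑h).map ⇑g := by
      rw [List.map_map]; rfl
    rw [this, map_base_of_Stb hh, hm]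
  · rw [mul_smul, hhd, ← hyd, smul_inv_smul]

theorem trans_octads {o o' : Finset GolayPt} (ho : o ∈ octads) (ho' : o' ∈ octads) :
    ∃ g ∈ M24, g • o = o' := by
  obtain ⟨ys, h1, h2, h3⟩ := exists_list_of_le (s := o) (n := 5) (by rw [ho.2]; norm_num)
  obtain ⟨zs, k1, k2, k3⟩ := exists_list_of_le (s := o') (n := 5) (by rw [ho'.2]; norm_num)
  obtain ⟨g, hg, _, hgo⟩ := octad_nf ho ys h1 h2 h3
  obtain ⟨k, hk, _, hko⟩ := octad_nf ho' zs k1 k2 k3
  exact ⟨k * g⁻¹, M24.mul_mem hk (M24.inv_mem hg), by rw [mul_smul, ← hgo, inv_smul_smul, hko]⟩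

theorem trans_dodecads {o o' : Finset GolayPt} (ho : o ∈ dodecads) (ho' : o' ∈ dodecads) :
    ∃ g ∈ M24, g • o = o' := by
  obtain ⟨ys, h1, h2, h3⟩ := exists_list_of_le (s := o) (n := 5) (by rw [ho.2]; norm_num)
  obtain ⟨zs, k1, k2, k3⟩ := exists_list_of_le (s := o') (n := 5) (by rw [ho'.2]; norm_num)
  obtain ⟨g, hg, _, hgo⟩ := dodecad_nf ho ys h1 h2 h3
  obtain ⟨k, hk, _, hko⟩ := dodecad_nf ho' zs k1 k2 k3
  exact ⟨k * g⁻¹, M24.mul_mem hk (M24.inv_mem hg), by rw [mul_smul, ← hgo, inv_smul_smul, hko]⟩

theorem M24_eq_aut_octads : M24 = setSystemAut octads := by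
  have hfin : octads.Finite := Set.toFinite _
  apply le_antisymm
  · intro g hg
    rw [MulAction.mem_stabilizer_set' hfin]
    intro o ho
    exact smul_mem_octads hg ho
  · intro g hg
    rw [MulAction.mem_stabilizer_set' hfin] at hg
    apply mem_M24_of_gens
    intro m hm
    have h1 : ∀ m ∈ EL, code m = true ∧ popN 24 m = 8 := by decide +kernel
    have : dec m ∈ octads := ⟨dec_mem_of_code (h1 m hm).1, by rw [card_dec, (h1 m hm).2]⟩
    exact (hg this).1

end Cfsg.Agent.Lib.Helper3_M24d
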