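import Mathlib
import Cfsg.Agent.Lib.Helper3_M24d

/-!
# helper3: orders of stabilisers in `M24`, the groups on a dodecad
-/

set_option autoImplicit false
set_option linter.unusedSectionVars false
set_option linter.constructorNameAsVariable false

namespace Cfsg.Agent.Lib.Helper3_M24e

open Cfsg Cfsg.Agent.Lib.Helper3_Golay Cfsg.Agent.Lib.Helper3_Golay2 Cfsg.Agent.Lib.Helper3_Golay3
open Cfsg.Agent.Lib.Helper3_M24a Cfsg.Agent.Lib.Helper3_PermChain Cfsg.Agent.Lib.Helper3_M24b
open Cfsg.Agent.Lib.Helper3_M24c Cfsg.Agent.Lib.Helper3_M24d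
open scoped Pointwise

def KD0 : List (ℕ × ℕ × ℕ × ℕ) := [(1, 16777214, 16777215, 1), (1, 16777212, 16777214, 2), (1, 16777208, 16777212, 4), (1, 16777200, 16777208, 8), (1, 16777168, 16777200, 32), (1, 16760784, 16777168, 16384), (1, 16629712, 16760784, 131072), (1, 8241104, 16629712, 8388608)]

def KU0 : List ℕ := [984818244535754528103549039458486304, 983548720921252936276249910206105632, 970499966350631336865513127433832480, 971592882964418941354553515258775584, 963721886883755259286232606933354528, 981818691054096003685363657089320992, 975346028712660580592452217730074656, 972512676110088067912772961567868960, 961365507626256404119956257276790816, 967812279691448225500382947153381408, 968708902336673183175954409307867168, 980224387687010295957922729495201824, 979121071158219704299181131031480352, 966182099583441531322624363496310816, 965128854020860192151391391390468128, 976448692869377735270425038196672544]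

theorem Klev0 : LevelG [23, 17, 14, 5, 3, 2, 1, 0] [] 4 8241104 :=
  levelG KD0 KU0 (by decide +kernel) (by decide +kernel) (by decide +kernel) (by decide +kernel)
    (by decide +kernel) (by decide +kernel) (by decide +kernel)

def KD1 : List (ℕ × ℕ × ℕ × ℕ) := [(1, 16777214, 16777215, 1), (1, 16777212, 16777214, 2), (1, 16777208, 16777212, 4), (1, 16777200, 16777208, 8), (1, 16777168, 16777200, 32), (1, 16760784, 16777168, 16384), (1, 16629712, 16760784, 131072), (1, 8241104, 16629712, 8388608), (1, 8241088, 8241104, 16), (1, 16386, 2, 16384), (1, 147458, 16386, 131072), (1, 8536066, 147458, 8388608), (1, 8536082, 8536066, 16), (2, 13811730, 8536082, 8536082), (0, 5275648, 8241088, 13811730), (1, 2965440, 8241088, 5275648), (1, 5, 1, 4), (1, 16389, 5, 16384), (1, 8404997, 16389, 8388608), (1, 8405013, 8404997, 16), (2, 8966165, 8405013, 8405013), (0, 32768, 5275648, 8966165), (1, 5242880, 5275648, 32768), (0, 528384, 2965440, 8966165), (1, 2437056, 2965440, 528384), (1, 3, 1, 2), (1,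 11, 3, 8), (1, 8388619, 11, 8388608), (1, 8421387, 8388619, 32768), (2, 14716939, 8421387, 8421387), (0, 4194304, 5242880, 14716939), (1, 1048576, 5242880, 4194304), (0, 4096, 528384, 14716939), (1, 524288, 528384, 4096), (0, 2097152, 2437056, 14716939), (1, 339904, 2437056, 2097152), (1, 16385, 1, 16384), (1, 147457, 16385, 131072), (1, 8536065, 147457, 8388608), (1, 12730369, 8536065, 4194304), (2, 13062145, 12730369, 12730369), (0, 327680, 339904, 13062145), (1, 12224, 339904, 327680), (1, 49154, 16386, 32768), (1, 4243458, 49154, 4194304), (1, 4247554, 4243458, 4096), (2, 4845570, 4247554, 4247554), (0, 65536, 327680, 4845570), (1, 262144, 327680, 65536), (0, 8192, 12224, 4845570), (1, 4032, 12224, 8192), (1, 8404992, 16384, 8388608), (1, 8437760, 8404992, 32768), (1, 12632064, 8437760, 4194304), (1, 13156352, 12632064, 524288), (2, 15515712, 13156352, 13156352), (0, 64, 4032, 15515712), (1, 3968, 4032, 64), (1, 147456, 16384, 131072), (1, 180224, 147456, 32768), (1, 1228800, 180224,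 1048576), (1, 1232896, 1228800, 4096), (2, 2019456, 1232896, 1232896), (0, 128, 3968, 2019456), (1, 3840, 3968, 128), (1, 1081344, 32768, 1048576), (1, 1605632, 1081344, 524288), (1, 3702784, 1605632, 2097152), (1, 3768320, 3702784, 65536), (2, 4038912, 3768320, 3768320), (0, 256, 3840, 4038912), (1, 3584, 3840, 256), (1, 4341760, 147456, 4194304), (1, 5390336, 4341760, 1048576), (1, 5914624, 5390336, 524288), (2, 8077824, 5914624, 5914624), (0, 512, 3584, 8077824), (1, 3072, 3584, 512), (1, 9486336, 8437760, 1048576), (1, 9490432, 9486336, 4096), (2, 11654144, 9490432, 9490432), (0, 1024, 3072, 11654144), (1, 2048, 3072, 1024)]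

def ED0 : List (ℕ × ℕ × ℕ × ℕ) := []

def EU0 : List ℕ := [984818244535754528103549039458486304, 984720555655011204704194672859676752, 974871624705142763646818753290782293, 984641407065074626183302526330912772, 962736346756010114612579027957352032, 974910882857522524653841477052404396, 963954490907007759013972793303861808, 965864846006028394290868049296230005, 963318967166187408071888051017696292, 969063940869488297096449112225761376, 970157848012679323300933563942177857, 963269949098434007921835371976492620]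

theorem Elev0 : LevelG [23] [11472927, 5304288] 5 5304288 :=
  levelG ED0 EU0 (by decide +kernel) (by decide +kernel) (by decide +kernel) (by decide +kernel)
    (by decide +kernel) (by decide +kernel) (by decide +kernel)

def ED1 : List (ℕ × ℕ × ℕ × ℕ) := [(1, 8388607, 16777215, 8388608), (1, 8388575, 8388607, 32), (0, 3084319, 8388575, 11472927), (1, 5304256, 8388575, 3084319)]

def EU1 : List ℕ := [984818244535754528103549039458486304, 967773138451529694700475702905995349, 963270683795862102823058542775763980, 970329544825796555002496302954697745, 965252690844494839385914068613902370, 965821292101711543584343065443303811, 964659369667225126211108735867569840, 970408745037899174542809581725223937, 963278224102957392359407859844371506, 965250194377612547643464945803217570, 984803686440676940100005350519914880]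

theorem Elev1 : LevelG [5, 23] [11472927, 5304288] 6 5304256 :=
  levelG ED1 EU1 (by decide +kernel) (by decide +kernel) (by decide +kernel) (by decide +kernel)
    (by decide +kernel) (by decide +kernel) (by decide +kernel)

def ED2 : List (ℕ × ℕ × ℕ × ℕ) := [(1, 8388607, 16777215, 8388608), (1, 8388575, 8388607, 32), (1, 8388511, 8388575, 64), (0, 3084319, 8388511, 11472927), (1, 5304192, 8388511, 3084319)]

def EU2 : List ℕ := [984818244535754528103549039458486304, 964603019814219205130456673038676644, 965833868352697517263260196984588419, 968422451464310411692147733019935856, 975516182983038805443963124241805365, 969849748280705549271593301746649776, 972429454180578999159698363601964544, 972286191069170453251144826103547555, 973572837490441047886627551969980545, 975514284599600221949476431463592032]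

theorem Elev2 : LevelG [6, 5, 23] [11472927, 5304288] 7 5304192 :=
  levelG ED2 EU2 (by decide +kernel) (by decide +kernel) (by decide +kernel) (by decide +kernel)
    (by decide +kernel) (by decide +kernel) (by decide +kernel)

theorem card_inf_stabilizer {G X : Type*} [Group G] [MulAction G X] (A : Subgroup G) (x : X) :
    (MulAction.orbit A x).ncard * Nat.card ↥(A ⊓ MulAction.stabilizer G x) = Nat.card A := by
  have h := (MulAction.stabilizer A x).index_mul_card
  rw [MulAction.index_stabilizer] at h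
  rw [← h]
  congr 1
  exact Nat.card_congr ⟨fun g => ⟨⟨g.1, g.2.1⟩, g.2.2⟩, fun g => ⟨g.1.1, g.1.2, g.2⟩,
    fun _ => rfl, fun _ => rfl⟩

theorem natCard_pt : Nat.card GolayPt = 24 := by
  rw [Nat.card_eq_fintype_card]; rfl

theorem kTrans {k : ℕ} (hk : k ≤ 5) : MulAction.IsMultiplyPretransitive M24 GolayPt k := by
  have := fiveTrans
  exact MulAction.isMultiplyPretransitive_of_le (n := 5) hk (by rw [natCard_pt]; norm_num)

theorem pretrans : MulAction.IsPretransitive M24 GolayPt :=
  MulAction.is_one_pretransitive_iff.mp (kTrans (by norm_num))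

theorem card_stab1 (p : GolayPt) : Nat.card (MulAction.stabilizer M24 p) = 10200960 := by
  have := pretrans
  have h := (MulAction.stabilizer M24 p).index_mul_card
  rw [MulAction.index_stabilizer_of_transitive, card_M24, natCard_pt] at h
  omega

theorem card_fixing (s : Set GolayPt) (hs : s.ncard ≤ 5) :
    Nat.choose 24 s.ncard * s.ncard.factorial * Nat.card (fixingSubgroup M24 s) = 244823040 := by
  have h := MulAction.IsMultiplyPretransitive.index_of_fixingSubgroup_eq (G := M24) s (kTrans hs)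
  have h2 := (fixingSubgroup M24 s).index_mul_card
  rw [h, card_M24, natCard_pt] at h2
  exact h2

theorem card_stab2 (p q : GolayPt) (hpq : p ≠ q) :
    Nat.card ↥(MulAction.stabilizer M24 p ⊓ MulAction.stabilizer M24 q) = 443520 := by
  have h := card_fixing {p, q} (by rw [Set.ncard_pair hpq]; norm_num)
  have h2 : fixingSubgroup M24 ({p, q} : Set GolayPt) =
      MulAction.stabilizer M24 p ⊓ MulAction.stabilizer M24 q := by
    ext g; simp [mem_fixingSubgroup_iff]
  rw [Set.ncard_pair hpq, h2, show Nat.choose 24 2 * Nat.factorial 2 = 552 from by decide +kernel] at h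
  omega

theorem card_stab3 (p q r : GolayPt) (hpq : p ≠ q) (hpr : p ≠ r) (hqr : q ≠ r) :
    Nat.card ↥(MulAction.stabilizer M24 p ⊓ MulAction.stabilizer M24 q ⊓
      MulAction.stabilizer M24 r) = 20160 := by
  have hc : ({p, q, r} : Set GolayPt).ncard = 3 := by
    rw [Set.ncard_eq_three]; exact ⟨p, q, r, hpq, hpr, hqr, rfl⟩
  have h := card_fixing {p, q, r} (by rw [hc]; norm_num)
  have h2 : fixingSubgroup M24 ({p, q, r} : Set GolayPt) =
      MulAction.stabilizer M24 p ⊓ MulAction.stabilizer M24 q ⊓ MulAction.stabilizer M24 r := by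
    ext g; simp [mem_fixingSubgroup_iff, and_assoc]
  rw [hc, h2, show Nat.choose 24 3 * Nat.factorial 3 = 12144 from by decide +kernel] at h
  omega

theorem orbit_dodecad {d : Finset GolayPt} (hd : d ∈ dodecads) : MulAction.orbit M24 d = dodecads := by
  ext e
  constructor
  · rintro ⟨g, rfl⟩
    exact smul_mem_dodecads g.2 hd
  · intro he
    obtain ⟨g, hg, h⟩ := trans_dodecads hd he
    exact ⟨⟨g, hg⟩, h⟩

theorem orbit_octad {d : Finset GolayPt} (hd : d ∈ octads) : MulAction.orbit M24 d = octads := by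
  ext e
  constructor
  · rintro ⟨g, rfl⟩
    exact smul_mem_octads g.2 hd
  · intro he
    obtain ⟨g, hg, h⟩ := trans_octads hd he
    exact ⟨⟨g, hg⟩, h⟩

theorem card_stab_dodecad {d : Finset GolayPt} (hd : d ∈ dodecads) :
    Nat.card (MulAction.stabilizer M24 d) = 95040 := by
  have h := (MulAction.stabilizer M24 d).index_mul_card
  rw [MulAction.index_stabilizer, orbit_dodecad hd, ncard_dodecads, card_M24] at h
  omega

theorem card_stab_octad {d : Finset GolayPt} (hd : d ∈ octads) :
    Nat.card (MulAction.stabilizer M24 d) = 322560 := by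
  have h := (MulAction.stabilizer M24 d).index_mul_card
  rw [MulAction.index_stabilizer, orbit_octad hd, ncard_octads, card_M24] at h
  omega

/-- flag normal form -/
theorem dodecad_flag_nf {d : Finset GolayPt} (hd : d ∈ dodecads) {p : GolayPt} (hp : p ∈ d) :
    ∃ g ∈ M24, g (pt 23) = p ∧ g • dec D0 = d := by
  obtain ⟨ys, h1, h2, h3⟩ := exists_list_cons hp (n := 4) (by rw [hd.2]; norm_num)
  obtain ⟨g, hg, hm, hgd⟩ := dodecad_nf hd (p :: ys) h1 h2 h3
  refine ⟨g, hg, ?_, hgd⟩
  simp only [baseL, List.map_cons, List.cons.injEq] at hm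
  exact hm.1

theorem orbit_stab_dodecad {d : Finset GolayPt} (hd : d ∈ dodecads) {p : GolayPt} (hp : p ∈ d) :
    MulAction.orbit (MulAction.stabilizer M24 d) p = ↑d := by
  ext q
  constructor
  · rintro ⟨g, rfl⟩
    have h1 : (g : M24) • d = d := g.2
    have h2 : (g : M24) • p ∈ (g : M24) • d := Finset.smul_mem_smul_finset hp
    rw [h1] at h2
    exact h2
  · intro hq
    obtain ⟨g, hg, hgp, hgd⟩ := dodecad_flag_nf hd hp
    obtain ⟨k, hk, hkq, hkd⟩ := dodecad_flag_nf hd (Finset.mem_coe.mp hq)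
    refine ⟨⟨⟨k * g⁻¹, M24.mul_mem hk (M24.inv_mem hg)⟩, ?_⟩, ?_⟩
    · change (k * g⁻¹) • d = d
      rw [mul_smul, ← hgd, inv_smul_smul, hkd, hgd]
    · change (k * g⁻¹) p = q
      rw [← hgp, ← hkq]; simp

theorem card_stab_flag {d : Finset GolayPt} (hd : d ∈ dodecads) {p : GolayPt} (hp : p ∈ d) :
    Nat.card ↥(MulAction.stabilizer M24 d ⊓ MulAction.stabilizer M24 p) = 7920 := by
  have h := card_inf_stabilizer (MulAction.stabilizer M24 d) p
  rw [orbit_stab_dodecad hd hp, Set.ncard_coe_finset, hd.2, card_stab_dodecad hd] at h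
  omega

theorem card_Stb5 : Nat.card (Stb [3, 2, 1, 0, 23] []) = 48 := by
  have : Stb [3, 2, 1, 0, 23] [] = Fx [3, 2, 1, 0, 23] := by
    change fixL (StM []) _ = fixL M24 _
    rw [StM_nil]
  rw [this]; exact card_Fx6

def Q48 : ℕ → Bool := fun y => popN 24 y == 12 && (B5m &&& y == B5m)

theorem Stb5D0 : Stb [3, 2, 1, 0, 23] [D0] = ⊥ := by
  have h := card_inf_stabilizer (G := Equiv.Perm GolayPt) (Stb [3, 2, 1, 0, 23] []) (dec D0)
  rw [card_Stb5] at h
  have hsub : (↑(codeFin Q48) : Set (Finset GolayPt)) ⊆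
      MulAction.orbit (Stb [3, 2, 1, 0, 23] []) (dec D0) := by
    intro s hs
    obtain ⟨y, hy, hyc, hQ, rfl⟩ := mem_codeFin.mp hs
    simp only [Q48, Bool.and_eq_true, beq_iff_eq] at hQ
    obtain ⟨g, hg, hgd⟩ := dod48 hyc hQ.1 hQ.2
    exact ⟨⟨g, hg⟩, hgd⟩
  have hc : 48 ≤ (MulAction.orbit (Stb [3, 2, 1, 0, 23] []) (dec D0)).ncard := by
    calc 48 = (codeFin Q48).card := by rw [card_codeFin]; decide +kernel
      _ = (↑(codeFin Q48) : Set (Finset GolayPt)).ncard := (Set.ncard_coe_finset _).symm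
      _ ≤ _ := Set.ncard_le_ncard hsub (Set.toFinite _)
  have hpos : 0 < Nat.card ↥(Stb [3, 2, 1, 0, 23] [] ⊓
      MulAction.stabilizer (Equiv.Perm GolayPt) (dec D0)) := Nat.card_pos
  have h1 : Nat.card ↥(Stb [3, 2, 1, 0, 23] [] ⊓
      MulAction.stabilizer (Equiv.Perm GolayPt) (dec D0)) = 1 := by nlinarith
  have h2 := Subgroup.eq_bot_of_card_eq _ h1
  rw [eq_bot_iff, ← h2]
  intro g hg
  rw [mem_Stb] at hg
  refine ⟨mem_Stb.mpr ⟨hg.1, by simp, hg.2.2⟩, hg.2.1 D0 (by simp)⟩

def baseF : Fin 5 → GolayPt := ![pt 23, pt 0, pt 1, pt 2, pt 3]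

theorem baseL_eq : baseL = List.ofFn baseF := by
  simp [baseL, baseF, List.ofFn_succ]

theorem apply_base {g : Equiv.Perm GolayPt} {x : Fin 5 → GolayPt} (h : baseL.map g = List.ofFn x)
    (i : Fin 5) : g (baseF i) = x i := by
  rw [baseL_eq, List.map_ofFn] at h
  exact congrFun (List.ofFn_injective h) i

theorem dodecad_nf' {d : Finset GolayPt} (hd : d ∈ dodecads) (x : Fin 5 ↪ GolayPt)
    (hx : ∀ i, x i ∈ d) : ∃ g ∈ M24, (∀ i, g (baseF i) = x i) ∧ g • dec D0 = d := by
  obtain ⟨g, hg, hgm, hgd⟩ := dodecad_nf hd (List.ofFn x) (by simp)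
    (List.nodup_ofFn.mpr x.injective) (by
      intro z hz
      rw [List.mem_ofFn] at hz
      obtain ⟨i, rfl⟩ := hz
      exact hx i)
  exact ⟨g, hg, apply_base hgm, hgd⟩

theorem sharp5 {d : Finset GolayPt} (hd : d ∈ dodecads) (x y : Fin 5 ↪ GolayPt)
    (hx : ∀ i, x i ∈ d) (hy : ∀ i, y i ∈ d) :
    ∃! g : MulAction.stabilizer M24 d, ∀ i, ((g : M24) : Equiv.Perm GolayPt) (x i) = y i := by
  obtain ⟨g, hg, hgx, hgd⟩ := dodecad_nf' hd x hx
  obtain ⟨k, hk, hky, hkd⟩ := dodecad_nf' hd y hy
  refine ⟨⟨⟨k * g⁻¹, M24.mul_mem hk (M24.inv_mem hg)⟩, ?_⟩, ?_, ?_⟩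
  · change (k * g⁻¹) • d = d
    rw [mul_smul, ← hgd, inv_smul_smul, hkd, hgd]
  · intro i
    change (k * g⁻¹) (x i) = y i
    rw [← hgx i, ← hky i]; simp
  · rintro ⟨⟨u, hu⟩, hud⟩ hux
    have hud' : u • d = d := hud
    have hux' : ∀ i, u (x i) = y i := hux
    have hfix : ∀ j, (k⁻¹ * u * g) (baseF j) = baseF j := by
      intro j
      rw [Equiv.Perm.mul_apply, Equiv.Perm.mul_apply, hgx, hux', ← hky]
      simp
    have hmem : k⁻¹ * u * g ∈ Stb [3, 2, 1, 0, 23] [D0] := by
      rw [mem_Stb]
      refine ⟨M24.mul_mem (M24.mul_mem (M24.inv_mem hk) hu) hg, ?_, ?_⟩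
      · intro m hm
        rw [List.mem_singleton] at hm
        subst hm
        rw [mul_smul, mul_smul, hgd, hud', ← hkd, inv_smul_smul]
      · intro i hi
        simp only [List.mem_cons, List.not_mem_nil, or_false] at hi
        rcases hi with rfl | rfl | rfl | rfl | rfl
        · exact hfix 4
        · exact hfix 3
        · exact hfix 2
        · exact hfix 1
        · exact hfix 0
    rw [Stb5D0, Subgroup.mem_bot] at hmem
    have : u = k * g⁻¹ := by
      have h2 : u = k * (k⁻¹ * u * g) * g⁻¹ := by group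
      rw [h2, hmem, mul_one]
    apply Subtype.ext
    apply Subtype.ext
    exact this

/-! ### the pointwise stabiliser of an octad -/

theorem enum_last {F Ms : List ℕ} {b M : ℕ} (U : List ℕ) (hF : F.all (· < 24) = true) (hb : b < 24)
    (hU : U.all (inStb F Ms) = true) (hT : chkTr U b M = true)
    (hsub : ∀ g ∈ Stb F Ms, g (pt b) ∈ dec M) (hbot : Stb (b :: F) Ms = ⊥) :
    ∀ g ∈ Stb F Ms, ∃ N ∈ U, isPerm N = true ∧ g = prm N := by
  intro g hg
  have hq := hsub g hg
  rw [chkTr, List.all_eq_true] at hT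
  have h1 := hT (idx (g (pt b))) (List.mem_range.mpr (idx_lt _))
  rw [mem_dec] at hq
  rw [hq] at h1
  simp only [Bool.not_true, Bool.false_or, List.any_eq_true, beq_iff_eq] at h1
  obtain ⟨N, hN, h2⟩ := h1
  have hgN := prm_mem_Stb hF ((List.all_eq_true.mp hU) N hN)
  refine ⟨N, hN, hgN.1, ?_⟩
  have h3 : (prm N)⁻¹ * g ∈ Stb (b :: F) Ms := by
    have h4 := (Stb F Ms).mul_mem ((Stb F Ms).inv_mem hgN.2) hg
    refine ⟨h4.1, ?_⟩
    intro a ha
    rw [List.map_cons] at ha
    rcases List.mem_cons.mp ha with rfl | ha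
    · rw [Equiv.Perm.mul_apply, Equiv.Perm.inv_eq_iff_eq, prm_pt hgN.1 hb, h2, pt_idx]
    · exact h4.2 a ha
  rw [hbot, Subgroup.mem_bot] at h3
  exact (inv_mul_eq_one.mp h3).symm

theorem KF_O0 : M24 ⊓ fixingSubgroup (Equiv.Perm GolayPt) (↑(dec O0) : Set GolayPt) =
    Stb [23, 17, 14, 5, 3, 2, 1, 0] [] := by
  have h : ∀ p : GolayPt, p ∈ dec O0 ↔ ∃ i ∈ [23, 17, 14, 5, 3, 2, 1, 0], p = pt i := by
    decide +kernel
  ext g
  rw [Subgroup.mem_inf, mem_fixingSubgroup_iff, mem_Stb]
  constructor
  · rintro ⟨h1, h2⟩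
    refine ⟨h1, by simp, fun i hi => h2 (pt i) ?_⟩
    exact Finset.mem_coe.mpr ((h _).mpr ⟨i, hi, rfl⟩)
  · rintro ⟨h1, _, h2⟩
    refine ⟨h1, fun p hp => ?_⟩
    obtain ⟨i, hi, rfl⟩ := (h p).mp (Finset.mem_coe.mp hp)
    exact h2 i hi

theorem Kbot : Stb [4, 23, 17, 14, 5, 3, 2, 1, 0] [] = ⊥ :=
  Stb_eq_bot KD1 (by decide +kernel) (by decide +kernel) (by decide +kernel)

theorem card_K0 : Nat.card (Stb [23, 17, 14, 5, 3, 2, 1, 0] []) = 16 := by
  rw [card_levelG Klev0, Kbot]
  simp
  decide +kernel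

theorem sq_K0 : ∀ g ∈ Stb [23, 17, 14, 5, 3, 2, 1, 0] [], g * g = 1 := by
  intro g hg
  obtain ⟨N, hN, hp, rfl⟩ := enum_last KU0 (by decide +kernel) (by decide +kernel)
    (by decide +kernel) (by decide +kernel) Klev0.1 Kbot g hg
  have h : ∀ N ∈ KU0, isComp NI N N = true := by decide +kernel
  rw [← prm_comp (by decide +kernel) hp hp (h N hN), prm_NI]

theorem mem_KF_conj {k : Equiv.Perm GolayPt} (hk : k ∈ M24) (s : Finset GolayPt)
    {x : Equiv.Perm GolayPt}
    (hx : x ∈ M24 ⊓ fixingSubgroup (Equiv.Perm GolayPt) (↑s : Set GolayPt)) :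
    k * x * k⁻¹ ∈ M24 ⊓ fixingSubgroup (Equiv.Perm GolayPt) (↑(k • s) : Set GolayPt) := by
  rw [Subgroup.mem_inf, mem_fixingSubgroup_iff] at hx ⊢
  refine ⟨M24.mul_mem (M24.mul_mem hk hx.1) (M24.inv_mem hk), ?_⟩
  intro y hy
  obtain ⟨z, hz, rfl⟩ := Finset.mem_smul_finset.mp (Finset.mem_coe.mp hy)
  have := hx.2 z (Finset.mem_coe.mpr hz)
  rw [Equiv.Perm.smul_def] at this ⊢
  rw [Equiv.Perm.smul_def, Equiv.Perm.mul_apply, Equiv.Perm.mul_apply]
  simp [this]

theorem octad_fixing {o : Finset GolayPt} (ho : o ∈ octads) :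
    Nat.card ↥(M24 ⊓ fixingSubgroup (Equiv.Perm GolayPt) (o : Set GolayPt)) = 16 ∧
      ∀ g ∈ M24 ⊓ fixingSubgroup (Equiv.Perm GolayPt) (o : Set GolayPt), g * g = 1 := by
  obtain ⟨k, hk, rfl⟩ := trans_octads O0_mem ho
  have hback : ∀ x ∈ M24 ⊓ fixingSubgroup (Equiv.Perm GolayPt) (↑(k • dec O0) : Set GolayPt),
      k⁻¹ * x * k ∈ Stb [23, 17, 14, 5, 3, 2, 1, 0] [] := by
    intro x hx
    have := mem_KF_conj (M24.inv_mem hk) _ hx
    rwa [inv_smul_smul, inv_inv, KF_O0] at this
  constructor
  · rw [← card_K0]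
    refine Nat.card_congr ⟨fun x => ⟨k⁻¹ * x.1 * k, hback x.1 x.2⟩,
      fun x => ⟨k * x.1 * k⁻¹, mem_KF_conj hk _ (by rw [KF_O0]; exact x.2)⟩, ?_, ?_⟩
    · intro x; apply Subtype.ext; simp only; group
    · intro x; apply Subtype.ext; simp only; group
  · intro g hg
    have := sq_K0 _ (hback g hg)
    have h2 : g * g = k * ((k⁻¹ * g * k) * (k⁻¹ * g * k)) * k⁻¹ := by group
    rw [h2, this]; group

/-! ### threefold transitivity outside a dodecad -/

theorem MT3 : MT (StM [11472927, 5304288]) (↑(dec 5304288)) ([23].map pt) [pt 5, pt 6, pt 7] :=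
  levG_MT Elev0 (Or.inr (by simp)) (by decide +kernel) <|
  levG_MT Elev1 (Or.inr (by simp)) (by decide +kernel) <|
  levG_MT Elev2 (Or.inr (by simp)) (by decide +kernel) <| MT_nil _ _ _

theorem threeTrans_outside {d : Finset GolayPt} (hd : d ∈ dodecads) {p : GolayPt} (hp : p ∈ d)
    (x y : Fin 3 ↪ GolayPt) (hx : ∀ i, x i ∉ d) (hy : ∀ i, y i ∉ d) :
    ∃ g ∈ MulAction.stabilizer M24 d ⊓ MulAction.stabilizer M24 p,
      ∀ i, (g : Equiv.Perm GolayPt) (x i) = y i := by
  obtain ⟨k, hk, hkp, hkd⟩ := dodecad_flag_nf hd hp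
  have hcompl : ∀ q : GolayPt, q ∉ dec D0 → q ∈ dec 5304288 := by decide +kernel
  have h23 : pt 23 ∈ dec D0 := by decide +kernel
  have key : ∀ z : Fin 3 ↪ GolayPt, (∀ i, z i ∉ d) → ∃ a ∈ fixL (StM [11472927, 5304288]) ([23].map pt),
      ∀ i : Fin 3, k (a ([pt 5, pt 6, pt 7].get (i.cast rfl))) = z i := by
    intro z hz
    have hz' : ∀ i, k⁻¹ (z i) ∉ dec D0 := by
      intro i hc
      apply hz i
      rw [← hkd]
      have := Finset.smul_mem_smul_finset (a := k) hc
      simpa using this
    obtain ⟨a, ha, haz⟩ := MT_apply MT3 (n := 3) rfl (z.trans k⁻¹.toEmbedding)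
      (fun i => Finset.mem_coe.mpr (hcompl _ (hz' i)))
      (fun i hc => by
        simp only [List.map_cons, List.map_nil, List.mem_singleton] at hc
        apply hz' i
        have : k⁻¹ (z i) = pt 23 := hc
        rw [this]; exact h23)
      (by simp)
    refine ⟨a, ha, fun i => ?_⟩
    rw [haz i]
    simp
  obtain ⟨a, ha, hax⟩ := key x hx
  obtain ⟨b, hb, hby⟩ := key y hy
  have hab := (fixL (StM [11472927, 5304288]) ([23].map pt)).mul_mem hb
    ((fixL (StM [11472927, 5304288]) ([23].map pt)).inv_mem ha)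
  have hM : k * (b * a⁻¹) * k⁻¹ ∈ M24 := M24.mul_mem (M24.mul_mem hk hab.1.1) (M24.inv_mem hk)
  refine ⟨⟨k * (b * a⁻¹) * k⁻¹, hM⟩, ⟨?_, ?_⟩, ?_⟩
  · change (k * (b * a⁻¹) * k⁻¹) • d = d
    have h1 : (b * a⁻¹) • dec D0 = dec D0 := hab.1.2 11472927 (by simp)
    rw [mul_smul, mul_smul, ← hkd, inv_smul_smul, h1]
  · change (k * (b * a⁻¹) * k⁻¹) p = p
    have h1 : (b * a⁻¹) (pt 23) = pt 23 := hab.2 (pt 23) (by simp)
    rw [← hkp, Equiv.Perm.mul_apply, Equiv.Perm.mul_apply]
    simp only [Equiv.Perm.coe_inv, Equiv.symm_apply_apply]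
    rw [h1]
  · intro i
    change (k * (b * a⁻¹) * k⁻¹) (x i) = y i
    rw [← hax i, ← hby i]
    simp

end Cfsg.Agent.Lib.Helper3_M24e
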