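import Mathlib
import Cfsg.Agent.Lib.Helper3_FpC

/-!
# helper3: permutations normalising `M22`
-/

set_option autoImplicit false
set_option linter.unusedSectionVars false
set_option linter.constructorNameAsVariable false

namespace Cfsg.Agent.Lib.Helper3_Nrm22

open Cfsg Cfsg.Agent.Lib.Helper3_Golay Cfsg.Agent.Lib.Helper3_Golay2 Cfsg.Agent.Lib.Helper3_Golay3
open Cfsg.Agent.Lib.Helper3_M24a Cfsg.Agent.Lib.Helper3_PermChain Cfsg.Agent.Lib.Helper3_M24b
open Cfsg.Agent.Lib.Helper3_M24c Cfsg.Agent.Lib.Helper3_M24d Cfsg.Agent.Lib.Helper3_M24e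
open Cfsg.Agent.Lib.Helper3_M24f Cfsg.Agent.Lib.Helper3_Fast Cfsg.Agent.Lib.Helper3_Coatom
open Cfsg.Agent.Lib.Helper3_M24g Cfsg.Agent.Lib.Helper3_M24h Cfsg.Agent.Lib.Helper3_Steiner
open Cfsg.Agent.Lib.Helper3_M24i Cfsg.Agent.Lib.Helper3_M24j Cfsg.Agent.Lib.Helper3_Fixp
open Cfsg.Agent.Lib.Helper3_Out Cfsg.Agent.Lib.Helper3_Out2 Cfsg.Agent.Lib.Helper3_Nrm
open Cfsg.Agent.Lib.Helper3_FpA Cfsg.Agent.Lib.Helper3_Enum Cfsg.Agent.Lib.Helper3_FpB
open Cfsg.Agent.Lib.Helper3_Fix9 Cfsg.Agent.Lib.Helper3_FpC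
open scoped Pointwise

theorem exists_dec (s : Finset GolayPt) : ∃ x, x < 2 ^ 24 ∧ s = dec x := by
  let f : Fin (2 ^ 24) → Finset GolayPt := fun i => dec i.1
  have hinj : Function.Injective f := fun a b h => Fin.ext (dec_injOn a.2 b.2 h)
  have hbij : Function.Bijective f := by
    rw [Fintype.bijective_iff_injective_and_card]
    refine ⟨hinj, ?_⟩
    rw [Fintype.card_fin, Fintype.card_finset, card_pt]
  obtain ⟨i, hi⟩ := hbij.2 s
  exact ⟨i.1, i.2, hi.symm⟩

/-- a basis of the code words taking equal values at the two base points, made of octads -/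
def OL : List ℕ := [13062145, 9347075, 11100169, 8966165, 10846245, 9506893, 14254209, 11731203, 12325377, 10630149, 15747077]

theorem OL_ok : ∀ o ∈ OL, code o = true ∧ popN 24 o = 8 ∧ o.testBit 23 = true ∧ o.testBit 0 = true := by
  decide +kernel

theorem dual_chk : ∀ a < 64, ∀ b < 64, (OL.all fun o => pop24 ((4096 * (64 * a + b)) &&& o) % 2 == 0) = true →
    64 * a + b = 0 ∨ code ((4096 * (64 * a + b)) ^^^ 8388609) = true := by
  decide +kernel

theorem even_symmDiff_inter {A B O : Finset GolayPt} (hA : Even (A ∩ O).card)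
    (hB : Even (B ∩ O).card) : Even (symmDiff A B ∩ O).card := by
  have h1 : symmDiff A B ∩ O = symmDiff (A ∩ O) (B ∩ O) := inf_symmDiff_distrib_right A B O
  rw [h1]
  have h2 := card_symmDiff_add (A ∩ O) (B ∩ O)
  rw [Nat.even_iff] at *
  omega

theorem dec_E : dec 8388609 = {pt 0, pt 23} := by decide +kernel

theorem dual22 {X : Finset GolayPt}
    (h : ∀ o ∈ octads, pt 0 ∈ o → pt 23 ∈ o → Even (X ∩ o).card) :
    X ∈ Sup ∨ symmDiff X {pt 0, pt 23} ∈ Sup := by
  obtain ⟨x, hx, rfl⟩ := exists_dec X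
  have hlt : x % 4096 < 4096 := Nat.mod_lt _ (by norm_num)
  set c := combL EL (x % 4096) with hc
  have hcc : code c = true := code_combL hlt
  have hcp := combL_props (x % 4096) hlt
  rw [← hc] at hcp
  have hcS : dec c ∈ Sup := dec_mem_of_code hcc
  set y := x ^^^ c with hy
  have hy0 : y % 4096 = 0 := by
    have : (4096 : ℕ) = 2 ^ 12 := by norm_num
    rw [hy, this, Nat.xor_mod_two_pow, ← this, hcp.1, Nat.xor_self]
  have hylt : y < 2 ^ 24 := Nat.xor_lt_two_pow hx hcp.2
  have hyh : y = 4096 * (64 * (y / 4096 / 64) + y / 4096 % 64) := by omega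
  have hpar : (OL.all fun o => pop24 (y &&& o) % 2 == 0) = true := by
    rw [List.all_eq_true]
    intro o ho
    obtain ⟨h1, h2, h3, h4⟩ := OL_ok o ho
    rw [beq_iff_eq, ← card_inter_dec, ← Nat.even_iff, hy, dec_xor]
    apply even_symmDiff_inter
    · apply h (dec o) ⟨dec_mem_of_code h1, by rw [card_dec, h2]⟩
      · rw [mem_dec, idx_pt 0 (by norm_num)]; exact h4
      · rw [mem_dec, idx_pt 23 (by norm_num)]; exact h3
    · exact even_inter hcS (dec_mem_of_code h1)
  rw [hyh] at hpar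
  have hd := dual_chk (y / 4096 / 64) (by omega) (y / 4096 % 64) (by omega) hpar
  rw [← hyh] at hd
  rcases hd with hd | hd
  · left
    have hy00 : y = 0 := by omega
    have : x = c := by
      rw [hy] at hy00
      exact Nat.xor_eq_zero_iff.mp hy00
    rw [this]; exact hcS
  · right
    have e1 : x ^^^ 8388609 = (y ^^^ 8388609) ^^^ c := by
      rw [hy, Nat.xor_assoc, Nat.xor_assoc, Nat.xor_comm c, Nat.xor_assoc, Nat.xor_self,
        Nat.xor_zero]
    rw [← dec_E, ← dec_xor, e1, dec_xor]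
    exact symmDiff_mem (dec_mem_of_code hd) hcS

theorem swap_smul_of_mem {a b : GolayPt} {s : Finset GolayPt} (ha : a ∈ s) (hb : b ∈ s) :
    Equiv.swap a b • s = s := by
  ext y
  rw [← Finset.inv_smul_mem_iff, Equiv.swap_inv, Equiv.Perm.smul_def]
  by_cases hya : y = a
  · subst hya; simp [ha, hb]
  by_cases hyb : y = b
  · subst hyb; simp [ha, hb]
  rw [Equiv.swap_apply_of_ne_of_ne hya hyb]

theorem swap_smul_of_notMem {a b : GolayPt} {s : Finset GolayPt} (ha : a ∉ s) (hb : b ∈ s) :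
    Equiv.swap a b • s = symmDiff s {a, b} := by
  have hab : a ≠ b := fun h => ha (h ▸ hb)
  ext y
  rw [← Finset.inv_smul_mem_iff, Equiv.swap_inv, Equiv.Perm.smul_def, Finset.mem_symmDiff]
  by_cases hya : y = a
  · subst hya; simp [ha, hb]
  by_cases hyb : y = b
  · subst hyb; simp [ha, hb]
  rw [Equiv.swap_apply_of_ne_of_ne hya hyb]
  simp [hya, hyb]

/-- the basis words as sums of octads through both base points and one further octad -/
def SpanL2 : List (List ℕ) := [[13062145], [9347075, 13062145], [13938692], [11100169, 13062145], [8966165, 13062145, 13938692], [10846245, 13062145, 13938692], [9506893, 11100169, 13938692], [13062145, 14254209], [9347075, 11731203], [12325377, 13062145], [10630149, 13062145, 13938692], [13062145, 13938692, 15747077]]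

theorem spanL2_ok : SpanL2.map (fun L => L.foldr (· ^^^ ·) 0) = EL := by decide +kernel

theorem spanL2_oct : ∀ L ∈ SpanL2, ∀ o ∈ L, o = 13938692 ∨
    (code o = true ∧ popN 24 o = 8 ∧ o.testBit 23 = true ∧ o.testBit 0 = true) := by
  decide +kernel

theorem mem_M24_of_octads2 {π : Equiv.Perm GolayPt}
    (h : ∀ o ∈ octads, pt 0 ∈ o → pt 23 ∈ o → π • o ∈ Sup) (h1 : π • dec 13938692 ∈ Sup) :
    π ∈ M24 := by
  apply mem_M24_of_gens
  intro m hm
  rw [← spanL2_ok] at hm
  obtain ⟨L, hL, rfl⟩ := List.mem_map.mp hm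
  apply smul_dec_fold
  intro o ho
  rcases spanL2_oct L hL o ho with rfl | ⟨h1, h2, h3, h4⟩
  · exact h1
  · apply h (dec o) ⟨dec_mem_of_code h1, by rw [card_dec, h2]⟩
    · rw [mem_dec, idx_pt 0 (by norm_num)]; exact h4
    · rw [mem_dec, idx_pt 23 (by norm_num)]; exact h3

theorem nrm22 {π : Equiv.Perm GolayPt} (h0 : π (pt 0) = pt 0) (h23 : π (pt 23) = pt 23)
    (h : ∀ g ∈ fixL M24 [pt 0, pt 23], π * g * π⁻¹ ∈ M24) :
    π ∈ M24 ∨ Equiv.swap (pt 0) (pt 23) * π ∈ M24 := by
  let S77 : Set (Finset GolayPt) := {o | o ∈ octads ∧ pt 0 ∈ o ∧ pt 23 ∈ o}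
  have hA : ∀ o ∈ S77, π • o ∈ S77 := by
    rintro o ⟨ho, ho0, ho23⟩
    refine ⟨?_, ?_, ?_⟩
    · apply smul_octad_of_conj ho
      intro g hg hfix
      apply h
      refine ⟨hg, ?_⟩
      intro a ha
      simp only [List.mem_cons, List.not_mem_nil, or_false] at ha
      rcases ha with rfl | rfl
      · exact hfix _ ho0
      · exact hfix _ ho23
    · rw [← h0]; exact Finset.smul_mem_smul_finset (a := π) ho0
    · rw [← h23]; exact Finset.smul_mem_smul_finset (a := π) ho23
  have hstab : π ∈ MulAction.stabilizer (Equiv.Perm GolayPt) S77 :=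
    (MulAction.mem_stabilizer_set' (Set.toFinite _)).mpr hA
  have hB : ∀ o ∈ S77, π⁻¹ • o ∈ S77 :=
    (MulAction.mem_stabilizer_set' (Set.toFinite _)).mp (Subgroup.inv_mem _ hstab)
  have hc1 : dec 13938692 ∈ Sup := dec_mem_of_code (by decide +kernel)
  have hpar : ∀ o ∈ octads, pt 0 ∈ o → pt 23 ∈ o → Even ((π • dec 13938692) ∩ o).card := by
    intro o ho ho0 ho23
    have h1 := hB o ⟨ho, ho0, ho23⟩
    have e : (π • dec 13938692) ∩ o = π • (dec 13938692 ∩ π⁻¹ • o) := by
      rw [Finset.smul_finset_inter, smul_inv_smul]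
    rw [e, Finset.card_smul_finset]
    exact even_inter hc1 h1.1.1
  rcases dual22 hpar with hd | hd
  · left
    exact mem_M24_of_octads2 (fun o ho ho0 ho23 => (hA o ⟨ho, ho0, ho23⟩).1.1) hd
  · right
    apply mem_M24_of_octads2
    · intro o ho ho0 ho23
      have h1 := hA o ⟨ho, ho0, ho23⟩
      rw [mul_smul, swap_smul_of_mem h1.2.1 h1.2.2]
      exact h1.1.1
    · rw [mul_smul, swap_smul_of_notMem]
      · exact hd
      · intro hc
        rw [← h0] at hc
        have := (Finset.smul_mem_smul_finset_iff π).mp hc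
        revert this
        decide +kernel
      · rw [← h23]
        apply Finset.smul_mem_smul_finset
        decide +kernel

end Cfsg.Agent.Lib.Helper3_Nrm22
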