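import Mathlib
import Cfsg.Agent.Lib.Helper3_Nrm22

/-!
# helper3: the outer automorphism group of `M22` has order two
-/

set_option autoImplicit false
set_option linter.unusedSectionVars false
set_option linter.constructorNameAsVariable false

namespace Cfsg.Agent.Lib.Helper3_Out22

open Cfsg Cfsg.Agent.Lib.Helper3_Golay Cfsg.Agent.Lib.Helper3_Golay2 Cfsg.Agent.Lib.Helper3_Golay3
open Cfsg.Agent.Lib.Helper3_M24a Cfsg.Agent.Lib.Helper3_PermChain Cfsg.Agent.Lib.Helper3_M24b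
open Cfsg.Agent.Lib.Helper3_M24c Cfsg.Agent.Lib.Helper3_M24d Cfsg.Agent.Lib.Helper3_M24e
open Cfsg.Agent.Lib.Helper3_M24f Cfsg.Agent.Lib.Helper3_Fast Cfsg.Agent.Lib.Helper3_Coatom
open Cfsg.Agent.Lib.Helper3_M24g Cfsg.Agent.Lib.Helper3_M24h Cfsg.Agent.Lib.Helper3_Steiner
open Cfsg.Agent.Lib.Helper3_M24i Cfsg.Agent.Lib.Helper3_M24j Cfsg.Agent.Lib.Helper3_Fixp
open Cfsg.Agent.Lib.Helper3_Out Cfsg.Agent.Lib.Helper3_Out2 Cfsg.Agent.Lib.Helper3_Nrm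
open Cfsg.Agent.Lib.Helper3_FpA Cfsg.Agent.Lib.Helper3_Enum Cfsg.Agent.Lib.Helper3_FpB
open Cfsg.Agent.Lib.Helper3_Fix9 Cfsg.Agent.Lib.Helper3_FpC Cfsg.Agent.Lib.Helper3_Nrm22
open scoped Pointwise

/-- conjugation by a normalising element, as an automorphism of the subgroup -/
def conjAut {Γ : Type*} [Group Γ] (G : Subgroup Γ) (w : Γ) (hw : ∀ g ∈ G, w * g * w⁻¹ ∈ G)
    (hw' : ∀ g ∈ G, w⁻¹ * g * w ∈ G) : MulAut G where
  toFun g := ⟨w * g * w⁻¹, hw g g.2⟩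
  invFun g := ⟨w⁻¹ * g * w, hw' g g.2⟩
  left_inv g := by ext; simp [mul_assoc]
  right_inv g := by ext; simp [mul_assoc]
  map_mul' a b := by ext; simp [mul_assoc]

abbrev G22 : Subgroup (Equiv.Perm GolayPt) := fixL M24 [pt 0, pt 23]

def IsSwap (ρ : Equiv.Perm GolayPt) : Prop := ρ ∈ M24 ∧ ρ (pt 0) = pt 23 ∧ ρ (pt 23) = pt 0

theorem mem_G22 {g : Equiv.Perm GolayPt} : g ∈ G22 ↔ g ∈ M24 ∧ g (pt 0) = pt 0 ∧ g (pt 23) = pt 23 := by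
  rw [mem_fixL]
  simp

theorem IsSwap.inv {ρ : Equiv.Perm GolayPt} (h : IsSwap ρ) : IsSwap ρ⁻¹ :=
  ⟨M24.inv_mem h.1, by rw [Equiv.Perm.inv_eq_iff_eq, h.2.2], by rw [Equiv.Perm.inv_eq_iff_eq, h.2.1]⟩

theorem IsSwap.mul {ρ w : Equiv.Perm GolayPt} (h : IsSwap ρ) (hw : IsSwap w) : ρ * w ∈ G22 := by
  rw [mem_G22]
  exact ⟨M24.mul_mem h.1 hw.1, by rw [Equiv.Perm.mul_apply, hw.2.1, h.2.2],
    by rw [Equiv.Perm.mul_apply, hw.2.2, h.2.1]⟩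

theorem IsSwap.mul_left {ρ w : Equiv.Perm GolayPt} (h : ρ ∈ G22) (hw : IsSwap w) : IsSwap (ρ * w) := by
  rw [mem_G22] at h
  exact ⟨M24.mul_mem h.1 hw.1, by rw [Equiv.Perm.mul_apply, hw.2.1, h.2.2],
    by rw [Equiv.Perm.mul_apply, hw.2.2, h.2.1]⟩

theorem IsSwap.conj {w g : Equiv.Perm GolayPt} (hw : IsSwap w) (hg : g ∈ G22) :
    w * g * w⁻¹ ∈ G22 := by
  have := IsSwap.mul (IsSwap.mul_left hg hw.inv).inv.inv hw.inv.inv.inv
  have h2 := IsSwap.mul hw (IsSwap.mul_left hg hw.inv)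
  rwa [← mul_assoc] at h2

theorem exists_swap : ∃ w, IsSwap w := by
  obtain ⟨g, hg, hm⟩ := exists_map_list 3 [pt 0, pt 23] [pt 23, pt 0] rfl rfl (by decide +kernel)
    (by decide +kernel)
  simp only [List.map_cons, List.map_nil, List.cons.injEq, and_true] at hm
  exact ⟨g, hg, hm.1, hm.2⟩

theorem aut_cases (φ : MulAut G22) :
    ∃ ρ, (ρ ∈ G22 ∨ IsSwap ρ) ∧ ∀ g : G22, ((φ g : G22) : Equiv.Perm GolayPt) =
      ρ * (g : Equiv.Perm GolayPt) * ρ⁻¹ := by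
  obtain ⟨π, h1, h2⟩ := frame [pt 0, pt 23] (by decide +kernel) (by simp) fixed_point_M22 φ
  have h0 : π (pt 0) = pt 0 := h1 _ (by simp)
  have h23 : π (pt 23) = pt 23 := h1 _ (by simp)
  rcases nrm22 h0 h23 (by
    intro g hg
    rw [← h2 ⟨g, hg⟩]
    exact (φ ⟨g, hg⟩).2.1) with hπ | hπ
  · exact ⟨π, Or.inl (mem_G22.mpr ⟨hπ, h0, h23⟩), h2⟩
  · have hs : IsSwap (Equiv.swap (pt 0) (pt 23) * π) :=
      ⟨hπ, by rw [Equiv.Perm.mul_apply, h0, Equiv.swap_apply_left],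
        by rw [Equiv.Perm.mul_apply, h23, Equiv.swap_apply_right]⟩
    refine ⟨_, Or.inr hs, fun g => ?_⟩
    have hk := (φ g).2
    rw [mem_G22] at hk
    have e := Equiv.mul_swap_eq_swap_mul ((φ g : G22) : Equiv.Perm GolayPt) (pt 0) (pt 23)
    rw [hk.2.1, hk.2.2] at e
    have e2 : Equiv.swap (pt 0) (pt 23) * π * (g : Equiv.Perm GolayPt) *
        (Equiv.swap (pt 0) (pt 23) * π)⁻¹ =
        Equiv.swap (pt 0) (pt 23) * (π * (g : Equiv.Perm GolayPt) * π⁻¹) *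
          (Equiv.swap (pt 0) (pt 23))⁻¹ := by group
    rw [e2, ← h2 g, ← e, mul_inv_cancel_right]

theorem mem_inn_iff (φ : MulAut G22) : φ ∈ Cfsg.Inn G22 ↔
    ∃ h ∈ G22, ∀ x : G22, ((φ x : G22) : Equiv.Perm GolayPt) = h * (x : Equiv.Perm GolayPt) * h⁻¹ := by
  constructor
  · rintro ⟨h, rfl⟩
    exact ⟨h.1, h.2, fun x => by simp⟩
  · rintro ⟨h, hh, hx⟩
    refine ⟨⟨h, hh⟩, ?_⟩
    ext x
    rw [hx x]
    simp

theorem not_inn_of_swap {φ : MulAut G22} {ρ : Equiv.Perm GolayPt} (hρ : IsSwap ρ)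
    (h : ∀ g : G22, ((φ g : G22) : Equiv.Perm GolayPt) = ρ * (g : Equiv.Perm GolayPt) * ρ⁻¹) :
    φ ∉ Cfsg.Inn G22 := by
  rw [mem_inn_iff]
  rintro ⟨k, hk, hx⟩
  apply not_inner hρ.1 hρ.2.2 hρ.2.1
  exact ⟨k, hk, fun x hxm => by rw [← h ⟨x, hxm⟩, hx ⟨x, hxm⟩]⟩

theorem out22 : Nat.card (Cfsg.Out G22) = 2 := by
  obtain ⟨w, hw⟩ := exists_swap
  change (Cfsg.Inn G22).index = 2
  rw [Subgroup.index_eq_two_iff]
  refine ⟨conjAut G22 w (fun g hg => hw.conj hg) (fun g hg => by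
    have := hw.inv.conj hg
    rwa [inv_inv] at this), fun b => ?_⟩
  obtain ⟨ρ, hρ, hb⟩ := aut_cases b
  have hba : ∀ g : G22, (((b * conjAut G22 w (fun g hg => hw.conj hg) (fun g hg => by
      have := hw.inv.conj hg
      rwa [inv_inv] at this)) g : G22) : Equiv.Perm GolayPt) =
      (ρ * w) * (g : Equiv.Perm GolayPt) * (ρ * w)⁻¹ := by
    intro g
    rw [MulAut.mul_apply, hb]
    change ρ * (w * (g : Equiv.Perm GolayPt) * w⁻¹) * ρ⁻¹ = _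
    group
  rcases hρ with hρ | hρ
  · right
    exact ⟨(mem_inn_iff b).mpr ⟨ρ, hρ, hb⟩, not_inn_of_swap (IsSwap.mul_left hρ hw) hba⟩
  · left
    exact ⟨(mem_inn_iff _).mpr ⟨ρ * w, hρ.mul hw, hba⟩, not_inn_of_swap hρ hb⟩

end Cfsg.Agent.Lib.Helper3_Out22
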