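import Mathlib
import Cfsg.Agent.Lib.Helper3_Dod3

/-!
# helper3: pair stabilisers in the 12-point action of M11
-/

set_option autoImplicit false
set_option linter.unusedSectionVars false
set_option linter.constructorNameAsVariable false

namespace Cfsg.Agent.Lib.Helper3_Pair5

open Cfsg Cfsg.Agent.Lib.Helper3_Golay Cfsg.Agent.Lib.Helper3_Golay2 Cfsg.Agent.Lib.Helper3_Golay3
open Cfsg.Agent.Lib.Helper3_M24a Cfsg.Agent.Lib.Helper3_PermChain Cfsg.Agent.Lib.Helper3_M24b
open Cfsg.Agent.Lib.Helper3_M24c Cfsg.Agent.Lib.Helper3_M24d Cfsg.Agent.Lib.Helper3_M24e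
open Cfsg.Agent.Lib.Helper3_M24f Cfsg.Agent.Lib.Helper3_Fast Cfsg.Agent.Lib.Helper3_Coatom
open Cfsg.Agent.Lib.Helper3_M24g Cfsg.Agent.Lib.Helper3_M24h Cfsg.Agent.Lib.Helper3_Steiner
open Cfsg.Agent.Lib.Helper3_M24i Cfsg.Agent.Lib.Helper3_M24j Cfsg.Agent.Lib.Helper3_Fixp
open Cfsg.Agent.Lib.Helper3_Fix9 Cfsg.Agent.Lib.Helper3_Oct8 Cfsg.Agent.Lib.Helper3_Simp3
open Cfsg.Agent.Lib.Helper3_Hex Cfsg.Agent.Lib.Helper3_Dod3
open scoped Pointwise

theorem oct_eq_of_sdiff {d : Finset GolayPt} (hd : d ∈ dodecads) {o1 o2 : Finset GolayPt}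
    (h1 : o1 ∈ octads) (h2 : o2 ∈ octads) (hsd : o1 \ d = o2 \ d) (hc : 3 ≤ (o1 ∩ o2).card) :
    o1 = o2 := by
  have hs := symmDiff_mem h1.1 h2.1
  have hsub : symmDiff o1 o2 ⊆ d := by
    intro x hx
    by_contra hxd
    rcases Finset.mem_symmDiff.mp hx with ⟨ha, hb⟩ | ⟨ha, hb⟩
    · have : x ∈ o2 \ d := by rw [← hsd]; exact Finset.mem_sdiff.mpr ⟨ha, hxd⟩
      exact hb (Finset.mem_sdiff.mp this).1
    · have : x ∈ o1 \ d := by rw [hsd]; exact Finset.mem_sdiff.mpr ⟨ha, hxd⟩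
      exact hb (Finset.mem_sdiff.mp this).1
  have hcard := card_symmDiff_add o1 o2
  rw [h1.2, h2.2] at hcard
  have hcc := card_cases hs
  have hcard2 := card_symmDiff_add (symmDiff o1 o2) d
  rw [Finset.inter_eq_left.mpr hsub, hd.2] at hcard2
  have hcc2 := card_cases (symmDiff_mem hs hd.1)
  have h0 : (symmDiff o1 o2).card = 0 := by omega
  rw [Finset.card_eq_zero] at h0
  exact symmDiff_eq_bot.mp h0

theorem exists_third {d : Finset GolayPt} (hd : d ∈ dodecads) (a b : GolayPt) :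
    ∃ c, c ∉ d ∧ c ≠ a ∧ c ≠ b := by
  have hc : 0 < (dᶜ \ {a, b}).card := by
    have h1 := Finset.le_card_sdiff ({a, b} : Finset GolayPt) dᶜ
    have h2 : ({a, b} : Finset GolayPt).card ≤ 2 := Finset.card_le_two
    rw [(compl_mem_dodecads hd).2] at h1
    omega
  obtain ⟨c, hc⟩ := Finset.card_pos.mp hc
  rw [Finset.mem_sdiff, Finset.mem_compl] at hc
  simp only [Finset.mem_insert, Finset.mem_singleton, not_or] at hc
  exact ⟨c, hc.1, hc.2.1, hc.2.2⟩

/-- the octad through a pair outside the dodecad and a point inside, meeting it in a hexad -/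
theorem exists_oct_pair {d : Finset GolayPt} (hd : d ∈ dodecads) {p q q' : GolayPt} (hp : p ∈ d)
    (hq : q ∉ d) (hq' : q' ∉ d) (hqq' : q ≠ q') :
    ∃ o ∈ octads, (o ∩ d).card = 6 ∧ o \ d = {q, q'} ∧ p ∈ o := by
  obtain ⟨t, hpt, htd, ht5⟩ := Finset.exists_subsuperset_card_eq
    (Finset.singleton_subset_iff.mpr hp) (by simp) (show 5 ≤ d.card by rw [hd.2]; norm_num)
  obtain ⟨o0, ho0, hto⟩ := exists_octad ht5
  have h6 : (o0 ∩ d).card = 6 := by
    have h5 : 5 ≤ (o0 ∩ d).card := by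
      rw [← ht5]; exact Finset.card_le_card (Finset.subset_inter hto htd)
    rcases inter_oct_dod ho0 hd with h | h | h <;> omega
  have h2 : (o0 \ d).card = 2 := by
    have := Finset.card_sdiff_add_card_inter o0 d
    rw [ho0.2, h6] at this
    omega
  obtain ⟨a, b, hab, hoab⟩ := Finset.card_eq_two.mp h2
  have ha : a ∉ d := (Finset.mem_sdiff.mp (by rw [hoab]; simp : a ∈ o0 \ d)).2
  have hb : b ∉ d := (Finset.mem_sdiff.mp (by rw [hoab]; simp : b ∈ o0 \ d)).2
  obtain ⟨c, hc, hca, hcb⟩ := exists_third hd a b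
  obtain ⟨c', hc', hcq, hcq'⟩ := exists_third hd q q'
  obtain ⟨g, hg, hgx⟩ := threeTrans_outside hd hp
    ⟨![a, b, c], by
      intro i j hij
      fin_cases i <;> fin_cases j <;> simp_all⟩
    ⟨![q, q', c'], by
      intro i j hij
      fin_cases i <;> fin_cases j <;> simp_all⟩
    (by
      intro i
      fin_cases i
      · exact ha
      · exact hb
      · exact hc)
    (by
      intro i
      fin_cases i
      · exact hq
      · exact hq'
      · exact hc')
  have hg' : g.1 • d = d ∧ g.1 p = p := Subgroup.mem_inf.mp hg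
  have hga : g.1 a = q := hgx 0
  have hgb : g.1 b = q' := hgx 1
  refine ⟨g.1 • o0, smul_mem_octads g.2 ho0, ?_, ?_, ?_⟩
  · conv_lhs => rw [← hg'.1]
    rw [← Finset.smul_finset_inter, Finset.card_smul_finset, h6]
  · conv_lhs => rw [← hg'.1]
    rw [← Finset.smul_finset_sdiff, hoab, Finset.smul_finset_insert, Finset.smul_finset_singleton]
    rw [Equiv.Perm.smul_def, Equiv.Perm.smul_def, hga, hgb]
  · rw [← hg'.2]
    exact Finset.smul_mem_smul_finset (hto (hpt (Finset.mem_singleton_self p)))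

theorem pair_iso {d : Finset GolayPt} (hd : d ∈ dodecads) {p q q' : GolayPt} (hp : p ∈ d)
    (hq : q ∉ d) (hq' : q' ∉ d) (hqq' : q ≠ q') :
    Nonempty (↥(MulAction.stabilizer M24 d ⊓ MulAction.stabilizer M24 p ⊓
      MulAction.stabilizer M24 ({q, q'} : Finset GolayPt)) ≃* Equiv.Perm (Fin 5)) := by
  obtain ⟨o, ho, h6, hod, hpo⟩ := exists_oct_pair hd hp hq hq' hqq'
  have hpod : p ∈ o ∩ d := Finset.mem_inter.mpr ⟨hpo, hp⟩
  have hF5 : ((o ∩ d) \ {p}).card = 5 := by
    rw [Finset.card_sdiff_of_subset (Finset.singleton_subset_iff.mpr hpod), h6]; simp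
  have hFd : (o ∩ d) \ {p} ⊆ d := fun z hz => (Finset.mem_inter.mp (Finset.mem_sdiff.mp hz).1).2
  have hFo : (o ∩ d) \ {p} ⊆ o := fun z hz => (Finset.mem_inter.mp (Finset.mem_sdiff.mp hz).1).1
  have hmem : ∀ g : M24, g ∈ MulAction.stabilizer M24 d ⊓ MulAction.stabilizer M24 p ⊓
      MulAction.stabilizer M24 ({q, q'} : Finset GolayPt) ↔
      g.1 • d = d ∧ g.1 p = p ∧ g.1 • ({q, q'} : Finset GolayPt) = {q, q'} := by
    intro g
    simp only [Subgroup.mem_inf, and_assoc]
    exact Iff.rfl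
  have hgo : ∀ g : M24, g ∈ MulAction.stabilizer M24 d ⊓ MulAction.stabilizer M24 p ⊓
      MulAction.stabilizer M24 ({q, q'} : Finset GolayPt) → g.1 • o = o := by
    intro g hg
    obtain ⟨h1, h2, h3⟩ := (hmem g).mp hg
    apply oct_eq_of_sdiff hd (smul_mem_octads g.2 ho) ho
    · conv_lhs => rw [← h1]
      rw [← Finset.smul_finset_sdiff, hod, h3]
    · have hsub : ({p, q, q'} : Finset GolayPt) ⊆ g.1 • o ∩ o := by
        have hqo : ({q, q'} : Finset GolayPt) ⊆ o := by rw [← hod]; exact Finset.sdiff_subset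
        have hqo2 : ({q, q'} : Finset GolayPt) ⊆ g.1 • o := by
          rw [← h3]; exact Finset.smul_finset_subset_smul_finset hqo
        intro z hz
        rw [Finset.mem_insert] at hz
        rcases hz with rfl | hz
        · refine Finset.mem_inter.mpr ⟨?_, hpo⟩
          have := Finset.smul_mem_smul_finset (a := g.1) hpo
          rwa [Equiv.Perm.smul_def, h2] at this
        · exact Finset.mem_inter.mpr ⟨hqo2 hz, hqo hz⟩
      have hc3 : ({p, q, q'} : Finset GolayPt).card = 3 := by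
        rw [Finset.card_eq_three]
        exact ⟨p, q, q', fun h => hq (h ▸ hp), fun h => hq' (h ▸ hp), hqq', rfl⟩
      rw [← hc3]
      exact Finset.card_le_card hsub
  have hK : ∀ g ∈ MulAction.stabilizer M24 d ⊓ MulAction.stabilizer M24 p ⊓
      MulAction.stabilizer M24 ({q, q'} : Finset GolayPt), g • ((o ∩ d) \ {p}) = (o ∩ d) \ {p} := by
    intro g hg
    obtain ⟨h1, h2, h3⟩ := (hmem g).mp hg
    change g.1 • ((o ∩ d) \ {p}) = (o ∩ d) \ {p}
    rw [Finset.smul_finset_sdiff, Finset.smul_finset_inter, hgo g hg, h1,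
      Finset.smul_finset_singleton, Equiv.Perm.smul_def, h2]
  have hinj : Function.Injective (resHom _ ((o ∩ d) \ {p}) hK) := by
    rw [← MonoidHom.ker_eq_bot_iff, eq_bot_iff]
    intro g hg
    rw [mem_ker_resHom] at hg
    have := eq_one_of_fix5_dod hd g.1.2 ((hmem g.1).mp g.2).1 hFd (by omega) hg
    exact Subgroup.mem_bot.mpr (Subtype.ext (Subtype.ext this))
  have hsurj : Function.Surjective (resHom _ ((o ∩ d) \ {p}) hK) := by
    intro e
    let e5 := ((o ∩ d) \ {p}).equivFinOfCardEq hF5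
    let x : Fin 5 ↪ GolayPt :=
      ⟨fun i => (e5.symm i).1, fun i j h => e5.symm.injective (Subtype.ext h)⟩
    let y : Fin 5 ↪ GolayPt :=
      ⟨fun i => (e (e5.symm i)).1, fun i j h => e5.symm.injective (e.injective (Subtype.ext h))⟩
    obtain ⟨g, hg, -⟩ := sharp5 hd x y (fun i => hFd (e5.symm i).2) (fun i => hFd (e (e5.symm i)).2)
    have hgd : g.1.1 • d = d := g.2
    have hgz : ∀ z : ↥((o ∩ d) \ {p}), g.1.1 z.1 = (e z).1 := by
      intro z
      have h := hg (e5 z)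
      have hx : x (e5 z) = z.1 := by
        change (e5.symm (e5 z)).1 = z.1
        rw [Equiv.symm_apply_apply]
      have hy : y (e5 z) = (e z).1 := by
        change (e (e5.symm (e5 z))).1 = (e z).1
        rw [Equiv.symm_apply_apply]
      rw [hx, hy] at h
      exact h
    have hgF : g.1.1 • ((o ∩ d) \ {p}) = (o ∩ d) \ {p} := by
      apply Finset.eq_of_subset_of_card_le
      · intro w hw
        obtain ⟨z, hz, rfl⟩ := Finset.mem_smul_finset.mp hw
        rw [Equiv.Perm.smul_def, hgz ⟨z, hz⟩]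
        exact (e ⟨z, hz⟩).2
      · rw [Finset.card_smul_finset]
    have hgo' : g.1.1 • o = o := by
      refine octad_eq_of_five (u := (o ∩ d) \ {p}) (smul_mem_octads g.1.2 ho) ho (by omega) ?_ hFo
      rw [← hgF]
      exact Finset.smul_finset_subset_smul_finset hFo
    have hgp : g.1.1 p = p := by
      have h1 : g.1.1 • (o ∩ d) = o ∩ d := by rw [Finset.smul_finset_inter, hgo', hgd]
      have h2 : g.1.1 p ∈ o ∩ d := smul_mem_of_smul_eq h1 hpod
      by_contra hne
      have h3 : g.1.1 • p ∈ g.1.1 • ((o ∩ d) \ {p}) := by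
        rw [hgF]
        exact Finset.mem_sdiff.mpr ⟨h2, by simpa using hne⟩
      have h4 := (Finset.smul_mem_smul_finset_iff g.1.1).mp h3
      simp at h4
    have hgq : g.1.1 • ({q, q'} : Finset GolayPt) = {q, q'} := by
      rw [← hod, Finset.smul_finset_sdiff, hgo', hgd]
    refine ⟨⟨g.1, (hmem g.1).mpr ⟨hgd, hgp, hgq⟩⟩, ?_⟩
    apply Equiv.ext
    intro z
    apply Subtype.ext
    exact hgz z
  have e5 : ↥((o ∩ d) \ {p}) ≃ Fin 5 := Fintype.equivFinOfCardEq (by rw [Fintype.card_coe, hF5])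
  exact ⟨(MulEquiv.ofBijective _ ⟨hinj, hsurj⟩).trans e5.permCongrHom⟩

end Cfsg.Agent.Lib.Helper3_Pair5
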