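import Mathlib
import Cfsg.Agent.Lib.Helper3_AutGen
import Cfsg.Agent.Lib.Helper3_Out22
import Cfsg.Agent.Lib.Helper3_Pair5

/-!
# helper3: the outer automorphism group of `M12` has order two
-/

set_option autoImplicit false
set_option linter.unusedSectionVars false
set_option linter.constructorNameAsVariable false

namespace Cfsg.Agent.Lib.Helper3_Out12

open Cfsg Cfsg.Agent.Lib.Helper3_Golay Cfsg.Agent.Lib.Helper3_Golay2 Cfsg.Agent.Lib.Helper3_Golay3
open Cfsg.Agent.Lib.Helper3_M24a Cfsg.Agent.Lib.Helper3_PermChain Cfsg.Agent.Lib.Helper3_M24b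
open Cfsg.Agent.Lib.Helper3_M24c Cfsg.Agent.Lib.Helper3_M24d Cfsg.Agent.Lib.Helper3_M24e
open Cfsg.Agent.Lib.Helper3_M24h Cfsg.Agent.Lib.Helper3_Out2 Cfsg.Agent.Lib.Helper3_Simp
open Cfsg.Agent.Lib.Helper3_Enum Cfsg.Agent.Lib.Helper3_Simp2 Cfsg.Agent.Lib.Helper3_Simp3
open Cfsg.Agent.Lib.Helper3_AutGen Cfsg.Agent.Lib.Helper3_Out22 Cfsg.Agent.Lib.Helper3_Pair5
open scoped Pointwise

def ka : ℕ := 90068556512333345726839327716720791
def kn : ℕ := 9953058385630028138502485841775681
def kt : ℕ := 767868090360948511640957070828220560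
def ktn : ℕ := 673105633550533372725753660050066820

def V : List ℕ := [ka, kn, kt]

def L : List (ℕ × ℕ × ℕ × ℕ) := [(0, 672459516613366873325539772756004450, 90068556512333345726839327716720791, 90068556512333345726839327716720791), (0, 131887004196878658875243863057535360, 9953058385630028138502485841775681, 90068556512333345726839327716720791), (0, 516728275335406777764786735039414322, 767868090360948511640957070828220560, 90068556512333345726839327716720791), (0, 59275981516667494055326104161377378, 9953058385630028138502485841775681, 9953058385630028138502485841775681), (0, 192208830207649442156175970796166723, 9953058385630028138502485841775681, 672459516613366873325539772756004450), (0, 880852497035175121916103486282812471, 90068556512333345726839327716720791, 131887004196878658875243863057535360), (0, 807535270601493077385797969771005008, 767868090360948511640957070828220560, 131887004196878658875243863057535360), (0, 716191652597094795285370394703367314, 767868090360948511640957070828220560, 880852497035175121916103486282812471),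 (0, 673105633550533372725753660050066820, 767868090360948511640957070828220560, 9953058385630028138502485841775681), (2, 984636932090981539371912176087467116, 672459516613366873325539772756004450, 673105633550533372725753660050066820), (0, 967568551585242499743443990428603908, 90068556512333345726839327716720791, 9953058385630028138502485841775681), (0, 984607814691986525606745419550821506, 984636932090981539371912176087467116, 984636932090981539371912176087467116), (0, 967762617324870093570543153026482258, 967568551585242499743443990428603908, 984636932090981539371912176087467116), (0, 962622336138491587209595529290494561, 967568551585242499743443990428603908, 967568551585242499743443990428603908), (0, 967853772774626393432439184437676085, 967568551585242499743443990428603908, 984607814691986525606745419550821506), (0, 963845631388733884545717600786699315, 984636932090981539371912176087467116, 967762617324870093570543153026482258), (0, 962576623328742489091776935554993827, 967568551585242499743443990428603908, 967762617324870093570543153026482258),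 (0, 963305504495920553251818908153169936, 967568551585242499743443990428603908, 962622336138491587209595529290494561), (0, 963911855626626052023748653866812529, 984636932090981539371912176087467116, 967853772774626393432439184437676085), (0, 963271692617368808131575151217133216, 984636932090981539371912176087467116, 967568551585242499743443990428603908), (0, 963889390790162786816512097742586242, 967568551585242499743443990428603908, 962576623328742489091776935554993827), (2, 966444829444005147026920522919808128, 984607814691986525606745419550821506, 963889390790162786816512097742586242), (0, 972956819324297724587162630555877440, 963271692617368808131575151217133216, 963271692617368808131575151217133216), (0, 968493403620632683823148404478969344, 966444829444005147026920522919808128, 963271692617368808131575151217133216), (0, 962611423872538018930874067246777440, 963271692617368808131575151217133216, 966444829444005147026920522919808128), (0, 970323628710346468579766641282337312, 963271692617368808131575151217133216, 972956819324297724587162630555877440),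 (0, 967122495792230455216661961008862784, 963271692617368808131575151217133216, 968493403620632683823148404478969344), (0, 981843661493244357714992371632509536, 966444829444005147026920522919808128, 962611423872538018930874067246777440), (0, 973730164776848732204406657352581504, 966444829444005147026920522919808128, 967122495792230455216661961008862784), (0, 984679415155218115720076361528137248, 966444829444005147026920522919808128, 981843661493244357714992371632509536), (2, 963259191394733507442561449212874784, 970323628710346468579766641282337312, 984679415155218115720076361528137248), (0, 961963715077338816282939691488096288, 966444829444005147026920522919808128, 970323628710346468579766641282337312), (0, 966273766038144300211841176966873120, 961963715077338816282939691488096288, 963259191394733507442561449212874784), (0, 981523573003594718468298866901505056, 963259191394733507442561449212874784, 961963715077338816282939691488096288), (0, 975354635540339156191227561498493984, 961963715077338816282939691488096288, 961963715077338816282939691488096288),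 (0, 963879149272479759044529865121483808, 961963715077338816282939691488096288, 966273766038144300211841176966873120), (0, 965334175772909427513039479730965536, 963259191394733507442561449212874784, 975354635540339156191227561498493984), (0, 966647147312550362262553289495693344, 961963715077338816282939691488096288, 963879149272479759044529865121483808), (0, 974417045151256171238762148303291424, 963259191394733507442561449212874784, 966273766038144300211841176966873120), (2, 962371918955368510574636649896478752, 975354635540339156191227561498493984, 974417045151256171238762148303291424), (0, 974257329572637444797480459831464992, 961963715077338816282939691488096288, 975354635540339156191227561498493984), (2, 963346641302244241982471832828512288, 981523573003594718468298866901505056, 974257329572637444797480459831464992), (0, 973054518210042674313238929715267616, 962371918955368510574636649896478752, 962371918955368510574636649896478752), (0, 966475956924560098024124728230971424, 963346641302244241982471832828512288, 962371918955368510574636649896478752),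 (0, 969802841622095796538075665876486176, 962371918955368510574636649896478752, 963346641302244241982471832828512288), (0, 974297736089239669581392726270806048, 962371918955368510574636649896478752, 973054518210042674313238929715267616), (0, 965131035075015849898837032318863392, 963346641302244241982471832828512288, 973054518210042674313238929715267616)]

def T : List ℕ := L.map (fun s => s.2.1) ++ (NI :: V)

def RH : List ℕ := [984818244535754528103549039458486304, 644050554167049549932127751035432582, 137157759213065130754086775082255383, 9953058385630028138502485841775681, 59275981516667494055326104161377378, 355876834407629645735539226961105103, 481788885640211619646685057380915688, 254630053848785051129633176042316148, 96928541837914767984116804442161891, 846576661946592322836064868947410187]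

theorem hV : V.all (inStb [] [D0]) = true := by decide +kernel

theorem hL : chkSLP (NI :: V) L = true := by decide +kernel

theorem pa : isPerm ka = true := by decide +kernel
theorem pn : isPerm kn = true := by decide +kernel
theorem ptt : isPerm kt = true := by decide +kernel
theorem ptn : isPerm ktn = true := by decide +kernel

theorem a_mem : prm ka ∈ GD :=
  (prm_mem_Stb (F := []) (Ms := [D0]) (by decide +kernel) (by decide +kernel)).2.1
theorem n_mem : prm kn ∈ GD :=
  (prm_mem_Stb (F := []) (Ms := [D0]) (by decide +kernel) (by decide +kernel)).2.1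
theorem t_mem : prm kt ∈ GD :=
  (prm_mem_Stb (F := []) (Ms := [D0]) (by decide +kernel) (by decide +kernel)).2.1

theorem gen12 : GD ≤ Subgroup.closure {prm ka, prm kn, prm kt} := by
  set S := Subgroup.closure ({prm ka, prm kn, prm kt} : Set (Equiv.Perm GolayPt)) with hS
  have hSM : S ≤ GD := by
    rw [hS, Subgroup.closure_le]
    intro x hx
    simp only [Set.mem_insert_iff, Set.mem_singleton_iff] at hx
    rcases hx with rfl | rfl | rfl
    · exact a_mem
    · exact n_mem
    · exact t_mem
  have h0 : ∀ N ∈ NI :: V, Good S N := by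
    intro N hN
    simp only [V, List.mem_cons, List.not_mem_nil, or_false] at hN
    rcases hN with rfl | rfl | rfl | rfl
    · exact ⟨by decide +kernel, by rw [prm_NI]; exact S.one_mem⟩
    · exact ⟨pa, Subgroup.subset_closure (by simp)⟩
    · exact ⟨pn, Subgroup.subset_closure (by simp)⟩
    · exact ⟨ptt, Subgroup.subset_closure (by simp)⟩
  have hT : ∀ N ∈ T, Good S N := good_all S _ _ h0 hL
  have h5 : Stb [3, 2, 1, 0, 23] [D0] ≤ S := by rw [Stb5D0]; exact bot_le
  have h4 := le_levD (F := [2, 1, 0, 23]) (b := 3) (M := 3084312) S T hT hSM (by decide +kernel) (by decide +kernel)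
    (by decide +kernel) (by decide +kernel) (by decide +kernel) (by decide +kernel) h5
  have h3 := le_levD (F := [1, 0, 23]) (b := 2) (M := 3084316) S T hT hSM (by decide +kernel) (by decide +kernel)
    (by decide +kernel) (by decide +kernel) (by decide +kernel) (by decide +kernel) h4
  have h2 := le_levD (F := [0, 23]) (b := 1) (M := 3084318) S T hT hSM (by decide +kernel) (by decide +kernel)
    (by decide +kernel) (by decide +kernel) (by decide +kernel) (by decide +kernel) h3
  have h1 := le_levD (F := [23]) (b := 0) (M := 3084319) S T hT hSM (by decide +kernel) (by decide +kernel)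
    (by decide +kernel) (by decide +kernel) (by decide +kernel) (by decide +kernel) h2
  have h0' := le_levD (F := []) (b := 23) (M := 11472927) S T hT hSM (by decide +kernel) (by decide +kernel)
    (by decide +kernel) (by decide +kernel) (by decide +kernel) (by decide +kernel) h1
  intro g hg
  exact h0' ⟨hg, by simp⟩

/-- `R A R⁻¹ = A ^ k` on tables -/
def conjChk (R A k : ℕ) : Bool :=
  (List.range 24).all fun i => ap R (ap A i) == (ap A)^[k] (ap R i)

theorem conj_of_chk {R A k : ℕ} (hR : isPerm R = true) (hA : isPerm A = true)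
    (h : conjChk R A k = true) : prm R * prm A * (prm R)⁻¹ = prm A ^ k := by
  rw [mul_inv_eq_iff_eq_mul]
  ext q : 1
  rw [← pt_idx q, Equiv.Perm.mul_apply, Equiv.Perm.mul_apply, prm_pt hA (idx_lt q),
    prm_pt hR (ap_lt hA (idx_lt q)), prm_pt hR (idx_lt q), prm_pow_pt hA k _ (ap_lt hR (idx_lt q))]
  rw [conjChk, List.all_eq_true] at h
  have := h (idx q) (List.mem_range.mpr (idx_lt q))
  rw [beq_iff_eq] at this
  rw [this]

/-! ### the normaliser -/

def NrmD (ρ : Equiv.Perm GolayPt) : Prop :=
  ρ ∈ M24 ∧ (ρ • dec D0 = dec D0 ∨ ρ • dec D0 = (dec D0)ᶜ)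

theorem smul_compl (ρ : Equiv.Perm GolayPt) (s : Finset GolayPt) : ρ • sᶜ = (ρ • s)ᶜ := by
  rw [Finset.compl_eq_univ_sdiff, Finset.smul_finset_sdiff, Finset.smul_finset_univ,
    ← Finset.compl_eq_univ_sdiff]

theorem NrmD.one : NrmD 1 := ⟨M24.one_mem, Or.inl (one_smul _ _)⟩

theorem NrmD.mul {ρ σ : Equiv.Perm GolayPt} (h : NrmD ρ) (h' : NrmD σ) : NrmD (ρ * σ) := by
  refine ⟨M24.mul_mem h.1 h'.1, ?_⟩
  rw [mul_smul]
  rcases h'.2 with e | e <;> rcases h.2 with f | f
  · left; rw [e, f]
  · right; rw [e, f]
  · right; rw [e, smul_compl, f]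
  · left; rw [e, smul_compl, f, compl_compl]

theorem NrmD.inv {ρ : Equiv.Perm GolayPt} (h : NrmD ρ) : NrmD ρ⁻¹ := by
  refine ⟨M24.inv_mem h.1, ?_⟩
  rcases h.2 with e | e
  · left; rw [inv_smul_eq_iff, e]
  · right; rw [inv_smul_eq_iff, smul_compl, e, compl_compl]

theorem NrmD.conj {ρ g : Equiv.Perm GolayPt} (h : NrmD ρ) (hg : g ∈ GD) : ρ * g * ρ⁻¹ ∈ GD := by
  rw [mem_GD] at hg ⊢
  refine ⟨M24.mul_mem (M24.mul_mem h.1 hg.1) (M24.inv_mem h.1), ?_⟩
  rw [mul_smul, mul_smul]
  rcases h.inv.2 with e | e
  · rw [e, hg.2]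
    rw [inv_smul_eq_iff] at e
    exact e.symm
  · rw [e, smul_compl, hg.2]
    rw [inv_smul_eq_iff] at e
    exact e.symm

theorem NrmD.conj' {ρ g : Equiv.Perm GolayPt} (h : NrmD ρ) (hg : g ∈ GD) : ρ⁻¹ * g * ρ ∈ GD := by
  have := h.inv.conj hg
  rwa [inv_inv] at this

/-- the automorphisms induced by the normaliser -/
def AD : Subgroup (MulAut GD) where
  carrier := {φ | ∃ ρ, NrmD ρ ∧ ∀ g : GD, ((φ g : GD) : Equiv.Perm GolayPt) = ρ * g * ρ⁻¹}
  one_mem' := ⟨1, NrmD.one, fun g => by simp⟩
  mul_mem' := by
    rintro φ ψ ⟨ρ, hρ, h1⟩ ⟨σ, hσ, h2⟩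
    refine ⟨ρ * σ, hρ.mul hσ, fun g => ?_⟩
    rw [MulAut.mul_apply, h1, h2]; group
  inv_mem' := by
    rintro φ ⟨ρ, hρ, h1⟩
    refine ⟨ρ⁻¹, hρ.inv, fun g => ?_⟩
    have := h1 (φ⁻¹ g)
    rw [MulAut.apply_inv_self] at this
    rw [this]; group

theorem Stb_eq_GD : Stb [] [D0] = GD := by
  ext g
  exact ⟨fun h => h.1, fun h => ⟨h, by simp⟩⟩

theorem card_GD : Nat.card GD = 11 * 8640 := by
  rw [← Stb_eq_GD, card_D0]

/-! ### semiregularity of centralisers -/

theorem eq_one_of_comm {z u : Equiv.Perm GolayPt} (hu : u ∈ GD) (hc : u * z = z * u)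
    (hfix : u (pt 23) = pt 23) (hcov : ∀ b ∈ [3, 2, 1, 0, 23], ∃ i : ℕ, (z ^ i) (pt 23) = pt b) :
    u = 1 := by
  have hmem : u ∈ Stb [3, 2, 1, 0, 23] [D0] := by
    rw [mem_Stb]
    rw [mem_GD] at hu
    refine ⟨hu.1, ?_, ?_⟩
    · intro m hm
      rw [List.mem_singleton] at hm
      rw [hm]; exact hu.2
    · intro b hb
      obtain ⟨i, hi⟩ := hcov b hb
      have hci : u * z ^ i = z ^ i * u := (Commute.pow_right (show Commute u z from hc) i)
      rw [← hi, ← Equiv.Perm.mul_apply, hci, Equiv.Perm.mul_apply, hfix]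
  rwa [Stb5D0, Subgroup.mem_bot] at hmem

theorem cov_a : ∀ b ∈ [3, 2, 1, 0, 23], ∃ i : ℕ, (prm ka ^ i) (pt 23) = pt b := by
  have h : ∀ b ∈ [3, 2, 1, 0, 23], ∃ i ∈ List.range 11, (ap ka)^[i] 23 = b := by decide +kernel
  intro b hb
  obtain ⟨i, _, hi⟩ := h b hb
  exact ⟨i, by rw [prm_pow_pt pa i 23 (by norm_num), hi]⟩

theorem cov_n : ∀ b ∈ [3, 2, 1, 0, 23], ∃ i : ℕ, (prm kn ^ i) (pt 23) = pt b := by
  have h : ∀ b ∈ [3, 2, 1, 0, 23], ∃ i ∈ List.range 5, (ap kn)^[i] 23 = b := by decide +kernel
  intro b hb
  obtain ⟨i, _, hi⟩ := h b hb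
  exact ⟨i, by rw [prm_pow_pt pn i 23 (by norm_num), hi]⟩

theorem not_fixed_of_comm {z g : Equiv.Perm GolayPt} (hc : g * z = z * g) {q : GolayPt}
    (hq : z q = q) (h23 : z (pt 23) ≠ pt 23) : g (pt 23) ≠ q := by
  intro h
  apply h23
  apply g.injective
  rw [← Equiv.Perm.mul_apply, hc, Equiv.Perm.mul_apply, h, hq]

theorem cent_a {g : Equiv.Perm GolayPt} (hg : g ∈ GD) (hc : g * prm ka = prm ka * g) :
    ∃ i : ℕ, g = prm ka ^ i := by
  have h1 : g (pt 23) ∈ dec D0 := apply_mem_D hg (by decide +kernel)
  have h2 : g (pt 23) ≠ pt 17 := not_fixed_of_comm hc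
    (by rw [prm_pt pa (by norm_num)]; decide +kernel)
    (by rw [prm_pt pa (by norm_num)]; decide +kernel)
  have h3 : ∀ q ∈ dec D0, q ≠ pt 17 → ∃ i ∈ List.range 11, q = pt ((ap ka)^[i] 23) := by
    decide +kernel
  obtain ⟨i, _, hi⟩ := h3 _ h1 h2
  refine ⟨i, ?_⟩
  have hu : (prm ka ^ i)⁻¹ * g = 1 := by
    apply eq_one_of_comm (z := prm ka) (GD.mul_mem (GD.inv_mem (GD.pow_mem a_mem i)) hg) ?_ ?_ cov_a
    · have hci : Commute (prm ka ^ i)⁻¹ (prm ka) := ((Commute.refl (prm ka)).pow_left i).inv_left
      exact (hci.mul_left (show Commute g (prm ka) from hc))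
    · rw [Equiv.Perm.mul_apply, hi, Equiv.Perm.inv_eq_iff_eq, prm_pow_pt pa i 23 (by norm_num)]
  exact (inv_mul_eq_one.mp hu).symm

theorem tn_comm : prm kt * prm kn = prm kn * prm kt := by
  rw [← prm_comp ptn ptt pn (by decide +kernel), ← prm_comp ptn pn ptt (by decide +kernel)]

theorem t_sq : prm kt * prm kt = 1 := by
  rw [← prm_comp (K := NI) (by decide +kernel) ptt ptt (by decide +kernel), prm_NI]

theorem t_ne : prm kt ≠ 1 := by
  intro h
  have := prm_pt ptt (i := 23) (by norm_num)
  rw [h, Equiv.Perm.one_apply] at this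
  revert this
  decide +kernel

theorem ord_n : orderOf (prm kn) = 5 := by
  have : Fact (Nat.Prime 5) := ⟨by norm_num⟩
  exact orderOf_prm pn (by decide +kernel)

theorem ord_a : orderOf (prm ka) = 11 := by
  have : Fact (Nat.Prime 11) := ⟨by norm_num⟩
  exact orderOf_prm pa (by decide +kernel)

theorem cent_n {g : Equiv.Perm GolayPt} (hg : g ∈ GD) (hc : g * prm kn = prm kn * g)
    (h2 : g * g = 1) (h1 : g ≠ 1) : g = prm kt := by
  have hd : g (pt 23) ∈ dec D0 := apply_mem_D hg (by decide +kernel)
  have hn23 : prm kn (pt 23) ≠ pt 23 := by rw [prm_pt pn (by norm_num)]; decide +kernel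
  have e17 : g (pt 23) ≠ pt 17 := not_fixed_of_comm hc
    (by rw [prm_pt pn (by norm_num)]; decide +kernel) hn23
  have e21 : g (pt 23) ≠ pt 21 := not_fixed_of_comm hc
    (by rw [prm_pt pn (by norm_num)]; decide +kernel) hn23
  have h3 : ∀ q ∈ dec D0, q ≠ pt 17 → q ≠ pt 21 → ∃ i ∈ List.range 5,
      q = pt ((ap kn)^[i] 23) ∨ q = pt ((ap kn)^[i] (ap kt 23)) := by
    decide +kernel
  obtain ⟨i, hi5, hi⟩ := h3 _ hd e17 e21
  rw [List.mem_range] at hi5
  have hcn : ∀ j : ℕ, Commute (prm kn ^ j)⁻¹ (prm kn) := fun j =>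
    ((Commute.refl (prm kn)).pow_left j).inv_left
  have hpow : ∀ j : ℕ, j < 5 → prm kn ^ (2 * j) = 1 → j = 0 := by
    intro j hj h
    have := orderOf_dvd_of_pow_eq_one h
    rw [ord_n] at this
    omega
  rcases hi with hi | hi
  · exfalso
    have hu : (prm kn ^ i)⁻¹ * g = 1 := by
      apply eq_one_of_comm (z := prm kn) (GD.mul_mem (GD.inv_mem (GD.pow_mem n_mem i)) hg) ?_ ?_
        cov_n
      · exact ((hcn i).mul_left (show Commute g (prm kn) from hc))
      · rw [Equiv.Perm.mul_apply, hi, Equiv.Perm.inv_eq_iff_eq, prm_pow_pt pn i 23 (by norm_num)]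
    have hg' : g = prm kn ^ i := (inv_mul_eq_one.mp hu).symm
    rw [hg', ← pow_add, ← two_mul] at h2
    have := hpow i hi5 h2
    rw [this, pow_zero] at hg'
    exact h1 hg'
  · have hct : Commute (prm kt) (prm kn) := tn_comm
    have hu : (prm kn ^ i * prm kt)⁻¹ * g = 1 := by
      apply eq_one_of_comm (z := prm kn)
        (GD.mul_mem (GD.inv_mem (GD.mul_mem (GD.pow_mem n_mem i) t_mem)) hg) ?_ ?_ cov_n
      · have h5 : Commute (prm kn ^ i * prm kt)⁻¹ (prm kn) :=
          ((((Commute.refl (prm kn)).pow_left i).mul_left hct)).inv_left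
        exact (h5.mul_left (show Commute g (prm kn) from hc))
      · rw [Equiv.Perm.mul_apply, hi, Equiv.Perm.inv_eq_iff_eq, Equiv.Perm.mul_apply,
          prm_pt ptt (by norm_num), prm_pow_pt pn i _ (ap_lt ptt (by norm_num))]
    have hg' : g = prm kn ^ i * prm kt := (inv_mul_eq_one.mp hu).symm
    have hsq : g * g = prm kn ^ (2 * i) := by
      rw [hg']
      have h6 : Commute (prm kt) (prm kn ^ i) := hct.pow_right i
      calc prm kn ^ i * prm kt * (prm kn ^ i * prm kt)
          = prm kn ^ i * (prm kt * prm kn ^ i) * prm kt := by group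
        _ = prm kn ^ i * (prm kn ^ i * prm kt) * prm kt := by rw [h6.eq]
        _ = prm kn ^ i * prm kn ^ i * (prm kt * prm kt) := by group
        _ = prm kn ^ (2 * i) := by rw [t_sq, mul_one, ← pow_add, two_mul]
    rw [hsq] at h2
    have := hpow i hi5 h2
    rw [this, pow_zero, one_mul] at hg'
    exact hg'

/-! ### the data for the abstract criterion -/

noncomputable def a' : GD := ⟨prm ka, a_mem⟩
noncomputable def n' : GD := ⟨prm kn, n_mem⟩
noncomputable def t' : GD := ⟨prm kt, t_mem⟩

theorem D0c_eq : dec 5304288 = (dec D0)ᶜ := by decide +kernel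

theorem chkRH : ∀ j ∈ List.range 11, j ≠ 0 → ∃ R ∈ RH, isAut R = true ∧
    (img R D0 = D0 ∨ img R D0 = 5304288) ∧ conjChk R ka j = true := by decide +kernel

theorem autD (φ : MulAut GD) : φ ∈ AD := by
  have : Fact (Nat.Prime 11) := ⟨by norm_num⟩
  have hoa : orderOf a' = 11 := by
    rw [← Subgroup.orderOf_coe]; exact ord_a
  have hna : prm kn * prm ka * (prm kn)⁻¹ = prm ka ^ 4 := conj_of_chk pn pa (by decide +kernel)
  have ha11 : prm ka ^ 11 = 1 := by rw [← ord_a]; exact pow_orderOf_eq_one _
  have hna3 : (prm kn)⁻¹ * prm ka * prm kn = prm ka ^ 3 := by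
    have h1 := conj_pow (a := prm kn) (b := prm ka) (i := 3)
    rw [hna, ← pow_mul] at h1
    have h2 : prm ka ^ (4 * 3) = prm ka := by
      have : 4 * 3 = 11 + 1 := by norm_num
      rw [this, pow_add, ha11, one_mul, pow_one]
    rw [h2] at h1
    calc (prm kn)⁻¹ * prm ka * prm kn
        = (prm kn)⁻¹ * (prm kn * prm ka ^ 3 * (prm kn)⁻¹) * prm kn := by rw [← h1]
      _ = prm ka ^ 3 := by group
  apply aut_mem_of_data (p := 11) (m := 8640) card_GD (by norm_num) a' n' t' AD
  · intro g
    exact ⟨g.1, ⟨(mem_GD.mp g.2).1, Or.inl (mem_GD.mp g.2).2⟩, fun x => by simp⟩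
  · rw [eq_top_iff]
    intro x _
    have hx := gen12 x.2
    have himg : ({prm ka, prm kn, prm kt} : Set (Equiv.Perm GolayPt)) =
        GD.subtype '' {a', n', t'} := by
      simp [Set.image_insert_eq, a', n', t']
    rw [himg, ← MonoidHom.map_closure] at hx
    obtain ⟨y, hy, hyx⟩ := hx
    have : y = x := Subtype.ext hyx
    rwa [this] at hy
  · exact hoa
  · intro k hk
    obtain ⟨j, hj1, hj2, hjk⟩ : ∃ j, j ∈ List.range 11 ∧ j ≠ 0 ∧ prm ka ^ k = prm ka ^ j :=
      ⟨k % 11, List.mem_range.mpr (Nat.mod_lt _ (by norm_num)), by omega,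
        by rw [← ord_a, pow_mod_orderOf]⟩
    obtain ⟨R, _, hR1, hR2, hR3⟩ := chkRH j hj1 hj2
    have hRp := isPerm_of_isAut hR1
    have hρ : NrmD (prm R) := by
      refine ⟨prm_mem_M24 hR1, ?_⟩
      rw [smul_dec hRp]
      rcases hR2 with e | e
      · left; rw [e]
      · right; rw [e, D0c_eq]
    refine ⟨conjAut GD (prm R) (fun g hg => hρ.conj hg) (fun g hg => hρ.conj' hg),
      ⟨prm R, hρ, fun g => rfl⟩, ?_⟩
    apply Subtype.ext
    have h9 := conj_of_chk hRp pa hR3
    have e : ((a' ^ k : GD) : Equiv.Perm GolayPt) = prm ka ^ k := Subgroup.coe_pow GD a' k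
    exact (h9.trans hjk.symm).trans e.symm
  · intro g hg
    obtain ⟨i, hi⟩ := cent_a g.2 (congrArg Subtype.val hg)
    have : g = a' ^ i := Subtype.ext (by rw [Subgroup.coe_pow]; exact hi)
    rw [this]
    exact Subgroup.pow_mem _ (Subgroup.mem_zpowers a') i
  · exact ⟨4, Subtype.ext (by
      rw [Subgroup.coe_pow]; exact hna)⟩
  · intro m
    refine ⟨6 * m, ?_⟩
    apply conj_n a' n'
    · exact Subtype.ext (by rw [Subgroup.coe_pow]; exact ha11)
    · exact Subtype.ext (by rw [Subgroup.coe_pow]; exact hna3)
  · intro g h1 h2 h3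
    exact Subtype.ext (cent_n g.2 (congrArg Subtype.val h1) (congrArg Subtype.val h2)
      (fun h => h3 (Subtype.ext h)))
  · exact Subtype.ext tn_comm
  · exact Subtype.ext t_sq
  · exact fun h => t_ne (congrArg Subtype.val h)

/-! ### the outer automorphism group -/

theorem mem_inn_of {φ : MulAut GD} {h : Equiv.Perm GolayPt} (hh : h ∈ GD)
    (hx : ∀ x : GD, ((φ x : GD) : Equiv.Perm GolayPt) = h * (x : Equiv.Perm GolayPt) * h⁻¹) :
    φ ∈ Cfsg.Inn GD := by
  refine ⟨⟨h, hh⟩, ?_⟩
  ext x
  rw [hx x]
  simp

theorem not_inn_of_swap {φ : MulAut GD} {ρ : Equiv.Perm GolayPt} (hρM : ρ ∈ M24)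
    (hρ : ρ • dec D0 = (dec D0)ᶜ)
    (h : ∀ g : GD, ((φ g : GD) : Equiv.Perm GolayPt) = ρ * (g : Equiv.Perm GolayPt) * ρ⁻¹) :
    φ ∉ Cfsg.Inn GD := by
  rintro ⟨k, rfl⟩
  have hk := mem_GD.mp k.2
  have hz : ∀ g ∈ GD, (k.1⁻¹ * ρ) * g = g * (k.1⁻¹ * ρ) := by
    intro g hg
    have h1 := h ⟨g, hg⟩
    have h2 : k.1 * g * k.1⁻¹ = ρ * g * ρ⁻¹ := by
      rw [← h1]; simp
    calc k.1⁻¹ * ρ * g = k.1⁻¹ * (ρ * g * ρ⁻¹) * ρ := by group
      _ = k.1⁻¹ * (k.1 * g * k.1⁻¹) * ρ := by rw [← h2]
      _ = g * (k.1⁻¹ * ρ) := by group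
  have hzD : (k.1⁻¹ * ρ) • dec D0 = (dec D0)ᶜ := by
    rw [mul_smul, hρ, smul_compl, inv_smul_eq_iff.mpr hk.2.symm]
  have hp : pt 23 ∈ dec D0 := by decide +kernel
  have hzp : (k.1⁻¹ * ρ) (pt 23) ∉ dec D0 := by
    have := Finset.smul_mem_smul_finset (a := k.1⁻¹ * ρ) hp
    rw [hzD, Finset.mem_compl] at this
    exact this
  obtain ⟨c1, hc1, hc1a, -⟩ := exists_third D0_mem ((k.1⁻¹ * ρ) (pt 23)) ((k.1⁻¹ * ρ) (pt 23))
  obtain ⟨c2, hc2, hc2a, hc2b⟩ := exists_third D0_mem ((k.1⁻¹ * ρ) (pt 23)) c1
  obtain ⟨g, hg, hgx⟩ := threeTrans_outside D0_mem hp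
    ⟨![(k.1⁻¹ * ρ) (pt 23), c1, c2], by
      intro i j hij
      fin_cases i <;> fin_cases j <;> simp_all⟩
    ⟨![c1, (k.1⁻¹ * ρ) (pt 23), c2], by
      intro i j hij
      fin_cases i <;> fin_cases j <;> simp_all⟩
    (by
      intro i
      fin_cases i
      · exact hzp
      · exact hc1
      · exact hc2)
    (by
      intro i
      fin_cases i
      · exact hc1
      · exact hzp
      · exact hc2)
  have hg' : g.1 • dec D0 = dec D0 ∧ g.1 (pt 23) = pt 23 := Subgroup.mem_inf.mp hg
  have h0 : g.1 ((k.1⁻¹ * ρ) (pt 23)) = c1 := hgx 0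
  have h1 := hz g.1 (mem_GD.mpr ⟨g.2, hg'.1⟩)
  rw [← Equiv.Perm.mul_apply, ← h1, Equiv.Perm.mul_apply, hg'.2] at h0
  exact hc1a h0.symm

theorem exists_swapD : ∃ w ∈ M24, w • dec D0 = (dec D0)ᶜ := by
  obtain ⟨g, hg, h⟩ := trans_dodecads D0_mem (Cfsg.Agent.Lib.Helper3_M24g.compl_mem_dodecads D0_mem)
  exact ⟨g, hg, h⟩

theorem outD : Nat.card (Cfsg.Out GD) = 2 := by
  obtain ⟨w, hwM, hw⟩ := exists_swapD
  have hwN : NrmD w := ⟨hwM, Or.inr hw⟩
  change (Cfsg.Inn GD).index = 2
  rw [Subgroup.index_eq_two_iff]
  refine ⟨conjAut GD w (fun g hg => hwN.conj hg) (fun g hg => hwN.conj' hg), fun b => ?_⟩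
  obtain ⟨ρ, hρ, hb⟩ := autD b
  have hba : ∀ g : GD, (((b * conjAut GD w (fun g hg => hwN.conj hg)
      (fun g hg => hwN.conj' hg)) g : GD) : Equiv.Perm GolayPt) =
      (ρ * w) * (g : Equiv.Perm GolayPt) * (ρ * w)⁻¹ := by
    intro g
    rw [MulAut.mul_apply, hb]
    change ρ * (w * (g : Equiv.Perm GolayPt) * w⁻¹) * ρ⁻¹ = _
    group
  rcases hρ.2 with e | e
  · right
    refine ⟨mem_inn_of (mem_GD.mpr ⟨hρ.1, e⟩) hb, not_inn_of_swap (M24.mul_mem hρ.1 hwM) ?_ hba⟩
    rw [mul_smul, hw, smul_compl, e]
  · left
    refine ⟨mem_inn_of (mem_GD.mpr ⟨M24.mul_mem hρ.1 hwM, ?_⟩) hba, not_inn_of_swap hρ.1 e hb⟩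
    rw [mul_smul, hw, smul_compl, e, compl_compl]

/-- the stabiliser of any dodecad is isomorphic to `GD` -/
theorem exists_equiv {d : Finset GolayPt} (hd : d ∈ dodecads) :
    Nonempty (GD ≃* ↥(M24 ⊓ MulAction.stabilizer (Equiv.Perm GolayPt) d)) := by
  obtain ⟨k, hk, rfl⟩ := trans_dodecads D0_mem hd
  refine ⟨{ toFun := fun g => ⟨k * g.1 * k⁻¹, ?_⟩
            invFun := fun g => ⟨k⁻¹ * g.1 * k, ?_⟩
            left_inv := ?_
            right_inv := ?_
            map_mul' := ?_ }⟩
  · have hg := mem_GD.mp g.2
    refine Subgroup.mem_inf.mpr ⟨M24.mul_mem (M24.mul_mem hk hg.1) (M24.inv_mem hk), ?_⟩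
    change (k * g.1 * k⁻¹) • k • dec D0 = k • dec D0
    rw [mul_smul, mul_smul, inv_smul_smul, hg.2]
  · have hg := Subgroup.mem_inf.mp g.2
    have hg2 : g.1 • k • dec D0 = k • dec D0 := hg.2
    refine mem_GD.mpr ⟨M24.mul_mem (M24.mul_mem (M24.inv_mem hk) hg.1) hk, ?_⟩
    rw [mul_smul, mul_smul, hg2, inv_smul_smul]
  · intro g; apply Subtype.ext; simp only; group
  · intro g; apply Subtype.ext; simp only; group
  · intro g h; apply Subtype.ext; simp only [Subgroup.coe_mul]; group

theorem out_dodecad {d : Finset GolayPt} (hd : d ∈ dodecads) :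
    Nat.card (Cfsg.Out ↥(M24 ⊓ MulAction.stabilizer (Equiv.Perm GolayPt) d)) = 2 := by
  obtain ⟨e⟩ := exists_equiv hd
  rw [← card_out_congr e]
  exact outD
end Cfsg.Agent.Lib.Helper3_Out12
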