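import Mathlib
import Cfsg.Agent.Lib.Helper3_AutGen2
import Cfsg.Agent.Lib.Helper3_Out12

/-!
# helper3: every automorphism of `M11` is inner
-/

set_option autoImplicit false
set_option linter.unusedSectionVars false
set_option linter.constructorNameAsVariable false

namespace Cfsg.Agent.Lib.Helper3_Out11

open Cfsg Cfsg.Agent.Lib.Helper3_Golay Cfsg.Agent.Lib.Helper3_Golay2 Cfsg.Agent.Lib.Helper3_Golay3
open Cfsg.Agent.Lib.Helper3_M24a Cfsg.Agent.Lib.Helper3_PermChain Cfsg.Agent.Lib.Helper3_M24b
open Cfsg.Agent.Lib.Helper3_M24c Cfsg.Agent.Lib.Helper3_M24d Cfsg.Agent.Lib.Helper3_M24e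
open Cfsg.Agent.Lib.Helper3_M24h Cfsg.Agent.Lib.Helper3_Out2 Cfsg.Agent.Lib.Helper3_Simp
open Cfsg.Agent.Lib.Helper3_Enum Cfsg.Agent.Lib.Helper3_Simp2 Cfsg.Agent.Lib.Helper3_Simp3
open Cfsg.Agent.Lib.Helper3_AutGen Cfsg.Agent.Lib.Helper3_AutGen2 Cfsg.Agent.Lib.Helper3_Out12
open scoped Pointwise

def kn : ℕ := 963351100124336950772983377614163041
def ku : ℕ := 970157848012679323300933563942177857
def kv : ℕ := 972391325817742837101910839739700370
def kv5 : ℕ := 981399253458844642228606680185325973
def kY : ℕ := 984034698840472376441659724381360693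
def kX : ℕ := 973684330451669049441299029328188996
def kuv : ℕ := 968391889412294375920337864971858596

def V : List ℕ := [kn, ku, kv]

def L : List (ℕ × ℕ × ℕ × ℕ) := [(0, 982050232929527947957227805458661443, 963351100124336950772983377614163041, 963351100124336950772983377614163041), (0, 967923544543826419218137499420445698, 970157848012679323300933563942177857, 963351100124336950772983377614163041), (0, 981444967450955150971476292088283524, 972391325817742837101910839739700370, 963351100124336950772983377614163041), (0, 984034698840472376441659724381360693, 963351100124336950772983377614163041, 972391325817742837101910839739700370), (0, 967768996979303620974579329486310060, 972391325817742837101910839739700370, 982050232929527947957227805458661443), (0, 968537174206192762734167751322042419, 963351100124336950772983377614163041, 967923544543826419218137499420445698), (0, 974346241709841200596651890301878865, 963351100124336950772983377614163041, 981444967450955150971476292088283524), (0, 963261547197323516727796517017667728, 972391325817742837101910839739700370,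 968537174206192762734167751322042419), (0, 973117821412456890709250725705189923, 972391325817742837101910839739700370, 984034698840472376441659724381360693), (2, 981847487443648539737050095525922464, 982050232929527947957227805458661443, 973117821412456890709250725705189923), (2, 965171525304674893008845075649234016, 963351100124336950772983377614163041, 970157848012679323300933563942177857), (0, 972998667227082992846724578856260992, 981847487443648539737050095525922464, 981847487443648539737050095525922464), (0, 968862325797129201462283900754660896, 965171525304674893008845075649234016, 981847487443648539737050095525922464), (0, 984035383596644963503615728467170912, 981847487443648539737050095525922464, 965171525304674893008845075649234016), (0, 965942292171391660912459591830843968, 981847487443648539737050095525922464, 972998667227082992846724578856260992), (0, 970398067956167395343328010166127680, 981847487443648539737050095525922464, 968862325797129201462283900754660896), (0, 963674429909575327301230289108388992, 965171525304674893008845075649234016,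 968862325797129201462283900754660896), (0, 975594098349877298316428838065311232, 981847487443648539737050095525922464, 963674429909575327301230289108388992), (0, 966638225447259680562856576231722496, 965171525304674893008845075649234016, 975594098349877298316428838065311232), (2, 981493791035034042311865010661508128, 975594098349877298316428838065311232, 966638225447259680562856576231722496), (0, 973726299115478498653469978768608288, 981847487443648539737050095525922464, 970398067956167395343328010166127680), (0, 984128563442642855769045999180853280, 981493791035034042311865010661508128, 981493791035034042311865010661508128), (0, 967720771237155294815693095891472416, 981493791035034042311865010661508128, 973726299115478498653469978768608288), (0, 984036102911248115080220955032835104, 973726299115478498653469978768608288, 973726299115478498653469978768608288), (0, 982021529418017966324684496639282208, 981493791035034042311865010661508128, 984128563442642855769045999180853280), (0, 973644892453930826191055284001622048, 973726299115478498653469978768608288,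 984128563442642855769045999180853280), (0, 969223508477797508009485017507053600, 981493791035034042311865010661508128, 967720771237155294815693095891472416), (0, 966475956924560098024124728230971424, 973726299115478498653469978768608288, 967720771237155294815693095891472416), (0, 963879149272479759044529865121483808, 973726299115478498653469978768608288, 982021529418017966324684496639282208), (2, 962371918955368510574636649896478752, 982021529418017966324684496639282208, 963879149272479759044529865121483808), (0, 973054518210042674313238929715267616, 966475956924560098024124728230971424, 966475956924560098024124728230971424), (0, 963346641302244241982471832828512288, 962371918955368510574636649896478752, 966475956924560098024124728230971424), (0, 965131035075015849898837032318863392, 966475956924560098024124728230971424, 962371918955368510574636649896478752), (0, 969802841622095796538075665876486176, 966475956924560098024124728230971424, 973054518210042674313238929715267616), (0, 974297736089239669581392726270806048, 962371918955368510574636649896478752,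 973054518210042674313238929715267616)]

def T : List ℕ := L.map (fun s => s.2.1) ++ (NI :: V)

def RH : List ℕ := [984818244535754528103549039458486304, 970157848012679323300933563942177857, 963918492803612076772893908740898914, 967240993885074375077448666287506435]

def HL : List ℕ := [967122971296563672627802906230671908, 964558511521324723991401098385199692, 968513604391659005528142084544484753, 970458158436290851137030683939194546, 961891378389491784521374864511643797]

abbrev G1 : Subgroup (Equiv.Perm GolayPt) := Stb [23] [D0]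

theorem hL : chkSLP (NI :: V) L = true := by decide +kernel

theorem pn : isPerm kn = true := by decide +kernel
theorem pu : isPerm ku = true := by decide +kernel
theorem pv : isPerm kv = true := by decide +kernel
theorem pv5 : isPerm kv5 = true := by decide +kernel
theorem pY : isPerm kY = true := by decide +kernel
theorem pX : isPerm kX = true := by decide +kernel
theorem puv : isPerm kuv = true := by decide +kernel

theorem n_mem : prm kn ∈ G1 :=
  (prm_mem_Stb (F := [23]) (Ms := [D0]) (by decide +kernel) (by decide +kernel)).2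
theorem u_mem : prm ku ∈ G1 :=
  (prm_mem_Stb (F := [23]) (Ms := [D0]) (by decide +kernel) (by decide +kernel)).2
theorem v_mem : prm kv ∈ G1 :=
  (prm_mem_Stb (F := [23]) (Ms := [D0]) (by decide +kernel) (by decide +kernel)).2

theorem gen11 : G1 ≤ Subgroup.closure {prm kn, prm ku, prm kv} := by
  set S := Subgroup.closure ({prm kn, prm ku, prm kv} : Set (Equiv.Perm GolayPt)) with hS
  have hSM : S ≤ GD := by
    rw [hS, Subgroup.closure_le]
    intro x hx
    simp only [Set.mem_insert_iff, Set.mem_singleton_iff] at hx
    rcases hx with rfl | rfl | rfl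
    · exact n_mem.1
    · exact u_mem.1
    · exact v_mem.1
  have h0 : ∀ N ∈ NI :: V, Good S N := by
    intro N hN
    simp only [V, List.mem_cons, List.not_mem_nil, or_false] at hN
    rcases hN with rfl | rfl | rfl | rfl
    · exact ⟨by decide +kernel, by rw [prm_NI]; exact S.one_mem⟩
    · exact ⟨pn, Subgroup.subset_closure (by simp)⟩
    · exact ⟨pu, Subgroup.subset_closure (by simp)⟩
    · exact ⟨pv, Subgroup.subset_closure (by simp)⟩
  have hT : ∀ N ∈ T, Good S N := good_all S _ _ h0 hL
  have h5 : Stb [3, 2, 1, 0, 23] [D0] ≤ S := by rw [Stb5D0]; exact bot_le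
  have h4 := le_levD (F := [2, 1, 0, 23]) (b := 3) (M := 3084312) S T hT hSM (by decide +kernel) (by decide +kernel)
    (by decide +kernel) (by decide +kernel) (by decide +kernel) (by decide +kernel) h5
  have h3 := le_levD (F := [1, 0, 23]) (b := 2) (M := 3084316) S T hT hSM (by decide +kernel) (by decide +kernel)
    (by decide +kernel) (by decide +kernel) (by decide +kernel) (by decide +kernel) h4
  have h2 := le_levD (F := [0, 23]) (b := 1) (M := 3084318) S T hT hSM (by decide +kernel) (by decide +kernel)
    (by decide +kernel) (by decide +kernel) (by decide +kernel) (by decide +kernel) h3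
  have h1 := le_levD (F := [23]) (b := 0) (M := 3084319) S T hT hSM (by decide +kernel) (by decide +kernel)
    (by decide +kernel) (by decide +kernel) (by decide +kernel) (by decide +kernel) h2
  exact h1

theorem eq_of_agree {g h : Equiv.Perm GolayPt} (hg : g ∈ G1) (hh : h ∈ G1)
    (hag : ∀ b ∈ [3, 2, 1, 0], g (pt b) = h (pt b)) : g = h := by
  have hmem : h⁻¹ * g ∈ Stb [3, 2, 1, 0, 23] [D0] := by
    have h1 := mem_Stb.mp (G1.mul_mem (G1.inv_mem hh) hg)
    rw [mem_Stb]
    refine ⟨h1.1, h1.2.1, ?_⟩
    intro b hb
    rw [List.mem_cons, List.mem_cons, List.mem_cons, List.mem_cons] at hb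
    by_cases h23 : b = 23
    · exact h1.2.2 b (by simp [h23])
    · rw [Equiv.Perm.mul_apply, Equiv.Perm.inv_eq_iff_eq]
      apply hag
      simp only [List.mem_cons, List.not_mem_nil, or_false]
      simp only [List.mem_singleton] at hb
      tauto
  rw [Stb5D0, Subgroup.mem_bot] at hmem
  exact (inv_mul_eq_one.mp hmem).symm

theorem eq_of_comm {z g h : Equiv.Perm GolayPt} (hg : g ∈ G1) (hh : h ∈ G1)
    (hcg : g * z = z * g) (hch : h * z = z * h) (h0 : g (pt 0) = h (pt 0))
    (hcov : ∀ b ∈ [3, 2, 1, 0], ∃ i : ℕ, (z ^ i) (pt 0) = pt b) : g = h := by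
  apply eq_of_agree hg hh
  intro b hb
  obtain ⟨i, hi⟩ := hcov b hb
  have h1 : g * z ^ i = z ^ i * g := (Commute.pow_right (show Commute g z from hcg) i)
  have h2 : h * z ^ i = z ^ i * h := (Commute.pow_right (show Commute h z from hch) i)
  rw [← hi, ← Equiv.Perm.mul_apply, ← Equiv.Perm.mul_apply, h1, h2, Equiv.Perm.mul_apply,
    Equiv.Perm.mul_apply, h0]

theorem cov_n : ∀ b ∈ [3, 2, 1, 0], ∃ i : ℕ, (prm kn ^ i) (pt 0) = pt b := by
  have h : ∀ b ∈ [3, 2, 1, 0], ∃ i ∈ List.range 5, (ap kn)^[i] 0 = b := by decide +kernel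
  intro b hb
  obtain ⟨i, _, hi⟩ := h b hb
  exact ⟨i, by rw [prm_pow_pt pn i 0 (by norm_num), hi]⟩

theorem cov_u : ∀ b ∈ [3, 2, 1, 0], ∃ i : ℕ, (prm ku ^ i) (pt 0) = pt b := by
  have h : ∀ b ∈ [3, 2, 1, 0], ∃ i ∈ List.range 4, (ap ku)^[i] 0 = b := by decide +kernel
  intro b hb
  obtain ⟨i, _, hi⟩ := h b hb
  exact ⟨i, by rw [prm_pow_pt pu i 0 (by norm_num), hi]⟩

theorem not_fixed_of_comm0 {z g : Equiv.Perm GolayPt} (hc : g * z = z * g) {q : GolayPt}
    (hq : z q = q) (h0 : z (pt 0) ≠ pt 0) : g (pt 0) ≠ q := by
  intro h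
  apply h0
  apply g.injective
  rw [← Equiv.Perm.mul_apply, hc, Equiv.Perm.mul_apply, h, hq]

theorem chkHL : ∀ b ∈ [4, 12, 17, 18, 21], ∃ H ∈ HL, inStb [23] [D0] H = true ∧ ap H 0 = b ∧
    ∃ x ∈ List.range 24, ap H (ap kn x) ≠ ap kn (ap H x) := by decide +kernel

theorem chkHL2 : ∀ H ∈ HL, ∀ i ∈ List.range 4, ap H ((ap kn)^[i] 0) = (ap kn)^[i] (ap H 0) := by
  decide +kernel

theorem cent_n {g : Equiv.Perm GolayPt} (hg : g ∈ G1) (hc : g * prm kn = prm kn * g) :
    ∃ i : ℕ, g = prm kn ^ i := by
  have hd : g (pt 0) ∈ dec D0 := apply_mem_D hg.1 (by decide +kernel)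
  have hn0 : prm kn (pt 0) ≠ pt 0 := by rw [prm_pt pn (by norm_num)]; decide +kernel
  have e16 : g (pt 0) ≠ pt 16 := not_fixed_of_comm0 hc
    (by rw [prm_pt pn (by norm_num)]; decide +kernel) hn0
  have e23 : g (pt 0) ≠ pt 23 := not_fixed_of_comm0 hc
    (by rw [prm_pt pn (by norm_num)]; decide +kernel) hn0
  have h3 : ∀ q ∈ dec D0, q ≠ pt 16 → q ≠ pt 23 → (∃ i ∈ List.range 5, q = pt ((ap kn)^[i] 0)) ∨
      ∃ b ∈ [4, 12, 17, 18, 21], q = pt b := by
    decide +kernel
  rcases h3 _ hd e16 e23 with ⟨i, _, hi⟩ | ⟨b, hb, hq⟩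
  · refine ⟨i, ?_⟩
    apply eq_of_comm hg (G1.pow_mem n_mem i) hc ((Commute.refl (prm kn)).pow_left i) ?_ cov_n
    rw [hi, prm_pow_pt pn i 0 (by norm_num)]
  · exfalso
    obtain ⟨H, hH, hH1, hH2, x, hx, hne⟩ := chkHL b hb
    obtain ⟨hHp, hHm⟩ := prm_mem_Stb (F := [23]) (Ms := [D0]) (by decide +kernel) hH1
    have hgH : g = prm H := by
      apply eq_of_agree hg hHm
      have hcov : ∀ b ∈ [3, 2, 1, 0], ∃ i ∈ List.range 4, (ap kn)^[i] 0 = b := by decide +kernel
      intro c hc'
      obtain ⟨i, hi, hic⟩ := hcov c hc'
      have h1 : g * prm kn ^ i = prm kn ^ i * g := (Commute.pow_right (show Commute g _ from hc) i)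
      have h24 : (ap kn)^[i] 0 < 24 := by
        rw [hic]
        simp only [List.mem_cons, List.not_mem_nil, or_false] at hc'
        omega
      have h2 : pt c = (prm kn ^ i) (pt 0) := by rw [prm_pow_pt pn i 0 (by norm_num), hic]
      rw [h2, ← Equiv.Perm.mul_apply, h1, Equiv.Perm.mul_apply, hq, ← hH2,
        prm_pow_pt pn i _ (ap_lt hHp (by norm_num)), prm_pow_pt pn i 0 (by norm_num),
        prm_pt hHp h24, chkHL2 H hH i hi]
    rw [hgH] at hc
    rw [List.mem_range] at hx
    have h5 := congrArg (fun f => idx (f (pt x))) hc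
    simp only [Equiv.Perm.mul_apply] at h5
    rw [prm_pt pn hx, prm_pt hHp hx, prm_pt hHp (ap_lt pn hx), prm_pt pn (ap_lt hHp hx),
      idx_pt _ (ap_lt hHp (ap_lt pn hx)), idx_pt _ (ap_lt pn (ap_lt hHp hx))] at h5
    exact hne h5

theorem prm_pow_eq {N M k : ℕ} (hN : isPerm N = true) (hM : isPerm M = true)
    (h : ∀ i ∈ List.range 24, ap M i = (ap N)^[k] i) : prm M = prm N ^ k := by
  ext q : 1
  rw [← pt_idx q, prm_pt hM (idx_lt q), prm_pow_pt hN k _ (idx_lt q),
    h _ (List.mem_range.mpr (idx_lt q))]

theorem prm_pow_eq_one {N k : ℕ} (hN : isPerm N = true)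
    (h : ∀ i ∈ List.range 24, (ap N)^[k] i = i) : prm N ^ k = 1 := by
  ext q : 1
  rw [← pt_idx q, prm_pow_pt hN k _ (idx_lt q), h _ (List.mem_range.mpr (idx_lt q))]
  rfl

theorem uv_comm : prm kv * prm ku = prm ku * prm kv := by
  rw [← prm_comp puv pv pu (by decide +kernel), ← prm_comp puv pu pv (by decide +kernel)]

theorem v_sq : prm kv * prm kv = prm ku := by
  rw [← prm_comp pu pv pv (by decide +kernel)]

theorem cent_u {g : Equiv.Perm GolayPt} (hg : g ∈ G1) (hc : g * prm ku = prm ku * g)
    (h2 : g * g = prm ku) : g = prm kv ∨ g = prm kv ^ 5 := by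
  have hd : g (pt 0) ∈ dec D0 := apply_mem_D hg.1 (by decide +kernel)
  have hu0 : prm ku (pt 0) ≠ pt 0 := by rw [prm_pt pu (by norm_num)]; decide +kernel
  have e16 : g (pt 0) ≠ pt 16 := not_fixed_of_comm0 hc
    (by rw [prm_pt pu (by norm_num)]; decide +kernel) hu0
  have e17 : g (pt 0) ≠ pt 17 := not_fixed_of_comm0 hc
    (by rw [prm_pt pu (by norm_num)]; decide +kernel) hu0
  have e19 : g (pt 0) ≠ pt 19 := not_fixed_of_comm0 hc
    (by rw [prm_pt pu (by norm_num)]; decide +kernel) hu0
  have e23 : g (pt 0) ≠ pt 23 := not_fixed_of_comm0 hc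
    (by rw [prm_pt pu (by norm_num)]; decide +kernel) hu0
  have h3 : ∀ q ∈ dec D0, q ≠ pt 16 → q ≠ pt 17 → q ≠ pt 19 → q ≠ pt 23 →
      ∃ i ∈ List.range 8, q = pt ((ap kv)^[i] 0) := by
    decide +kernel
  obtain ⟨i, hi8, hi⟩ := h3 _ hd e16 e17 e19 e23
  have hgi : g = prm kv ^ i := by
    apply eq_of_comm hg (G1.pow_mem v_mem i) hc
      ((show Commute (prm kv) (prm ku) from uv_comm).pow_left i) ?_ cov_u
    rw [hi, prm_pow_pt pv i 0 (by norm_num)]
  have h4 : ∀ i ∈ List.range 8, (ap kv)^[i + i] 0 = ap ku 0 → i = 1 ∨ i = 5 := by decide +kernel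
  have h5 : (ap kv)^[i + i] 0 = ap ku 0 := by
    have h6 : idx ((g * g) (pt 0)) = idx (prm ku (pt 0)) := by rw [h2]
    rw [hgi, ← pow_add, prm_pow_pt pv _ 0 (by norm_num), prm_pt pu (by norm_num),
      idx_pt _ (ap_lt pu (by norm_num))] at h6
    rw [← h6, idx_pt]
    have : ∀ k : ℕ, (ap kv)^[k] 0 < 24 := by
      intro k
      induction k with
      | zero => simp
      | succ k ih => rw [Function.iterate_succ_apply']; exact ap_lt pv ih
    exact this _
  rcases h4 i hi8 h5 with rfl | rfl
  · left; rw [hgi, pow_one]
  · right; exact hgi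

theorem rel_nv : (prm kn * prm kv) ^ 6 = 1 := by
  rw [← prm_comp pY pn pv (by decide +kernel)]
  exact prm_pow_eq_one pY (by decide +kernel)

theorem rel_nv5 : (prm kn * prm kv ^ 5) ^ 6 ≠ 1 := by
  rw [← prm_pow_eq pv pv5 (by decide +kernel), ← prm_comp pX pn pv5 (by decide +kernel)]
  intro h
  have h1 := congrArg (fun f => idx (f (pt 0))) h
  simp only [Equiv.Perm.one_apply] at h1
  rw [prm_pow_pt pX 6 0 (by norm_num)] at h1
  revert h1
  decide +kernel

noncomputable def n' : G1 := ⟨prm kn, n_mem⟩
noncomputable def u' : G1 := ⟨prm ku, u_mem⟩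
noncomputable def v' : G1 := ⟨prm kv, v_mem⟩

theorem ord_n : orderOf (prm kn) = 5 := by
  have : Fact (Nat.Prime 5) := ⟨by norm_num⟩
  exact orderOf_prm pn (by decide +kernel)

theorem chkRH : ∀ j ∈ List.range 5, j ≠ 0 → ∃ R ∈ RH, inStb [23] [D0] R = true ∧
    conjChk R kn j = true := by decide +kernel

theorem card_G1 : Nat.card G1 = 5 * 1584 := by
  rw [card_D1]

theorem aut11 (φ : MulAut G1) : φ ∈ Cfsg.Inn G1 := by
  have : Fact (Nat.Prime 5) := ⟨by norm_num⟩
  have hon : orderOf n' = 5 := by
    rw [← Subgroup.orderOf_coe]; exact ord_n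
  have hun : prm ku * prm kn * (prm ku)⁻¹ = prm kn ^ 2 := conj_of_chk pu pn (by decide +kernel)
  have hn5 : prm kn ^ 5 = 1 := by rw [← ord_n]; exact pow_orderOf_eq_one _
  have hun3 : (prm ku)⁻¹ * prm kn * prm ku = prm kn ^ 3 := by
    have h1 := conj_pow (a := prm ku) (b := prm kn) (i := 3)
    rw [hun, ← pow_mul] at h1
    have h2 : prm kn ^ (2 * 3) = prm kn := by
      have : 2 * 3 = 5 + 1 := by norm_num
      rw [this, pow_add, hn5, one_mul, pow_one]
    rw [h2] at h1
    calc (prm ku)⁻¹ * prm kn * prm ku
        = (prm ku)⁻¹ * (prm ku * prm kn ^ 3 * (prm ku)⁻¹) * prm ku := by rw [← h1]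
      _ = prm kn ^ 3 := by group
  apply aut_mem_of_data2 (p := 5) (m := 1584) card_G1 (by norm_num) n' u' (Cfsg.Inn G1)
  · intro g
    exact ⟨g, rfl⟩
  · exact hon
  · intro k hk
    obtain ⟨j, hj1, hj2, hjk⟩ : ∃ j, j ∈ List.range 5 ∧ j ≠ 0 ∧ prm kn ^ k = prm kn ^ j :=
      ⟨k % 5, List.mem_range.mpr (Nat.mod_lt _ (by norm_num)), by omega,
        by rw [← ord_n, pow_mod_orderOf]⟩
    obtain ⟨R, _, hR1, hR3⟩ := chkRH j hj1 hj2
    obtain ⟨hRp, hRm⟩ := prm_mem_Stb (F := [23]) (Ms := [D0]) (by decide +kernel) hR1
    refine ⟨MulAut.conj (⟨prm R, hRm⟩ : G1), ⟨_, rfl⟩, ?_⟩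
    apply Subtype.ext
    have h9 := conj_of_chk hRp pn hR3
    have e : ((n' ^ k : G1) : Equiv.Perm GolayPt) = prm kn ^ k := Subgroup.coe_pow G1 n' k
    exact (h9.trans hjk.symm).trans e.symm
  · intro g hg
    obtain ⟨i, hi⟩ := cent_n g.2 (congrArg Subtype.val hg)
    have : g = n' ^ i := Subtype.ext (by rw [Subgroup.coe_pow]; exact hi)
    rw [this]
    exact Subgroup.pow_mem _ (Subgroup.mem_zpowers n') i
  · exact ⟨2, Subtype.ext (by
      rw [Subgroup.coe_pow]; exact hun)⟩
  · intro m
    refine ⟨3 * m, ?_⟩
    apply conj_n5 n' u'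
    · exact Subtype.ext (by rw [Subgroup.coe_pow]; exact hn5)
    · exact Subtype.ext (by rw [Subgroup.coe_pow]; exact hun3)
  · intro ψ hψn hψu
    have hvu : v' * u' = u' * v' := Subtype.ext uv_comm
    have hvv : v' * v' = u' := Subtype.ext v_sq
    have h1 : ψ v' * u' = u' * ψ v' := by
      have := congrArg ψ hvu
      rwa [map_mul, map_mul, hψu] at this
    have h2 : ψ v' * ψ v' = u' := by
      have := congrArg ψ hvv
      rwa [map_mul, hψu] at this
    have hψv : ψ v' = v' := by
      rcases cent_u (ψ v').2 (congrArg Subtype.val h1) (congrArg Subtype.val h2) with h | h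
      · exact Subtype.ext h
      · exfalso
        have hrel : (n' * v') ^ 6 = 1 := Subtype.ext (by
          rw [Subgroup.coe_pow]; exact rel_nv)
        have h3 := congrArg ψ hrel
        rw [map_pow, map_mul, hψn, map_one] at h3
        have h4 := congrArg Subtype.val h3
        rw [Subgroup.coe_pow, Subgroup.coe_mul, h] at h4
        exact rel_nv5 h4
    apply MulEquiv.ext
    intro x
    have hx : x ∈ Subgroup.closure {n', u', v'} := by
      have hx := gen11 x.2
      have himg : ({prm kn, prm ku, prm kv} : Set (Equiv.Perm GolayPt)) =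
          G1.subtype '' {n', u', v'} := by
        simp [Set.image_insert_eq, n', u', v']
      rw [himg, ← MonoidHom.map_closure] at hx
      obtain ⟨y, hy, hyx⟩ := hx
      have : y = x := Subtype.ext hyx
      rwa [this] at hy
    induction hx using Subgroup.closure_induction with
    | mem y hy =>
      simp only [Set.mem_insert_iff, Set.mem_singleton_iff] at hy
      rcases hy with rfl | rfl | rfl
      · rw [hψn]; rfl
      · rw [hψu]; rfl
      · rw [hψv]; rfl
    | one => simp
    | mul y z _ _ hy hz =>
      rw [map_mul, hy, hz]; rfl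
    | inv y _ hy =>
      rw [map_inv, hy]; rfl

theorem out11 : Nat.card (Cfsg.Out G1) = 1 := card_out_eq_one_of aut11

/-- the stabiliser of any flag is isomorphic to `G1` -/
theorem exists_equiv {d : Finset GolayPt} (hd : d ∈ dodecads) {p : GolayPt} (hp : p ∈ d) :
    Nonempty (G1 ≃* ↥(M24 ⊓ MulAction.stabilizer (Equiv.Perm GolayPt) d ⊓
      MulAction.stabilizer (Equiv.Perm GolayPt) p)) := by
  obtain ⟨k, hk, rfl, rfl⟩ := dodecad_flag_nf hd hp
  refine ⟨{ toFun := fun g => ⟨k * g.1 * k⁻¹, ?_⟩
            invFun := fun g => ⟨k⁻¹ * g.1 * k, ?_⟩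
            left_inv := ?_
            right_inv := ?_
            map_mul' := ?_ }⟩
  · have hg := mem_Stb.mp g.2
    refine Subgroup.mem_inf.mpr ⟨Subgroup.mem_inf.mpr
      ⟨M24.mul_mem (M24.mul_mem hk hg.1) (M24.inv_mem hk), ?_⟩, ?_⟩
    · change (k * g.1 * k⁻¹) • k • dec D0 = k • dec D0
      rw [mul_smul, mul_smul, inv_smul_smul, hg.2.1 D0 (by simp)]
    · change (k * g.1 * k⁻¹) (k (pt 23)) = k (pt 23)
      rw [Equiv.Perm.mul_apply, Equiv.Perm.mul_apply]
      simp [hg.2.2 23 (by simp)]
  · have hg := Subgroup.mem_inf.mp g.2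
    have hg1 := Subgroup.mem_inf.mp hg.1
    have hg2 : g.1 • k • dec D0 = k • dec D0 := hg1.2
    have hg3 : g.1 (k (pt 23)) = k (pt 23) := hg.2
    refine mem_Stb.mpr ⟨M24.mul_mem (M24.mul_mem (M24.inv_mem hk) hg1.1) hk, ?_, ?_⟩
    · intro m hm
      rw [List.mem_singleton] at hm
      rw [hm, mul_smul, mul_smul, hg2, inv_smul_smul]
    · intro i hi
      rw [List.mem_singleton] at hi
      rw [hi, Equiv.Perm.mul_apply, Equiv.Perm.mul_apply, hg3]
      simp
  · intro g; apply Subtype.ext; simp only; group
  · intro g; apply Subtype.ext; simp only; group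
  · intro g h; apply Subtype.ext; simp only [Subgroup.coe_mul]; group

theorem out_flag {d : Finset GolayPt} (hd : d ∈ dodecads) {p : GolayPt} (hp : p ∈ d) :
    Nat.card (Cfsg.Out ↥(M24 ⊓ MulAction.stabilizer (Equiv.Perm GolayPt) d ⊓
      MulAction.stabilizer (Equiv.Perm GolayPt) p)) = 1 := by
  obtain ⟨e⟩ := exists_equiv hd hp
  rw [← card_out_congr e]
  exact out11

end Cfsg.Agent.Lib.Helper3_Out11
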