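import Cfsg.Agent.S0095

set_option autoImplicit false
set_option linter.style.haveILetI false

open Cfsg
open scoped commutatorElement

namespace Cfsg.Agent.Lib.Helper4_Extra

open Cfsg.Agent.Lib.Helper1_Class2

/-- number of elements of order 4 in an extraspecial 2-group of plus type -/
theorem card_order_four {E : Type*} [Group E] [Finite E] (m : ℕ)
    (hE : Cfsg.IsExtraspecial 2 E) (hcard : Nat.card E = 2 ^ (2 * m + 1))
    (hplus : ∃ A : Subgroup E, Cfsg.IsElementaryAbelian 2 A ∧ Nat.card A = 2 ^ (m + 1)) :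
    Nat.card {x : E // orderOf x = 4} = 2 ^ (2 * m) - 2 ^ m := by
  classical
  obtain ⟨A, hA, hAc⟩ := hplus
  obtain ⟨⟨hP, hfr, hcom⟩, hZc⟩ := hE
  have hcl : Cl2 E := cl2_of_commutator_le_center hcom.le
  obtain ⟨⟨z, hzZ⟩, hz1, hzu⟩ := (Nat.card_eq_two_iff' (1 : Subgroup.center E)).1 hZc
  have hz1' : z ≠ 1 := fun h => hz1 (Subtype.ext h)
  have hZ : ∀ w ∈ Subgroup.center E, w ≠ 1 → w = z := fun w hw hw1 => by
    have := hzu ⟨w, hw⟩ (fun h => hw1 (congrArg Subtype.val h))
    exact congrArg Subtype.val this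
  have hzz : z * z = 1 := by
    by_contra h
    have h1 := hZ (z * z) (Subgroup.mul_mem _ hzZ hzZ) h
    exact hz1' (by simpa using h1)
  have hsq : ∀ x : E, x ^ 2 ∈ Subgroup.center E := by
    intro x
    rw [Subgroup.mem_center_iff]
    intro y
    have h1 : ⁅x ^ 2, y⁆ = 1 := by
      rw [comm_pow_left hcl]
      by_cases h : ⁅x, y⁆ = 1
      · rw [h, one_pow]
      · rw [hZ _ (hcl x y) h, pow_two, hzz]
    rw [commutatorElement_eq_one_iff_mul_comm] at h1
    exact h1.symm
  have hAcomm : ∀ a ∈ A, ∀ b ∈ A, a * b = b * a := fun a ha b hb => by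
    have := hA.1.is_comm.comm ⟨a, ha⟩ ⟨b, hb⟩
    exact congrArg Subtype.val this
  -- `A` is self-centralizing
  have hAC : A ≤ Subgroup.centralizer (A : Set E) := by
    intro a ha
    rw [Subgroup.mem_centralizer_iff]
    intro b hb
    exact hAcomm b hb a ha
  haveI hCn : (Subgroup.centralizer (A : Set E)).Normal := by
    constructor
    intro c hc g
    have e : g * c * g⁻¹ = ⁅g, c⁆ * c := by rw [commutatorElement_def]; group
    rw [e]
    exact Subgroup.mul_mem _ (Subgroup.center_le_centralizer _ (hcl g c)) hc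
  have hCA : Subgroup.centralizer (A : Set E) = A := by
    symm
    apply Subgroup.eq_of_le_of_card_ge hAC
    have h1 := Cfsg.Agent.S0095.pairing_le hcl (by rw [hZc]; exact Nat.prime_two) A ⊤
      (Subgroup.centralizer (A : Set E)) (fun u hu c hc => by
        rw [commutatorElement_eq_one_iff_mul_comm]
        exact (Subgroup.mem_centralizer_iff.1 hc u hu).symm)
    rw [Subgroup.relIndex_top_right, Subgroup.coe_top, Subgroup.centralizer_univ] at h1
    have h2 := Subgroup.card_mul_index ((Subgroup.center E).subgroupOf A)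
    have h3 : Nat.card ((Subgroup.center E).subgroupOf A) ≤ 2 := by
      rw [← hZc]
      refine Nat.card_le_card_of_injective
        (fun x => (⟨(x : A), Subgroup.mem_subgroupOf.1 x.2⟩ : Subgroup.center E)) ?_
      intro x y hxy
      exact Subtype.ext (Subtype.ext (by simpa using congrArg Subtype.val hxy))
    have h4 : 2 ^ m ≤ (Subgroup.center E).relIndex A := by
      have h5 : 2 ^ (m + 1) ≤ 2 * (Subgroup.center E).relIndex A := by
        rw [← hAc, ← h2]
        exact Nat.mul_le_mul_right _ h3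
      rw [pow_succ] at h5
      omega
    have h6 := Subgroup.card_mul_index (Subgroup.centralizer (A : Set E))
    rw [hcard] at h6
    have h7 : Nat.card (Subgroup.centralizer (A : Set E)) * 2 ^ m ≤ 2 ^ (m + 1) * 2 ^ m := by
      calc Nat.card (Subgroup.centralizer (A : Set E)) * 2 ^ m
          ≤ Nat.card (Subgroup.centralizer (A : Set E)) * (Subgroup.centralizer (A : Set E)).index :=
            Nat.mul_le_mul_left _ (h4.trans h1)
        _ = 2 ^ (2 * m + 1) := h6
        _ = 2 ^ (m + 1) * 2 ^ m := by rw [← pow_add]; congr 1; omega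
    rw [hAc]
    exact Nat.le_of_mul_le_mul_right h7 (by positivity)
  -- choice of a non-commuting element for each coset
  have hex : ∀ q : E ⧸ A, ∃ c ∈ A, ∀ x : E, (x : E ⧸ A) = q → x ∉ A → ⁅c, x⁆ ≠ 1 := by
    intro q
    obtain ⟨r, rfl⟩ := QuotientGroup.mk_surjective q
    by_cases hr : r ∈ A
    · refine ⟨1, A.one_mem, fun x hx hxA => ?_⟩
      exfalso
      apply hxA
      have := QuotientGroup.eq.1 hx
      have h2 := A.mul_mem hr (A.inv_mem this)
      simpa using h2
    · have : r ∉ Subgroup.centralizer (A : Set E) := by rwa [hCA]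
      rw [Subgroup.mem_centralizer_iff] at this
      push Not at this
      obtain ⟨c, hc, hcr⟩ := this
      refine ⟨c, hc, fun x hx _ => ?_⟩
      have h1 := QuotientGroup.eq.1 hx
      have h2 : x = r * (x⁻¹ * r)⁻¹ := by group
      rw [h2, comm_mul_right hcl]
      have h3 : ⁅c, (x⁻¹ * r)⁻¹⁆ = 1 := by
        rw [commutatorElement_eq_one_iff_mul_comm]
        exact hAcomm _ hc _ (A.inv_mem h1)
      rw [h3, mul_one]
      intro h4
      rw [commutatorElement_eq_one_iff_mul_comm] at h4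
      exact hcr h4
  choose c hcA hc using hex
  set Ψ : E → E := fun x => x * c (x : E ⧸ A) with hΨ
  have hmk : ∀ x : E, ((Ψ x : E) : E ⧸ A) = (x : E ⧸ A) := by
    intro x
    rw [QuotientGroup.eq]
    have : (x * c (x : E ⧸ A))⁻¹ * x = (c (x : E ⧸ A))⁻¹ := by group
    rw [hΨ]; simp only; rw [this]
    exact A.inv_mem (hcA _)
  have hinv : Function.Involutive Ψ := by
    intro x
    have h1 : Ψ (Ψ x) = Ψ x * c ((Ψ x : E) : E ⧸ A) := rfl
    rw [h1, hmk]
    have h2 : c (x : E ⧸ A) * c (x : E ⧸ A) = 1 := by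
      rw [← pow_two]; exact hA.2 _ (hcA _)
    show x * c (x : E ⧸ A) * c (x : E ⧸ A) = x
    rw [mul_assoc, h2, mul_one]
  have hΨA : ∀ x : E, Ψ x ∈ A ↔ x ∈ A := by
    intro x
    constructor
    · intro h
      have := A.mul_mem h (A.inv_mem (hcA (x : E ⧸ A)))
      simpa [hΨ] using this
    · intro h
      exact A.mul_mem h (hcA _)
  have hΨsq : ∀ x : E, x ∉ A → (Ψ x) ^ 2 = x ^ 2 * z := by
    intro x hx
    show (x * c (x : E ⧸ A)) ^ 2 = _
    rw [mul_pow' hcl, hA.2 _ (hcA _), mul_one, Nat.choose_self, pow_one,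
      hZ _ (hcl _ _) (hc _ x rfl hx)]
  have hswap : ∀ x : E, (x ∉ A ∧ x ^ 2 ≠ 1) ↔ (Ψ x ∉ A ∧ (Ψ x) ^ 2 = 1) := by
    intro x
    rw [hΨA]
    constructor
    · rintro ⟨h1, h2⟩
      refine ⟨h1, ?_⟩
      rw [hΨsq x h1, hZ _ (hsq x) h2, hzz]
    · rintro ⟨h1, h2⟩
      refine ⟨h1, fun h3 => ?_⟩
      rw [hΨsq x h1, h3, one_mul] at h2
      exact hz1' h2
  have hcardeq : Nat.card {x : E // x ∉ A ∧ x ^ 2 ≠ 1} = Nat.card {x : E // x ∉ A ∧ x ^ 2 = 1} :=
    Nat.card_congr (Equiv.subtypeEquiv hinv.toPerm hswap)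
  have hord : ∀ x : E, orderOf x = 4 ↔ (x ∉ A ∧ x ^ 2 ≠ 1) := by
    intro x
    constructor
    · intro h
      have h2 : x ^ 2 ≠ 1 := by
        intro h3
        have := orderOf_dvd_of_pow_eq_one h3
        rw [h] at this
        omega
      exact ⟨fun hx => h2 (hA.2 x hx), h2⟩
    · rintro ⟨-, h2⟩
      have h4 : x ^ 2 ^ 2 = 1 := by
        have : x ^ 2 ^ 2 = x ^ 2 * x ^ 2 := by rw [← pow_add]; norm_num
        rw [this, hZ _ (hsq x) h2, hzz]
      have := orderOf_eq_prime_pow (p := 2) (n := 1) (x := x) (by simpa using h2) h4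
      simpa using this
  have h1 : Nat.card {x : E // orderOf x = 4} = Nat.card {x : E // x ∉ A ∧ x ^ 2 ≠ 1} :=
    Nat.card_congr (Equiv.subtypeEquivRight hord)
  have d1 : Nat.card A + Nat.card {x : E // x ∉ A} = Nat.card E := by
    rw [← Nat.card_sum]
    exact Nat.card_congr (Equiv.sumCompl (fun x : E => x ∈ A))
  have d2 : Nat.card {x : E // x ∉ A ∧ x ^ 2 = 1} + Nat.card {x : E // x ∉ A ∧ x ^ 2 ≠ 1} =
      Nat.card {x : E // x ∉ A} := by
    rw [← Nat.card_sum]
    refine Nat.card_congr (Equiv.trans (Equiv.sumCongr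
      (Equiv.subtypeSubtypeEquivSubtypeInter (fun x : E => x ∉ A) (fun x : E => x ^ 2 = 1)).symm
      (Equiv.subtypeSubtypeEquivSubtypeInter (fun x : E => x ∉ A) (fun x : E => x ^ 2 ≠ 1)).symm)
      (Equiv.sumCompl (fun y : {x : E // x ∉ A} => (y : E) ^ 2 = 1)))
  rw [h1]
  rw [hcard, hAc] at d1
  have e1 : 2 ^ (2 * m + 1) = 2 * 2 ^ (2 * m) := by rw [pow_succ]; ring
  have e2 : 2 ^ (m + 1) = 2 * 2 ^ m := by rw [pow_succ]; ring
  omega

end Cfsg.Agent.Lib.Helper4_Extra
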