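import Cfsg.Prelude.Def_IsolatedElements
import Cfsg.Agent.Lib.Helper4_PSol

set_option autoImplicit false
set_option linter.style.haveILetI false

open Cfsg
open scoped Pointwise

namespace Cfsg.Agent.Lib.Helper4_Iso

open Cfsg.Agent.Lib.Helper4_Syl Cfsg.Agent.Lib.Helper4_PSol

variable {G : Type*} [Group G] {p : ℕ}

theorem central_of_isolated [Finite G] [Fact p.Prime] {x : G} (hiso : IsIsolated x) {R : Subgroup G}
    (hR : IsPGroup p R) (hx : x ∈ R) : ∀ r ∈ R, r * x = x * r := by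
  set A := R ⊓ Subgroup.centralizer ({x} : Set G) with hA
  have hxA : x ∈ A := ⟨hx, Subgroup.mem_centralizer_singleton_iff.2 rfl⟩
  have hAR : A = R := by
    by_contra hne
    obtain ⟨y, hyR, hyA, hyN⟩ := exists_mem_normalizer_not_mem hR (inf_le_left : A ≤ R) hne
    have h1 : y * x * y⁻¹ ∈ A := (Subgroup.mem_normalizer_iff.1 hyN x).1 hxA
    have h2 : Commute x (y * x * y⁻¹) := (Subgroup.mem_centralizer_singleton_iff.1 h1.2).symm
    have h3 := hiso y h2
    apply hyA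
    refine ⟨hyR, Subgroup.mem_centralizer_singleton_iff.2 ?_⟩
    rw [mul_inv_eq_iff_eq_mul] at h3
    exact h3
  intro r hr
  rw [← hAR] at hr
  exact Subgroup.mem_centralizer_singleton_iff.1 hr.2

theorem isPGroup_zpowers_of_orderOf [Fact p.Prime] {x : G} (hx : ∃ k : ℕ, orderOf x = p ^ k) :
    IsPGroup p (Subgroup.zpowers x) := by
  obtain ⟨k, hk⟩ := hx
  exact isPGroup_zpowers_of_pow (k := k) (by rw [← hk]; exact pow_orderOf_eq_one x)

theorem orderOf_conj' (g x : G) : orderOf (g * x * g⁻¹) = orderOf x := by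
  have := (MulAut.conj g).orderOf_eq x
  simpa using this

/-- two conjugates of an isolated `p`-element in a subgroup `K` are conjugate in `K`. -/
theorem exists_conj_eq [Finite G] [Fact p.Prime] {x : G} (hx : ∃ k : ℕ, orderOf x = p ^ k)
    (hiso : IsIsolated x) {K : Subgroup G} (hxK : x ∈ K) {g : G} (hy : g * x * g⁻¹ ∈ K) :
    ∃ k ∈ K, k * (g * x * g⁻¹) * k⁻¹ = x := by
  obtain ⟨T, hT, hxT⟩ := exists_isSylIn_ge (p := p) (Q := Subgroup.zpowers x) (M := K)
    (by rwa [Subgroup.zpowers_le]) (isPGroup_zpowers_of_orderOf hx)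
  obtain ⟨T', hT', hyT⟩ := exists_isSylIn_ge (p := p) (Q := Subgroup.zpowers (g * x * g⁻¹)) (M := K)
    (by rwa [Subgroup.zpowers_le]) (isPGroup_zpowers_of_orderOf (by rw [orderOf_conj']; exact hx))
  obtain ⟨k, hk, hkT⟩ := hT'.conj hT
  refine ⟨k, hk, ?_⟩
  have h1 : k * (g * x * g⁻¹) * k⁻¹ ∈ T := by
    rw [← hkT]; exact conj_mem_conj_smul (hyT (Subgroup.mem_zpowers _))
  have h2 := central_of_isolated hiso hT.isPGroup (hxT (Subgroup.mem_zpowers _)) _ h1
  have e : k * (g * x * g⁻¹) * k⁻¹ = (k * g) * x * (k * g)⁻¹ := by group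
  rw [e] at h2 ⊢
  exact hiso _ h2.symm

theorem conj_pow_aux {g y : G} {u : ℕ} (h : g * y * g⁻¹ = y ^ u) (j : ℕ) :
    g ^ j * y * (g ^ j)⁻¹ = y ^ (u ^ j) := by
  induction j with
  | zero => simp
  | succ j ih =>
    calc g ^ (j + 1) * y * (g ^ (j + 1))⁻¹ = g ^ j * (g * y * g⁻¹) * (g ^ j)⁻¹ := by
          rw [pow_succ]; group
      _ = g ^ j * y ^ u * (g ^ j)⁻¹ := by rw [h]
      _ = (g ^ j * y * (g ^ j)⁻¹) ^ u := by rw [conj_pow]
      _ = y ^ (u ^ (j + 1)) := by rw [ih, ← pow_mul, pow_succ]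

/-- a cyclic Sylow subgroup whose normalizer centralizes an element of order `p`. -/
theorem normalizer_le_centralizer_of_cyclic [Finite G] [hpp : Fact p.Prime] (P : Sylow p G)
    (hcyc : IsCyclic (P : Subgroup G)) {x : G} (hxP' : x ∈ (P : Subgroup G)) (hx : orderOf x = p)
    (hN : ∀ g ∈ Subgroup.normalizer ((P : Subgroup G) : Set G), g * x * g⁻¹ = x) :
    Subgroup.normalizer ((P : Subgroup G) : Set G) ≤
      Subgroup.centralizer ((P : Subgroup G) : Set G) := by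
  obtain ⟨⟨y, hyP⟩, hy⟩ := hcyc.exists_generator
  have hgen : ∀ w ∈ (P : Subgroup G), ∃ e : ℕ, w = y ^ e := by
    intro w hw
    have := hy ⟨w, hw⟩
    rw [← mem_powers_iff_mem_zpowers] at this
    obtain ⟨e, he⟩ := this
    exact ⟨e, by simpa using (congrArg Subtype.val he).symm⟩
  have hab : ∀ a ∈ (P : Subgroup G), ∀ b ∈ (P : Subgroup G), a * b = b * a := by
    intro a ha b hb
    obtain ⟨e, rfl⟩ := hgen a ha
    obtain ⟨f, rfl⟩ := hgen b hb
    rw [← pow_add, ← pow_add, add_comm]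
  obtain ⟨n, hn⟩ := P.2 ⟨y, hyP⟩
  have hn' : y ^ p ^ n = 1 := by simpa using congrArg Subtype.val hn
  intro g hg
  have hPC : (P : Subgroup G) ≤ Subgroup.centralizer ((P : Subgroup G) : Set G) := by
    intro a ha
    rw [Subgroup.mem_centralizer_iff]
    intro b hb
    exact hab b hb a ha
  obtain ⟨u, hu⟩ := hgen _ ((Subgroup.mem_normalizer_iff.1 hg y).1 hyP)
  obtain ⟨e, he⟩ := hgen x hxP'
  have hgx : g * x * g⁻¹ = x := hN g hg
  have hxu : x ^ u = x ^ 1 := by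
    rw [pow_one]
    conv_rhs => rw [← hgx]
    rw [he, ← conj_pow, hu, ← pow_mul, ← pow_mul, mul_comm]
  rw [pow_eq_pow_iff_modEq, hx] at hxu
  have h1 : ((p : ℕ) : ℤ) ∣ (u : ℤ) - 1 := by
    have := (Nat.modEq_iff_dvd.1 hxu.symm)
    simpa using this
  have h2 := dvd_sub_pow_of_dvd_sub h1 n
  have h3 : u ^ p ^ n ≡ 1 [MOD p ^ n] := by
    apply Nat.ModEq.symm
    rw [Nat.modEq_iff_dvd]
    have h4 : ((p : ℤ) ^ n) ∣ (u : ℤ) ^ p ^ n - 1 ^ p ^ n :=
      (pow_dvd_pow _ (Nat.le_succ n)).trans h2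
    simpa using h4
  have h5 : y ^ (u ^ p ^ n) = y := by
    have : y ^ (u ^ p ^ n) = y ^ 1 := by
      rw [pow_eq_pow_iff_modEq]
      exact h3.of_dvd (orderOf_dvd_of_pow_eq_one hn')
    rwa [pow_one] at this
  have h6 : g ^ p ^ n ∈ Subgroup.centralizer ((P : Subgroup G) : Set G) := by
    rw [Subgroup.mem_centralizer_iff]
    intro w hw
    obtain ⟨f, rfl⟩ := hgen w hw
    have h7 := conj_pow_aux hu (p ^ n)
    rw [h5] at h7
    have h8 : g ^ p ^ n * y = y * g ^ p ^ n := by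
      rw [mul_inv_eq_iff_eq_mul] at h7; exact h7
    exact ((Commute.pow_right (show Commute (g ^ p ^ n) y from h8) f).eq).symm
  obtain ⟨a, m, hm, ham⟩ := Nat.exists_eq_pow_mul_and_not_dvd (orderOf_pos g).ne' p hpp.1.ne_one
  have h9 : g ^ m ∈ (P : Subgroup G) := by
    have hpg : IsPGroup p (Subgroup.zpowers (g ^ m)) := by
      apply isPGroup_zpowers_of_pow (k := a)
      rw [← pow_mul, mul_comm, ← ham, pow_orderOf_eq_one]
    have := hpg.inf_normalizer_sylow P
    have h10 : g ^ m ∈ Subgroup.zpowers (g ^ m) ⊓ (P : Subgroup G) := by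
      rw [← this]
      exact ⟨Subgroup.mem_zpowers _, Subgroup.pow_mem _ hg _⟩
    exact h10.2
  exact mem_of_pow_mem_coprime h6 (hPC h9)
    (Nat.Coprime.pow_left n ((Nat.Prime.coprime_iff_not_dvd hpp.1).2 hm))

end Cfsg.Agent.Lib.Helper4_Iso
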