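import Mathlib
import Cfsg.Agent.Lib.Helper4_CharP2
import Cfsg.Agent.Lib.Helper3_Bal
import Cfsg.Agent.S2898

set_option autoImplicit false
set_option linter.unusedSectionVars false
set_option linter.unusedVariables false
set_option linter.style.haveILetI false

namespace Cfsg.Agent.Lib.Helper4_NoComp

open Subgroup Cfsg.Agent.Lib.Helper3_Core Cfsg.Agent.Lib.Helper3_Comp Cfsg.Agent.Lib.Helper3_PComp
  Cfsg.Agent.Lib.Helper3_Local Cfsg.Agent.Lib.Helper3_CharP Cfsg.Agent.Lib.Helper3_Frat
  Cfsg.Agent.Lib.Helper4_CharP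

open scoped commutatorElement

universe u

variable {H : Type u} [Group H] [Finite H]

/-- fixed points of `z` on `O(H)` are trivial when `C_H(z)` has characteristic 2 -/
theorem fpf_of_cp (z : H) (hcp : CP 2 (centralizer ({z} : Set H))) :
    ∀ x ∈ Cfsg.pPrimeCore 2 H, z * x = x * z → x = 1 := by
  set O := Cfsg.pPrimeCore 2 H with hO
  haveI hOn : O.Normal := rad_normal (fitClass_coprime 2)
  have hOodd : (Nat.card O).Coprime 2 := pPrimeCore_coprime 2 H
  set C := centralizer ({z} : Set H) with hC
  intro x hx hzx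
  have hxC : x ∈ C := mem_centralizer_singleton_iff.2 hzx.symm
  have hsub : O.subgroupOf C ≤ Cfsg.pPrimeCore 2 C := by
    apply subnormal_le_pPrimeCore (inferInstance : (O.subgroupOf C).Normal).isSubnormal
    have h1 : Nat.card (O.subgroupOf C) ∣ Nat.card O := by
      rw [Cfsg.Agent.Lib.Helper1_CoprimeSylow.card_subgroupOf_eq_card_inf]
      exact card_dvd_of_le inf_le_left
    exact Nat.Coprime.coprime_dvd_left h1 hOodd
  have h2 : (⟨x, hxC⟩ : C) ∈ Cfsg.pPrimeCore 2 C := hsub hx
  rw [hcp.2, mem_bot] at h2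
  exact congrArg Subtype.val h2

theorem pLayer_eq_bot_of_cp_centralizer (z : H) (hz : z * z = 1)
    (hcp : CP 2 (centralizer ({z} : Set H))) (hE : Cfsg.layer H = ⊥) : Cfsg.pLayer 2 H = ⊥ := by
  haveI : Fact (Nat.Prime 2) := ⟨Nat.prime_two⟩
  set O := Cfsg.pPrimeCore 2 H with hO
  haveI hOn : O.Normal := rad_normal (fitClass_coprime 2)
  have hOodd : (Nat.card O).Coprime 2 := pPrimeCore_coprime 2 H
  set C := centralizer ({z} : Set H) with hC
  have h1 : ∀ x ∈ O, z * x = x * z → x = 1 := fpf_of_cp z hcp
  have hinv : ∀ y ∈ O, z * y * z⁻¹ = y⁻¹ := Cfsg.Agent.S2898.inverts_of_fpf O z hz h1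
  have hab : ∀ a ∈ O, ∀ b ∈ O, a * b = b * a := by
    intro a ha b hb
    have h2 := hinv (a * b) (O.mul_mem ha hb)
    have h3 : z * (a * b) * z⁻¹ = (z * a * z⁻¹) * (z * b * z⁻¹) := by group
    rw [h3, hinv a ha, hinv b hb] at h2
    have h4 : (a⁻¹ * b⁻¹)⁻¹ = ((a * b)⁻¹)⁻¹ := by rw [h2]
    simpa using h4.symm
  set Cn := centralizer (O : Set H) with hCn
  have hOCn : O ≤ Cn := fun a ha => mem_centralizer_iff.2 (fun b hb => hab b hb a ha)
  have hcomm : ∀ h : H, ⁅h, z⁆ ∈ Cn := by
    intro h
    rw [hCn, mem_centralizer_iff]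
    intro x hx
    have e1 : z⁻¹ * x * z = x⁻¹ := by
      have := hinv x hx
      have hz' : z⁻¹ = z := inv_eq_of_mul_eq_one_left hz
      rw [hz'] at this ⊢
      exact this
    have e2 : z * (h⁻¹ * x⁻¹ * h) * z⁻¹ = h⁻¹ * x * h := by
      have := hinv (h⁻¹ * x⁻¹ * h) (by
        have := hOn.conj_mem x⁻¹ (O.inv_mem hx) h⁻¹
        simpa using this)
      rw [this]; group
    have e3 : ⁅h, z⁆ * x * ⁅h, z⁆⁻¹ = x := by
      calc ⁅h, z⁆ * x * ⁅h, z⁆⁻¹ = h * (z * (h⁻¹ * (z⁻¹ * x * z) * h) * z⁻¹) * h⁻¹ := by
            rw [commutatorElement_def]; group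
        _ = x := by rw [e1, e2]; group
    calc x * ⁅h, z⁆ = (⁅h, z⁆ * x * ⁅h, z⁆⁻¹) * ⁅h, z⁆ := by rw [e3]
      _ = ⁅h, z⁆ * x := by group
  rw [pLayer_eq_bot_iff, layer_eq_bot_iff]
  intro L hL
  set π := QuotientGroup.mk' O with hπ
  have hπs : Function.Surjective π := QuotientGroup.mk'_surjective O
  haveI hCbn : (Cn.map π).Normal := Subgroup.Normal.map inferInstance π hπs
  rcases IsComponent.le_or_commutator_eq_bot hL hCbn.isSubnormal with hle | hcm
  · obtain ⟨K, hK, hKL⟩ := exists_isPComponent (p := 2) hL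
    have hKCn : K ≤ Cn := by
      have : K.map π ≤ Cn.map π := hKL ▸ hle
      rw [Subgroup.map_le_map_iff, hπ, QuotientGroup.ker_mk', sup_eq_left.2 hOCn] at this
      exact this
    have hq : Cfsg.IsQuasisimple K := by
      rw [IsPComponent.quasisimple_iff hK, pPrimeCore_subnormal_eq hK.1,
        Subgroup.commutator_eq_bot_iff_le_centralizer]
      exact hKCn.trans (Subgroup.centralizer_le inf_le_left)
    exact layer_eq_bot_iff.1 hE K ⟨hK.1, hq⟩
  · -- `π z` centralizes `L`
    set Zb := zpowers (π z) with hZb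
    have hZL : ⁅L, Zb⁆ ≤ Cn.map π := by
      have hW : Zb ≤ (center ((H ⧸ O) ⧸ Cn.map π)).comap (QuotientGroup.mk' (Cn.map π)) := by
        rw [hZb, zpowers_le, mem_comap, mem_center_iff]
        intro g
        obtain ⟨g', rfl⟩ := QuotientGroup.mk'_surjective _ g
        obtain ⟨h, rfl⟩ := hπs g'
        have h5 : π ⁅h, z⁆ ∈ Cn.map π := mem_map_of_mem π (hcomm h)
        have h6 : QuotientGroup.mk' (Cn.map π) (π ⁅h, z⁆) = 1 :=
          (QuotientGroup.eq_one_iff _).2 h5
        rw [map_commutatorElement, map_commutatorElement, commutatorElement_eq_one_iff_mul_comm] at h6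
        exact h6
      rw [Subgroup.commutator_le]
      intro l _ w hw
      have h7 := hW hw
      rw [mem_comap, mem_center_iff] at h7
      have h8 := h7 (QuotientGroup.mk' (Cn.map π) l)
      rw [← QuotientGroup.eq_one_iff, ← QuotientGroup.mk'_apply, map_commutatorElement,
        commutatorElement_eq_one_iff_mul_comm]
      exact h8
    have hLZ : ⁅L, Zb⁆ = ⊥ := by
      have e1 : ⁅⁅L, Zb⁆, L⁆ = ⊥ := by
        rw [eq_bot_iff, ← hcm, Subgroup.commutator_comm L (Cn.map π)]
        exact Subgroup.commutator_mono hZL le_rfl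
      have e2 : ⁅⁅Zb, L⁆, L⁆ = ⊥ := by rw [Subgroup.commutator_comm Zb]; exact e1
      have := commutator_commutator_eq_bot_of_rotate e1 e2
      rwa [IsComponent.commutator_self hL] at this
    have hzl : ∀ l ∈ L, π z * l = l * π z := by
      intro l hl
      have : ⁅l, π z⁆ ∈ ⁅L, Zb⁆ := Subgroup.commutator_mem_commutator hl (mem_zpowers _)
      rw [hLZ, mem_bot, commutatorElement_eq_one_iff_mul_comm] at this
      exact this.symm
    set D := L.comap π ⊓ C with hD
    have hDC : D ≤ C := inf_le_right
    have hDsn : (D.subgroupOf C).IsSubnormal := by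
      rw [hD, Subgroup.inf_subgroupOf_right]
      exact (hL.1.comap π).subgroupOf
    let f : D →* H ⧸ O := π.comp D.subtype
    have hfinj : Function.Injective f := by
      rw [injective_iff_map_eq_one]
      intro d hd
      have hdO : (d : H) ∈ O := by
        have : π (d : H) = 1 := hd
        rwa [hπ, QuotientGroup.mk'_apply, QuotientGroup.eq_one_iff] at this
      have hdC : (d : H) ∈ C := hDC d.2
      exact Subtype.ext (h1 _ hdO (mem_centralizer_singleton_iff.1 hdC).symm)
    have hfr : f.range = L := by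
      apply le_antisymm
      · rintro _ ⟨d, rfl⟩
        exact d.2.1
      · intro l hl
        obtain ⟨e, rfl⟩ := hπs l
        set c := e⁻¹ * (z * e * z⁻¹) with hc
        have hcO : c ∈ O := by
          have : π c = 1 := by
            rw [hc, map_mul, map_mul, map_mul, map_inv, map_inv, hzl _ hl]; group
          rwa [hπ, QuotientGroup.mk'_apply, QuotientGroup.eq_one_iff] at this
        obtain ⟨m, hm⟩ : ∃ m, Nat.card O = 2 * m + 1 := by
          have : Odd (Nat.card O) := by
            rw [← Nat.not_even_iff_odd, even_iff_two_dvd]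
            intro h2
            have := Nat.Coprime.eq_one_of_dvd hOodd.symm h2
            omega
          exact this
        set o := c ^ (m + 1) with ho
        have hoO : o ∈ O := O.pow_mem hcO _
        have hoo : o * o = c := by
          have h9 : c ^ (Nat.card O) = 1 := by
            have := pow_card_eq_one' (G := O) (x := ⟨c, hcO⟩)
            exact congrArg Subtype.val this
          rw [ho, ← pow_add, show m + 1 + (m + 1) = (2 * m + 1) + 1 by ring, ← hm, pow_succ, h9,
            one_mul]
        have hd : e * o ∈ D := by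
          refine ⟨?_, ?_⟩
          · show π (e * o) ∈ L
            have : π o = 1 := by
              rw [hπ, QuotientGroup.mk'_apply, QuotientGroup.eq_one_iff]; exact hoO
            rw [map_mul, this, mul_one]; exact hl
          · show e * o ∈ centralizer ({z} : Set H)
            rw [mem_centralizer_singleton_iff]
            have e1 : z * (e * o) * z⁻¹ = e * o := by
              calc z * (e * o) * z⁻¹ = e * (e⁻¹ * (z * e * z⁻¹)) * (z * o * z⁻¹) := by group
                _ = e * (o * o) * o⁻¹ := by rw [← hc, hoo, hinv o hoO]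
                _ = e * o := by group
            calc e * o * z = (z * (e * o) * z⁻¹) * z := by rw [e1]
              _ = z * (e * o) := by group
        refine ⟨⟨e * o, hd⟩, ?_⟩
        show π (e * o) = π e
        have : π o = 1 := by
          rw [hπ, QuotientGroup.mk'_apply, QuotientGroup.eq_one_iff]; exact hoO
        rw [map_mul, this, mul_one]
    have hqD : Cfsg.IsQuasisimple D := by
      have e1 : D ≃* f.range := MonoidHom.ofInjective hfinj
      have hq2 : Cfsg.IsQuasisimple f.range := by rw [hfr]; exact hL.2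
      exact isQuasisimple_of_equiv e1.symm hq2
    have hq3 : Cfsg.IsQuasisimple (D.subgroupOf C) :=
      isQuasisimple_of_equiv (Subgroup.subgroupOfEquivOfLe hDC).symm hqD
    exact layer_eq_bot_iff.1 hcp.1 _ ⟨hDsn, hq3⟩

end Cfsg.Agent.Lib.Helper4_NoComp
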