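import Mathlib
import Cfsg.Agent.Lib.Helper4_Syl
import Cfsg.Agent.Lib.Helper4_Cop
import Cfsg.Agent.Lib.Helper4_Chain
import Cfsg.Agent.S0012
import Cfsg.Agent.Lib.Helper3_Local

set_option autoImplicit false
set_option linter.unusedSectionVars false
set_option linter.unusedVariables false

namespace Cfsg.Agent.Lib.Helper4_Omega

open Cfsg.Agent.Lib.Helper4_Syl Cfsg.Agent.Lib.Helper4_Cop Cfsg.Agent.Lib.Helper4_Chain
open scoped commutatorElement

variable {G : Type*} [Group G]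

local notation "N(" A ")" => Subgroup.normalizer ((A : Subgroup G) : Set G)
local notation "C(" A ")" => Subgroup.centralizer ((A : Subgroup G) : Set G)

theorem pow_mul_comm_of_central {a b c : G} (hc : b * a = c * a * b) (hca : Commute c a)
    (hcb : Commute c b) (n : ℕ) : b ^ n * a = c ^ n * a * b ^ n := by
  induction n with
  | zero => simp
  | succ n ih =>
    calc b ^ (n + 1) * a = b ^ n * (b * a) := by rw [pow_succ]; group
      _ = b ^ n * (c * a * b) := by rw [hc]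
      _ = c * (b ^ n * a) * b := by
        have : b ^ n * c = c * b ^ n := ((hcb.pow_right n).eq).symm
        calc b ^ n * (c * a * b) = (b ^ n * c) * a * b := by group
          _ = (c * b ^ n) * a * b := by rw [this]
          _ = _ := by group
      _ = c * (c ^ n * a * b ^ n) * b := by rw [ih]
      _ = c ^ (n + 1) * a * b ^ (n + 1) := by rw [pow_succ' c, pow_succ b]; group

theorem mul_pow_of_central {a b c : G} (hc : b * a = c * a * b) (hca : Commute c a)
    (hcb : Commute c b) (n : ℕ) : (a * b) ^ n = a ^ n * b ^ n * c ^ (n.choose 2) := by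
  induction n with
  | zero => simp
  | succ n ih =>
    have h1 := pow_mul_comm_of_central hc hca hcb n
    have h2 : (n + 1).choose 2 = n + n.choose 2 := by
      rw [Nat.choose_succ_succ' n 1, Nat.choose_one_right]
    have h3 : Commute (c ^ (n.choose 2)) (a * b) := (hca.mul_right hcb).pow_left _
    have h4 : Commute (c ^ n) (a ^ n) := (hca.pow_pow n n)
    have h5 : Commute (c ^ n) (a * b ^ n * b) :=
      ((hca.mul_right (hcb.pow_right n)).mul_right hcb).pow_left n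
    calc (a * b) ^ (n + 1) = (a * b) ^ n * (a * b) := pow_succ _ _
      _ = a ^ n * b ^ n * c ^ (n.choose 2) * (a * b) := by rw [ih]
      _ = a ^ n * b ^ n * ((a * b) * c ^ (n.choose 2)) := by rw [mul_assoc, h3.eq]
      _ = a ^ n * (b ^ n * a) * b * c ^ (n.choose 2) := by group
      _ = a ^ n * (c ^ n * a * b ^ n) * b * c ^ (n.choose 2) := by rw [h1]
      _ = a ^ n * (c ^ n * (a * b ^ n * b)) * c ^ (n.choose 2) := by group
      _ = a ^ n * ((a * b ^ n * b) * c ^ n) * c ^ (n.choose 2) := by rw [h5.eq]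
      _ = a ^ (n + 1) * b ^ (n + 1) * c ^ ((n + 1).choose 2) := by
        rw [h2, pow_add, pow_succ a, pow_succ b]; group

/-- the subgroup generated by `p`-th powers and commutators of `R` -/
def phi (p : ℕ) (R : Subgroup G) : Subgroup G :=
  Subgroup.closure ({z | ∃ x ∈ R, z = x ^ p} ∪ {z | ∃ a ∈ R, ∃ b ∈ R, z = ⁅a, b⁆})

theorem phi_le (p : ℕ) (R : Subgroup G) : phi p R ≤ R := by
  unfold phi
  rw [Subgroup.closure_le]
  rintro z (⟨x, hx, rfl⟩ | ⟨a, ha, b, hb, rfl⟩)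
  · exact R.pow_mem hx p
  · exact R.mul_mem (R.mul_mem (R.mul_mem ha hb) (R.inv_mem ha)) (R.inv_mem hb)

theorem pow_mem_phi {p : ℕ} {R : Subgroup G} {x : G} (hx : x ∈ R) : x ^ p ∈ phi p R :=
  Subgroup.subset_closure (Or.inl ⟨x, hx, rfl⟩)

theorem comm_mem_phi {p : ℕ} {R : Subgroup G} {a b : G} (ha : a ∈ R) (hb : b ∈ R) :
    ⁅a, b⁆ ∈ phi p R :=
  Subgroup.subset_closure (Or.inr ⟨a, ha, b, hb, rfl⟩)

theorem normalizer_le_normalizer_phi (p : ℕ) (R : Subgroup G) : N(R) ≤ N(phi p R) := by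
  apply le_normalizer_of_conj_mem
  intro l hl m hm
  have h1 : phi p R ≤ (phi p R).comap (MulAut.conj l).toMonoidHom := by
    conv_lhs => unfold phi
    rw [Subgroup.closure_le]
    rintro z (⟨x, hx, rfl⟩ | ⟨a, ha, b, hb, rfl⟩)
    · show l * x ^ p * l⁻¹ ∈ phi p R
      rw [← conj_pow]
      exact pow_mem_phi (conj_mem_of_mem_normalizer hl hx)
    · show l * ⁅a, b⁆ * l⁻¹ ∈ phi p R
      have : l * ⁅a, b⁆ * l⁻¹ = ⁅l * a * l⁻¹, l * b * l⁻¹⁆ := by
        simp only [commutatorElement_def]; group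
      rw [this]
      exact comm_mem_phi (conj_mem_of_mem_normalizer hl ha) (conj_mem_of_mem_normalizer hl hb)
  exact h1 hm

theorem phi_lt [Finite G] {p : ℕ} [Fact p.Prime] {R : Subgroup G} (hR : IsPGroup p R)
    (hne : R ≠ ⊥) : phi p R < R := by
  have h0 := Cfsg.Agent.S0012.result p hR
  have h1 : phi p R ≤ (_root_.frattini ↥R).map R.subtype := by
    unfold phi
    rw [Subgroup.closure_le]
    rintro z (⟨x, hx, rfl⟩ | ⟨a, ha, b, hb, rfl⟩)
    · exact ⟨⟨x, hx⟩ ^ p, h0.2 _, rfl⟩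
    · refine ⟨⁅(⟨a, ha⟩ : R), ⟨b, hb⟩⁆, h0.1 ?_, rfl⟩
      exact Subgroup.commutator_mem_commutator (Subgroup.mem_top _) (Subgroup.mem_top _)
  haveI : Nontrivial R := (Subgroup.nontrivial_iff_ne_bot R).2 hne
  obtain ⟨M, hM⟩ : ∃ M : Subgroup R, IsCoatom M := by
    obtain ⟨M, hM, -⟩ := (eq_top_or_exists_le_coatom (⊥ : Subgroup R)).resolve_left bot_ne_top
    exact ⟨M, hM⟩
  refine lt_of_le_of_ne (phi_le p R) ?_
  intro heq
  have h2 : _root_.frattini ↥R ≤ M := frattini_le_coatom hM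
  apply hM.1
  rw [eq_top_iff]
  intro x _
  have h3 : (x : G) ∈ phi p R := by rw [heq]; exact x.2
  obtain ⟨x', hx', hxx⟩ := h1 h3
  have : x' = x := Subtype.ext hxx
  exact h2 (this ▸ hx')

theorem two_step {p : ℕ} {R D : Subgroup G} (hR : IsPGroup p R) {y : G}
    (hy : (orderOf y).Coprime p) (hyN : y ∈ N(R))
    (hD : y ∈ C(D)) (hRD : ∀ x ∈ R, ⁅y, x⁆ ∈ D) : y ∈ C(R) := by
  apply mem_centralizer_of_comm
  intro x hx
  have hcR : ⁅y, x⁆ ∈ R := by
    rw [commutatorElement_def]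
    exact R.mul_mem (conj_mem_of_mem_normalizer hyN hx) (R.inv_mem hx)
  obtain ⟨k, hk⟩ := pow_eq_one_of_isPGroup hR hcR
  exact comm_eq_one_of_quadratic (pow_orderOf_eq_one y) hy
    (Subgroup.mem_centralizer_iff.1 hD _ (hRD x hx)).symm hk

theorem exists_small_exponent [Finite G] {p : ℕ} [hp : Fact p.Prime] {Q : Subgroup G}
    (hQ : IsPGroup p Q) {y : G} (hy : (orderOf y).Coprime p) (hyN : y ∈ N(Q)) (hyC : y ∉ C(Q)) :
    ∃ R ≤ Q, y ∈ N(R) ∧ y ∉ C(R) ∧ ∀ x ∈ R, x ^ p = 1 ∨ (p = 2 ∧ x ^ 4 = 1) := by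
  obtain ⟨R, hR⟩ := (Set.toFinite {R : Subgroup G | R ≤ Q ∧ y ∈ N(R) ∧ y ∉ C(R)}).exists_minimal
    ⟨Q, le_rfl, hyN, hyC⟩
  obtain ⟨⟨hRQ, hRN, hRC⟩, hmin'⟩ := hR
  have hmin : ∀ D : Subgroup G, D < R → y ∈ N(D) → y ∈ C(D) := by
    intro D hD hDN
    by_contra hDC
    exact absurd (hmin' (y := D) ⟨hD.le.trans hRQ, hDN, hDC⟩ hD.le) (not_le_of_gt hD)
  have hRp : IsPGroup p R := hQ.to_le hRQ
  have hRne : R ≠ ⊥ := by
    rintro rfl
    apply hRC
    rw [Subgroup.mem_centralizer_iff]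
    intro h hh
    rw [SetLike.mem_coe, Subgroup.mem_bot] at hh
    subst hh; simp
  refine ⟨R, hRQ, hRN, hRC, ?_⟩
  set Φ := phi p R with hΦ
  have hΦlt : Φ < R := phi_lt hRp hRne
  have hΦN : y ∈ N(Φ) := normalizer_le_normalizer_phi p R hRN
  have hΦC : y ∈ C(Φ) := hmin Φ hΦlt hΦN
  have hRΦ : R ≤ N(Φ) := Subgroup.le_normalizer.trans (normalizer_le_normalizer_phi p R)
  have hycomm : ∀ z ∈ Φ, y * z * y⁻¹ = z := by
    intro z hz
    have := Subgroup.mem_centralizer_iff.1 hΦC z hz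
    rw [← this]; group
  -- Φ is central in R
  have claim1 : ∀ z ∈ Φ, ∀ x ∈ R, x * z = z * x := by
    by_contra hcon
    set D := R ⊓ C(Φ) with hD
    have hDlt : D < R := by
      refine lt_of_le_of_ne inf_le_left ?_
      intro heq
      apply hcon
      intro z hz x hx
      have hx' : x ∈ D := by rw [heq]; exact hx
      exact (Subgroup.mem_centralizer_iff.1 hx'.2 z hz).symm
    have hDN : y ∈ N(D) := by
      have h1 : Subgroup.zpowers y ≤ N(R) := by rwa [Subgroup.zpowers_le]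
      have h2 : Subgroup.zpowers y ≤ N(Φ) := by rwa [Subgroup.zpowers_le]
      exact Cfsg.Agent.Lib.Helper3_Local.le_normalizer_inf h1
        (Cfsg.Agent.Lib.Helper3_Local.le_normalizer_centralizer h2) (Subgroup.mem_zpowers y)
    apply hRC
    apply two_step hRp hy hRN (hmin D hDlt hDN)
    intro x hx
    refine ⟨?_, ?_⟩
    · rw [commutatorElement_def]
      exact R.mul_mem (conj_mem_of_mem_normalizer hRN hx) (R.inv_mem hx)
    · show ⁅y, x⁆ ∈ C(Φ)
      rw [Subgroup.mem_centralizer_iff]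
      intro z hz
      have hz' : x⁻¹ * z * x ∈ Φ := by
        have := conj_mem_of_mem_normalizer (hRΦ (R.inv_mem hx)) hz
        rwa [inv_inv] at this
      have e1 := hycomm _ hz'
      have e2 := hycomm _ hz
      have e3 : y⁻¹ * (x⁻¹ * z * x) * y = x⁻¹ * z * x := by
        conv_lhs => rw [← e1]
        group
      have e4 : ⁅y, x⁆ * z * ⁅y, x⁆⁻¹ = z := by
        calc ⁅y, x⁆ * z * ⁅y, x⁆⁻¹ = y * x * (y⁻¹ * (x⁻¹ * z * x) * y) * x⁻¹ * y⁻¹ := by
              rw [commutatorElement_def]; group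
          _ = y * x * (x⁻¹ * z * x) * x⁻¹ * y⁻¹ := by rw [e3]
          _ = y * z * y⁻¹ := by group
          _ = z := e2
      calc z * ⁅y, x⁆ = (⁅y, x⁆ * z * ⁅y, x⁆⁻¹) * ⁅y, x⁆ := by rw [e4]
        _ = ⁅y, x⁆ * z := by group
  have hbr : ∀ a b : G, b * a = ⁅b, a⁆ * a * b := by
    intro a b; rw [commutatorElement_def]; group
  have claim2 : ∀ a ∈ R, ∀ b ∈ R, ⁅b, a⁆ ^ p = 1 := by
    intro a ha b hb
    have hc : ⁅b, a⁆ ∈ Φ := comm_mem_phi hb ha
    have h1 := pow_mul_comm_of_central (hbr a b) (claim1 _ hc a ha).symm (claim1 _ hc b hb).symm p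
    have h2 : b ^ p * a = a * b ^ p := (claim1 _ (pow_mem_phi hb) a ha).symm
    rw [h2, mul_assoc] at h1
    exact (mul_eq_right.1 h1.symm)
  set n : ℕ := if p = 2 then 4 else p with hn
  have hdvd : p ∣ n.choose 2 := by
    by_cases h2 : p = 2
    · rw [hn, if_pos h2, h2]; decide
    · rw [hn, if_neg h2]
      exact Nat.Prime.dvd_choose_self hp.1 (by norm_num)
        (lt_of_le_of_ne hp.1.two_le (Ne.symm h2))
  have claim3 : ∀ a ∈ R, ∀ b ∈ R, (a * b) ^ n = a ^ n * b ^ n := by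
    intro a ha b hb
    have hc : ⁅b, a⁆ ∈ Φ := comm_mem_phi hb ha
    have h1 := mul_pow_of_central (hbr a b) (claim1 _ hc a ha).symm (claim1 _ hc b hb).symm n
    obtain ⟨k, hk⟩ := hdvd
    rw [h1, hk, pow_mul, claim2 a ha b hb, one_pow, mul_one]
  have hpowΦ : ∀ x ∈ R, x ^ n ∈ Φ := by
    intro x hx
    by_cases h2 : p = 2
    · rw [hn, if_pos h2]
      have : x ^ 4 = (x ^ 2) ^ p := by rw [h2, ← pow_mul]
      rw [this]
      exact pow_mem_phi (R.pow_mem hx 2)
    · rw [hn, if_neg h2]; exact pow_mem_phi hx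
  let Ω : Subgroup G :=
    { carrier := {x | x ∈ R ∧ x ^ n = 1}
      mul_mem' := by
        rintro a b ⟨ha, ha1⟩ ⟨hb, hb1⟩
        exact ⟨R.mul_mem ha hb, by rw [claim3 a ha b hb, ha1, hb1, one_mul]⟩
      one_mem' := ⟨R.one_mem, one_pow n⟩
      inv_mem' := by
        rintro a ⟨ha, ha1⟩
        exact ⟨R.inv_mem ha, by rw [inv_pow, ha1, inv_one]⟩ }
  have hΩR : Ω ≤ R := fun x hx => hx.1
  have hΩN : y ∈ N(Ω) := by
    rw [Cfsg.Agent.Lib.Helper3_Local.mem_normalizer_iff_conj_le]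
    rintro x ⟨hx, hx1⟩
    exact ⟨conj_mem_of_mem_normalizer hRN hx, by rw [conj_pow, hx1]; group⟩
  by_cases hΩ : Ω = R
  · intro x hx
    have hx' : x ∈ Ω := by rw [hΩ]; exact hx
    have hx1 : x ^ n = 1 := hx'.2
    by_cases h2 : p = 2
    · right; rw [hn, if_pos h2] at hx1; exact ⟨h2, hx1⟩
    · left; rw [hn, if_neg h2] at hx1; exact hx1
  · exfalso
    apply hRC
    apply two_step hRp hy hRN (hmin Ω (lt_of_le_of_ne hΩR hΩ) hΩN)
    intro x hx
    have hcR : ⁅y, x⁆ ∈ R := by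
      rw [commutatorElement_def]
      exact R.mul_mem (conj_mem_of_mem_normalizer hRN hx) (R.inv_mem hx)
    refine ⟨hcR, ?_⟩
    have e1 : y * x * y⁻¹ = ⁅y, x⁆ * x := by rw [commutatorElement_def]; group
    have e2 : (y * x * y⁻¹) ^ n = x ^ n := by
      rw [conj_pow]; exact hycomm _ (hpowΦ x hx)
    rw [e1, claim3 _ hcR x hx] at e2
    exact mul_eq_right.1 e2

end Cfsg.Agent.Lib.Helper4_Omega
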