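import Mathlib
import Cfsg.Prelude.Def_Local
import Cfsg.Agent.Lib.Helper4_CharP
import Cfsg.Agent.Lib.Helper4_CharP2
import Cfsg.Agent.Lib.Helper4_Core
import Cfsg.Agent.Lib.Helper3_Frat

set_option autoImplicit false
set_option linter.unusedSectionVars false
set_option linter.unusedVariables false

namespace Cfsg.Agent.Lib.Helper4_PCons

open Subgroup Cfsg.Agent.Lib.Helper4_CharP Cfsg.Agent.Lib.Helper4_CharP2 Cfsg.Agent.Lib.Helper4_Core

universe u

variable {p : ℕ} [Fact p.Prime] {G : Type u} [Group G] [Finite G]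

theorem isPConstrained_iff_cp :
    Cfsg.IsPConstrained p G ↔ CP p (G ⧸ Cfsg.pPrimeCore p G) := by
  rw [Cfsg.Agent.Lib.Helper3_Frat.isPConstrained_iff, Cfsg.Agent.Lib.Helper3_Frat.pLayer_eq_bot_iff]
  exact ⟨fun h => ⟨h, Cfsg.Agent.Lib.Helper3_PComp.pPrimeCore_quotient_eq_bot p G⟩, fun h => h.1⟩

theorem core_eq (M : Subgroup G)
    (h2 : Cfsg.pPrimeCore p (M.map (QuotientGroup.mk' (Cfsg.pPrimeCore p G))) = ⊥) :
    (Cfsg.pPrimeCore p M).map M.subtype = Cfsg.pPrimeCore p G ⊓ M := by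
  set K := Cfsg.pPrimeCore p G with hK
  set π := QuotientGroup.mk' K with hπ
  have hKc : (Nat.card K).Coprime p := pPrimeCore_coprime p
  have hWc : (Nat.card (Cfsg.pPrimeCore p M)).Coprime p := pPrimeCore_coprime p
  have hWn : (Cfsg.pPrimeCore p M).Normal := inferInstance
  apply le_antisymm
  · apply le_inf _ (Subgroup.map_subtype_le _)
    set Nb := M.map π with hNb
    set W := (Cfsg.pPrimeCore p M).map M.subtype with hW
    have hWN : W ≤ M := Subgroup.map_subtype_le _
    have hWNb : W.map π ≤ Nb := Subgroup.map_mono hWN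
    have hcardW : (Nat.card (W.map π)).Coprime p := by
      apply Nat.Coprime.coprime_dvd_left (Subgroup.card_map_dvd _ _)
      apply Nat.Coprime.coprime_dvd_left (Subgroup.card_map_dvd _ _) hWc
    have h1 : ((W.map π).subgroupOf Nb) ≤ Cfsg.pPrimeCore p Nb := by
      apply le_pPrimeCore
      · rw [Subgroup.normal_subgroupOf_iff_le_normalizer hWNb]
        rintro _ ⟨n, hn, rfl⟩
        rw [Cfsg.Agent.Lib.Helper3_Local.mem_normalizer_iff_conj_le]
        rintro _ ⟨w, hw, rfl⟩
        obtain ⟨w', hw', rfl⟩ := hw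
        refine ⟨n * w' * n⁻¹, ?_, by rw [map_mul, map_mul, map_inv]; rfl⟩
        exact ⟨⟨n, hn⟩ * w' * ⟨n, hn⟩⁻¹, hWn.conj_mem _ hw' _, rfl⟩
      · rw [Nat.card_congr (Subgroup.subgroupOfEquivOfLe hWNb).toEquiv]
        exact hcardW
    rw [h2, le_bot_iff, Subgroup.subgroupOf_eq_bot, disjoint_iff, inf_eq_left.2 hWNb,
      Subgroup.map_eq_bot_iff, QuotientGroup.ker_mk'] at h1
    exact h1
  · have h1 : (K ⊓ M).subgroupOf M ≤ Cfsg.pPrimeCore p M := by
      apply le_pPrimeCore
      · rw [Subgroup.inf_subgroupOf_right]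
        infer_instance
      · rw [Nat.card_congr (Subgroup.subgroupOfEquivOfLe inf_le_right).toEquiv]
        exact Nat.Coprime.coprime_dvd_left (Subgroup.card_dvd_of_le inf_le_left) hKc
    intro x hx
    exact ⟨⟨x, hx.2⟩, h1 (by rw [Subgroup.mem_subgroupOf]; exact hx), rfl⟩

/-- the quotient of `M` by its `p'`-core is the image of `M` in `G / O_{p'}(G)` -/
noncomputable def quotEquiv (M : Subgroup G)
    (h2 : Cfsg.pPrimeCore p (M.map (QuotientGroup.mk' (Cfsg.pPrimeCore p G))) = ⊥) :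
    (M ⧸ Cfsg.pPrimeCore p M) ≃* M.map (QuotientGroup.mk' (Cfsg.pPrimeCore p G)) := by
  set φ : M →* G ⧸ Cfsg.pPrimeCore p G := (QuotientGroup.mk' (Cfsg.pPrimeCore p G)).comp M.subtype
    with hφ
  have hker : Cfsg.pPrimeCore p M = φ.ker := by
    ext x
    rw [MonoidHom.mem_ker, hφ, MonoidHom.comp_apply, QuotientGroup.mk'_apply,
      QuotientGroup.eq_one_iff]
    have h3 := core_eq M h2
    constructor
    · intro hx
      have : (x : G) ∈ (Cfsg.pPrimeCore p M).map M.subtype := ⟨x, hx, rfl⟩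
      rw [h3] at this
      exact this.1
    · intro hx
      have : (x : G) ∈ (Cfsg.pPrimeCore p M).map M.subtype := by
        rw [h3]; exact ⟨hx, x.2⟩
      obtain ⟨y, hy, hyx⟩ := this
      have : y = x := Subtype.ext hyx
      rwa [← this]
  have hrange : φ.range = M.map (QuotientGroup.mk' (Cfsg.pPrimeCore p G)) := by
    rw [hφ, MonoidHom.range_comp, Subgroup.range_subtype]
  exact ((QuotientGroup.quotientMulEquivOfEq hker).trans
    (QuotientGroup.quotientKerEquivRange φ)).trans (MulEquiv.subgroupCongr hrange)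

theorem pc_of (M : Subgroup G) (h2 : CP p (M.map (QuotientGroup.mk' (Cfsg.pPrimeCore p G)))) :
    Cfsg.IsPConstrained p M := by
  rw [isPConstrained_iff_cp]
  exact cp_equiv (quotEquiv M h2.2).symm h2

theorem pc_normalizer (hG : Cfsg.IsPConstrained p G) {P : Subgroup G} (hP : IsPGroup p P) :
    Cfsg.IsPConstrained p (normalizer (P : Set G)) := by
  apply pc_of
  rw [Cfsg.Agent.Lib.Helper3_Frat.map_normalizer_eq (pPrimeCore_coprime p) hP]
  exact cp_normalizer (isPConstrained_iff_cp.1 hG) _ (hP.map _)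

theorem pc_centralizer (hG : Cfsg.IsPConstrained p G) {P : Subgroup G} (hP : IsPGroup p P) :
    Cfsg.IsPConstrained p (centralizer (P : Set G)) := by
  apply pc_of
  rw [Cfsg.Agent.Lib.Helper3_Frat.map_centralizer_eq (pPrimeCore_coprime p) hP]
  exact cp_centralizer_of_normalizer (cp_normalizer (isPConstrained_iff_cp.1 hG) _ (hP.map _))

end Cfsg.Agent.Lib.Helper4_PCons
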