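import Cfsg.Agent.Lib.Helper4_PRed
import Cfsg.Agent.Lib.Helper7_Subnormal

set_option autoImplicit false

namespace Cfsg.Agent.Lib.Helper4_PRed2

open scoped Pointwise commutatorElement
open Cfsg Cfsg.Agent.Lib.Helper4_Syl Cfsg.Agent.Lib.Helper4_Alperin Cfsg.Agent.Lib.Helper4_Control
  Cfsg.Agent.Lib.Helper4_Cop Cfsg.Agent.Lib.Helper4_Chain Cfsg.Agent.Lib.Helper4_WC
  Cfsg.Agent.Lib.Helper4_WC2 Cfsg.Agent.Lib.Helper4_PIrr Cfsg.Agent.Lib.Helper4_PIrr2
  Cfsg.Agent.Lib.Helper4_Core Cfsg.Agent.Lib.Helper4_Subn Cfsg.Agent.Lib.Helper4_PRed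

variable {G : Type*} [Group G] {p : ℕ}

local notation "N(" A ")" => Subgroup.normalizer ((A : Subgroup G) : Set G)
local notation "C(" A ")" => Subgroup.centralizer ((A : Subgroup G) : Set G)

theorem mul_pow_mem {K : Subgroup G} {d c : G} (hd : d ∈ N(K)) (hc : c ∈ K) (n : ℕ) :
    ∃ c' ∈ K, (d * c) ^ n = d ^ n * c' := by
  induction n with
  | zero => exact ⟨1, K.one_mem, by simp⟩
  | succ n ih =>
    obtain ⟨c', hc', e⟩ := ih
    refine ⟨d⁻¹ * c' * d⁻¹⁻¹ * c, K.mul_mem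
      (conj_mem_of_mem_normalizer (Subgroup.inv_mem _ hd) hc') hc, ?_⟩
    rw [pow_succ, e, pow_succ]; group

theorem PR.transfer {X X' V : Subgroup G} (hX : X ≤ N(V)) (h : X ⊔ C(V) = X' ⊔ C(V))
    (hPR : PR p X' V) : PR p X V := by
  intro D hDX hXD hpow
  have hXC : X ≤ N(C(V)) := le_normalizer_centralizer' hX
  have hDC : D ≤ N(C(V)) := hDX.trans hXC
  have hX'le : X' ≤ N(D ⊔ C(V)) := by
    calc X' ≤ X' ⊔ C(V) := le_sup_left
      _ = X ⊔ C(V) := h.symm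
      _ ≤ N(D ⊔ C(V)) := sup_le (le_normalizer_sup' hXD hXC)
          (le_sup_right.trans Subgroup.le_normalizer)
  have hE : (D ⊔ C(V)) ⊓ X' ≤ C(V) := by
    apply hPR _ inf_le_right (le_normalizer_inf' hX'le Subgroup.le_normalizer)
    rintro e ⟨he, -⟩
    have he' : e ∈ ((D ⊔ C(V) : Subgroup G) : Set G) := he
    rw [Subgroup.coe_mul_of_left_le_normalizer_right D C(V) hDC] at he'
    obtain ⟨d, hd, c, hc, rfl⟩ := Set.mem_mul.1 he'
    obtain ⟨k, hk⟩ := hpow d hd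
    obtain ⟨c', hc', e'⟩ := mul_pow_mem (hDC hd) hc (p ^ k)
    exact ⟨k, by rw [e']; exact Subgroup.mul_mem _ hk hc'⟩
  intro d hd
  have hX'C : X' ≤ N(C(V)) := by
    calc X' ≤ X' ⊔ C(V) := le_sup_left
      _ = X ⊔ C(V) := h.symm
      _ ≤ N(C(V)) := sup_le hXC Subgroup.le_normalizer
  have hd' : d ∈ ((X' ⊔ C(V) : Subgroup G) : Set G) := by
    rw [← h]; exact le_sup_left (a := X) (hDX hd)
  rw [Subgroup.coe_mul_of_left_le_normalizer_right X' C(V) hX'C] at hd'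
  obtain ⟨x, hx, c, hc, e⟩ := Set.mem_mul.1 hd'
  have hx' : x ∈ (D ⊔ C(V)) ⊓ X' := by
    refine Subgroup.mem_inf.2 ⟨?_, hx⟩
    have : x = d * c⁻¹ := by rw [← e]; group
    rw [this]
    exact Subgroup.mul_mem _ (le_sup_left (a := D) hd)
      (le_sup_right (a := D) (Subgroup.inv_mem _ hc))
  rw [← e]
  exact Subgroup.mul_mem _ (hE hx') hc

theorem pCoreOf_le_sylow {T L : Subgroup G} (hT : IsSylIn p T L) : pCoreOf p L ≤ T := by
  have h1 : IsPGroup p (T ⊔ pCoreOf p L : Subgroup G) :=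
    IsPGroup.to_sup_of_normal_right' hT.isPGroup (pCoreOf_isPGroup p L)
      (hT.le.trans (le_normalizer_pCoreOf p L))
  have h2 := hT.eq_of_le (sup_le hT.le (pCoreOf_le p L)) h1 le_sup_left
  calc pCoreOf p L ≤ T ⊔ pCoreOf p L := le_sup_right
    _ = T := h2

/-- a subgroup `D` all of whose elements have a `p`-power power in `K` lies in `K` as soon as a
Sylow `p`-subgroup of `D` does -/
theorem le_of_sylow_le [Finite G] [Fact p.Prime] {D S K : Subgroup G} (hS : IsSylIn p S D)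
    (hSK : S ≤ K) (hpow : ∀ d ∈ D, ∃ k : ℕ, d ^ p ^ k ∈ K) : D ≤ K := by
  rw [← residual_sup_sylow hS]
  refine sup_le ?_ hSK
  rw [pResidualOf_eq, Subgroup.closure_le]
  rintro g ⟨hg, hc⟩
  obtain ⟨k, hk⟩ := hpow g hg
  exact mem_of_pow_mem_of_coprime hk (Nat.Coprime.pow_right k hc)

theorem prn_closure [Finite G] [Fact p.Prime] {L T R X V : Subgroup G}
    (hchar : L ⊓ C(pCoreOf p L) ≤ pCoreOf p L) (hT : IsSylIn p T L) (hTR : T ≤ R) (hRL : R ≤ L)
    (hX : PRN p R X) (hXV : X ≤ V) (hLV : L ≤ N(V))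
    (hmin : ∀ W : Subgroup G, X ≤ W → L ≤ N(W) → V ≤ W) : PRN p L V := by
  set O := pCoreOf p L with hO
  have hOT : O ≤ T := pCoreOf_le_sylow hT
  have hLO : L ≤ N(O) := le_normalizer_pCoreOf p L
  have hOR : O ≤ pCoreOf p R :=
    le_pCoreOf (hOT.trans hTR) (pCoreOf_isPGroup p L) (hRL.trans hLO)
  have hXO : X ≤ C(O) := by
    rw [Subgroup.le_centralizer_iff]
    exact hOR.trans hX.pCoreOf_le
  have hXO' : X ≤ O := (le_inf (hX.1.trans hRL) hXO).trans hchar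
  have hXW : X ≤ omegaOne p (O ⊓ C(O)) := by
    intro x hx
    exact mem_omegaOne (Subgroup.mem_inf.2 ⟨hXO' hx, hXO hx⟩) (hX.2.2.1.2 x hx)
  have hVW : V ≤ omegaOne p (O ⊓ C(O)) :=
    hmin _ hXW (le_normalizer_omegaOne (le_normalizer_center hLO))
  refine ⟨hVW.trans ((omega_le p O).trans (inf_le_left.trans (pCoreOf_le p L))), hLV,
    ea_mono (omega_ea p O) hVW, ?_⟩
  intro D hDL hLD hpow
  have hCVX : C(V) ≤ C(X) := Subgroup.centralizer_le hXV
  have h1 : D ⊓ R ≤ C(X) := by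
    apply hX.2.2.2 _ inf_le_right (le_normalizer_inf' (hRL.trans hLD) Subgroup.le_normalizer)
    rintro d ⟨hd, -⟩
    obtain ⟨k, hk⟩ := hpow d hd
    exact ⟨k, hCVX hk⟩
  have hS : IsSylIn p (T ⊓ D) D :=
    Cfsg.Agent.Lib.Helper7_Subnormal.isSylIn_inf_of_normal hT hDL hLD
  have h2 : D ≤ C(X) := by
    apply le_of_sylow_le hS
    · exact (le_inf inf_le_right (inf_le_left.trans hTR)).trans h1
    · intro d hd
      obtain ⟨k, hk⟩ := hpow d hd
      exact ⟨k, hCVX hk⟩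
  have h3 : V ≤ C(D) := hmin _ (Subgroup.le_centralizer_iff.1 h2) (le_normalizer_centralizer' hLD)
  exact Subgroup.le_centralizer_iff.1 h3

/-- the smallest `L`-invariant subgroup containing `X` -/
def invClosure (L X : Subgroup G) : Subgroup G := sInf {W | X ≤ W ∧ L ≤ N(W)}

theorem le_invClosure (L X : Subgroup G) : X ≤ invClosure L X := le_sInf fun _ h => h.1

theorem invClosure_le {L X W : Subgroup G} (h1 : X ≤ W) (h2 : L ≤ N(W)) : invClosure L X ≤ W :=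
  sInf_le ⟨h1, h2⟩

theorem le_normalizer_invClosure (L X : Subgroup G) : L ≤ N(invClosure L X) := by
  apply le_normalizer_of_conj_mem
  intro l hl m hm
  unfold invClosure at hm ⊢
  rw [Subgroup.mem_sInf] at hm ⊢
  intro W hW
  exact conj_mem_of_mem_normalizer (hW.2 hl) (hm W hW)

/-- structure of the largest `p`-reduced normal subgroup -/
theorem largest_structure [Finite G] [Fact p.Prime] {L T Y : Subgroup G}
    (hchar : L ⊓ C(pCoreOf p L) ≤ pCoreOf p L) (hT : IsSylIn p T L) (hY : PRN p L Y)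
    (hmax : ∀ V, PRN p L V → V ≤ Y) :
    (∀ g ∈ L, ∃ a ∈ L ⊓ N(T ⊓ C(Y)), ∃ c ∈ L ⊓ C(Y), g = a * c) ∧
      pCoreOf p (L ⊓ N(T ⊓ C(Y))) = T ⊓ C(Y) ∧ Y = omegaOne p ((T ⊓ C(Y)) ⊓ C(T ⊓ C(Y))) := by
  set TL := T ⊓ C(Y) with hTL
  set LT := L ⊓ N(TL) with hLT
  have hLCY : L ≤ N(C(Y)) := le_normalizer_centralizer' hY.2.1
  have hLK : L ≤ N(L ⊓ C(Y)) := le_normalizer_inf' Subgroup.le_normalizer hLCY
  have hSK : IsSylIn p TL (L ⊓ C(Y)) := by
    have := Cfsg.Agent.Lib.Helper7_Subnormal.isSylIn_inf_of_normal hT inf_le_left hLK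
    have e : T ⊓ (L ⊓ C(Y)) = TL := by
      rw [← inf_assoc, inf_eq_left.2 hT.le]
    rwa [e] at this
  have ha : ∀ g ∈ L, ∃ a ∈ LT, ∃ c ∈ L ⊓ C(Y), g = a * c := by
    intro g hg
    obtain ⟨n, hn, hng⟩ := frattini hSK g⁻¹ (mem_normalizer_iff_lc.1 (hLK (L.inv_mem hg)))
    refine ⟨g * n, Subgroup.mem_inf.2 ⟨L.mul_mem hg hn.1, ?_⟩, n⁻¹, Subgroup.inv_mem _ hn, by group⟩
    have := Subgroup.inv_mem _ hng
    simpa using this
  have hTLT : T ≤ LT :=
    le_inf hT.le (le_normalizer_inf' Subgroup.le_normalizer (hT.le.trans hLCY))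
  have hTS : IsSylIn p T LT := hT.mono hTLT inf_le_left
  have hsup : LT ⊔ C(Y) = L ⊔ C(Y) := by
    apply le_antisymm (sup_le_sup_right inf_le_left _)
    refine sup_le ?_ le_sup_right
    intro g hg
    obtain ⟨a, ha', c, hc, rfl⟩ := ha g hg
    exact Subgroup.mul_mem _ (le_sup_left (a := LT) ha') (le_sup_right (a := LT) hc.2)
  have hPR : PR p LT Y := PR.transfer (inf_le_left.trans hY.2.1) hsup hY.2.2.2
  have hTLp : IsPGroup p TL := hT.isPGroup.to_le inf_le_left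
  have hb : pCoreOf p LT = TL := by
    apply le_antisymm
    · refine le_inf (pCoreOf_le_sylow hTS) ?_
      apply hPR _ (pCoreOf_le p LT) (le_normalizer_pCoreOf p LT)
      intro d hd
      obtain ⟨k, hk⟩ := pow_eq_one_of_isPGroup (pCoreOf_isPGroup p LT) hd
      exact ⟨k, by rw [hk]; exact Subgroup.one_mem _⟩
    · exact le_pCoreOf (inf_le_left.trans hTLT) hTLp inf_le_right
  refine ⟨ha, hb, ?_⟩
  have hYTL : Y ≤ TL :=
    le_inf (hY.le_pCoreOf.trans (pCoreOf_le_sylow hT)) (ea_le_centralizer hY.2.2.1)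
  have hYC : Y ≤ C(TL) := Subgroup.le_centralizer_iff.1 inf_le_right
  set X := omegaOne p (TL ⊓ C(TL)) with hXdef
  have hYX : Y ≤ X := by
    intro y hy
    exact mem_omegaOne (Subgroup.mem_inf.2 ⟨hYTL hy, hYC hy⟩) (hY.2.2.1.2 y hy)
  apply le_antisymm hYX
  have hXTL : X ≤ TL := (omega_le p TL).trans inf_le_left
  have hTLX : TL ≤ C(X) := Subgroup.le_centralizer_iff.1 ((omega_le p TL).trans inf_le_right)
  have hXprn : PRN p LT X := by
    refine ⟨hXTL.trans (inf_le_left.trans hTLT),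
      le_normalizer_omegaOne (le_normalizer_center inf_le_right), omega_ea p TL, ?_⟩
    intro D hDLT hLTD hpow
    have hD1 : D ≤ C(Y) := by
      apply hPR D hDLT hLTD
      intro d hd
      obtain ⟨k, hk⟩ := hpow d hd
      exact ⟨k, Subgroup.centralizer_le hYX hk⟩
    obtain ⟨S, hS⟩ := exists_isSylIn p D
    apply le_of_sylow_le hS _ hpow
    refine le_trans ?_ hTLX
    -- `S ≤ TL`
    have hSN : S ≤ N(TL) := hS.le.trans (hDLT.trans inf_le_right)
    have h1 : IsPGroup p (S ⊔ TL : Subgroup G) :=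
      IsPGroup.to_sup_of_normal_right' hS.isPGroup hTLp hSN
    have h2 : S ⊔ TL ≤ L ⊓ C(Y) :=
      sup_le (le_inf (hS.le.trans (hDLT.trans inf_le_left)) (hS.le.trans hD1)) hSK.le
    have h3 := hSK.eq_of_le h2 h1 le_sup_right
    calc S ≤ S ⊔ TL := le_sup_left
      _ = TL := h3
  have hV := prn_closure hchar hT hTLT inf_le_left hXprn (le_invClosure L X)
    (le_normalizer_invClosure L X) (fun W h1 h2 => invClosure_le h1 h2)
  exact (le_invClosure L X).trans (hmax _ hV)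

end Cfsg.Agent.Lib.Helper4_PRed2
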