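import Mathlib
import Cfsg.Prelude.Def_Local
import Cfsg.Agent.Lib.Helper4_PSol
import Cfsg.Agent.Lib.Helper4_PCons

set_option autoImplicit false
set_option linter.unusedSectionVars false
set_option linter.unusedVariables false

namespace Cfsg.Agent.Lib.Helper4_PSol2

open Subgroup Cfsg Cfsg.Agent.Lib.Helper4_CharP Cfsg.Agent.Lib.Helper4_CharP2
  Cfsg.Agent.Lib.Helper4_Core Cfsg.Agent.Lib.Helper4_PSol Cfsg.Agent.Lib.Helper4_PCons

universe u

variable {p : ℕ}

theorem isPSolvable_of_surjective {G H : Type*} [Group G] [Group H] (hp : p.Prime) (f : G →* H)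
    (hf : Function.Surjective f) (h : IsPSolvable p G) : IsPSolvable p H := by
  obtain ⟨n, H, h0, hlast, hmono, hnorm, hstep⟩ := h
  refine ⟨n, fun i => (H i).map f, ?_, ?_, ?_, ?_, ?_⟩
  · simp only [h0, Subgroup.map_bot]
  · simp only [hlast]
    rw [← MonoidHom.range_eq_map, MonoidHom.range_eq_top]
    exact hf
  · intro i j hij
    exact Subgroup.map_mono (hmono hij)
  · intro i
    haveI := hnorm i
    exact Subgroup.Normal.map inferInstance _ hf
  · intro i
    haveI := hnorm i.castSucc
    have hle : H i.castSucc ≤ H i.succ := hmono (Fin.castSucc_lt_succ).le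
    have hdvd : ((H i.castSucc).map f).relIndex
        ((H i.succ).map f) ∣ (H i.castSucc).relIndex (H i.succ) := by
      rw [Subgroup.relIndex_map_map]
      have e : H i.succ ⊔ f.ker = H i.succ ⊔ (H i.castSucc ⊔ f.ker) := by
        rw [← sup_assoc, sup_eq_left.mpr hle]
      rw [e, Subgroup.relIndex_sup_right]
      exact Subgroup.relIndex_dvd_of_le_left _ le_sup_left
    rcases hstep i with ⟨m, hm⟩ | hcop
    · left
      rw [hm] at hdvd
      obtain ⟨j, -, hj⟩ := (Nat.dvd_prime_pow hp).mp hdvd
      exact ⟨j, hj⟩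
    · right
      exact Nat.Coprime.coprime_dvd_left hdvd hcop

theorem isPSolvable_equiv {G H : Type*} [Group G] [Group H] (hp : p.Prime) (e : G ≃* H)
    (h : IsPSolvable p G) : IsPSolvable p H :=
  isPSolvable_of_surjective hp e.toMonoidHom e.surjective h

theorem cp_of_psol [Fact p.Prime] {X : Type u} [Group X] [Finite X] (hO : pPrimeCore p X = ⊥)
    (hs : IsPSolvable p (centralizer (pCore p X : Set X))) : CP p X := by
  rw [cp_iff_cent]
  set D := centralizer (pCore p X : Set X) with hD
  have hDn : D.Normal := inferInstance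
  have h1 : pPrimeCore p D = ⊥ := by
    have := Cfsg.Agent.Lib.Helper3_PComp.pPrimeCore_subnormal_eq (p := p) hDn.isSubnormal
    rw [hO, bot_inf_eq, Subgroup.map_eq_bot_iff_of_injective _ D.subtype_injective] at this
    exact this
  have h2 := hall_higman hs h1
  have h3 := Cfsg.Agent.Lib.Helper3_PComp.pCore_subnormal_eq (p := p) hDn.isSubnormal
  intro x hx
  have h4 : (⟨x, hx⟩ : D) ∈ centralizer (pCore p D : Set D) := by
    rw [Subgroup.mem_centralizer_iff]
    intro y hy
    have h5 : (y : X) ∈ (pCore p D).map D.subtype := ⟨y, hy, rfl⟩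
    rw [h3] at h5
    apply Subtype.ext
    exact Subgroup.mem_centralizer_iff.1 hx _ h5.1
  have h6 : x ∈ (pCore p D).map D.subtype := ⟨⟨x, hx⟩, h2 h4, rfl⟩
  rw [h3] at h6
  exact h6.1

end Cfsg.Agent.Lib.Helper4_PSol2
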