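import Cfsg.Agent.Lib.Helper4_WC2
import Cfsg.Agent.Lib.helper6_PGroup
import Cfsg.Agent.S2842

set_option autoImplicit false

namespace Cfsg.Agent.Lib.Helper4_WC3

open scoped Pointwise commutatorElement
open Cfsg Cfsg.Agent.Lib.Helper4_Syl Cfsg.Agent.Lib.Helper4_Alperin Cfsg.Agent.Lib.Helper4_Control
  Cfsg.Agent.Lib.Helper4_Cop Cfsg.Agent.Lib.Helper4_Chain Cfsg.Agent.Lib.Helper4_WC
  Cfsg.Agent.Lib.Helper4_WC2

variable {G : Type*} [Group G] {p : ℕ}

local notation "N(" A ")" => Subgroup.normalizer ((A : Subgroup G) : Set G)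
local notation "C(" A ")" => Subgroup.centralizer ((A : Subgroup G) : Set G)

theorem exists_fixed [Finite G] [Fact p.Prime] {Q Y : Subgroup G} (hQp : IsPGroup p Q)
    (hYp : IsPGroup p Y) (hY1 : Y ≠ ⊥) (hQY : Q ≤ N(Y)) : ∃ y ∈ Y, y ≠ 1 ∧ y ∈ C(Q) := by
  have h1 : IsPGroup p (Q ⊔ Y : Subgroup G) := IsPGroup.to_sup_of_normal_right' hQp hYp hQY
  obtain ⟨w, hw, hw1, hc⟩ := Cfsg.Agent.Lib.helper6_PGroup.exists_central_of_normal (Q ⊔ Y) Y h1
    le_sup_right hY1 (sup_le hQY Subgroup.le_normalizer)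
  exact ⟨w, hw, hw1, Subgroup.mem_centralizer_iff.2 fun q hq => hc q (le_sup_left (a := Q) hq)⟩

theorem large_centralizer_singleton_le {Q : Subgroup G} (hL : IsLarge Q) {y : G} (hy1 : y ≠ 1)
    (hy : y ∈ C(Q)) : Subgroup.centralizer ({y} : Set G) ≤ N(Q) :=
  (centralizer_singleton_le_normalizer_zpowers y).trans
    (hL.2 _ (by rw [Subgroup.zpowers_le]; exact hy) (by rwa [Ne, Subgroup.zpowers_eq_bot]))

theorem large_centralizer_le_normalizer [Finite G] [Fact p.Prime] {Q Y : Subgroup G}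
    (hL : IsLarge Q) (hQp : IsPGroup p Q) (hYp : IsPGroup p Y) (hY1 : Y ≠ ⊥) (hQY : Q ≤ N(Y)) :
    C(Y) ≤ N(Q) := by
  obtain ⟨y, hy, hy1, hyC⟩ := exists_fixed hQp hYp hY1 hQY
  exact (Subgroup.centralizer_le (by simpa using hy)).trans
    (large_centralizer_singleton_le hL hy1 hyC)

theorem pCoreOf_ne_bot {L : Subgroup G} (h : pCore p ↥L ≠ ⊥) : pCoreOf p L ≠ ⊥ := by
  intro h1
  apply h
  exact (Subgroup.map_eq_bot_iff_of_injective _ L.subtype_injective).1 h1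

theorem large_charp [Finite G] [Fact p.Prime] {Q L : Subgroup G} (hQp : IsPGroup p Q)
    (hQ1 : Q ≠ ⊥) (hL : IsLarge Q) (hQL : Q ≤ L) (hO : pCoreOf p L ≠ ⊥) :
    IsPGroup p C(pCoreOf p L) ∧ L ⊓ C(pCoreOf p L) ≤ pCoreOf p L := by
  obtain ⟨y, hy, hy1, hyC⟩ := exists_fixed hQp (pCoreOf_isPGroup p L) hO
    (hQL.trans (le_normalizer_pCoreOf p L))
  have hH₁ := large_centralizer_singleton_le hL hy1 hyC
  have hQH₁ : Q ≤ Subgroup.centralizer ({y} : Set G) := by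
    intro q hq
    rw [Subgroup.mem_centralizer_singleton_iff]
    exact Subgroup.mem_centralizer_iff.1 hyC q hq
  have hQO : Q ≤ pCoreOf p (Subgroup.centralizer ({y} : Set G)) := le_pCoreOf hQH₁ hQp hH₁
  have hch : Subgroup.centralizer ({y} : Set G) ⊓
      C(pCoreOf p (Subgroup.centralizer ({y} : Set G))) ≤
        pCoreOf p (Subgroup.centralizer ({y} : Set G)) :=
    inf_le_right.trans ((Subgroup.centralizer_le hQO).trans (hL.1.trans hQO))
  have := Cfsg.Agent.S2842.result Q hQp hQ1 (large_wc hQp hQ1 hL) hL.1 L hQL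
    (Or.inr ⟨y, hy1, Subgroup.mem_inf.2 ⟨hy, hyC⟩, (charPSub_iff p _).2 hch⟩)
  exact ⟨this.2.1, (charPSub_iff p L).1 this.2.2⟩

theorem le_weakClosure {Q L : Subgroup G} {g : G} (hg : lc g Q ≤ L) : lc g Q ≤ weakClosure Q L :=
  le_iSup (fun g : {g : G // Q.map (MulAut.conj g).toMonoidHom ≤ L} =>
    Q.map (MulAut.conj (g : G)).toMonoidHom) ⟨g, hg⟩

theorem self_le_weakClosure {Q L : Subgroup G} (hQL : Q ≤ L) : Q ≤ weakClosure Q L := by
  have := le_weakClosure (Q := Q) (L := L) (g := 1) (by rw [lc_one]; exact hQL)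
  rwa [lc_one] at this

theorem weakClosure_le_iff {Q L X : Subgroup G} :
    weakClosure Q L ≤ X ↔ ∀ g, lc g Q ≤ L → lc g Q ≤ X := by
  unfold weakClosure
  rw [iSup_le_iff]
  exact ⟨fun h g hg => h ⟨g, hg⟩, fun h g => h g.1 g.2⟩

theorem weakClosure_le (Q L : Subgroup G) : weakClosure Q L ≤ L :=
  weakClosure_le_iff.2 fun _ h => h

end Cfsg.Agent.Lib.Helper4_WC3
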