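import Mathlib

set_option autoImplicit false

namespace Cfsg.Agent.Lib.Helper5_GL2

open Matrix

variable {F : Type*} [Field F]

/-- companion matrix of `X^2 - τ X + δ`. -/
def comp (τ δ : F) : Matrix (Fin 2) (Fin 2) F := !![0, -δ; 1, τ]

@[simp] theorem comp_trace (τ δ : F) : (comp τ δ).trace = τ := by
  simp [comp, Matrix.trace_fin_two]

@[simp] theorem comp_det (τ δ : F) : (comp τ δ).det = δ := by
  simp [comp, Matrix.det_fin_two]

theorem eta2 (A : Matrix (Fin 2) (Fin 2) F) : A = !![A 0 0, A 0 1; A 1 0, A 1 1] := by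
  ext i j; fin_cases i <;> fin_cases j <;> rfl

/-- A non-scalar `2 × 2` matrix is similar to the companion matrix of its characteristic polynomial. -/
theorem exists_conj_comp (A : Matrix (Fin 2) (Fin 2) F) (hA : ¬ ∃ c : F, A = c • (1 : Matrix (Fin 2) (Fin 2) F)) :
    ∃ P : Matrix (Fin 2) (Fin 2) F, P.det ≠ 0 ∧ A * P = P * comp A.trace A.det := by
  rw [eta2 A] at hA ⊢
  set a := A 0 0
  set b := A 0 1
  set c := A 1 0
  set d := A 1 1
  by_cases hc : c = 0
  · by_cases hb : b = 0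
    · have had : d - a ≠ 0 := by
        intro h
        apply hA
        refine ⟨a, ?_⟩
        have : d = a := sub_eq_zero.1 h
        ext i j; fin_cases i <;> fin_cases j <;> simp [hc, hb, this]
      refine ⟨!![1, a; 1, d], ?_, ?_⟩
      · simpa [Matrix.det_fin_two] using had
      · ext i j; fin_cases i <;> fin_cases j <;>
          simp [comp, Matrix.mul_apply, Fin.sum_univ_two, Matrix.trace_fin_two, Matrix.det_fin_two, hc, hb] <;> ring
    · refine ⟨!![0, b; 1, d], ?_, ?_⟩
      · simpa [Matrix.det_fin_two] using hb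
      · ext i j; fin_cases i <;> fin_cases j <;>
          simp [comp, Matrix.mul_apply, Fin.sum_univ_two, Matrix.trace_fin_two, Matrix.det_fin_two, hc] <;> ring
  · refine ⟨!![1, a; 0, c], ?_, ?_⟩
    · simpa [Matrix.det_fin_two] using hc
    · ext i j; fin_cases i <;> fin_cases j <;>
        simp [comp, Matrix.mul_apply, Fin.sum_univ_two, Matrix.trace_fin_two, Matrix.det_fin_two] <;> ring

theorem comp_not_scalar (τ δ : F) : ¬ ∃ c : F, comp τ δ = c • (1 : Matrix (Fin 2) (Fin 2) F) := by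
  rintro ⟨c, hc⟩
  have := congrFun (congrFun hc 1) 0
  simp [comp] at this

/-- companion matrix as an element of `GL`. -/
noncomputable def compGL (τ : F) (δ : Fˣ) : GL (Fin 2) F :=
  Matrix.GeneralLinearGroup.mkOfDetNeZero (comp τ δ) (by rw [comp_det]; exact δ.ne_zero)

@[simp] theorem compGL_val (τ : F) (δ : Fˣ) : ((compGL τ δ : GL (Fin 2) F) : Matrix (Fin 2) (Fin 2) F) = comp τ δ := rfl

theorem gl_conj_comp (g : GL (Fin 2) F) (hg : ¬ ∃ c : F, (g : Matrix (Fin 2) (Fin 2) F) = c • (1 : Matrix (Fin 2) (Fin 2) F)) :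
    IsConj (compGL (g : Matrix (Fin 2) (Fin 2) F).trace (Matrix.GeneralLinearGroup.det g)) g := by
  obtain ⟨P, hP, hrel⟩ := exists_conj_comp _ hg
  rw [isConj_iff]
  refine ⟨Matrix.GeneralLinearGroup.mkOfDetNeZero P hP, ?_⟩
  rw [mul_inv_eq_iff_eq_mul]
  apply Units.ext
  exact hrel.symm

theorem trace_conj (g x : GL (Fin 2) F) :
    ((x * g * x⁻¹ : GL (Fin 2) F) : Matrix (Fin 2) (Fin 2) F).trace = (g : Matrix (Fin 2) (Fin 2) F).trace := by
  rw [Units.val_mul, Units.val_mul, Matrix.trace_mul_comm, ← mul_assoc, ← Units.val_mul, inv_mul_cancel, Units.val_one,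
    one_mul]

theorem isConj_trace {g h : GL (Fin 2) F} (hc : IsConj g h) :
    (g : Matrix (Fin 2) (Fin 2) F).trace = (h : Matrix (Fin 2) (Fin 2) F).trace := by
  rw [isConj_iff] at hc
  obtain ⟨x, rfl⟩ := hc
  rw [trace_conj]

theorem isConj_det {g h : GL (Fin 2) F} (hc : IsConj g h) :
    Matrix.GeneralLinearGroup.det g = Matrix.GeneralLinearGroup.det h := by
  rw [isConj_iff] at hc
  obtain ⟨x, rfl⟩ := hc
  rw [map_mul, map_mul, map_inv, mul_comm, ← mul_assoc, inv_mul_cancel, one_mul]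

theorem isConj_scalar {g h : GL (Fin 2) F} (hc : IsConj g h) (c : F)
    (hg : (g : Matrix (Fin 2) (Fin 2) F) = c • (1 : Matrix (Fin 2) (Fin 2) F)) :
    (h : Matrix (Fin 2) (Fin 2) F) = c • (1 : Matrix (Fin 2) (Fin 2) F) := by
  rw [isConj_iff] at hc
  obtain ⟨x, rfl⟩ := hc
  rw [Units.val_mul, Units.val_mul, hg, mul_smul_comm, mul_one, smul_mul_assoc, ← Units.val_mul, mul_inv_cancel,
    Units.val_one]

/-- If the centraliser of `g` in `GL` contains an element of the right determinant, `GL`-conjugacy gives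
`SL`-conjugacy. -/
theorem sl_conj_of_gl_conj {n : ℕ} (g h : Matrix.SpecialLinearGroup (Fin n) F) (x c : GL (Fin n) F)
    (hx : x * Matrix.SpecialLinearGroup.toGL g * x⁻¹ = Matrix.SpecialLinearGroup.toGL h)
    (hc : c * Matrix.SpecialLinearGroup.toGL g = Matrix.SpecialLinearGroup.toGL g * c)
    (hdet : (x : Matrix (Fin n) (Fin n) F).det * (c : Matrix (Fin n) (Fin n) F).det = 1) : IsConj g h := by
  have hd : ((x * c : GL (Fin n) F) : Matrix (Fin n) (Fin n) F).det = 1 := by
    rw [Units.val_mul, Matrix.det_mul, hdet]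
  let y : Matrix.SpecialLinearGroup (Fin n) F := ⟨((x * c : GL (Fin n) F) : Matrix (Fin n) (Fin n) F), hd⟩
  have hy : Matrix.SpecialLinearGroup.toGL y = x * c := Units.ext rfl
  rw [isConj_iff]
  refine ⟨y, ?_⟩
  apply Matrix.SpecialLinearGroup.toGL_injective
  rw [map_mul, map_mul, map_inv, hy, ← hx, mul_assoc x c, hc]
  group

/-- companion matrix as an element of `SL`. -/
def compSL (τ : F) : Matrix.SpecialLinearGroup (Fin 2) F := ⟨comp τ 1, comp_det τ 1⟩

@[simp] theorem compSL_val (τ : F) : ((compSL τ : Matrix.SpecialLinearGroup (Fin 2) F) : Matrix (Fin 2) (Fin 2) F) = comp τ 1 := rfl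

theorem toGL_compSL (τ : F) : Matrix.SpecialLinearGroup.toGL (compSL τ) = compGL τ 1 := Units.ext rfl

theorem sl_isConj_trace {g h : Matrix.SpecialLinearGroup (Fin 2) F} (hc : IsConj g h) :
    (g : Matrix (Fin 2) (Fin 2) F).trace = (h : Matrix (Fin 2) (Fin 2) F).trace :=
  isConj_trace (Matrix.SpecialLinearGroup.toGL.map_isConj hc)

theorem sl_isConj_scalar {g h : Matrix.SpecialLinearGroup (Fin 2) F} (hc : IsConj g h) (c : F)
    (hg : (g : Matrix (Fin 2) (Fin 2) F) = c • (1 : Matrix (Fin 2) (Fin 2) F)) :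
    (h : Matrix (Fin 2) (Fin 2) F) = c • (1 : Matrix (Fin 2) (Fin 2) F) :=
  isConj_scalar (Matrix.SpecialLinearGroup.toGL.map_isConj hc) c hg

end Cfsg.Agent.Lib.Helper5_GL2
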