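import Cfsg.Agent.Lib.Helper5_PSLSpec
import Cfsg.Agent.Lib.Helper5_GL2

set_option autoImplicit false

namespace Cfsg.Agent.Lib.Helper5_PSL2Prod

open Matrix Cfsg.Agent.Lib.Helper5_PSLSpec Cfsg.Agent.Lib.Helper5_GL2

variable {F : Type*} [Field F]

local notation "SL2" => Matrix.SpecialLinearGroup (Fin 2) F
local notation "M2" => Matrix (Fin 2) (Fin 2) F
local notation "toGL" => (Matrix.SpecialLinearGroup.toGL : Matrix.SpecialLinearGroup (Fin 2) F →* GL (Fin 2) F)

/-- not a scalar matrix -/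
def NS (A : M2) : Prop := ¬ ∃ c : F, A = c • (1 : M2)

theorem ns_of_mkP_ne_one (g : SL2) (h : mkP F 2 g ≠ 1) : NS (g : M2) := by
  intro hc
  apply h
  have := (mkP_pow_eq_one_iff g 1).2 (by simpa using hc)
  simpa using this

theorem ns_of_trace (A : M2) (hdet : A.det = 1) (h : A.trace ^ 2 ≠ 4) : NS A := by
  rintro ⟨c, rfl⟩
  apply h
  rw [Matrix.det_fin_two] at hdet
  rw [Matrix.trace_fin_two]
  simp only [Matrix.smul_apply, Matrix.one_apply_eq, smul_eq_mul, mul_one,
    Matrix.one_apply_ne (show (0 : Fin 2) ≠ 1 by decide), Matrix.one_apply_ne (show (1 : Fin 2) ≠ 0 by decide),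
    mul_zero, sub_zero] at hdet ⊢
  linear_combination 4 * hdet

/-- same trace and enough norms: conjugate in `SL₂` -/
theorem isConj_of_trace (g h : SL2) (hg : NS (g : M2)) (hh : NS (h : M2))
    (htr : (g : M2).trace = (h : M2).trace)
    (hnorm : ∀ lam : F, lam ≠ 0 → ∃ a b : F, a ^ 2 + (g : M2).trace * a * b + b ^ 2 = lam) : IsConj g h := by
  have h1 := gl_conj_comp (toGL g) hg
  have h2 := gl_conj_comp (toGL h) hh
  have d1 : Matrix.GeneralLinearGroup.det (toGL g) = 1 := by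
    apply Units.ext
    simp
  have d2 : Matrix.GeneralLinearGroup.det (toGL h) = 1 := by
    apply Units.ext
    simp
  rw [d1] at h1
  rw [d2] at h2
  have e1 : ((toGL g : GL (Fin 2) F) : M2) = (g : M2) := rfl
  have e2 : ((toGL h : GL (Fin 2) F) : M2) = (h : M2) := rfl
  rw [e1] at h1
  rw [e2, ← htr] at h2
  have h3 : IsConj (toGL g) (toGL h) := h1.symm.trans h2
  rw [isConj_iff] at h3
  obtain ⟨x, hx⟩ := h3
  have hx0 : (x : M2).det ≠ 0 := Matrix.GeneralLinearGroup.det_ne_zero x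
  obtain ⟨a, b, hab⟩ := hnorm ((x : M2).det)⁻¹ (inv_ne_zero hx0)
  have hdet : (a • (1 : M2) + b • (g : M2)).det = ((x : M2).det)⁻¹ := by
    rw [← hab, Matrix.trace_fin_two]
    have hg := g.2
    rw [Matrix.det_fin_two] at hg ⊢
    simp only [Matrix.add_apply, Matrix.smul_apply, Matrix.one_apply_eq, smul_eq_mul, mul_one]
    simp only [Matrix.one_apply_ne (show (0 : Fin 2) ≠ 1 by decide), Matrix.one_apply_ne (show (1 : Fin 2) ≠ 0 by decide),
      mul_zero, zero_add]
    linear_combination (b ^ 2) * hg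
  apply sl_conj_of_gl_conj g h x (Matrix.GeneralLinearGroup.mkOfDetNeZero _ (by rw [hdet]; exact inv_ne_zero hx0)) hx
  · apply Units.ext
    rw [Units.val_mul, Units.val_mul]
    show (a • (1 : M2) + b • (g : M2)) * (g : M2) = (g : M2) * (a • (1 : M2) + b • (g : M2))
    rw [add_mul, mul_add, smul_mul_assoc, smul_mul_assoc, mul_smul_comm, mul_smul_comm, one_mul, mul_one]
  · show (x : M2).det * (a • (1 : M2) + b • (g : M2)).det = 1
    rw [hdet, mul_inv_cancel₀ hx0]

/-- the key factorisation -/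
theorem exists_prod (X G : SL2) (hG : NS (G : M2)) (hτ : (X : M2).trace ^ 2 ≠ 4)
    (hnorm : ∀ lam : F, lam ≠ 0 → ∃ a b : F, a ^ 2 + (X : M2).trace * a * b + b ^ 2 = lam)
    (x z : F) (hsol : x ^ 2 + (G : M2).trace * x * z + z ^ 2 - (X : M2).trace * (x + z) + 1 = 0) :
    ∃ u v : SL2, G = (u * X * u⁻¹) * (v * X * v⁻¹) := by
  set τ := (X : M2).trace with hτd
  set γ := (G : M2).trace with hγd
  obtain ⟨P, hP, hrel⟩ := exists_conj_comp (G : M2) hG
  rw [G.2, ← hγd] at hrel
  let P' : GL (Fin 2) F := Matrix.GeneralLinearGroup.mkOfDetNeZero P hP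
  have hP' : (P' : M2) = P := rfl
  let X1 : M2 := !![x, z + γ * x - τ; z, τ - x]
  let X2 : M2 := !![-(z + γ * x - τ), -(τ - x) - γ * (z + γ * x - τ); x, z + γ * x]
  have hX1d : X1.det = 1 := by
    simp only [X1, Matrix.det_fin_two_of]
    linear_combination -hsol
  have hX2d : X2.det = 1 := by
    simp only [X2, Matrix.det_fin_two_of]
    linear_combination -hsol
  have hX1t : X1.trace = τ := by
    simp [X1, Matrix.trace_fin_two]
  have hX2t : X2.trace = τ := by
    simp [X2, Matrix.trace_fin_two]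
  have hX12 : X1 * X2 = comp γ 1 := by
    ext i j
    fin_cases i <;> fin_cases j <;>
      simp [X1, X2, Helper5_GL2.comp, Matrix.mul_apply, Fin.sum_univ_two] <;>
      first | ring1 | linear_combination hsol | linear_combination -hsol | linear_combination γ * hsol | linear_combination -γ * hsol
  let Y1 : SL2 := ⟨(P' : M2) * X1 * ((P'⁻¹ : GL (Fin 2) F) : M2), by rw [Matrix.det_units_conj, hX1d]⟩
  let Y2 : SL2 := ⟨(P' : M2) * X2 * ((P'⁻¹ : GL (Fin 2) F) : M2), by rw [Matrix.det_units_conj, hX2d]⟩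
  have hY1t : (Y1 : M2).trace = τ := by
    show ((P' : M2) * X1 * ((P'⁻¹ : GL (Fin 2) F) : M2)).trace = τ
    rw [Matrix.trace_units_conj, hX1t]
  have hY2t : (Y2 : M2).trace = τ := by
    show ((P' : M2) * X2 * ((P'⁻¹ : GL (Fin 2) F) : M2)).trace = τ
    rw [Matrix.trace_units_conj, hX2t]
  have hinv : ((P'⁻¹ : GL (Fin 2) F) : M2) * (P' : M2) = 1 := by
    rw [← Units.val_mul, inv_mul_cancel, Units.val_one]
  have hinv' : (P' : M2) * ((P'⁻¹ : GL (Fin 2) F) : M2) = 1 := by
    rw [← Units.val_mul, mul_inv_cancel, Units.val_one]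
  have hY12 : G = Y1 * Y2 := by
    apply Subtype.ext
    show (G : M2) = ((P' : M2) * X1 * ((P'⁻¹ : GL (Fin 2) F) : M2)) * ((P' : M2) * X2 * ((P'⁻¹ : GL (Fin 2) F) : M2))
    calc (G : M2) = (G : M2) * ((P' : M2) * ((P'⁻¹ : GL (Fin 2) F) : M2)) := by rw [hinv', mul_one]
      _ = (P' : M2) * (X1 * X2) * ((P'⁻¹ : GL (Fin 2) F) : M2) := by rw [← mul_assoc, hP', hrel, hX12]
      _ = (P' : M2) * X1 * (((P'⁻¹ : GL (Fin 2) F) : M2) * (P' : M2)) * X2 * ((P'⁻¹ : GL (Fin 2) F) : M2) := by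
          rw [hinv, mul_one, mul_assoc (P' : M2) X1 X2]
      _ = _ := by simp only [mul_assoc]
  have hXns : NS (X : M2) := ns_of_trace _ X.2 hτ
  have c1 : IsConj X Y1 := isConj_of_trace X Y1 hXns (ns_of_trace _ Y1.2 (by rw [hY1t]; exact hτ)) hY1t.symm hnorm
  have c2 : IsConj X Y2 := isConj_of_trace X Y2 hXns (ns_of_trace _ Y2.2 (by rw [hY2t]; exact hτ)) hY2t.symm hnorm
  rw [isConj_iff] at c1 c2
  obtain ⟨u, hu⟩ := c1
  obtain ⟨v, hv⟩ := c2
  exact ⟨u, v, by rw [hu, hv, hY12]⟩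

/-- norms in the split case -/
theorem norm_split (a : F) (ha0 : a ≠ 0) (haa : a ≠ a⁻¹) (lam : F) :
    ∃ s t : F, s ^ 2 + (a + a⁻¹) * s * t + t ^ 2 = lam := by
  have hd : a - a⁻¹ ≠ 0 := sub_ne_zero.2 haa
  refine ⟨1 - (lam - 1) / (a - a⁻¹) * a⁻¹, (lam - 1) / (a - a⁻¹), ?_⟩
  have h1 : ∀ s t : F, s ^ 2 + (a + a⁻¹) * s * t + t ^ 2 = (s + t * a) * (s + t * a⁻¹) := by
    intro s t
    have : a * a⁻¹ = 1 := mul_inv_cancel₀ ha0
    linear_combination (-t ^ 2) * this
  rw [h1]
  have h2 : 1 - (lam - 1) / (a - a⁻¹) * a⁻¹ + (lam - 1) / (a - a⁻¹) * a⁻¹ = 1 := by ring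
  have h3 : 1 - (lam - 1) / (a - a⁻¹) * a⁻¹ + (lam - 1) / (a - a⁻¹) * a = lam := by
    have : (lam - 1) / (a - a⁻¹) * (a - a⁻¹) = lam - 1 := div_mul_cancel₀ _ hd
    linear_combination this
  rw [h2, h3, mul_one]

theorem cayley (A : M2) (hdet : A.det = 1) : A * A - A.trace • A + 1 = 0 := by
  rw [Matrix.det_fin_two] at hdet
  ext i j
  fin_cases i <;> fin_cases j <;>
    simp [Matrix.mul_apply, Fin.sum_univ_two, Matrix.trace_fin_two] <;>
    first | linear_combination -hdet | ring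

/-- double eigenvalue: the `p`-th power is scalar -/
theorem pow_char_scalar (p : ℕ) [Fact p.Prime] [CharP F p] (A : M2) (hdet : A.det = 1) (a : F)
    (ha2 : a ^ 2 = 1) (htr : A.trace = 2 * a) : A ^ p = a ^ p • (1 : M2) := by
  have hp : p.Prime := Fact.out
  have hCH := cayley A hdet
  have hfac : (A - a • 1) * (A - a • 1) = 0 := by
    have : (A - a • 1) * (A - a • 1) = A * A - A.trace • A + 1 := by
      simp only [sub_mul, mul_sub, smul_mul_assoc, mul_smul_comm, one_mul, mul_one, smul_sub, smul_smul]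
      rw [← pow_two a, ha2, htr, two_mul, add_smul, one_smul]
      abel
    rw [this, hCH]
  have hcomm : Commute (A - a • 1) (a • (1 : M2)) := by
    apply Commute.smul_right
    exact Commute.one_right _
  have h1 : A = (A - a • 1) + a • 1 := by abel
  have h2 : (A - a • 1) ^ p = 0 := by
    have : (A - a • 1) ^ 2 = 0 := by rw [pow_two, hfac]
    exact pow_eq_zero_of_le hp.two_le this
  haveI : CharP M2 p := inferInstance
  conv_lhs => rw [h1]
  rw [add_pow_char_of_commute _ hcomm, h2, zero_add, _root_.smul_pow, one_pow]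

/-- the square of the trace is a class invariant of `PSL₂` -/
theorem trace_sq_of_isConj (g h : SL2) (hc : IsConj (mkP F 2 g) (mkP F 2 h)) :
    (h : M2).trace ^ 2 = (g : M2).trace ^ 2 := by
  rw [isConj_iff] at hc
  obtain ⟨x, hx⟩ := hc
  obtain ⟨X, rfl⟩ := QuotientGroup.mk'_surjective _ x
  rw [← map_inv, ← map_mul, ← map_mul] at hx
  have h1 : (X * g * X⁻¹)⁻¹ * h ∈ Subgroup.center SL2 := QuotientGroup.eq.1 hx
  obtain ⟨r, hr1, hr⟩ := Matrix.SpecialLinearGroup.mem_center_iff.1 h1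
  have h2 : h = (X * g * X⁻¹) * ((X * g * X⁻¹)⁻¹ * h) := by rw [mul_inv_cancel_left]
  have h3 : (h : M2) = r • ((X * g * X⁻¹ : SL2) : M2) := by
    conv_lhs => rw [h2]
    rw [Matrix.SpecialLinearGroup.coe_mul, ← hr, Matrix.scalar_apply, ← Matrix.smul_one_eq_diagonal,
      mul_smul_comm, mul_one]
  have h4 : ((X * g * X⁻¹ : SL2) : M2).trace = (g : M2).trace :=
    (sl_isConj_trace (isConj_iff.2 ⟨X, rfl⟩)).symm
  rw [h3, Matrix.trace_smul, h4, smul_eq_mul, mul_pow]
  simp only [Fintype.card_fin] at hr1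
  rw [hr1, one_mul]

/-- minus a matrix -/
def negS (g : SL2) : SL2 := ⟨-(g : M2), by
  rw [Matrix.det_neg, g.2]; simp⟩

theorem negS_val (g : SL2) : (negS g : M2) = -(g : M2) := rfl

theorem mkP_negS (g : SL2) : mkP F 2 (negS g) = mkP F 2 g := by
  symm
  apply QuotientGroup.eq.2
  rw [Matrix.SpecialLinearGroup.mem_center_iff]
  refine ⟨-1, by simp, ?_⟩
  rw [Matrix.SpecialLinearGroup.coe_mul, negS_val, mul_neg, ← Matrix.SpecialLinearGroup.coe_mul, inv_mul_cancel,
    Matrix.SpecialLinearGroup.coe_one]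
  ext i j
  simp [Matrix.scalar_apply, Matrix.diagonal_apply, Matrix.one_apply]
  split_ifs <;> simp

theorem ns_neg (A : M2) (h : NS A) : NS (-A) := by
  rintro ⟨c, hc⟩
  exact h ⟨-c, by rw [neg_smul, ← hc, neg_neg]⟩

theorem conj_entry (u g : SL2) : ((u * g * u⁻¹ : SL2) : M2) 1 0 =
    (u : M2) 1 0 * (u : M2) 1 1 * (g : M2) 0 0 + (u : M2) 1 1 ^ 2 * (g : M2) 1 0 - (u : M2) 1 0 ^ 2 * (g : M2) 0 1
      - (u : M2) 1 0 * (u : M2) 1 1 * (g : M2) 1 1 := by
  rw [Matrix.SpecialLinearGroup.coe_mul, Matrix.SpecialLinearGroup.coe_mul, Matrix.SpecialLinearGroup.coe_inv,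
    Matrix.adjugate_fin_two, Matrix.mul_apply, Fin.sum_univ_two, Matrix.mul_apply, Matrix.mul_apply, Fin.sum_univ_two,
    Fin.sum_univ_two]
  simp
  ring

/-- a nonscalar element has a conjugate with nonzero lower left entry -/
theorem exists_conj_lower (g : SL2) (hg : NS (g : M2)) : ∃ u : SL2, ((u * g * u⁻¹ : SL2) : M2) 1 0 ≠ 0 := by
  by_cases h10 : (g : M2) 1 0 = 0
  · by_cases h01 : (g : M2) 0 1 = 0
    · obtain ⟨u, hu⟩ : ∃ u : SL2, (u : M2) = !![1, 0; 1, 1] := ⟨⟨_, by simp [Matrix.det_fin_two_of]⟩, rfl⟩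
      refine ⟨u, ?_⟩
      rw [conj_entry, hu]
      simp [h10, h01]
      intro h
      apply hg
      refine ⟨(g : M2) 0 0, ?_⟩
      ext i j
      fin_cases i <;> fin_cases j <;> simp [h10, h01]
      linear_combination -h
    · obtain ⟨u, hu⟩ : ∃ u : SL2, (u : M2) = !![0, 1; -1, 0] := ⟨⟨_, by simp [Matrix.det_fin_two_of]⟩, rfl⟩
      refine ⟨u, ?_⟩
      rw [conj_entry, hu]
      simp [h10, h01]
  · exact ⟨1, by simpa using h10⟩

section finite

variable [Fintype F]

open Polynomial in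
theorem root_or_irr (A : M2) (hdet : A.det = 1) :
    (∃ c : F, A ^ sm (Fintype.card F) 2 = c • (1 : M2)) ∨ ∃ a : F, a ≠ 0 ∧ A.trace = a + a⁻¹ := by
  have hCH := cayley A hdet
  set f : F[X] := X ^ 2 - C A.trace * X + 1 with hf
  have hfA : aeval A f = 0 := by
    rw [hf]
    simp only [map_add, map_sub, map_mul, map_pow, aeval_X, aeval_C, map_one]
    rw [Algebra.algebraMap_eq_smul_one, smul_mul_assoc, one_mul, pow_two]
    exact hCH
  have hfdeg : f.natDegree = 2 := by
    rw [hf]; compute_degree!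
  by_cases hirr : Irreducible f
  · left
    exact pow_gs_eq_one A hdet f hirr hfA
  · right
    have hroot : ∃ a, f.IsRoot a := by
      by_contra hno
      apply hirr
      rw [Polynomial.irreducible_iff_roots_eq_zero_of_degree_le_three (by omega) (by omega)]
      rw [Multiset.eq_zero_iff_forall_notMem]
      intro a ha
      exact hno ⟨a, (Polynomial.mem_roots'.1 ha).2⟩
    obtain ⟨a, ha⟩ := hroot
    have ha' : a ^ 2 - A.trace * a + 1 = 0 := by
      have := ha
      rw [Polynomial.IsRoot.def, hf] at this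
      simpa using this
    have ha0 : a ≠ 0 := by
      rintro rfl
      simp at ha'
    refine ⟨a, ha0, ?_⟩
    field_simp
    linear_combination -ha'

theorem two_ne (hodd : Odd (Fintype.card F)) : (2 : F) ≠ 0 := by
  apply Ring.two_ne_zero
  intro h
  have := FiniteField.even_card_of_char_two h
  rw [Nat.odd_iff] at hodd
  omega

theorem exists_norm (hodd : Odd (Fintype.card F)) (τ lam : F) (hτ : τ ^ 2 ≠ 4) :
    ∃ a b : F, a ^ 2 + τ * a * b + b ^ 2 = lam := by
  have h2 := two_ne hodd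
  have h4 : (4 : F) ≠ 0 := by
    have : (4 : F) = 2 * 2 := by norm_num
    rw [this]; exact mul_ne_zero h2 h2
  have hD : 1 - τ ^ 2 / 4 ≠ 0 := by
    intro h
    apply hτ
    field_simp at h
    linear_combination -h
  obtain ⟨X, b, hXb⟩ := FiniteField.exists_root_sum_quadratic (R := F)
    (f := Polynomial.X ^ 2) (g := Polynomial.C (1 - τ ^ 2 / 4) * Polynomial.X ^ 2 + Polynomial.C 0 * Polynomial.X + Polynomial.C (-lam))
    (Polynomial.degree_X_pow 2) (Polynomial.degree_quadratic hD) (Nat.odd_iff.1 hodd)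
  simp only [Polynomial.eval_pow, Polynomial.eval_X, Polynomial.eval_add, Polynomial.eval_mul, Polynomial.eval_C] at hXb
  refine ⟨X - τ * b / 2, b, ?_⟩
  field_simp
  field_simp at hXb
  linear_combination hXb

theorem conic (hodd : Odd (Fintype.card F)) (τ γ : F) (hτ : τ ≠ 0) (hγ : γ ≠ 2) :
    ∃ x z : F, x ^ 2 + γ * x * z + z ^ 2 - τ * (x + z) + 1 = 0 := by
  have h2 := two_ne hodd
  have h4 : (4 : F) ≠ 0 := by
    have : (4 : F) = 2 * 2 := by norm_num
    rw [this]; exact mul_ne_zero h2 h2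
  by_cases hγ' : γ = -2
  · refine ⟨1 / (2 * τ), 1 / (2 * τ), ?_⟩
    rw [hγ']
    field_simp
    ring
  · have hA : (2 - γ) / 4 ≠ 0 := div_ne_zero (sub_ne_zero.2 (Ne.symm hγ)) h4
    have hB : (2 + γ) / 4 ≠ 0 := by
      apply div_ne_zero _ h4
      intro h
      apply hγ'
      linear_combination h
    obtain ⟨u, v, huv⟩ := FiniteField.exists_root_sum_quadratic (R := F)
      (f := Polynomial.C ((2 - γ) / 4) * Polynomial.X ^ 2 + Polynomial.C 0 * Polynomial.X + Polynomial.C 0)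
      (g := Polynomial.C ((2 + γ) / 4) * Polynomial.X ^ 2 + Polynomial.C (-τ) * Polynomial.X + Polynomial.C 1)
      (Polynomial.degree_quadratic hA) (Polynomial.degree_quadratic hB) (Nat.odd_iff.1 hodd)
    simp only [Polynomial.eval_pow, Polynomial.eval_X, Polynomial.eval_add, Polynomial.eval_mul, Polynomial.eval_C] at huv
    refine ⟨(v + u) / 2, (v - u) / 2, ?_⟩
    field_simp
    field_simp at huv
    linear_combination huv

end finite

end Cfsg.Agent.Lib.Helper5_PSL2Prod
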