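import Cfsg.Agent.Lib.Helper5_PSL2Prod
import Cfsg.Agent.Lib.Helper5_Card

set_option autoImplicit false

namespace Cfsg.Agent.Lib.Helper5_SL2Cent

open Matrix Cfsg.Agent.Lib.Helper5_PSLSpec Cfsg.Agent.Lib.Helper5_GL2 Cfsg.Agent.Lib.Helper5_PSL2Prod

variable {F : Type*} [Field F]

local notation "SL2" => Matrix.SpecialLinearGroup (Fin 2) F
local notation "M2" => Matrix (Fin 2) (Fin 2) F

/-- the commutant of a nonscalar matrix -/
theorem commutant (g h : M2) (hg : NS g) (hc : h * g = g * h) : ∃ x y : F, h = x • (1 : M2) + y • g := by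
  have e00 := congrFun (congrFun hc 0) 0
  have e01 := congrFun (congrFun hc 0) 1
  have e10 := congrFun (congrFun hc 1) 0
  simp only [Matrix.mul_apply, Fin.sum_univ_two] at e00 e01 e10
  rw [Matrix.eta_fin_two g, Matrix.eta_fin_two h] at *
  simp only [Matrix.of_apply, Matrix.cons_val_zero, Matrix.cons_val_one, Matrix.cons_val', Matrix.cons_val_fin_one] at e00 e01 e10
  generalize g 0 0 = a at *
  generalize g 0 1 = b at *
  generalize g 1 0 = c at *
  generalize g 1 1 = d at *
  generalize h 0 0 = a' at *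
  generalize h 0 1 = b' at *
  generalize h 1 0 = c' at *
  generalize h 1 1 = d' at *
  have key : ∀ x y : F, a' = x + y * a → b' = y * b → c' = y * c → d' = x + y * d →
      !![a', b'; c', d'] = x • (1 : M2) + y • !![a, b; c, d] := by
    intro x y h1 h2 h3 h4
    ext i j
    fin_cases i <;> fin_cases j <;> simp [h1, h2, h3, h4]
  by_cases hc0 : c = 0
  · by_cases hb0 : b = 0
    · have had : a - d ≠ 0 := by
        intro h
        apply hg
        refine ⟨a, ?_⟩
        have : d = a := (sub_eq_zero.1 h).symm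
        ext i j
        fin_cases i <;> fin_cases j <;> simp [hc0, hb0, this]
      subst hc0 hb0
      have hb' : b' = 0 := by
        have : b' * (a - d) = 0 := by linear_combination -e01
        exact (mul_eq_zero.1 this).resolve_right had
      have hc' : c' = 0 := by
        have : c' * (a - d) = 0 := by linear_combination e10
        exact (mul_eq_zero.1 this).resolve_right had
      refine ⟨a' - (a' - d') / (a - d) * a, (a' - d') / (a - d), key _ _ (by ring) (by simp [hb']) (by simp [hc']) ?_⟩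
      field_simp
      ring
    · subst hc0
      have hc' : c' = 0 := by
        have : b * c' = 0 := by linear_combination -e00
        exact (mul_eq_zero.1 this).resolve_left hb0
      refine ⟨a' - b' / b * a, b' / b, key _ _ (by ring) (by field_simp) (by simp [hc']) ?_⟩
      field_simp
      linear_combination -e01
  · refine ⟨a' - c' / c * a, c' / c, key _ _ (by ring) ?_ (by field_simp) ?_⟩
    · field_simp
      linear_combination e00
    · field_simp
      linear_combination e10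

/-- the norm form -/
def nf (τ : F) (z : F × F) : F := z.1 ^ 2 + τ * z.1 * z.2 + z.2 ^ 2

theorem det_lin (g : SL2) (x y : F) : (x • (1 : M2) + y • (g : M2)).det = nf (g : M2).trace (x, y) := by
  unfold nf
  rw [Matrix.trace_fin_two]
  have hg := g.2
  rw [Matrix.det_fin_two] at hg ⊢
  simp only [Matrix.add_apply, Matrix.smul_apply, Matrix.one_apply_eq, smul_eq_mul, mul_one]
  simp only [Matrix.one_apply_ne (show (0 : Fin 2) ≠ 1 by decide), Matrix.one_apply_ne (show (1 : Fin 2) ≠ 0 by decide),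
    mul_zero, zero_add]
  linear_combination (y ^ 2) * hg

/-- the element `x + y g` -/
def lin (g : SL2) (z : F × F) (hz : nf (g : M2).trace z = 1) : SL2 :=
  ⟨z.1 • (1 : M2) + z.2 • (g : M2), by rw [det_lin]; exact hz⟩

theorem lin_val (g : SL2) (z : F × F) (hz : nf (g : M2).trace z = 1) :
    (lin g z hz : M2) = z.1 • (1 : M2) + z.2 • (g : M2) := rfl

theorem lin_mem (g : SL2) (z : F × F) (hz : nf (g : M2).trace z = 1) :
    lin g z hz ∈ Subgroup.centralizer ({g} : Set SL2) := by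
  rw [Subgroup.mem_centralizer_singleton_iff]
  apply Subtype.ext
  rw [Matrix.SpecialLinearGroup.coe_mul, Matrix.SpecialLinearGroup.coe_mul, lin_val]
  rw [add_mul, mul_add, smul_mul_assoc, smul_mul_assoc, mul_smul_comm, mul_smul_comm, one_mul, mul_one]

theorem card_centralizer (g : SL2) (hg : NS (g : M2)) :
    Nat.card (Subgroup.centralizer ({g} : Set SL2)) = Nat.card {z : F × F // nf (g : M2).trace z = 1} := by
  symm
  apply Nat.card_congr
  refine Equiv.ofBijective (fun z => ⟨lin g z.1 z.2, lin_mem g z.1 z.2⟩) ⟨?_, ?_⟩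
  · rintro ⟨⟨x, y⟩, hz⟩ ⟨⟨x', y'⟩, hz'⟩ h
    have h1 : x • (1 : M2) + y • (g : M2) = x' • (1 : M2) + y' • (g : M2) :=
      congrArg (fun t : Subgroup.centralizer ({g} : Set SL2) => ((t : SL2) : M2)) h
    have hy : y = y' := by
      by_contra hne
      apply hg
      refine ⟨(x' - x) / (y - y'), ?_⟩
      have h2 : (y - y') • (g : M2) = (x' - x) • (1 : M2) := by
        rw [sub_smul, sub_smul]
        rw [sub_eq_sub_iff_add_eq_add]
        rw [add_comm, h1, add_comm]
      have h3 : y - y' ≠ 0 := sub_ne_zero.2 hne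
      rw [div_eq_inv_mul, mul_smul, ← h2, smul_smul, inv_mul_cancel₀ h3, one_smul]
    subst hy
    have hx : x = x' := by
      have h2 := add_right_cancel h1
      have := congrFun (congrFun h2 0) 0
      simpa using this
    subst hx
    rfl
  · rintro ⟨h, hh⟩
    rw [Subgroup.mem_centralizer_singleton_iff] at hh
    obtain ⟨x, y, hxy⟩ := commutant (g : M2) (h : M2) hg (congrArg Subtype.val hh)
    refine ⟨⟨(x, y), ?_⟩, ?_⟩
    · rw [← det_lin, ← hxy]; exact h.2
    · apply Subtype.ext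
      apply Subtype.ext
      exact hxy.symm

theorem nf_split (a : F) (ha0 : a ≠ 0) (z : F × F) :
    nf (a + a⁻¹) z = (z.1 + z.2 * a) * (z.1 + z.2 * a⁻¹) := by
  unfold nf
  have : a * a⁻¹ = 1 := mul_inv_cancel₀ ha0
  linear_combination (-z.2 ^ 2) * this

/-- multiplication in `F[g]` -/
def mulz (τ : F) (z0 z : F × F) : F × F :=
  (z.1 * z0.1 - z.2 * z0.2, z.1 * z0.2 + z0.1 * z.2 + τ * z.2 * z0.2)

theorem nf_mulz (τ : F) (z0 z : F × F) : nf τ (mulz τ z0 z) = nf τ z * nf τ z0 := by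
  unfold nf mulz
  ring

/-- conjugation in `F[g]` -/
def conjz (τ : F) (z : F × F) : F × F := (z.1 + τ * z.2, -z.2)

theorem nf_conjz (τ : F) (z : F × F) : nf τ (conjz τ z) = nf τ z := by
  unfold nf conjz
  ring

theorem mulz_conjz (τ : F) (z0 z : F × F) : mulz τ (conjz τ z0) (mulz τ z0 z) = nf τ z0 • z := by
  unfold nf conjz mulz
  ext <;> simp <;> ring

theorem mulz_conjz' (τ : F) (z0 z : F × F) : mulz τ z0 (mulz τ (conjz τ z0) z) = nf τ z0 • z := by
  unfold nf conjz mulz
  ext <;> simp <;> ring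

theorem nf_smul (τ c : F) (z : F × F) : nf τ (c • z) = c ^ 2 * nf τ z := by
  unfold nf
  simp
  ring

theorem mulz_smul (τ c : F) (z0 z : F × F) : mulz τ z0 (c • z) = c • mulz τ z0 z := by
  unfold mulz
  ext <;> simp <;> ring

theorem card_fiber (τ lam : F) (hlam : lam ≠ 0) (z0 : F × F) (hz0 : nf τ z0 = lam) :
    Nat.card {z : F × F // nf τ z = lam} = Nat.card {z : F × F // nf τ z = 1} := by
  symm
  apply Nat.card_congr
  refine ⟨fun z => ⟨mulz τ z0 z.1, by rw [nf_mulz, z.2, hz0, one_mul]⟩,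
    fun w => ⟨lam⁻¹ • mulz τ (conjz τ z0) w.1, by
      rw [nf_smul, nf_mulz, nf_conjz, hz0, w.2]
      field_simp⟩, ?_, ?_⟩
  · intro z
    apply Subtype.ext
    show lam⁻¹ • mulz τ (conjz τ z0) (mulz τ z0 z.1) = z.1
    rw [mulz_conjz, hz0, smul_smul, inv_mul_cancel₀ hlam, one_smul]
  · intro w
    apply Subtype.ext
    show mulz τ z0 (lam⁻¹ • mulz τ (conjz τ z0) w.1) = w.1
    rw [mulz_smul, mulz_conjz', hz0, smul_smul, inv_mul_cancel₀ hlam, one_smul]

theorem aniso_or_root (τ : F) : (∀ z : F × F, nf τ z = 0 → z = 0) ∨ ∃ a : F, a ≠ 0 ∧ τ = a + a⁻¹ := by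
  by_cases h : ∀ z : F × F, nf τ z = 0 → z = 0
  · exact Or.inl h
  · right
    push Not at h
    obtain ⟨⟨x, y⟩, hz, hne⟩ := h
    unfold nf at hz
    simp only at hz
    have hy : y ≠ 0 := by
      rintro rfl
      apply hne
      have : x ^ 2 = 0 := by linear_combination hz
      rw [pow_eq_zero_iff (by norm_num)] at this
      rw [this]; rfl
    have hx : x ≠ 0 := by
      rintro rfl
      apply hy
      have : y ^ 2 = 0 := by linear_combination hz
      rwa [pow_eq_zero_iff (by norm_num)] at this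
    refine ⟨-x / y, div_ne_zero (neg_ne_zero.2 hx) hy, ?_⟩
    field_simp
    linear_combination hz

theorem index_comap (g : SL2) : (Subgroup.centralizer ({mkP F 2 g} : Set (Matrix.ProjectiveSpecialLinearGroup (Fin 2) F))).index =
    ((Subgroup.centralizer ({mkP F 2 g} : Set (Matrix.ProjectiveSpecialLinearGroup (Fin 2) F))).comap (mkP F 2)).index :=
  (Subgroup.index_comap_of_surjective _ (QuotientGroup.mk'_surjective _)).symm

theorem mkP_eq_iff (g h : SL2) : mkP F 2 g = mkP F 2 h ↔ (h : M2) = (g : M2) ∨ (h : M2) = -(g : M2) := by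
  constructor
  · intro hgh
    have h1 : g⁻¹ * h ∈ Subgroup.center SL2 := QuotientGroup.eq.1 hgh
    obtain ⟨r, hr1, hr⟩ := Matrix.SpecialLinearGroup.mem_center_iff.1 h1
    have h2 : h = g * (g⁻¹ * h) := by rw [mul_inv_cancel_left]
    have h3 : (h : M2) = r • (g : M2) := by
      conv_lhs => rw [h2]
      rw [Matrix.SpecialLinearGroup.coe_mul, ← hr, Matrix.scalar_apply, ← Matrix.smul_one_eq_diagonal,
        mul_smul_comm, mul_one]
    simp only [Fintype.card_fin] at hr1
    rcases sq_eq_one_iff.1 hr1 with rfl | rfl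
    · left; rw [h3, one_smul]
    · right; rw [h3, neg_smul, one_smul]
  · rintro (h1 | h1)
    · rw [show h = g from Subtype.ext h1]
    · rw [show h = negS g from Subtype.ext h1, mkP_negS]

section count

variable [Fintype F]

theorem exists_not_root : ∃ τ : F, ¬ ∃ a : F, a ≠ 0 ∧ τ = a + a⁻¹ := by
  classical
  by_contra hcon
  push Not at hcon
  have hsurj : Function.Surjective (fun u : Fˣ => (u : F) + ((u⁻¹ : Fˣ) : F)) := by
    intro τ
    obtain ⟨a, ha0, ha⟩ := hcon τ
    exact ⟨Units.mk0 a ha0, by simp [ha]⟩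
  have := Fintype.card_le_of_surjective _ hsurj
  rw [Fintype.card_units] at this
  have h2 : 2 ≤ Fintype.card F := Fintype.one_lt_card
  omega

theorem card_nf_split (a : F) (ha0 : a ≠ 0) (haa : a ≠ a⁻¹) :
    Nat.card {z : F × F // nf (a + a⁻¹) z = 1} = Fintype.card F - 1 := by
  classical
  rw [← Fintype.card_units, ← Nat.card_eq_fintype_card]
  have hd : a - a⁻¹ ≠ 0 := sub_ne_zero.2 haa
  apply Nat.card_congr
  refine ⟨fun z => ⟨z.1.1 + z.1.2 * a, z.1.1 + z.1.2 * a⁻¹, by rw [← nf_split a ha0]; exact z.2,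
      by rw [mul_comm, ← nf_split a ha0]; exact z.2⟩,
    fun u => ⟨((u : F) - ((u : F) - ((u⁻¹ : Fˣ) : F)) / (a - a⁻¹) * a, ((u : F) - ((u⁻¹ : Fˣ) : F)) / (a - a⁻¹)), ?_⟩, ?_, ?_⟩
  · rw [nf_split a ha0]
    have h1 : (u : F) - ((u : F) - ((u⁻¹ : Fˣ) : F)) / (a - a⁻¹) * a + ((u : F) - ((u⁻¹ : Fˣ) : F)) / (a - a⁻¹) * a = u := by
      ring
    have h2 : (u : F) - ((u : F) - ((u⁻¹ : Fˣ) : F)) / (a - a⁻¹) * a + ((u : F) - ((u⁻¹ : Fˣ) : F)) / (a - a⁻¹) * a⁻¹
        = ((u⁻¹ : Fˣ) : F) := by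
      have : ((u : F) - ((u⁻¹ : Fˣ) : F)) / (a - a⁻¹) * (a - a⁻¹) = (u : F) - ((u⁻¹ : Fˣ) : F) := div_mul_cancel₀ _ hd
      linear_combination -this
    simp only
    rw [h1, h2, Units.mul_inv]
  · rintro ⟨⟨x, y⟩, hz⟩
    apply Subtype.ext
    have hy : ((x + y * a) - (x + y * a⁻¹)) / (a - a⁻¹) = y := by
      rw [div_eq_iff hd]
      ring
    show ((x + y * a) - ((x + y * a) - (x + y * a⁻¹)) / (a - a⁻¹) * a, ((x + y * a) - (x + y * a⁻¹)) / (a - a⁻¹)) = (x, y)
    rw [hy]
    ext <;> simp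
  · intro u
    apply Units.ext
    show (u : F) - ((u : F) - ((u⁻¹ : Fˣ) : F)) / (a - a⁻¹) * a + ((u : F) - ((u⁻¹ : Fˣ) : F)) / (a - a⁻¹) * a = u
    ring

theorem card_nf_double (a : F) (ha : a ^ 2 = 1) :
    Nat.card {z : F × F // nf (2 * a) z = 1} = Nat.card {s : F // s ^ 2 = 1} * Fintype.card F := by
  have hnf : ∀ z : F × F, nf (2 * a) z = (z.1 + a * z.2) ^ 2 := by
    intro z
    unfold nf
    linear_combination (-z.2 ^ 2) * ha
  rw [← Nat.card_eq_fintype_card (α := F), ← Nat.card_prod]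
  apply Nat.card_congr
  refine ⟨fun z => (⟨z.1.1 + a * z.1.2, by rw [← hnf]; exact z.2⟩, z.1.2),
    fun w => ⟨(w.1.1 - a * w.2, w.2), by rw [hnf]; simp only [sub_add_cancel]; exact w.1.2⟩, ?_, ?_⟩
  · rintro ⟨⟨x, y⟩, hz⟩
    apply Subtype.ext
    ext <;> simp
  · rintro ⟨⟨s, hs⟩, y⟩
    ext <;> simp

theorem card_nf_aniso (τ : F) (haniso : ∀ z : F × F, nf τ z = 0 → z = 0)
    (hsurj : ∀ lam : F, lam ≠ 0 → ∃ z, nf τ z = lam) :
    Nat.card {z : F × F // nf τ z = 1} = Fintype.card F + 1 := by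
  classical
  set N1 := Nat.card {z : F × F // nf τ z = 1} with hN1
  set q := Fintype.card F with hq
  have hq2 : 2 ≤ q := Fintype.one_lt_card
  have h0 : Nat.card {z : F × F // nf τ z = 0} = 1 := by
    rw [Nat.card_eq_one_iff_unique]
    refine ⟨⟨?_⟩, ⟨⟨0, by simp [nf]⟩⟩⟩
    rintro ⟨z, hz⟩ ⟨w, hw⟩
    apply Subtype.ext
    exact (haniso z hz).trans (haniso w hw).symm
  have htot : q * q = ∑ lam : F, Nat.card {z : F × F // nf τ z = lam} := by
    have h1 : Fintype.card (F × F) = Fintype.card (Σ lam : F, {z : F × F // nf τ z = lam}) :=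
      Fintype.card_congr (Equiv.sigmaFiberEquiv (nf τ)).symm
    rw [Fintype.card_prod, Fintype.card_sigma] at h1
    rw [h1]
    apply Finset.sum_congr rfl
    intro lam _
    rw [Nat.card_eq_fintype_card]
  rw [← Finset.add_sum_erase _ _ (Finset.mem_univ (0 : F)), h0] at htot
  have h2 : ∑ lam ∈ (Finset.univ : Finset F).erase 0, Nat.card {z : F × F // nf τ z = lam} = (q - 1) * N1 := by
    rw [Finset.sum_congr rfl (fun lam hlam => by
      obtain ⟨z0, hz0⟩ := hsurj lam (Finset.ne_of_mem_erase hlam)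
      exact card_fiber τ lam (Finset.ne_of_mem_erase hlam) z0 hz0)]
    rw [Finset.sum_const, Finset.card_erase_of_mem (Finset.mem_univ _), Finset.card_univ, smul_eq_mul]
  rw [h2] at htot
  obtain ⟨r, hr⟩ : ∃ r, q = r + 1 := ⟨q - 1, by omega⟩
  rw [hr] at htot ⊢
  simp only [Nat.add_sub_cancel] at htot
  have hr0 : 0 < r := by omega
  have h3 : r * N1 = r * (r + 1 + 1) := by nlinarith
  exact Nat.eq_of_mul_eq_mul_left hr0 h3

end count

end Cfsg.Agent.Lib.Helper5_SL2Cent
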