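import Mathlib
import Cfsg.Agent.Lib.Helper7_Conj

set_option autoImplicit false

namespace Cfsg.Agent.Lib.Helper7_TI

open Cfsg.Agent.Lib.Helper7_Conj
open scoped Pointwise

variable {G : Type*} [Group G]

theorem mem_sylow_smul {p : ℕ} (g y : G) (P : Sylow p G) :
    y ∈ g • P ↔ g⁻¹ * y * g ∈ P := by
  change y ∈ ((g • P : Sylow p G) : Subgroup G) ↔ _
  rw [Sylow.coe_subgroup_smul, mem_smul_conj]
  rfl

theorem sylow_smul_eq_iff_mem_normalizer' {p : ℕ} (g : G) (P : Sylow p G) :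
    g • P = P ↔ g ∈ Subgroup.normalizer ((P : Subgroup G) : Set G) := by
  rw [mem_normalizer_iff_cj, cj_eq_smul, ← Sylow.coe_subgroup_smul]
  constructor
  · intro h; rw [h]
  · intro h; exact Sylow.ext h

/-- TI in the normalizer form implies that distinct Sylow subgroups meet trivially. -/
theorem ti_pairwise [Finite G] {p : ℕ} [Fact p.Prime] (P : Sylow p G)
    (hTI : ∀ g : G, g ∉ Subgroup.normalizer ((P : Subgroup G) : Set G) →
      (P : Subgroup G) ⊓ (MulAut.conj g • (P : Subgroup G)) = ⊥)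
    (P1 P2 : Sylow p G) (hne : P1 ≠ P2) : (P1 : Subgroup G) ⊓ (P2 : Subgroup G) = ⊥ := by
  obtain ⟨a, rfl⟩ := MulAction.exists_smul_eq G P P1
  obtain ⟨b, rfl⟩ := MulAction.exists_smul_eq G P P2
  have hab : a⁻¹ * b ∉ Subgroup.normalizer ((P : Subgroup G) : Set G) := by
    intro h
    rw [← sylow_smul_eq_iff_mem_normalizer', mul_smul, inv_smul_eq_iff] at h
    exact hne h.symm
  rw [eq_bot_iff]
  intro y hy
  obtain ⟨hy1, hy2⟩ := Subgroup.mem_inf.1 hy
  have hy1' : a⁻¹ * y * a ∈ (P : Subgroup G) := (mem_sylow_smul a y P).1 hy1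
  have hy2' : b⁻¹ * y * b ∈ (P : Subgroup G) := (mem_sylow_smul b y P).1 hy2
  have h1 : a⁻¹ * y * a ∈ (P : Subgroup G) ⊓ (MulAut.conj (a⁻¹ * b) • (P : Subgroup G)) := by
    refine Subgroup.mem_inf.2 ⟨hy1', mem_smul_conj.2 ?_⟩
    convert hy2' using 1
    group
  rw [hTI _ hab, Subgroup.mem_bot] at h1
  rw [Subgroup.mem_bot]
  have : y = a * (a⁻¹ * y * a) * a⁻¹ := by group
  rw [this, h1]; group

/-- Conversely. -/
theorem ti_of_pairwise {p : ℕ} (P : Sylow p G)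
    (h : ∀ P2 : Sylow p G, P ≠ P2 → (P : Subgroup G) ⊓ (P2 : Subgroup G) = ⊥) :
    ∀ g : G, g ∉ Subgroup.normalizer ((P : Subgroup G) : Set G) →
      (P : Subgroup G) ⊓ (MulAut.conj g • (P : Subgroup G)) = ⊥ := by
  intro g hg
  rw [← Sylow.coe_subgroup_smul]
  apply h
  intro heq
  exact hg ((sylow_smul_eq_iff_mem_normalizer' g P).1 heq.symm)

end Cfsg.Agent.Lib.Helper7_TI
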