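import Mathlib
import Cfsg.Agent.Lib.Helper7_Conj
import Cfsg.Agent.Lib.Helper7_TI
import Cfsg.Agent.Lib.Helper7_Class
import Cfsg.Agent.Lib.Helper4_Syl

set_option autoImplicit false
set_option linter.style.haveILetI false

namespace Cfsg.Agent.Lib.Helper7_BaerSuzuki

open Cfsg.Agent.Lib.Helper7_Conj Cfsg.Agent.Lib.Helper7_TI Cfsg.Agent.Lib.Helper7_Class

variable {G : Type*} [Group G] [Finite G] {p : ℕ} [Fact p.Prime]

theorem exists_normalizing (P : Subgroup G) (hP : IsPGroup p P) (S D : Set G)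
    (hS : S ⊆ (P : Set G))
    (hSinv : ∀ g ∈ P, ∀ s ∈ S, g * s * g⁻¹ ∈ S) (hne : D ≠ S) :
    ∀ (n : ℕ) (F : Subgroup G), Nat.card G - Nat.card F = n → F ≤ P → S ∩ (F : Set G) = D →
      ∃ x ∈ S, x ∉ D ∧ ∀ d ∈ D, x * d * x⁻¹ ∈ D := by
  intro n
  induction n using Nat.strong_induction_on with
  | _ n ih =>
    intro F hn hFP hSF
    by_cases hFeq : F = P
    · exfalso
      apply hne
      rw [← hSF, hFeq]
      exact Set.inter_eq_left.2 hS
    · obtain ⟨z, hzP, hzF, hzN⟩ :=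
        Cfsg.Agent.Lib.Helper4_Syl.exists_mem_normalizer_not_mem hP hFP hFeq
      set F' : Subgroup G := P ⊓ Subgroup.normalizer (F : Set G) with hF'
      have hFF' : F ≤ F' := le_inf hFP Subgroup.le_normalizer
      have hlt : F < F' := lt_of_le_of_ne hFF' (by
        intro h
        exact hzF (h ▸ Subgroup.mem_inf.2 ⟨hzP, hzN⟩))
      by_cases hSF' : S ∩ (F' : Set G) = D
      · have hc1 : Nat.card F < Nat.card F' := by
          refine lt_of_le_of_ne (Subgroup.card_le_of_le hFF') (fun h => ?_)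
          exact hlt.ne (Subgroup.eq_of_le_of_card_ge hFF' h.ge)
        have hc2 : Nat.card F' ≤ Nat.card G := Subgroup.card_le_card_group F'
        exact ih (Nat.card G - Nat.card F') (by omega) F' rfl inf_le_left hSF'
      · have hsub : D ⊆ S ∩ (F' : Set G) := by
          rw [← hSF]
          exact Set.inter_subset_inter_right _ (SetLike.coe_subset_coe.2 hFF')
        obtain ⟨x, hx, hxD⟩ : ∃ x ∈ S ∩ (F' : Set G), x ∉ D := by
          by_contra hcon
          push Not at hcon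
          exact hSF' (Set.Subset.antisymm hcon hsub)
        refine ⟨x, hx.1, hxD, fun d hd => ?_⟩
        rw [← hSF] at hd ⊢
        have hxF' : x ∈ F' := hx.2
        obtain ⟨hxP, hxN⟩ := Subgroup.mem_inf.1 hxF'
        exact ⟨hSinv x hxP d hd.1, (Subgroup.mem_normalizer_iff.1 hxN d).1 hd.2⟩

theorem mem_normalizer_closure_of_conj {D : Set G} {z : G} (h : ∀ d ∈ D, z * d * z⁻¹ ∈ D) :
    z ∈ Subgroup.normalizer ((Subgroup.closure D : Subgroup G) : Set G) := by
  rw [mem_normalizer_iff_cj]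
  apply Subgroup.eq_of_le_of_card_ge
  · rw [MonoidHom.map_closure, Subgroup.closure_le]
    rintro _ ⟨d, hd, rfl⟩
    exact Subgroup.subset_closure (h d hd)
  · rw [card_cj]

theorem inter_sylow_eq (K : Set G) (hKinv : ∀ g : G, ∀ x ∈ K, g * x * g⁻¹ ∈ K)
    (hK : ∀ x ∈ K, ∀ y ∈ K, IsPGroup p (Subgroup.closure ({x, y} : Set G))) (P Q : Sylow p G) :
    K ∩ ((P : Subgroup G) : Set G) = K ∩ ((Q : Subgroup G) : Set G) := by
  by_contra hne
  haveI : Nonempty {pq : Sylow p G × Sylow p G //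
      K ∩ ((pq.1 : Subgroup G) : Set G) ≠ K ∩ ((pq.2 : Subgroup G) : Set G)} := ⟨⟨(P, Q), hne⟩⟩
  obtain ⟨⟨⟨P, Q⟩, hPQ⟩, hmax⟩ := Finite.exists_max (fun pq : {pq : Sylow p G × Sylow p G //
      K ∩ ((pq.1 : Subgroup G) : Set G) ≠ K ∩ ((pq.2 : Subgroup G) : Set G)} =>
      (K ∩ ((pq.1.1 : Subgroup G) : Set G) ∩ ((pq.1.2 : Subgroup G) : Set G)).ncard)
  simp only at hPQ hmax
  set D : Set G := K ∩ ((P : Subgroup G) : Set G) ∩ ((Q : Subgroup G) : Set G) with hD
  have hcard : ∀ P Q : Sylow p G, (K ∩ ((P : Subgroup G) : Set G)).ncard =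
      (K ∩ ((Q : Subgroup G) : Set G)).ncard := by
    intro P Q
    obtain ⟨g, rfl⟩ := MulAction.exists_smul_eq G P Q
    have : K ∩ (((g • P : Sylow p G) : Subgroup G) : Set G) =
        (fun x => g * x * g⁻¹) '' (K ∩ ((P : Subgroup G) : Set G)) := by
      ext y
      constructor
      · rintro ⟨hyK, hyP⟩
        refine ⟨g⁻¹ * y * g, ⟨?_, (mem_sylow_smul g y P).1 hyP⟩, by group⟩
        have := hKinv g⁻¹ y hyK
        simpa using this
      · rintro ⟨x, ⟨hxK, hxP⟩, rfl⟩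
        refine ⟨hKinv g x hxK, (mem_sylow_smul g _ P).2 ?_⟩
        have : g⁻¹ * (g * x * g⁻¹) * g = x := by group
        rw [this]; exact hxP
    rw [this, Set.ncard_image_of_injective]
    intro a b hab
    simpa using hab
  have hDP : D ≠ K ∩ ((P : Subgroup G) : Set G) := by
    intro h
    have hsub : K ∩ ((P : Subgroup G) : Set G) ⊆ K ∩ ((Q : Subgroup G) : Set G) := fun x hx => by
      have : x ∈ D := h ▸ hx
      exact ⟨this.1.1, this.2⟩
    exact hPQ (Set.eq_of_subset_of_ncard_le hsub (hcard Q P).le (Set.toFinite _))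
  have hDQ : D ≠ K ∩ ((Q : Subgroup G) : Set G) := by
    intro h
    have hsub : K ∩ ((Q : Subgroup G) : Set G) ⊆ K ∩ ((P : Subgroup G) : Set G) := fun x hx => by
      have : x ∈ D := h ▸ hx
      exact ⟨this.1.1, this.1.2⟩
    exact hPQ (Set.eq_of_subset_of_ncard_le hsub (hcard P Q).le (Set.toFinite _)).symm
  have hEP : Subgroup.closure D ≤ (P : Subgroup G) :=
    (Subgroup.closure_le _).2 (fun x hx => hx.1.2)
  have hEQ : Subgroup.closure D ≤ (Q : Subgroup G) :=
    (Subgroup.closure_le _).2 (fun x hx => hx.2)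
  have hSFP : (K ∩ ((P : Subgroup G) : Set G)) ∩ ((Subgroup.closure D : Subgroup G) : Set G) = D := by
    ext x
    constructor
    · rintro ⟨⟨hxK, hxP⟩, hxE⟩
      exact ⟨⟨hxK, hxP⟩, hEQ hxE⟩
    · intro hx
      exact ⟨hx.1, Subgroup.subset_closure hx⟩
  have hSFQ : (K ∩ ((Q : Subgroup G) : Set G)) ∩ ((Subgroup.closure D : Subgroup G) : Set G) = D := by
    ext x
    constructor
    · rintro ⟨⟨hxK, hxQ⟩, hxE⟩
      exact ⟨⟨hxK, hEP hxE⟩, hxQ⟩
    · intro hx
      exact ⟨⟨hx.1.1, hx.2⟩, Subgroup.subset_closure hx⟩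
  obtain ⟨x, hxS, hxD, hxn⟩ := exists_normalizing (P : Subgroup G) P.isPGroup'
    (K ∩ ((P : Subgroup G) : Set G)) D Set.inter_subset_right
    (fun g hg s hs => ⟨hKinv g s hs.1, mul_mem (mul_mem hg hs.2) (inv_mem hg)⟩) hDP _
    (Subgroup.closure D) rfl hEP hSFP
  obtain ⟨y, hyS, hyD, hyn⟩ := exists_normalizing (Q : Subgroup G) Q.isPGroup'
    (K ∩ ((Q : Subgroup G) : Set G)) D Set.inter_subset_right
    (fun g hg s hs => ⟨hKinv g s hs.1, mul_mem (mul_mem hg hs.2) (inv_mem hg)⟩) hDQ _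
    (Subgroup.closure D) rfl hEQ hSFQ
  have hT := hK x hxS.1 y hyS.1
  have hTN : Subgroup.closure ({x, y} : Set G) ≤
      Subgroup.normalizer ((Subgroup.closure D : Subgroup G) : Set G) := by
    rw [Subgroup.closure_le]
    rintro z (rfl | rfl)
    · exact mem_normalizer_closure_of_conj hxn
    · exact mem_normalizer_closure_of_conj hyn
  have hE : IsPGroup p (Subgroup.closure D) := P.isPGroup'.to_le hEP
  have hsup : IsPGroup p ((Subgroup.closure ({x, y} : Set G) ⊔ Subgroup.closure D : Subgroup G)) :=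
    hT.to_sup_of_normal_right' hE hTN
  obtain ⟨R, hR⟩ := hsup.exists_le_sylow
  have hxR : x ∈ (R : Subgroup G) := hR (Subgroup.mem_sup_left (Subgroup.subset_closure (by simp)))
  have hyR : y ∈ (R : Subgroup G) := hR (Subgroup.mem_sup_left (Subgroup.subset_closure (by simp)))
  have hDR : ∀ d ∈ D, d ∈ (R : Subgroup G) :=
    fun d hd => hR (Subgroup.mem_sup_right (Subgroup.subset_closure hd))
  have hRP : K ∩ ((R : Subgroup G) : Set G) = K ∩ ((P : Subgroup G) : Set G) := by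
    by_contra hne'
    have h0 := hmax ⟨(R, P), hne'⟩
    simp only at h0
    have hsub : insert x D ⊆ K ∩ ((R : Subgroup G) : Set G) ∩ ((P : Subgroup G) : Set G) := by
      rintro z (rfl | hz)
      · exact ⟨⟨hxS.1, hxR⟩, hxS.2⟩
      · exact ⟨⟨hz.1.1, hDR z hz⟩, hz.1.2⟩
    have h1 : (insert x D).ncard = D.ncard + 1 := Set.ncard_insert_of_notMem hxD (Set.toFinite _)
    have h2 := Set.ncard_le_ncard hsub (Set.toFinite _)
    omega
  have hRQ : K ∩ ((R : Subgroup G) : Set G) = K ∩ ((Q : Subgroup G) : Set G) := by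
    by_contra hne'
    have h0 := hmax ⟨(R, Q), hne'⟩
    simp only at h0
    have hsub : insert y D ⊆ K ∩ ((R : Subgroup G) : Set G) ∩ ((Q : Subgroup G) : Set G) := by
      rintro z (rfl | hz)
      · exact ⟨⟨hyS.1, hyR⟩, hyS.2⟩
      · exact ⟨⟨hz.1.1, hDR z hz⟩, hz.2⟩
    have h1 : (insert y D).ncard = D.ncard + 1 := Set.ncard_insert_of_notMem hyD (Set.toFinite _)
    have h2 := Set.ncard_le_ncard hsub (Set.toFinite _)
    omega
  exact hPQ (hRP.symm.trans hRQ)

/-- **Baer–Suzuki** for a normal subset: if any two elements of the normal subset `K` generate a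
`p`-group then `K` generates a normal `p`-subgroup. -/
theorem baer_suzuki_set (K : Set G) (hKinv : ∀ g : G, ∀ x ∈ K, g * x * g⁻¹ ∈ K)
    (hK : ∀ x ∈ K, ∀ y ∈ K, IsPGroup p (Subgroup.closure ({x, y} : Set G))) :
    (Subgroup.closure K).Normal ∧ IsPGroup p (Subgroup.closure K) := by
  refine ⟨closure_normal_of_conj (fun x hx g => hKinv g x hx), ?_⟩
  obtain ⟨P⟩ : Nonempty (Sylow p G) := inferInstance
  apply P.isPGroup'.to_le
  rw [Subgroup.closure_le]
  intro x hx
  obtain ⟨Q, hQ⟩ := (hK x hx x hx).exists_le_sylow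
  have h1 : x ∈ K ∩ ((Q : Subgroup G) : Set G) := ⟨hx, hQ (Subgroup.subset_closure (by simp))⟩
  rw [inter_sylow_eq K hKinv hK Q P] at h1
  exact h1.2

end Cfsg.Agent.Lib.Helper7_BaerSuzuki
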