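import Mathlib

/-! Refined dihedral lemmas for two involutions, and a parity lemma. -/

set_option autoImplicit false

namespace Cfsg.Agent.Lib.Helper7_Dih

theorem odd_of_unique_fixed {X : Type*} [Finite X] (σ : X → X) (hσ : ∀ x, σ (σ x) = x) (x₀ : X)
    (h0 : σ x₀ = x₀) (hu : ∀ x, σ x = x → x = x₀) : Odd (Nat.card X) := by
  classical
  haveI := Fintype.ofFinite X
  haveI : Fact (Nat.Prime 2) := ⟨Nat.prime_two⟩
  let f : Function.End X := σ
  have hf : f ^ 2 ^ 1 = 1 := by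
    rw [pow_one, pow_two]
    funext x
    exact hσ x
  have h1 := Equiv.Perm.card_fixedPoints_modEq (α := X) (f := f) (p := 2) (n := 1) hf
  have h2 : Fintype.card (Function.fixedPoints σ) = 1 := by
    rw [Fintype.card_eq_one_iff]
    exact ⟨⟨x₀, h0⟩, fun y => Subtype.ext (hu y.1 y.2)⟩
  rw [Nat.card_eq_fintype_card, Nat.odd_iff]
  have h3 : Fintype.card X ≡ 1 [MOD 2] := by
    rw [← h2]; exact h1
  exact h3

variable {G : Type*} [Group G]

theorem conj_pow_inv {s x : G} (hs : s * x * s⁻¹ = x⁻¹) (j : ℕ) : s * x ^ j * s⁻¹ = (x ^ j)⁻¹ := by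
  rw [← conj_pow, hs, inv_pow]

theorem refl_conj {s x : G} (hs : s * x * s⁻¹ = x⁻¹) (j : ℕ) :
    x ^ j * s * (x ^ j)⁻¹ = x ^ (2 * j) * s := by
  have h1 := conj_pow_inv hs j
  have h0 : s * x ^ j = (x ^ j)⁻¹ * s := mul_inv_eq_iff_eq_mul.mp h1
  have h2 : s * (x ^ j)⁻¹ = x ^ j * s := by
    calc s * (x ^ j)⁻¹ = x ^ j * ((x ^ j)⁻¹ * s) * (x ^ j)⁻¹ := by group
      _ = x ^ j * (s * x ^ j) * (x ^ j)⁻¹ := by rw [h0]
      _ = x ^ j * s := by group
  rw [mul_assoc, h2, two_mul, pow_add, mul_assoc]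

theorem dih_even [Finite G] {D : Set G} (hD : ∀ g y : G, y ∈ D → g * y * g⁻¹ ∈ D) {a b : G}
    (haD : a ∈ D) (hbD : b ∈ D) (ha : a * a = 1) (hb : b * b = 1) (h : ¬ Odd (orderOf (a * b))) :
    ∃ c, c ≠ 1 ∧ c * c = 1 ∧ c * a = a * c ∧ c * b = b * c ∧ c * a ∈ D ∧ c * b ∈ D := by
  have hai : a⁻¹ = a := inv_eq_of_mul_eq_one_left ha
  have hbi : b⁻¹ = b := inv_eq_of_mul_eq_one_left hb
  set x := a * b with hx
  have hxa : a * x * a⁻¹ = x⁻¹ := by
    rw [hx, mul_inv_rev, hai, hbi, ← mul_assoc, ha, one_mul]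
  have hxb : b * x * b⁻¹ = x⁻¹ := by
    rw [hx, mul_inv_rev, hai, hbi, mul_assoc, mul_assoc, hb, mul_one]
  rw [Nat.not_odd_iff_even] at h
  obtain ⟨k, hk⟩ := h
  have hpos : 0 < orderOf x := orderOf_pos x
  have hk0 : k ≠ 0 := by omega
  set c := x ^ k with hc
  have hc1 : c ≠ 1 := pow_ne_one_of_lt_orderOf hk0 (by omega)
  have hcc : c * c = 1 := by rw [hc, ← pow_add, ← hk, pow_orderOf_eq_one]
  have hci : c⁻¹ = c := inv_eq_of_mul_eq_one_left hcc
  have hca : c * a = a * c := by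
    have := conj_pow_inv hxa k
    rw [← hc, hci] at this
    exact (mul_inv_eq_iff_eq_mul.mp this).symm
  have hcb : c * b = b * c := by
    have := conj_pow_inv hxb k
    rw [← hc, hci] at this
    exact (mul_inv_eq_iff_eq_mul.mp this).symm
  refine ⟨c, hc1, hcc, hca, hcb, ?_, ?_⟩
  · rcases Nat.even_or_odd' k with ⟨j, hj | hj⟩
    · rw [hc, hj, ← refl_conj hxa j]
      exact hD _ _ haD
    · have hs : (a * b * a⁻¹) * x * (a * b * a⁻¹)⁻¹ = x⁻¹ := by
        rw [hx, hai]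
        simp only [mul_inv_rev, hai, hbi]
        calc a * b * a * (a * b) * (a * (b * a)) = a * b * (a * a) * b * a * b * a := by group
          _ = a * (b * b) * a * b * a := by rw [ha]; group
          _ = (a * a) * b * a := by rw [hb]; group
          _ = b * a := by rw [ha]; group
      have e : c * a = x ^ (2 * j) * (a * b * a⁻¹) := by
        rw [hc, hj, pow_succ, hai, mul_assoc]
      rw [e, ← refl_conj hs j]
      exact hD _ _ (hD _ _ hbD)
  · rcases Nat.even_or_odd' k with ⟨j, hj | hj⟩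
    · rw [hc, hj, ← refl_conj hxb j]
      exact hD _ _ hbD
    · have e : c * b = x ^ (2 * j) * a := by
        rw [hc, hj, pow_succ, mul_assoc]
        congr 1
        rw [hx, mul_assoc, hb, mul_one]
      rw [e, ← refl_conj hxa j]
      exact hD _ _ haD

theorem dih_odd [Finite G] {D : Set G} (hD : ∀ g y : G, y ∈ D → g * y * g⁻¹ ∈ D) {a b : G}
    (haD : a ∈ D) (ha : a * a = 1) (hb : b * b = 1) (h : Odd (orderOf (a * b))) :
    ∃ w ∈ D, w * w = 1 ∧ w * a * w = b := by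
  have hai : a⁻¹ = a := inv_eq_of_mul_eq_one_left ha
  have hbi : b⁻¹ = b := inv_eq_of_mul_eq_one_left hb
  set x := a * b with hx
  have hxa : a * x * a⁻¹ = x⁻¹ := by
    rw [hx, mul_inv_rev, hai, hbi, ← mul_assoc, ha, one_mul]
  have hcop : Nat.Coprime 4 (orderOf x) := by
    have : Nat.Coprime 2 (orderOf x) := (Nat.coprime_two_left).mpr h
    exact Nat.Coprime.pow_left 2 this
  obtain ⟨m, hm⟩ := exists_pow_eq_self_of_coprime hcop
  set v := x ^ m with hv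
  have hv4 : v ^ 4 = x := by rw [hv, ← pow_mul, mul_comm, pow_mul]; exact hm
  have hva : a * v * a⁻¹ = v⁻¹ := conj_pow_inv hxa m
  have e1 : a * v = v⁻¹ * a := mul_inv_eq_iff_eq_mul.mp hva
  have e2 : v⁻¹ * a * v = v⁻¹ * v⁻¹ * a := by rw [mul_assoc, e1, ← mul_assoc]
  refine ⟨v⁻¹ * a * v, ?_, ?_, ?_⟩
  · have := hD v⁻¹ a haD
    rwa [inv_inv] at this
  · calc v⁻¹ * a * v * (v⁻¹ * a * v) = v⁻¹ * (a * a) * v := by group
      _ = 1 := by rw [ha]; group
  · rw [e2]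
    calc v⁻¹ * v⁻¹ * a * a * (v⁻¹ * v⁻¹ * a) = v⁻¹ * v⁻¹ * (a * a) * v⁻¹ * v⁻¹ * a := by group
      _ = (v ^ 4)⁻¹ * a := by rw [ha]; group
      _ = b := by rw [hv4, hx, mul_inv_rev, hai, hbi, mul_assoc, ha, mul_one]

end Cfsg.Agent.Lib.Helper7_Dih
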