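import Mathlib
import Cfsg.Agent.Lib.Helper7_Class

set_option autoImplicit false

namespace Cfsg.Agent.Lib.Helper7_Index

open Cfsg.Agent.Lib.Helper7_Class

variable {G : Type*} [Group G]

theorem relIndex_sup_normal [Finite G] (K N : Subgroup G) [N.Normal] :
    K.relIndex (K ⊔ N) = K.relIndex N := by
  have h1 := card_mul_relIndex (inf_le_right : K ⊓ N ≤ N)
  have h2 := card_mul_relIndex (inf_le_left : K ⊓ N ≤ K)
  have h3 := card_mul_relIndex (le_sup_right : N ≤ K ⊔ N)
  have h4 := card_mul_relIndex (le_sup_left : K ≤ K ⊔ N)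
  rw [Subgroup.inf_relIndex_right] at h1
  rw [Subgroup.inf_relIndex_left] at h2
  rw [Subgroup.relIndex_sup_right] at h3
  have hi : 0 < Nat.card (K ⊓ N : Subgroup G) := Nat.card_pos
  have hK : 0 < Nat.card K := Nat.card_pos
  have h5 : Nat.card K * K.relIndex (K ⊔ N) = Nat.card K * K.relIndex N := by
    rw [h4, ← h3, ← h1, ← h2]; ring
  exact Nat.eq_of_mul_eq_mul_left hK h5

theorem relIndex_normal_dvd_index [Finite G] (K N : Subgroup G) [N.Normal] :
    K.relIndex N ∣ K.index := by
  rw [← relIndex_sup_normal]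
  exact Subgroup.relIndex_dvd_index_of_le le_sup_left

end Cfsg.Agent.Lib.Helper7_Index
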