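import Mathlib
import Cfsg.Agent.Lib.Helper1_Coprime
import Cfsg.Agent.Lib.Helper7_Conj

set_option autoImplicit false

namespace Cfsg.Agent.Lib.Helper7_Lift

open Cfsg.Agent.Lib.Helper7_Conj
open scoped Pointwise

theorem normalizer_lift {G : Type*} [Group G] [Finite G] (N : Subgroup G)
    [N.Normal] (A : Subgroup G) (hcop : (Nat.card A).Coprime (Nat.card N))
    (hsolv : Group.IsSolvable A ∨ Group.IsSolvable N) (g : G)
    (hg : (QuotientGroup.mk' N g) ∈
      Subgroup.normalizer ((A.map (QuotientGroup.mk' N)) : Set (G ⧸ N))) :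
    ∃ d ∈ N, d⁻¹ * g ∈ Subgroup.normalizer (A : Set G) := by
  have hB : MulAut.conj g • A ≤ A ⊔ N := by
    intro y hy
    rw [mem_smul_conj] at hy
    have h1 : QuotientGroup.mk' N (g⁻¹ * y * g) ∈ A.map (QuotientGroup.mk' N) :=
      Subgroup.mem_map_of_mem _ hy
    have h2 := (Subgroup.mem_normalizer_iff.1 hg _).1 h1
    have h3 : QuotientGroup.mk' N y ∈ A.map (QuotientGroup.mk' N) := by
      have h4 : QuotientGroup.mk' N g * QuotientGroup.mk' N (g⁻¹ * y * g) *
          (QuotientGroup.mk' N g)⁻¹ = QuotientGroup.mk' N y := by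
        rw [← map_inv, ← map_mul, ← map_mul]
        congr 1
        group
      rw [← h4]; exact h2
    have h5 : y ∈ (A.map (QuotientGroup.mk' N)).comap (QuotientGroup.mk' N) := h3
    rwa [Subgroup.comap_map_eq, QuotientGroup.ker_mk'] at h5
  obtain ⟨d, hd, hdP⟩ := Cfsg.Agent.Lib.Helper1_Coprime.conj_of_le_sup (A := A) (D := N)
    (B := MulAut.conj g • A)
    (by rw [Subgroup.normalizer_eq_top_iff.2 inferInstance]; exact le_top) hcop hsolv hB
    (card_cj g A)
  refine ⟨d, hd, ?_⟩
  rw [mem_normalizer_iff_cj, cj_mul, cj_eq_smul g, ← hdP, ← cj_eq_smul, cj_inv_cj]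

/-- Lifting an element of `G ⧸ N` whose order is coprime to `|N|` to an element whose order
divides it. -/
theorem exists_lift_orderOf_dvd {G : Type*} [Group G] [Finite G] (N : Subgroup G) [N.Normal]
    (y : G ⧸ N) (hcop : (Nat.card N).Coprime (orderOf y)) :
    ∃ x : G, QuotientGroup.mk' N x = y ∧ orderOf x ∣ orderOf y := by
  obtain ⟨g, rfl⟩ := QuotientGroup.mk'_surjective N y
  obtain ⟨u, hu⟩ := exists_pow_eq_self_of_coprime hcop
  refine ⟨(g ^ Nat.card N) ^ u, by rw [map_pow, map_pow, hu], ?_⟩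
  apply orderOf_dvd_of_pow_eq_one
  have h1 : g ^ orderOf (QuotientGroup.mk' N g) ∈ N := by
    rw [← QuotientGroup.eq_one_iff]
    have : QuotientGroup.mk' N (g ^ orderOf (QuotientGroup.mk' N g)) = 1 := by
      rw [map_pow, pow_orderOf_eq_one]
    exact this
  have h2 : (g ^ orderOf (QuotientGroup.mk' N g)) ^ Nat.card N = 1 := by
    have := pow_card_eq_one' (x := (⟨_, h1⟩ : N))
    have h3 := congrArg Subtype.val this
    rwa [Subgroup.coe_pow, Subgroup.coe_one] at h3
  calc ((g ^ Nat.card N) ^ u) ^ orderOf (QuotientGroup.mk' N g)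
      = ((g ^ orderOf (QuotientGroup.mk' N g)) ^ Nat.card N) ^ u := by
        rw [← pow_mul, ← pow_mul, ← pow_mul, ← pow_mul]
        congr 1
        ring
    _ = 1 := by rw [h2, one_pow]

end Cfsg.Agent.Lib.Helper7_Lift
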