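import Mathlib
import Cfsg.Prelude.Def_Transfer

set_option autoImplicit false

namespace Cfsg.Agent.Lib.Helper7_PClass

open Pointwise

variable {G : Type*} [Group G]

/-- conjugation action of the normalizer of `P` on `P`. -/
def act (P : Subgroup G) : MulAction ↥(Subgroup.normalizer (P : Set G)) ↥P where
  smul n x := ⟨(n : G) * x * (n : G)⁻¹, (Subgroup.mem_normalizer_iff.mp n.2 x).mp x.2⟩
  one_smul x := by
    apply Subtype.ext
    show ((1 : ↥(Subgroup.normalizer (P : Set G))) : G) * x *
      ((1 : ↥(Subgroup.normalizer (P : Set G))) : G)⁻¹ = x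
    simp
  mul_smul a b x := by
    apply Subtype.ext
    show ((a * b : ↥(Subgroup.normalizer (P : Set G))) : G) * x *
      ((a * b : ↥(Subgroup.normalizer (P : Set G))) : G)⁻¹ =
        (a : G) * ((b : G) * x * (b : G)⁻¹) * (a : G)⁻¹
    simp [mul_assoc]

theorem act_coe (P : Subgroup G) (n : ↥(Subgroup.normalizer (P : Set G))) (x : ↥P) :
    (((act P).smul n x : ↥P) : G) = (n : G) * x * (n : G)⁻¹ := rfl

theorem exists_orderOf_of_mem {p : ℕ} [hp : Fact p.Prime] {P : Subgroup G} (hP : IsPGroup p P)
    {x : G} (hx : x ∈ P) : ∃ k : ℕ, orderOf x = p ^ k := by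
  obtain ⟨k, hk⟩ := hP ⟨x, hx⟩
  have h1 : x ^ p ^ k = 1 := by
    have := congrArg Subtype.val hk
    simpa using this
  obtain ⟨j, -, hj⟩ := (Nat.dvd_prime_pow hp.out).mp (orderOf_dvd_of_pow_eq_one h1)
  exact ⟨j, hj⟩

theorem exists_conj_mem_sylow [Finite G] {p : ℕ} [Fact p.Prime] (P : Sylow p G) {g : G}
    (hg : ∃ k : ℕ, orderOf g = p ^ k) : ∃ h : G, h * g * h⁻¹ ∈ (P : Subgroup G) := by
  obtain ⟨k, hk⟩ := hg
  have h1 : IsPGroup p (Subgroup.zpowers g) := IsPGroup.of_card (n := k) (by rw [Nat.card_zpowers, hk])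
  obtain ⟨Q, hQ⟩ := h1.exists_le_sylow
  obtain ⟨h, hh⟩ := MulAction.exists_smul_eq G Q P
  refine ⟨h, ?_⟩
  rw [← hh]
  show h * g * h⁻¹ ∈ MulAut.conj h • (Q : Subgroup G)
  rw [Subgroup.mem_pointwise_smul_iff_inv_smul_mem]
  have : (MulAut.conj h)⁻¹ • (h * g * h⁻¹) = g := by
    rw [MulAut.smul_def, ← map_inv, MulAut.conj_apply]
    group
  rw [this]
  exact hQ (Subgroup.mem_zpowers g)

/-- the type of classes of `p`-elements. -/
abbrev PCl (p : ℕ) (G : Type*) [Group G] :=
  {c : ConjClasses G // ∀ x ∈ c.carrier, ∃ k : ℕ, orderOf x = p ^ k}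

theorem card_pcl_le_orbits [Finite G] {p : ℕ} [Fact p.Prime] (P : Sylow p G) :
    Nat.card (PCl p G) ≤ Nat.card (@MulAction.orbitRel.Quotient
      ↥(Subgroup.normalizer ((P : Subgroup G) : Set G)) ↥(P : Subgroup G) _ (act (P : Subgroup G))) := by
  classical
  letI := act (P : Subgroup G)
  have hex : ∀ c : PCl p G, ∃ x : ↥(P : Subgroup G), ConjClasses.mk (x : G) = c.1 := by
    intro c
    obtain ⟨g, hg⟩ := ConjClasses.exists_rep c.1
    have h1 := c.2 g (by rw [← hg]; exact ConjClasses.mem_carrier_mk)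
    obtain ⟨h, hh⟩ := exists_conj_mem_sylow P h1
    refine ⟨⟨h * g * h⁻¹, hh⟩, ?_⟩
    rw [← hg]
    exact ConjClasses.mk_eq_mk_iff_isConj.mpr (isConj_iff.mpr ⟨h⁻¹, by group⟩)
  choose f hf using hex
  refine Nat.card_le_card_of_injective
    (fun c => (Quotient.mk'' (f c) : MulAction.orbitRel.Quotient
      ↥(Subgroup.normalizer ((P : Subgroup G) : Set G)) ↥(P : Subgroup G))) ?_
  intro c d hcd
  have h1 := Quotient.exact' hcd
  obtain ⟨n, hn⟩ := h1
  apply Subtype.ext
  rw [← hf c, ← hf d]
  have h2 : ((f c : ↥(P : Subgroup G)) : G) = (n : G) * (f d : G) * (n : G)⁻¹ := by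
    rw [← hn]; rfl
  rw [h2]
  exact ConjClasses.mk_eq_mk_iff_isConj.mpr (isConj_iff.mpr ⟨(n : G)⁻¹, by group⟩)

theorem orbit_bound [Finite G] {p : ℕ} [hp : Fact p.Prime] (P : Sylow p G)
    (hne : ¬ Subgroup.normalizer ((P : Subgroup G) : Set G) ≤
      Subgroup.centralizer ((P : Subgroup G) : Set G)) :
    2 * p * Nat.card (@MulAction.orbitRel.Quotient
      ↥(Subgroup.normalizer ((P : Subgroup G) : Set G)) ↥(P : Subgroup G) _ (act (P : Subgroup G)))
      ≤ (p + 1) * Nat.card ↥(P : Subgroup G) := by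
  classical
  letI := act (P : Subgroup G)
  haveI : Fintype ↥(Subgroup.normalizer ((P : Subgroup G) : Set G)) := Fintype.ofFinite _
  haveI : Fintype ↥(P : Subgroup G) := Fintype.ofFinite _
  haveI : Fintype (Quotient (MulAction.orbitRel ↥(Subgroup.normalizer ((P : Subgroup G) : Set G))
    ↥(P : Subgroup G))) := Fintype.ofFinite _
  have hB := MulAction.sum_card_fixedBy_eq_card_orbits_mul_card_group
    ↥(Subgroup.normalizer ((P : Subgroup G) : Set G)) ↥(P : Subgroup G)
  set C := Subgroup.centralizer ((P : Subgroup G) : Set G) with hC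
  -- pointwise bound
  have hpt : ∀ n : ↥(Subgroup.normalizer ((P : Subgroup G) : Set G)),
      p * Fintype.card (MulAction.fixedBy ↥(P : Subgroup G) n) ≤
        Nat.card ↥(P : Subgroup G) * (if (n : G) ∈ C then p else 1) := by
    intro n
    set F : Subgroup ↥(P : Subgroup G) :=
      (Subgroup.centralizer ({(n : G)} : Set G)).subgroupOf (P : Subgroup G) with hF
    have hset : MulAction.fixedBy ↥(P : Subgroup G) n = (F : Set ↥(P : Subgroup G)) := by
      ext x
      rw [MulAction.mem_fixedBy, SetLike.mem_coe, hF, Subgroup.mem_subgroupOf,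
        Subgroup.mem_centralizer_singleton_iff]
      constructor
      · intro h
        have h1 : (n : G) * x * (n : G)⁻¹ = x := congrArg Subtype.val h
        have h2 : (n : G) * x = x * n := by
          calc (n : G) * x = (n : G) * x * (n : G)⁻¹ * n := by group
            _ = x * n := by rw [h1]
        first | exact h2 | exact h2.symm
      · intro h
        apply Subtype.ext
        show (n : G) * x * (n : G)⁻¹ = x
        have h2 : (n : G) * x = x * n := by first | exact h | exact h.symm
        rw [h2]; group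
    have hcard : Fintype.card (MulAction.fixedBy ↥(P : Subgroup G) n) = Nat.card F := by
      rw [← Nat.card_eq_fintype_card]
      exact Nat.card_congr (Equiv.setCongr hset)
    rw [hcard]
    have hci := Subgroup.card_mul_index F
    by_cases hn : (n : G) ∈ C
    · rw [if_pos hn, mul_comm]
      exact Nat.mul_le_mul_right p (Subgroup.card_le_card_group F)
    · rw [if_neg hn, mul_one]
      obtain ⟨m, hm⟩ := (P.isPGroup').index F
      have hm0 : m ≠ 0 := by
        rintro rfl
        rw [pow_zero, Subgroup.index_eq_one] at hm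
        apply hn
        rw [hC, Subgroup.mem_centralizer_iff]
        intro y hy
        have h1 : (⟨y, hy⟩ : ↥(P : Subgroup G)) ∈ F := by rw [hm]; trivial
        rw [hF, Subgroup.mem_subgroupOf, Subgroup.mem_centralizer_singleton_iff] at h1
        first | exact h1 | exact h1.symm
      have hple : p ≤ F.index := by
        rw [hm]
        calc p = p ^ 1 := (pow_one p).symm
          _ ≤ p ^ m := Nat.pow_le_pow_right hp.out.pos (Nat.one_le_iff_ne_zero.mpr hm0)
      calc p * Nat.card F = Nat.card F * p := mul_comm _ _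
        _ ≤ Nat.card F * F.index := Nat.mul_le_mul_left _ hple
        _ = Nat.card ↥(P : Subgroup G) := hci
  -- sum
  set c := (Finset.univ.filter (fun n : ↥(Subgroup.normalizer ((P : Subgroup G) : Set G)) =>
    (n : G) ∈ C)).card with hc
  set c' := (Finset.univ.filter (fun n : ↥(Subgroup.normalizer ((P : Subgroup G) : Set G)) =>
    ¬ (n : G) ∈ C)).card with hc'
  have hcc : c + c' = Fintype.card ↥(Subgroup.normalizer ((P : Subgroup G) : Set G)) := by
    rw [hc, hc']
    exact Finset.card_filter_add_card_filter_not _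
  have hsum : ∑ n : ↥(Subgroup.normalizer ((P : Subgroup G) : Set G)),
      (if (n : G) ∈ C then p else 1) = c * p + c' := by
    rw [Finset.sum_ite, Finset.sum_const, Finset.sum_const, smul_eq_mul, smul_eq_mul, mul_one]
  have hcsub : c = Nat.card (C.subgroupOf (Subgroup.normalizer ((P : Subgroup G) : Set G))) := by
    rw [hc, Nat.card_eq_fintype_card, Fintype.card_subtype]
    rfl
  have hle : c ≤ c' := by
    have h1 := Subgroup.card_mul_index
      (C.subgroupOf (Subgroup.normalizer ((P : Subgroup G) : Set G)))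
    have h2 : (C.subgroupOf (Subgroup.normalizer ((P : Subgroup G) : Set G))).index ≠ 1 := by
      intro h
      rw [Subgroup.index_eq_one, Subgroup.subgroupOf_eq_top] at h
      exact hne h
    have h3 : (C.subgroupOf (Subgroup.normalizer ((P : Subgroup G) : Set G))).index ≠ 0 :=
      Subgroup.index_ne_zero_of_finite
    have h4 : 2 ≤ (C.subgroupOf (Subgroup.normalizer ((P : Subgroup G) : Set G))).index := by omega
    rw [← hcsub, Nat.card_eq_fintype_card, ← hcc] at h1
    nlinarith
  have hmain : p * (Fintype.card (Quotient (MulAction.orbitRel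
      ↥(Subgroup.normalizer ((P : Subgroup G) : Set G)) ↥(P : Subgroup G))) * (c + c')) ≤
      Nat.card ↥(P : Subgroup G) * (c * p + c') := by
    rw [hcc, ← hB, Finset.mul_sum, ← hsum, Finset.mul_sum]
    exact Finset.sum_le_sum (fun n _ => hpt n)
  have hpos : 0 < c + c' := by
    rw [hcc]; exact Fintype.card_pos
  have hq : Nat.card (MulAction.orbitRel.Quotient
      ↥(Subgroup.normalizer ((P : Subgroup G) : Set G)) ↥(P : Subgroup G)) =
      Fintype.card (Quotient (MulAction.orbitRel
      ↥(Subgroup.normalizer ((P : Subgroup G) : Set G)) ↥(P : Subgroup G))) :=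
    Nat.card_eq_fintype_card
  rw [hq]
  set Ω := Fintype.card (Quotient (MulAction.orbitRel
      ↥(Subgroup.normalizer ((P : Subgroup G) : Set G)) ↥(P : Subgroup G))) with hΩ
  set s := Nat.card ↥(P : Subgroup G) with hs
  have hp1 : 1 ≤ p := hp.out.pos
  have h5 : 2 * (c * p + c') ≤ (p + 1) * (c + c') := by
    obtain ⟨d, hd⟩ := Nat.exists_eq_add_of_le hle
    rw [hd]
    nlinarith [Nat.mul_le_mul_right d hp1]
  have h6 : (2 * p * Ω) * (c + c') ≤ ((p + 1) * s) * (c + c') := by
    calc (2 * p * Ω) * (c + c') = 2 * (p * (Ω * (c + c'))) := by ring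
      _ ≤ 2 * (s * (c * p + c')) := Nat.mul_le_mul_left 2 hmain
      _ = s * (2 * (c * p + c')) := by ring
      _ ≤ s * ((p + 1) * (c + c')) := Nat.mul_le_mul_left s h5
      _ = ((p + 1) * s) * (c + c') := by ring
  exact Nat.le_of_mul_le_mul_right h6 hpos

/-- many classes of `p`-elements force `N_G(P) = C_G(P)`. -/
theorem normalizer_le_centralizer_of_many [Finite G] {p : ℕ} [Fact p.Prime] (P : Sylow p G)
    (h : (p + 1) * Nat.card ↥(P : Subgroup G) < 2 * p * Nat.card (PCl p G)) :
    Subgroup.normalizer ((P : Subgroup G) : Set G) ≤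
      Subgroup.centralizer ((P : Subgroup G) : Set G) := by
  by_contra hne
  have h1 := orbit_bound P hne
  have h2 := card_pcl_le_orbits P
  have h3 := Nat.mul_le_mul_left (2 * p) h2
  omega

end Cfsg.Agent.Lib.Helper7_PClass
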