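import Mathlib
import Cfsg.Agent.Lib.Helper7_PClass

set_option autoImplicit false

namespace Cfsg.Agent.Lib.Helper7_PiClass

open Cfsg.Agent.Lib.Helper7_PClass

universe u

variable {G : Type u} [Group G]

/-- classes of `σ`-elements. -/
abbrev PiCl (σ : Finset ℕ) (G : Type*) [Group G] :=
  {c : ConjClasses G // ∀ x ∈ c.carrier, ∀ r : ℕ, r.Prime → r ∣ orderOf x → r ∈ σ}

theorem orderOf_eq_of_isConj {x y : G} (h : IsConj x y) : orderOf x = orderOf y := by
  obtain ⟨c, rfl⟩ := isConj_iff.mp h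
  exact (orderOf_injective (MulAut.conj c).toMonoidHom (MulAut.conj c).injective x).symm

theorem exists_decomp [Finite G] (r : ℕ) [hr : Fact r.Prime] (g : G) :
    ∃ a b : G, a * b = g ∧ a * b = b * a ∧ (∃ k : ℕ, orderOf a = r ^ k) ∧ ¬ r ∣ orderOf b ∧
      orderOf b ∣ orderOf g := by
  have hn : orderOf g ≠ 0 := (orderOf_pos g).ne'
  obtain ⟨k, m, hm, hkm⟩ := Nat.exists_eq_pow_mul_and_not_dvd hn r hr.out.ne_one
  have hcop : IsCoprime ((r ^ k : ℕ) : ℤ) (m : ℤ) := by
    rw [Nat.isCoprime_iff_coprime]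
    exact Nat.Coprime.pow_left k ((Nat.Prime.coprime_iff_not_dvd hr.out).mpr hm)
  obtain ⟨u, v, huv⟩ := hcop
  refine ⟨g ^ (v * (m : ℤ)), g ^ (u * ((r ^ k : ℕ) : ℤ)), ?_, ?_, ?_, ?_, ?_⟩
  · rw [← zpow_add, add_comm, huv, zpow_one]
  · rw [← zpow_add, ← zpow_add, add_comm]
  · have h1 : (g ^ (v * (m : ℤ))) ^ (r ^ k) = 1 := by
      rw [← zpow_natCast, ← zpow_mul]
      have h2 : v * (m : ℤ) * ((r ^ k : ℕ) : ℤ) = ((orderOf g : ℕ) : ℤ) * v := by
        rw [hkm]; push_cast; ring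
      rw [h2, zpow_mul, zpow_natCast, pow_orderOf_eq_one, one_zpow]
    obtain ⟨j, -, hj⟩ := (Nat.dvd_prime_pow hr.out).mp (orderOf_dvd_of_pow_eq_one h1)
    exact ⟨j, hj⟩
  · have h1 : (g ^ (u * ((r ^ k : ℕ) : ℤ))) ^ m = 1 := by
      rw [← zpow_natCast, ← zpow_mul]
      have h2 : u * ((r ^ k : ℕ) : ℤ) * (m : ℤ) = ((orderOf g : ℕ) : ℤ) * u := by
        rw [hkm]; push_cast; ring
      rw [h2, zpow_mul, zpow_natCast, pow_orderOf_eq_one, one_zpow]
    intro hdvd
    exact hm (hdvd.trans (orderOf_dvd_of_pow_eq_one h1))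
  · apply orderOf_dvd_of_pow_eq_one
    rw [← zpow_natCast, ← zpow_mul, mul_comm, zpow_mul, zpow_natCast, pow_orderOf_eq_one,
      one_zpow]

theorem card_pcl_le_card [Finite G] {p : ℕ} [Fact p.Prime] (P : Sylow p G) :
    Nat.card (PCl p G) ≤ Nat.card ↥(P : Subgroup G) := by
  have hex : ∀ c : PCl p G, ∃ x : ↥(P : Subgroup G), ConjClasses.mk (x : G) = c.1 := by
    intro c
    obtain ⟨g, hg⟩ := ConjClasses.exists_rep c.1
    have h1 := c.2 g (by rw [← hg]; exact ConjClasses.mem_carrier_mk)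
    obtain ⟨h, hh⟩ := exists_conj_mem_sylow P h1
    refine ⟨⟨h * g * h⁻¹, hh⟩, ?_⟩
    rw [← hg]
    exact ConjClasses.mk_eq_mk_iff_isConj.mpr (isConj_iff.mpr ⟨h⁻¹, by group⟩)
  choose f hf using hex
  refine Nat.card_le_card_of_injective f ?_
  intro c d hcd
  apply Subtype.ext
  rw [← hf c, ← hf d, hcd]

theorem card_piCl_insert_le [Finite G] (σ : Finset ℕ) (r : ℕ) [Fact r.Prime] (M : ℕ)
    (hM : ∀ C : Subgroup G, Nat.card (PiCl σ ↥C) ≤ M) :
    Nat.card (PiCl (insert r σ) G) ≤ Nat.card (PCl r G) * M := by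
  classical
  have hrepex : ∀ c : ConjClasses G, ∃ a : G, ConjClasses.mk a = c := ConjClasses.exists_rep
  choose rep hrep using hrepex
  have hex : ∀ c : PiCl (insert r σ) G,
      ∃ s : (Σ t : PCl r G, PiCl σ ↥(Subgroup.centralizer ({rep t.1} : Set G))),
        c.1 = ConjClasses.mk (rep s.1.1 * (((ConjClasses.exists_rep s.2.1).choose :
          ↥(Subgroup.centralizer ({rep s.1.1} : Set G))) : G)) := by
    rintro ⟨C0, hC0⟩
    obtain ⟨g, rfl⟩ := ConjClasses.exists_rep C0
    have hg := hC0 g ConjClasses.mem_carrier_mk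
    obtain ⟨a, b, hab, hcomm, ⟨k, hk⟩, hrb, hbg⟩ := exists_decomp r g
    let t : PCl r G := ⟨ConjClasses.mk a, fun x hx => by
      rw [ConjClasses.mem_carrier_iff_mk_eq] at hx
      exact ⟨k, by rw [orderOf_eq_of_isConj (ConjClasses.mk_eq_mk_iff_isConj.mp hx), hk]⟩⟩
    obtain ⟨h, hh⟩ := isConj_iff.mp (ConjClasses.mk_eq_mk_iff_isConj.mp (hrep t.1).symm)
    -- hh : h * a * h⁻¹ = rep t.1
    have hy : h * b * h⁻¹ ∈ Subgroup.centralizer ({rep t.1} : Set G) := by
      rw [Subgroup.mem_centralizer_singleton_iff, ← hh]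
      have e1 : h * a * h⁻¹ * (h * b * h⁻¹) = h * (a * b) * h⁻¹ := by group
      have e2 : h * b * h⁻¹ * (h * a * h⁻¹) = h * (b * a) * h⁻¹ := by group
      first
        | rw [e1, e2, hcomm]
        | rw [e2, e1, hcomm]
    let d : PiCl σ ↥(Subgroup.centralizer ({rep t.1} : Set G)) :=
      ⟨ConjClasses.mk ⟨h * b * h⁻¹, hy⟩, fun x hx q hq hqx => by
        rw [ConjClasses.mem_carrier_iff_mk_eq] at hx
        rw [orderOf_eq_of_isConj (ConjClasses.mk_eq_mk_iff_isConj.mp hx),
          ← Subgroup.orderOf_coe] at hqx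
        have h1 : orderOf (h * b * h⁻¹) = orderOf b :=
          (orderOf_eq_of_isConj (isConj_iff.mpr ⟨h, rfl⟩)).symm
        have hqx' : q ∣ orderOf b := by rw [← h1]; exact hqx
        have h2 := hg q hq (hqx'.trans hbg)
        rcases Finset.mem_insert.mp h2 with h3 | h3
        · exact absurd (h3 ▸ hqx') hrb
        · exact h3⟩
    refine ⟨⟨t, d⟩, ?_⟩
    have hw := (ConjClasses.exists_rep d.1).choose_spec
    obtain ⟨c', hc'⟩ := isConj_iff.mp (ConjClasses.mk_eq_mk_iff_isConj.mp hw.symm)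
    -- hc' : c' * ⟨h b h⁻¹, _⟩ * c'⁻¹ = choose
    have hc'' : (c' : G) * (h * b * h⁻¹) * (c' : G)⁻¹ =
        (((ConjClasses.exists_rep d.1).choose :
          ↥(Subgroup.centralizer ({rep t.1} : Set G))) : G) := by
      rw [← hc']; rfl
    have hcc : (c' : G) * rep t.1 = rep t.1 * (c' : G) := by
      have := c'.2
      rw [Subgroup.mem_centralizer_singleton_iff] at this
      first | exact this | exact this.symm
    show ConjClasses.mk g = ConjClasses.mk (rep t.1 * (((ConjClasses.exists_rep d.1).choose :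
          ↥(Subgroup.centralizer ({rep t.1} : Set G))) : G))
    rw [← hc'']
    apply ConjClasses.mk_eq_mk_iff_isConj.mpr
    apply isConj_iff.mpr
    refine ⟨(c' : G) * h, ?_⟩
    have e3 : rep t.1 * ((c' : G) * (h * b * h⁻¹) * (c' : G)⁻¹) =
        (rep t.1 * (c' : G)) * (h * b * h⁻¹) * (c' : G)⁻¹ := by group
    have e4 : ∀ cg ρ : G, h * a * h⁻¹ = ρ →
        cg * h * (a * b) * (cg * h)⁻¹ = cg * ρ * (h * b * h⁻¹) * cg⁻¹ := by
      intro cg ρ hρ
      rw [← hρ]; group
    rw [e3, ← hcc, ← hab]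
    exact e4 _ _ hh
  choose Ψ hΨ using hex
  have hinj : Function.Injective Ψ := by
    intro c d hcd
    apply Subtype.ext
    rw [hΨ c, hΨ d, hcd]
  haveI : Fintype (PCl r G) := Fintype.ofFinite _
  calc Nat.card (PiCl (insert r σ) G)
      ≤ Nat.card (Σ t : PCl r G, PiCl σ ↥(Subgroup.centralizer ({rep t.1} : Set G))) :=
        Nat.card_le_card_of_injective Ψ hinj
    _ = ∑ t : PCl r G, Nat.card (PiCl σ ↥(Subgroup.centralizer ({rep t.1} : Set G))) :=
        Nat.card_sigma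
    _ ≤ ∑ _t : PCl r G, M := Finset.sum_le_sum (fun t _ => hM _)
    _ = Nat.card (PCl r G) * M := by
        rw [Finset.sum_const, smul_eq_mul, Finset.card_univ, Nat.card_eq_fintype_card]

theorem prod_factorization_le {m n : ℕ} (hmn : m ∣ n) (hn : n ≠ 0) (σ : Finset ℕ)
    (hσ : ∀ q ∈ σ, q.Prime) :
    σ.prod (fun q => q ^ m.factorization q) ≤ σ.prod (fun q => q ^ n.factorization q) := by
  apply Finset.prod_le_prod (fun _ _ => Nat.zero_le _)
  intro q hq
  apply Nat.pow_le_pow_right (hσ q hq).pos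
  have hm : m ≠ 0 := by
    rintro rfl
    exact hn (Nat.eq_zero_of_zero_dvd hmn)
  exact (Nat.factorization_le_iff_dvd hm hn).mpr hmn q

theorem card_piCl_le (σ : Finset ℕ) : (∀ q ∈ σ, q.Prime) → ∀ (C : Type u) [Group C] [Finite C],
    Nat.card (PiCl σ C) ≤ σ.prod (fun q => q ^ (Nat.card C).factorization q) := by
  classical
  induction σ using Finset.induction_on with
  | empty =>
    intro _ C _ _
    rw [Finset.prod_empty, Finite.card_le_one_iff_subsingleton]
    have key : ∀ c : PiCl ∅ C, c.1 = ConjClasses.mk 1 := by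
      rintro ⟨C0, hC0⟩
      obtain ⟨g, rfl⟩ := ConjClasses.exists_rep C0
      have hg := hC0 g ConjClasses.mem_carrier_mk
      have h1 : orderOf g = 1 := by
        by_contra hne
        obtain ⟨q, hq, hqd⟩ := Nat.exists_prime_and_dvd hne
        exact absurd (hg q hq hqd) (Finset.notMem_empty q)
      rw [orderOf_eq_one_iff] at h1
      show ConjClasses.mk g = ConjClasses.mk 1
      rw [h1]
    exact ⟨fun c d => Subtype.ext ((key c).trans (key d).symm)⟩
  | insert r σ hr ih =>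
    intro hσ C _ _
    haveI : Fact r.Prime := ⟨hσ r (Finset.mem_insert_self r σ)⟩
    have hσ' : ∀ q ∈ σ, q.Prime := fun q hq => hσ q (Finset.mem_insert_of_mem hq)
    have h1 := card_piCl_insert_le (G := C) σ r
      (σ.prod (fun q => q ^ (Nat.card C).factorization q)) (fun D =>
        (ih hσ' ↥D).trans (prod_factorization_le (Subgroup.card_subgroup_dvd_card D)
          Nat.card_pos.ne' σ hσ'))
    obtain ⟨R⟩ : Nonempty (Sylow r C) := inferInstance
    have h2 := card_pcl_le_card R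
    rw [Sylow.card_eq_multiplicity] at h2
    rw [Finset.prod_insert hr]
    exact h1.trans (Nat.mul_le_mul_right _ h2)

/-- the reduction to one prime. -/
theorem card_piCl_le_mul [Finite G] (π : Finset ℕ) (hπ : ∀ q ∈ π, q.Prime) (r : ℕ)
    [Fact r.Prime] (hr : r ∈ π) :
    Nat.card (PiCl π G) ≤ Nat.card (PCl r G) *
      (π.erase r).prod (fun q => q ^ (Nat.card G).factorization q) := by
  classical
  have hσ' : ∀ q ∈ π.erase r, q.Prime := fun q hq => hπ q (Finset.mem_of_mem_erase hq)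
  have h1 := card_piCl_insert_le (G := G) (π.erase r) r
    ((π.erase r).prod (fun q => q ^ (Nat.card G).factorization q)) (fun D =>
      (card_piCl_le (π.erase r) hσ' ↥D).trans
        (prod_factorization_le (Subgroup.card_subgroup_dvd_card D) Nat.card_pos.ne' _ hσ'))
  rwa [Finset.insert_erase hr] at h1

end Cfsg.Agent.Lib.Helper7_PiClass
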