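import Mathlib
import Cfsg.Prelude.Def_Involutions

set_option autoImplicit false

namespace Cfsg.Agent.Lib.Helper7_StrEmb

open Cfsg

universe u

variable {G : Type u} [Group G]

theorem sq_of_order {x : G} (h : orderOf x = 2) : x * x = 1 := by
  rw [← pow_two, ← h]; exact pow_orderOf_eq_one x

theorem order_of_sq {x : G} (h1 : x ≠ 1) (h2 : x * x = 1) : orderOf x = 2 :=
  orderOf_eq_prime (by rw [pow_two]; exact h2) h1

theorem order_conj (g x : G) : orderOf (g * x * g⁻¹) = orderOf x := by
  rw [← MulAut.conj_apply]; exact MulEquiv.orderOf_eq _ _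

/-- the dihedral dichotomy. -/
theorem dih [Finite G] (a b : G) (ha : a * a = 1) (hb : b * b = 1) :
    (∃ w, w * w = 1 ∧ w * a * w = b) ∨
      (∃ z, z ≠ 1 ∧ z * z = 1 ∧ z * a = a * z ∧ z * b = b * z) := by
  have hai : a⁻¹ = a := inv_eq_of_mul_eq_one_left ha
  have hbi : b⁻¹ = b := inv_eq_of_mul_eq_one_left hb
  set d := a * b with hd
  have hda : a * d * a⁻¹ = d⁻¹ := by
    rw [hd, mul_inv_rev, hai, hbi, ← mul_assoc, ha, one_mul]
  have hdb : b * d * b⁻¹ = d⁻¹ := by
    rw [hd, mul_inv_rev, hai, hbi, mul_assoc, mul_assoc, hb, mul_one]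
  have hpa : ∀ j : ℕ, a * d ^ j * a = (d ^ j)⁻¹ := by
    intro j
    have := conj_pow (a := a) (b := d) (i := j)
    rw [hda, hai, inv_pow] at this
    exact this.symm
  have hpb : ∀ j : ℕ, b * d ^ j * b = (d ^ j)⁻¹ := by
    intro j
    have := conj_pow (a := b) (b := d) (i := j)
    rw [hdb, hbi, inv_pow] at this
    exact this.symm
  rcases Nat.even_or_odd' (orderOf d) with ⟨k, hk | hk⟩
  · right
    have hpos : 0 < orderOf d := orderOf_pos d
    refine ⟨d ^ k, pow_ne_one_of_lt_orderOf (by omega) (by omega), ?_, ?_, ?_⟩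
    · rw [← pow_add, ← two_mul, ← hk, pow_orderOf_eq_one]
    · have h1 : d ^ k * d ^ k = 1 := by rw [← pow_add, ← two_mul, ← hk, pow_orderOf_eq_one]
      have h2 : (d ^ k)⁻¹ = d ^ k := inv_eq_of_mul_eq_one_left h1
      have h3 := hpa k
      rw [h2] at h3
      calc d ^ k * a = (a * d ^ k * a) * a := by rw [h3]
        _ = a * d ^ k := by rw [mul_assoc, ha, mul_one]
    · have h1 : d ^ k * d ^ k = 1 := by rw [← pow_add, ← two_mul, ← hk, pow_orderOf_eq_one]
      have h2 : (d ^ k)⁻¹ = d ^ k := inv_eq_of_mul_eq_one_left h1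
      have h3 := hpb k
      rw [h2] at h3
      calc d ^ k * b = (b * d ^ k * b) * b := by rw [h3]
        _ = b * d ^ k := by rw [mul_assoc, hb, mul_one]
  · left
    refine ⟨a * d ^ (k + 1), ?_, ?_⟩
    · calc a * d ^ (k + 1) * (a * d ^ (k + 1)) = (a * d ^ (k + 1) * a) * d ^ (k + 1) := by group
        _ = 1 := by rw [hpa, inv_mul_cancel]
    · calc a * d ^ (k + 1) * a * (a * d ^ (k + 1))
          = a * d ^ (k + 1) * (a * a) * d ^ (k + 1) := by group
        _ = a * (d ^ (k + 1) * d ^ (k + 1)) := by rw [ha, mul_one, mul_assoc]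
        _ = a * d := by
            rw [← pow_add]
            have : k + 1 + (k + 1) = orderOf d + 1 := by omega
            rw [this, pow_succ, pow_orderOf_eq_one, one_mul]
        _ = b := by rw [hd, ← mul_assoc, ha, one_mul]

/-- involutions inside and outside a subgroup containing the centralizers of its involutions are
conjugate by an involution. -/
theorem conj_in_out [Finite G] {M : Subgroup G}
    (hC : ∀ i ∈ M, orderOf i = 2 → Subgroup.centralizer ({i} : Set G) ≤ M) {t u : G}
    (ht : orderOf t = 2) (htM : t ∈ M) (hu : orderOf u = 2) (huM : u ∉ M) :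
    ∃ w, w * w = 1 ∧ w * t * w = u := by
  rcases dih t u (sq_of_order ht) (sq_of_order hu) with h | ⟨z, hz1, hz2, hzt, hzu⟩
  · exact h
  · exfalso
    have hzM : z ∈ M := hC t htM ht (by rw [Subgroup.mem_centralizer_singleton_iff]; exact hzt)
    exact huM (hC z hzM (order_of_sq hz1 hz2)
      (by rw [Subgroup.mem_centralizer_singleton_iff]; exact hzu.symm))

theorem not_odd_of_invol [Finite G] {D : Subgroup G} {t : G} (ht : orderOf t = 2) (htD : t ∈ D) :
    ¬ Odd (Nat.card D) := by
  intro h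
  have h1 : orderOf (⟨t, htD⟩ : D) ∣ Nat.card D := orderOf_dvd_natCard _
  rw [← Subgroup.orderOf_coe] at h1
  simp only [ht] at h1
  exact (Nat.not_even_iff_odd.mpr h) (even_iff_two_dvd.mpr h1)

theorem se_mem [Finite G] {H : Subgroup G} (hH : IsStronglyEmbedded H) {t g : G}
    (ht : orderOf t = 2) (htH : t ∈ H) (htg : g⁻¹ * t * g ∈ H) : g ∈ H := by
  by_contra hg
  apply not_odd_of_invol ht (D := H ⊓ H.map (MulAut.conj g).toMonoidHom) _ (hH.2.2 g hg)
  refine ⟨htH, g⁻¹ * t * g, htg, ?_⟩
  simp [mul_assoc]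

theorem se_centralizer [Finite G] {H : Subgroup G} (hH : IsStronglyEmbedded H) :
    ∀ i ∈ H, orderOf i = 2 → Subgroup.centralizer ({i} : Set G) ≤ H := by
  intro i hi ho c hc
  rw [Subgroup.mem_centralizer_singleton_iff] at hc
  apply se_mem hH ho hi
  have : c⁻¹ * i * c = i := by rw [mul_assoc, ← hc]; group
  rw [this]
  exact hi

/-- `D = H ∩ uHu⁻¹` is transitive on the involutions of `H`. -/
theorem se_conj [Finite G] {H : Subgroup G} (hH : IsStronglyEmbedded H) {u : G}
    (hu : orderOf u = 2) (huH : u ∉ H) {s t : G} (hs : orderOf s = 2) (hsH : s ∈ H)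
    (ht : orderOf t = 2) (htH : t ∈ H) :
    ∃ d ∈ (H ⊓ H.map (MulAut.conj u).toMonoidHom), d * s * d⁻¹ = t := by
  have huu := sq_of_order hu
  have hui : u⁻¹ = u := inv_eq_of_mul_eq_one_left huu
  set s' := u * s * u with hs'
  have hs'o : orderOf s' = 2 := by
    have := order_conj u s
    rw [hui] at this
    rw [hs', this, hs]
  have hs'H : s' ∉ H := by
    intro h
    apply huH
    apply se_mem hH hs'o h
    have : u⁻¹ * s' * u = s := by
      rw [hs', hui]
      calc u * (u * s * u) * u = (u * u) * s * (u * u) := by group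
        _ = s := by rw [huu, one_mul, mul_one]
    rw [this]
    exact hsH
  obtain ⟨w, hww, hw⟩ := conj_in_out (se_centralizer hH) ht htH hs'o hs'H
  have hwi : w⁻¹ = w := inv_eq_of_mul_eq_one_left hww
  have hw' : w * s' * w = t := by
    rw [← hw]
    calc w * (w * t * w) * w = (w * w) * t * (w * w) := by group
      _ = t := by rw [hww, one_mul, mul_one]
  -- `w * u ∈ H`
  have h1 : w * u ∈ H := by
    apply se_mem hH ht htH
    have : (w * u)⁻¹ * t * (w * u) = s := by
      rw [mul_inv_rev, hwi, hui, ← hw', hs']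
      calc u * w * (w * (u * s * u) * w) * (w * u)
          = u * (w * w) * u * s * u * (w * w) * u := by group
        _ = (u * u) * s * (u * u) := by rw [hww]; group
        _ = s := by rw [huu, one_mul, mul_one]
    rw [this]
    exact hsH
  -- `u * w ∈ H`
  have h2 : u * w ∈ H := by
    have := H.inv_mem h1
    rwa [mul_inv_rev, hui, hwi] at this
  refine ⟨w * u, ⟨h1, u * w, h2, ?_⟩, ?_⟩
  · show u * (u * w) * u⁻¹ = w * u
    rw [hui, ← mul_assoc, huu, one_mul]
  · rw [mul_inv_rev, hui, hwi, ← hw', hs']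
    group

theorem all_conj [Finite G] {M : Subgroup G}
    (hC : ∀ i ∈ M, orderOf i = 2 → Subgroup.centralizer ({i} : Set G) ≤ M) {t u : G}
    (ht : orderOf t = 2) (htM : t ∈ M) (hu : orderOf u = 2) (huM : u ∉ M) (a b : G)
    (ha : orderOf a = 2) (hb : orderOf b = 2) : IsConj a b := by
  have key : ∀ {x y : G}, orderOf x = 2 → x ∈ M → orderOf y = 2 → y ∉ M → IsConj x y := by
    intro x y hx hxM hy hyM
    obtain ⟨w, hww, hw⟩ := conj_in_out hC hx hxM hy hyM
    rw [isConj_iff]
    refine ⟨w, ?_⟩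
    rw [inv_eq_of_mul_eq_one_left hww]
    exact hw
  by_cases haM : a ∈ M
  · by_cases hbM : b ∈ M
    · exact (key ha haM hu huM).trans (key hb hbM hu huM).symm
    · exact key ha haM hb hbM
  · by_cases hbM : b ∈ M
    · exact (key hb hbM ha haM).symm
    · exact (key ht htM ha haM).symm.trans (key ht htM hb hbM)

end Cfsg.Agent.Lib.Helper7_StrEmb
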