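import Mathlib
import Cfsg.Agent.Lib.Helper7_StrEmb
import Cfsg.Agent.Lib.Helper4_Syl

set_option autoImplicit false

namespace Cfsg.Agent.Lib.Helper7_StrEmb2

open Cfsg Cfsg.Agent.Lib.Helper7_StrEmb Cfsg.Agent.Lib.Helper4_Syl

open scoped Pointwise

universe u

variable {G : Type u} [Group G]

theorem exists_invol_of_not_odd [Finite G] {D : Subgroup G}
    (h : ¬ Odd (Nat.card D)) : ∃ t ∈ D, orderOf t = 2 := by
  haveI : Fact (Nat.Prime 2) := ⟨Nat.prime_two⟩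
  rw [Nat.not_odd_iff_even] at h
  obtain ⟨t, ht⟩ := exists_prime_orderOf_dvd_card' (G := D) 2 h.two_dvd
  exact ⟨t.1, t.2, by rw [Subgroup.orderOf_coe]; exact ht⟩

theorem se_of_centralizer_normalizer [Finite G] {M XS : Subgroup G} (hM : M ≠ ⊤)
    (heven : Even (Nat.card M))
    (hC : ∀ i ∈ M, orderOf i = 2 → Subgroup.centralizer ({i} : Set G) ≤ M)
    (hX : IsSylIn 2 XS M) (hN : Subgroup.normalizer (XS : Set G) ≤ M) : IsStronglyEmbedded M := by
  haveI : Fact (Nat.Prime 2) := ⟨Nat.prime_two⟩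
  refine ⟨hM, heven, fun g hg => ?_⟩
  by_contra hodd
  obtain ⟨t, htD, hto⟩ := exists_invol_of_not_odd hodd
  obtain ⟨htM, t₁, ht₁M, ht₁⟩ := htD
  have ht₁' : g * t₁ * g⁻¹ = t := ht₁
  have ht₁o : orderOf t₁ = 2 := by rw [← order_conj g t₁, ht₁', hto]
  have hXne : XS ≠ ⊥ := hX.ne_bot_of_dvd heven.two_dvd
  obtain ⟨z, hzX, hzo, hzc⟩ := exists_central_orderOf_eq hX.isPGroup hXne
  obtain ⟨T, hT, htT⟩ := exists_isSylIn_ge (p := 2) (Q := Subgroup.zpowers t) (M := M)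
    (by rw [Subgroup.zpowers_le]; exact htM) (isPGroup_zpowers hto)
  obtain ⟨m, hmM, hmT⟩ := hT.conj hX
  have ht' : m * t * m⁻¹ ∈ XS := by
    rw [← hmT]
    exact conj_mem_conj_smul (htT (Subgroup.mem_zpowers t))
  set h := m * g with hh
  have hth : h * t₁ * h⁻¹ = m * t * m⁻¹ := by
    rw [hh, ← ht₁']; group
  have hzt := hzc _ ht'
  have hz₁M : h⁻¹ * z * h ∈ M := by
    apply hC t₁ ht₁M ht₁o
    rw [Subgroup.mem_centralizer_singleton_iff]
    rw [← hth] at hzt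
    calc h⁻¹ * z * h * t₁ = h⁻¹ * (z * (h * t₁ * h⁻¹)) * h := by group
      _ = h⁻¹ * ((h * t₁ * h⁻¹) * z) * h := by rw [hzt]
      _ = t₁ * (h⁻¹ * z * h) := by group
  have hz₁o : orderOf (h⁻¹ * z * h) = 2 := by
    have := order_conj h⁻¹ z
    rw [inv_inv] at this
    rw [this, hzo]
  have hle : MulAut.conj h⁻¹ • XS ≤ M := by
    intro x hx
    rw [mem_conj_smul, inv_inv] at hx
    apply hC _ hz₁M hz₁o
    rw [Subgroup.mem_centralizer_singleton_iff]
    have h1 := hzc _ hx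
    calc x * (h⁻¹ * z * h) = h⁻¹ * ((h * x * h⁻¹) * z) * h := by group
      _ = h⁻¹ * (z * (h * x * h⁻¹)) * h := by rw [h1]
      _ = h⁻¹ * z * h * x := by group
  have hXtop : IsSylIn 2 XS ⊤ := hX.of_normalizer_le le_top (inf_le_right.trans hN)
  have h2 : IsSylIn 2 (MulAut.conj h⁻¹ • XS) M :=
    (hXtop.smul_of_mem (Subgroup.mem_top h⁻¹)).mono hle le_top
  obtain ⟨m', hm'M, hm'⟩ := hX.conj h2
  have h3 : h * m' ∈ Subgroup.normalizer (XS : Set G) := by
    rw [mem_normalizer_iff_conj_smul, conj_mul_smul, hm', conj_smul_inv_smul]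
  have h4 : h ∈ M := by
    have : h = (h * m') * m'⁻¹ := by group
    rw [this]
    exact M.mul_mem (hN h3) (M.inv_mem hm'M)
  apply hg
  have : g = m⁻¹ * h := by rw [hh]; group
  rw [this]
  exact M.mul_mem (M.inv_mem hmM) h4

end Cfsg.Agent.Lib.Helper7_StrEmb2
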