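import Mathlib

set_option autoImplicit false

namespace Cfsg.Agent.Lib.Helper7_Transfer

open MulAction Subgroup

/-- transfer evaluated at an element all of whose relevant conjugate powers have the expected
image. -/
theorem transfer_eq_pow_of_map {G : Type*} [Group G] {H : Subgroup G} [H.FiniteIndex]
    {A : Type*} [CommGroup A] (ϕ : H →* A) (g : G) (hg : g ∈ H)
    (key : ∀ (k : ℕ) (g₀ : G) (hk : g₀⁻¹ * g ^ k * g₀ ∈ H),
      ϕ ⟨g₀⁻¹ * g ^ k * g₀, hk⟩ = ϕ ⟨g, hg⟩ ^ k) :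
    MonoidHom.transfer ϕ g = ϕ ⟨g, hg⟩ ^ H.index := by
  classical
  let := H.fintypeQuotientOfFiniteIndex
  rw [MonoidHom.transfer_eq_prod_quotient_orbitRel_zpowers_quot, index_eq_sum_minimalPeriod H g,
    ← Finset.prod_pow_eq_pow_sum]
  refine Finset.prod_congr rfl fun q _ => ?_
  exact key _ _ _

theorem eq_one_of_pow_coprime {A : Type*} [Group A] {a : A} {m n : ℕ} (h : Nat.Coprime m n)
    (hm : a ^ m = 1) (hn : a ^ n = 1) : a = 1 := by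
  have h1 : orderOf a ∣ m := orderOf_dvd_of_pow_eq_one hm
  have h2 : orderOf a ∣ n := orderOf_dvd_of_pow_eq_one hn
  have h3 : orderOf a ∣ 1 := h ▸ Nat.dvd_gcd h1 h2
  exact orderOf_eq_one_iff.mp (Nat.dvd_one.mp h3)

theorem transfer_ne_one {G : Type*} [Group G] {H : Subgroup G} [H.FiniteIndex]
    {A : Type*} [CommGroup A] (ϕ : H →* A) {p : ℕ} (hidx : Nat.Coprime p H.index)
    (g : G) (hg : g ∈ H) (hgK : ϕ ⟨g, hg⟩ ≠ 1) (hgp : ∃ k : ℕ, orderOf g = p ^ k)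
    (key : ∀ (k : ℕ) (g₀ : G) (hk : g₀⁻¹ * g ^ k * g₀ ∈ H),
      ϕ ⟨g₀⁻¹ * g ^ k * g₀, hk⟩ = ϕ ⟨g, hg⟩ ^ k) :
    MonoidHom.transfer ϕ g ≠ 1 := by
  rw [transfer_eq_pow_of_map ϕ g hg key]
  intro h
  apply hgK
  obtain ⟨k, hk⟩ := hgp
  refine eq_one_of_pow_coprime (Nat.Coprime.pow_left k hidx) ?_ h
  rw [← map_pow]
  have : (⟨g, hg⟩ : H) ^ (p ^ k) = 1 := by
    apply Subtype.ext
    rw [Subgroup.coe_pow, Subgroup.coe_mk, ← hk, pow_orderOf_eq_one]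
    rfl
  rw [this, map_one]

end Cfsg.Agent.Lib.Helper7_Transfer
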