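import Mathlib

/-! Transfer of an involution as a product over the fixed cosets. -/

set_option autoImplicit false

namespace Cfsg.Agent.Lib.Helper7_TransferInv

open Subgroup Subgroup.leftTransversals MulAction
open scoped Pointwise

theorem transfer_invol {G : Type*} [Group G] {H : Subgroup G} [H.FiniteIndex]
    {A : Type*} [CommGroup A] (ϕ : H →* A) (z : G) (hz : z * z = 1) [Fintype (G ⧸ H)]
    (F : G ⧸ H → A)
    (hF1 : ∀ (g : G) (h : g⁻¹ * z * g ∈ H), F (g : G ⧸ H) = ϕ ⟨g⁻¹ * z * g, h⟩)
    (hF2 : ∀ g : G, g⁻¹ * z * g ∉ H → F (g : G ⧸ H) = 1) :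
    MonoidHom.transfer ϕ z = ∏ q : G ⧸ H, F q := by
  classical
  have hzi : z⁻¹ = z := inv_eq_of_mul_eq_one_left hz
  let t : G ⧸ H → G := fun q => q.out
  have ht : ∀ q, ((t q : G) : G ⧸ H) = q := fun q => QuotientGroup.out_eq' q
  let Tr : H.LeftTransversal := ⟨Set.range t, isComplement_range_left ht⟩
  have hmem : ∀ q : G ⧸ H, (t q)⁻¹ * (z * t (z • q)) ∈ H := by
    intro q
    rw [← QuotientGroup.eq]
    have : ((z * t (z • q) : G) : G ⧸ H) = z • ((t (z • q) : G) : G ⧸ H) := rfl
    rw [this, ht, ht, ← mul_smul, hz, one_smul]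
  let f : G ⧸ H → A := fun q => ϕ ⟨(t q)⁻¹ * (z * t (z • q)), hmem q⟩
  have h1 : MonoidHom.transfer ϕ z = ∏ q : G ⧸ H, f q := by
    rw [MonoidHom.transfer_def ϕ Tr z]
    unfold diff
    simp only
    refine Finset.prod_congr (by ext; simp) ?_
    intro q _
    apply congrArg ϕ
    apply Subtype.ext
    simp only
    rw [smul_apply_eq_smul_apply_inv_smul, hzi]
    have e1 : ∀ q, ((Tr.2.leftQuotientEquiv q : Set.range t) : G) = t q :=
      fun q => IsComplement.leftQuotientEquiv_apply ht q
    rw [e1, e1]; rfl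
  rw [h1]
  have hfix : ∀ q : G ⧸ H, z • q = q → f q = F q := by
    intro q hq
    have h2 : (t q)⁻¹ * z * t q ∈ H := by
      have := hmem q
      rw [hq] at this
      rwa [mul_assoc]
    have h3 := hF1 (t q) h2
    rw [ht] at h3
    rw [h3]
    apply congrArg ϕ
    apply Subtype.ext
    simp only
    rw [hq, mul_assoc]
  have hnfix : ∀ q : G ⧸ H, z • q ≠ q → F q = 1 := by
    intro q hq
    have h3 := hF2 (t q) (by
      intro h
      apply hq
      rw [mul_assoc, ← QuotientGroup.eq] at h
      have e : ((z * t q : G) : G ⧸ H) = z • ((t q : G) : G ⧸ H) := rfl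
      rw [e, ht] at h
      exact h.symm)
    rwa [ht] at h3
  have h2 : ∏ q : G ⧸ H, f q * (F q)⁻¹ = 1 := by
    apply Finset.prod_involution (fun q _ => z • q)
    · intro q _
      by_cases hq : z • q = q
      · rw [hq, hfix q hq]; simp
      · have hq' : z • (z • q) ≠ z • q := by
          rw [← mul_smul, hz, one_smul]; exact fun h => hq h.symm
        rw [hnfix q hq, hnfix _ hq']
        simp only [inv_one, mul_one]
        show ϕ _ * ϕ _ = 1
        rw [← map_mul]
        have : (⟨(t q)⁻¹ * (z * t (z • q)), hmem q⟩ : H) *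
            ⟨(t (z • q))⁻¹ * (z * t (z • (z • q))), hmem (z • q)⟩ = 1 := by
          apply Subtype.ext
          simp only [Subgroup.coe_mul, Subgroup.coe_one]
          rw [← mul_smul, hz, one_smul]
          calc (t q)⁻¹ * (z * t (z • q)) * ((t (z • q))⁻¹ * (z * t q))
              = (t q)⁻¹ * (z * z) * t q := by group
            _ = 1 := by rw [hz]; group
        rw [this, map_one]
    · intro q _ hne hq
      apply hne
      rw [hfix q hq]; simp
    · intro q _
      rw [← mul_smul, hz, one_smul]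
    · intro q _; exact Finset.mem_univ _
  rw [Finset.prod_mul_distrib, Finset.prod_inv_distrib, mul_inv_eq_one] at h2
  exact h2

end Cfsg.Agent.Lib.Helper7_TransferInv
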