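import Mathlib

set_option autoImplicit false

namespace Cfsg.Agent.Lib.Helper7_Union

variable {G : Type*} [Group G]

/-- A finite group is not the union of the conjugates of a proper subgroup. -/
theorem exists_not_mem_conj [Finite G] (H : Subgroup G) (hH : H ≠ ⊤) :
    ∃ x : G, ∀ g : G, g⁻¹ * x * g ∉ H := by
  by_contra hcon
  push Not at hcon
  let φ : (G ⧸ H) × H → G := fun p => p.1.out * p.2.1 * p.1.out⁻¹
  have hsurj : Function.Surjective φ := by
    intro x
    obtain ⟨g, hg⟩ := hcon x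
    obtain ⟨h0, hh0⟩ := QuotientGroup.mk_out_eq_mul H g
    refine ⟨(QuotientGroup.mk g, ⟨h0.1⁻¹ * (g⁻¹ * x * g) * h0.1,
      mul_mem (mul_mem (inv_mem h0.2) hg) h0.2⟩), ?_⟩
    show (QuotientGroup.mk g : G ⧸ H).out * (h0.1⁻¹ * (g⁻¹ * x * g) * h0.1) *
      (QuotientGroup.mk g : G ⧸ H).out⁻¹ = x
    rw [hh0]; group
  have hbij := hsurj.bijective_of_nat_card_le (by
    rw [Nat.card_prod, mul_comm]
    exact (Subgroup.card_mul_index H).le)
  apply hH
  rw [eq_top_iff]
  intro g _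
  have h1 : φ (QuotientGroup.mk g, 1) = φ (QuotientGroup.mk 1, 1) := by simp [φ]
  have h2 : (QuotientGroup.mk g : G ⧸ H) = QuotientGroup.mk 1 := congrArg Prod.fst (hbij.1 h1)
  have h3 := QuotientGroup.eq.1 h2
  simpa using h3

end Cfsg.Agent.Lib.Helper7_Union
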