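import Mathlib
import Cfsg.Agent.Lib.Helper7_ZS15
import Cfsg.Agent.S4720

set_option autoImplicit false

namespace Cfsg.Agent.Lib.Helper7_ZS16

open Cfsg Cfsg.Agent.Lib.Helper2_BlockLocal
  Cfsg.Agent.Lib.Helper2_BlockOm Cfsg.Agent.Lib.Helper2_BlockThird Cfsg.Agent.Lib.CharBasic
  Cfsg.Agent.Lib.Helper2_PrincipalSection Cfsg.Agent.Lib.Helper2_BlockOrtho2 Cfsg.Agent.Lib.helper8_Defect
  Cfsg.Agent.Lib.CharIntegral Cfsg.Agent.Lib.Helper2_BlockFMT Cfsg.Agent.Lib.helper8_SubSec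
  Cfsg.Agent.Lib.Helper2_PPart Cfsg.Agent.Lib.CharMore Cfsg.Agent.Lib.CharOrtho Cfsg.Agent.Lib.CharGen
  Cfsg.Agent.Lib.helper8_BlockRank Cfsg.Agent.Lib.Helper2_BlockQuot Cfsg.Agent.Lib.helper8_Kernel
  Cfsg.Agent.Lib.Helper2_BlockOrtho Cfsg.Agent.Lib.Helper2_SecondMain Cfsg.Agent.Lib.Helper2_Basic
  Cfsg.Agent.Lib.Helper7_ZS1 Cfsg.Agent.Lib.Helper2_BlockOsima Cfsg.Agent.Lib.CharComplete
  Cfsg.Agent.Lib.Helper7_ZS2 Cfsg.Agent.Lib.Helper7_ZS3 Cfsg.Agent.Lib.CharKer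
  Cfsg.Agent.Lib.Helper2_Isolated Cfsg.Agent.Lib.Helper3_Core Cfsg.Agent.Lib.Helper7_ZS4
  Cfsg.Agent.Lib.helper8_DefectZero Cfsg.Agent.Lib.Helper7_ZS7 Cfsg.Agent.Lib.Helper7_ZS8
  Cfsg.Agent.Lib.Helper7_ZS9 Cfsg.Agent.Lib.Helper7_ZS10 Cfsg.Agent.Lib.Helper7_ZS11
  Cfsg.Agent.Lib.CharLinear Cfsg.Agent.Lib.Helper2_BlockSection Cfsg.Agent.Lib.Helper7_ZS12
  Cfsg.Agent.Lib.Helper7_ZS13 Cfsg.Agent.Lib.Helper7_ZS14 Cfsg.Agent.Lib.CharInd
  Cfsg.Agent.Lib.Helper7_ZS15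
open scoped ComplexConjugate Classical

universe u

variable {G : Type u} [Group G]

theorem t_mem_zpowers [Finite G] {t : G} (ht : IsIsolatedInvolution t)
    (hun : ∀ x : G, orderOf x = 2 → Commute t x → x = t) {Q : Subgroup G} (hQ : IsPGroup 2 Q)
    (htQ : t ∈ Q) {u : G} (huQ : u ∈ Q) (hu1 : u ≠ 1) : t ∈ Subgroup.zpowers u := by
  obtain ⟨j, hj⟩ := (IsPGroup.iff_orderOf.mp hQ) ⟨u, huQ⟩
  rw [← Subgroup.orderOf_coe] at hj
  simp only at hj
  have hj0 : j ≠ 0 := by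
    rintro rfl
    rw [pow_zero, orderOf_eq_one_iff] at hj
    exact hu1 hj
  obtain ⟨i, rfl⟩ := Nat.exists_eq_succ_of_ne_zero hj0
  have h2 : orderOf (u ^ 2 ^ i) = 2 := by
    rw [orderOf_pow_of_dvd (by positivity) (by rw [hj]; exact pow_dvd_pow 2 (Nat.le_succ i)), hj,
      pow_succ]
    exact Nat.mul_div_cancel_left 2 (by positivity)
  have := invol_eq_of_pgroup ht hun hQ htQ (Q.pow_mem huQ _) h2
  rw [← this]
  exact Subgroup.pow_mem _ (Subgroup.mem_zpowers u) _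

theorem not_inverted' {t : G} (ht : IsIsolatedInvolution t) {u : G}
    (htu : t ∈ Subgroup.zpowers u) (huu : u * u ≠ 1) (g : G) :
    (g * t * g⁻¹) * u * (g * t * g⁻¹)⁻¹ ≠ u⁻¹ := by
  intro hcon
  have htt := sq_eq_one_of_orderOf_two ht.1
  have hti : t⁻¹ = t := inv_eq_of_mul_eq_one_left htt
  have h1 : (g * t * g⁻¹) * t * (g * t * g⁻¹)⁻¹ = t := by
    rw [conj_inv_of_mem hcon htu, hti]
  have hc : Commute t (g * t * g⁻¹) := (mul_inv_eq_iff_eq_mul.mp h1).symm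
  have hx := ht.2 g hc
  rw [hx, conj_eq_of_mem htu (Subgroup.mem_zpowers u)] at hcon
  apply huu
  nth_rewrite 1 [hcon]
  exact inv_mul_cancel u

theorem q16_case [Finite G] {t : G} (ht : IsIsolatedInvolution t)
    (hun : ∀ x : G, orderOf x = 2 → Commute t x → x = t)
    (IH : ∀ H : Subgroup G, H ≠ ⊤ → ∀ htH : t ∈ H, ∀ h : H,
      (⟨t, htH⟩ : H) * h * (⟨t, htH⟩ : H)⁻¹ * h⁻¹ ∈ pPrimeCore 2 H)
    (S : Sylow 2 G) (htS : t ∈ (S : Subgroup G)) {α : G} (hαS : α ∈ (S : Subgroup G)) {k : ℕ}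
    (hαo : orderOf α = 2 ^ (k + 3))
    (hall : ∀ (S' : Sylow 2 G) (h : α ∈ (S' : Subgroup G)), QLike (⟨α, h⟩ : (S' : Subgroup G)))
    (g : G) : t * g * t⁻¹ * g⁻¹ ∈ pPrimeCore 2 G := by
  obtain ⟨M, hM⟩ := exists_modular Nat.prime_two
  have := Fintype.ofFinite G
  haveI : Fact (Nat.Prime 2) := ⟨Nat.prime_two⟩
  have hPr := isPrime_of_modular hM
  set P : Subgroup G := Subgroup.zpowers α with hPdef
  set N : Subgroup G := (S : Subgroup G) with hNdef
  have hq := hall S hαS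
  have hPN : P ≤ N := Subgroup.zpowers_le.mpr hαS
  have hP : IsPGroup 2 P := S.2.to_le hPN
  have hcardP : Nat.card P = 2 ^ (k + 3) := by rw [hPdef, Nat.card_zpowers, hαo]
  set gen : P := ⟨α, Subgroup.mem_zpowers α⟩ with hgendef
  have hgen : ∀ x : P, x ∈ Subgroup.zpowers gen := fun x => mem_zpowers_subtype.mpr x.2
  have hgeno : orderOf gen = 2 ^ (k + 3) := by rw [← Subgroup.orderOf_coe]; exact hαo
  set iu : ℂˣ := ⟨Complex.I, -Complex.I, by simp, by simp⟩ with hiu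
  have hiu2 : iu ^ 2 = -1 := by
    apply Units.ext
    simp [hiu]
  have hiu4 : iu ^ 4 = 1 := by
    rw [show (4 : ℕ) = 2 * 2 from rfl, pow_mul, hiu2]; simp
  have hdvd : orderOf iu ∣ orderOf gen := by
    rw [hgeno]
    refine (orderOf_dvd_of_pow_eq_one hiu4).trans ?_
    exact ⟨2 ^ (k + 1), by rw [pow_add, pow_add]; ring⟩
  set lam : P →* ℂˣ := monoidHomOfForallMemZpowers hgen hdvd with hlamdef
  have hlam : lam gen = iu := monoidHomOfForallMemZpowers_apply_gen hgen hdvd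
  have h2 : ∃ a, (lam a) ^ 2 ≠ 1 := by
    refine ⟨gen, ?_⟩
    rw [hlam, hiu2]
    intro h
    have := congrArg Units.val h
    norm_num at this
  have h1 : ∃ a, lam a ≠ 1 := by
    obtain ⟨a, ha⟩ := h2
    exact ⟨a, fun h => ha (by rw [h, one_pow])⟩
  have htα : α ^ 2 ^ (k + 2) = t := by
    apply invol_eq_of_pgroup ht hun S.2 htS (Subgroup.pow_mem _ hαS _)
    rw [orderOf_pow_of_dvd (by positivity) (by rw [hαo]; exact pow_dvd_pow 2 (Nat.le_succ _)), hαo,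
      pow_succ 2 (k + 2)]
    exact Nat.mul_div_cancel_left 2 (by positivity)
  have htP : t ∈ P := by rw [← htα]; exact Subgroup.pow_mem _ (Subgroup.mem_zpowers α) _
  have hlamt : lam ⟨t, htP⟩ = 1 := by
    have : (⟨t, htP⟩ : P) = gen ^ 2 ^ (k + 2) := by
      apply Subtype.ext
      simp [hgendef, htα]
    rw [this, map_pow, hlam, show 2 ^ (k + 2) = 4 * 2 ^ k by rw [pow_add]; ring, pow_mul, hiu4,
      one_pow]
  have hUsq : ∀ y : P, lam y ≠ 1 → (y : G) * (y : G) ≠ 1 := by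
    intro y hy h
    by_cases hy1 : (y : G) = 1
    · apply hy
      have : y = 1 := Subtype.ext hy1
      rw [this, map_one]
    · have ho : orderOf (y : G) = 2 := orderOf_eq_prime (by rw [pow_two, h]) hy1
      have := invol_eq_of_pgroup ht hun S.2 htS (hPN y.2) ho
      apply hy
      have e : y = ⟨t, htP⟩ := Subtype.ext this
      rw [e, hlamt]
  set U : Set G := {u | ∃ y : P, lam y ≠ 1 ∧ (y : G) = u} with hU
  have hUP : U ⊆ (P : Set G) := by
    rintro _ ⟨y, _, rfl⟩; exact y.2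
  have hUne : U.Nonempty := by
    obtain ⟨a, ha⟩ := h1
    exact ⟨a, a, ha, rfl⟩
  have hinv : ∀ u ∈ U, ∀ g : G, (g * t * g⁻¹) * u * (g * t * g⁻¹)⁻¹ ≠ u⁻¹ := by
    rintro _ ⟨y, hy, rfl⟩ g
    have hyy := hUsq y hy
    refine not_inverted' ht (t_mem_zpowers ht hun S.2 htS (hPN y.2) ?_) hyy g
    intro h
    apply hyy
    rw [h, one_mul]
  have hθU : ∀ y : P, (y : G) ∉ U → th lam y = 0 := by
    intro y hy
    have : lam y = 1 := by
      by_contra h
      exact hy ⟨y, h, rfl⟩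
    unfold th
    rw [this]; simp
  have hact : ∀ n ∈ N, ∀ y : P, n * (y : G) * n⁻¹ = y ∨ n * (y : G) * n⁻¹ = ((y⁻¹ : P) : G) := by
    intro n hn y
    rcases act_cases hαS hq hn with h | h
    · exact Or.inl (conj_eq_of_mem h y.2)
    · exact Or.inr (conj_inv_of_mem h y.2)
  have hNN : N ≤ Subgroup.normalizer (P : Set G) := by
    intro s hs
    have key : ∀ s ∈ N, s * α * s⁻¹ ∈ Subgroup.zpowers α := by
      intro s hs
      rcases hact s hs gen with h | h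
      · have h' : s * α * s⁻¹ = α := h
        rw [h']; exact Subgroup.mem_zpowers α
      · have h' : s * α * s⁻¹ = α⁻¹ := h
        rw [h']; exact Subgroup.inv_mem _ (Subgroup.mem_zpowers α)
    apply mem_normalizer_zpowers (key s hs)
    have := key s⁻¹ (Subgroup.inv_mem _ hs)
    rwa [inv_inv] at this
  have hUN : ∀ n ∈ N, ∀ u ∈ U, n * u * n⁻¹ ∈ U := by
    rintro n hn _ ⟨y, hy, rfl⟩
    rcases hact n hn y with h | h
    · rw [h]; exact ⟨y, hy, rfl⟩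
    · rw [h]
      refine ⟨y⁻¹, ?_, rfl⟩
      rw [map_inv]
      intro h0
      exact hy (inv_eq_one.mp h0)
  have hfus : ∀ u ∈ U, ∀ g : G, g * u * g⁻¹ ∈ (P : Set G) → ∃ n ∈ N, n * u * n⁻¹ = g * u * g⁻¹ := by
    rintro _ ⟨y, hy, rfl⟩ g hg
    exact fusion16 S hαS hq y.2 hg
  have hw : ∀ y ∈ U, ((∑ᶠ ψ ∈ principalBlock M ↥(Subgroup.centralizer ({y} : Set G)),
      charDegree (ψ : ↥(Subgroup.centralizer ({y} : Set G)) → ℂ) ^ 2) : ℚ) =
      (1 : ℚ) * Nat.card ↥(N ⊓ Subgroup.centralizer ({y} : Set G)) := by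
    rintro _ ⟨y, hy, rfl⟩
    obtain ⟨hidx, hfac⟩ := centralizer_core16 (k := k + 2) hαo hall y.2 (hUsq y hy)
    rw [sum_deg_sq hM hidx hfac, inf_centralizer hαS hq y.2 (hUsq y hy), Nat.card_zpowers, hαo]
    push_cast; ring
  have N0 := Cfsg.Agent.S4720.result 2 M hM P hP N hPN hNN U hUne hUP hUN hfus 1 hw (th lam) (th lam)
    (th_gen lam) (th_gen lam) hθU
  obtain ⟨-, -, -, R4⟩ := Cfsg.Agent.S4722.result M hM P hP U hUP t ht.1 hinv _ (th_gen lam) hθU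
  have hch : ∀ χ : IrrCharacter G, IsCharacter G χ := fun χ => isCharacter_of_isIrr χ.2
  have hint : ∀ χ : IrrCharacter G, ∃ c : ℤ, (Nat.card P : ℂ)⁻¹ *
      ∑ᶠ y : P, (χ : G → ℂ) (y : G) * th lam y⁻¹ = c := by
    intro χ
    rw [finsum_eq_sum_of_fintype]
    exact coeff_int lam (isCharacter_restrict P (hch χ))
  choose c hc using hint
  set Bf : Finset (IrrCharacter G) := Finset.univ.filter (fun χ => χ ∈ principalBlock M G) with hBf
  have hq0 : (Nat.card P : ℂ) ≠ 0 := by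
    exact_mod_cast (Nat.card_pos (α := P)).ne'
  have hsum : ∑ χ ∈ Bf, c χ ^ 2 = 3 := by
    have hR : ∑ᶠ y : P, th lam y * conj (∑ᶠ x : N, extendByZero P (th lam)
        ((x : G) * (y : G) * (x : G)⁻¹)) = (Nat.card P : ℂ) * (3 * (Nat.card P : ℂ)) := by
      rw [finsum_eq_sum_of_fintype]
      have e : ∀ y : P, th lam y * conj (∑ᶠ x : N, extendByZero P (th lam)
          ((x : G) * (y : G) * (x : G)⁻¹)) =
          (Nat.card P : ℂ) * (th lam y * conj (th lam y + th lam y⁻¹)) := by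
        intro y
        rw [Helper7_ZS15.inner_sum hαS hq (th lam) y, map_mul, Complex.conj_natCast]
        ring
      rw [Finset.sum_congr rfl (fun y _ => e y), ← Finset.mul_sum, sum_three lam h2]
    rw [hR, Helper7_ZS12.finsum_block, Finset.sum_congr rfl (fun χ _ => by rw [hc χ])] at N0
    have h3 : (((∑ χ ∈ Bf, c χ ^ 2 : ℤ)) : ℂ) = ((3 : ℤ) : ℂ) := by
      push_cast
      have e : ∀ χ ∈ Bf, (c χ : ℂ) ^ 2 = (c χ : ℂ) * conj (c χ : ℂ) := by
        intro χ _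
        rw [map_intCast]; ring
      rw [Finset.sum_congr rfl e, N0]
      push_cast
      field_simp
    exact_mod_cast h3
  have hne : (Nat.card P : ℂ)⁻¹ * ∑ᶠ y : P, th lam y ≠ 0 := by
    rw [finsum_eq_sum_of_fintype]
    unfold th
    rw [Finset.sum_sub_distrib, sum_lam lam h1, Finset.sum_const, Finset.card_univ,
      ← Nat.card_eq_fintype_card]
    simp [hq0]
  rcases R4 hne with ⟨hp, hn⟩ | ⟨K, hK, hKne, _, htK⟩
  swap
  · exact of_proper_normal ht IH hK hKne htK g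
  exfalso
  have hpos : 2 ≤ (Bf.filter (fun χ => 0 < c χ)).card := by
    refine hp.trans (le_of_eq ?_)
    refine Nat.subtype_card _ (fun χ => ?_)
    rw [hc χ]
    simp [hBf]
  have hneg : 2 ≤ (Bf.filter (fun χ => c χ < 0)).card := by
    refine hn.trans (le_of_eq ?_)
    refine Nat.subtype_card _ (fun χ => ?_)
    rw [hc χ]
    simp [hBf]
  exact no_three Bf c hsum hpos hneg

end Cfsg.Agent.Lib.Helper7_ZS16
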