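import Mathlib
import Cfsg.Agent.Lib.Helper7_ZS16
import Cfsg.Agent.S0016
import Cfsg.Agent.S0219

set_option autoImplicit false

namespace Cfsg.Agent.Lib.Helper7_ZStar

open Cfsg Cfsg.Agent.Lib.Helper2_Basic Cfsg.Agent.Lib.Helper7_ZS1 Cfsg.Agent.Lib.Helper7_ZS4
  Cfsg.Agent.Lib.Helper7_ZS5 Cfsg.Agent.Lib.Helper2_Isolated Cfsg.Agent.Lib.Helper3_Core
  Cfsg.Agent.Lib.Helper3_PComp Cfsg.Agent.Lib.Helper7_ZS6 Cfsg.Agent.Lib.Helper7_ZS7
  Cfsg.Agent.Lib.Helper7_ZS8 Cfsg.Agent.Lib.Helper7_ZS9 Cfsg.Agent.Lib.Helper7_ZS13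
  Cfsg.Agent.Lib.Helper7_ZS12 Cfsg.Agent.Lib.Helper7_ZS16
open scoped commutatorElement

universe u

theorem commutator_le_of_index_two {G : Type u} [Group G] (H : Subgroup G) (hH : H.index = 2) :
    commutator G ≤ H := by
  rw [commutator_def, Subgroup.commutator_le]
  intro a _ b _
  rw [commutatorElement_def, mul_assoc, Subgroup.mul_mem_iff_of_index_two hH,
    Subgroup.mul_mem_iff_of_index_two hH, Subgroup.mul_mem_iff_of_index_two hH,
    Subgroup.inv_mem_iff, Subgroup.inv_mem_iff]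

/-- The Brauer-Suzuki case. -/
theorem bs : BSHyp.{u} := by
  intro G _ _ t ht hun IH g
  haveI : Fact (Nat.Prime 2) := ⟨Nat.prime_two⟩
  by_cases hperf : commutator G = ⊤
  swap
  · exact of_not_perfect ht hun IH hperf g
  have hp : IsPGroup 2 (Subgroup.zpowers t) := IsPGroup.of_card (n := 1) (by
    rw [Nat.card_zpowers, ht.1]; norm_num)
  obtain ⟨S, hS⟩ := hp.exists_le_sylow
  have htS : t ∈ (S : Subgroup G) := hS (Subgroup.mem_zpowers t)
  by_cases hcyc : IsCyclic (S : Subgroup G)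
  · exfalso
    have heven : Even (Nat.card G) := by
      have h1 : orderOf t ∣ Nat.card G := orderOf_dvd_natCard t
      rw [ht.1] at h1
      exact (even_iff_two_dvd).mpr h1
    obtain ⟨H, hH⟩ := Cfsg.Agent.S0219.result heven S hcyc
    have h1 := commutator_le_of_index_two H hH
    rw [hperf, top_le_iff] at h1
    rw [h1, Subgroup.index_top] at hH
    norm_num at hH
  have huniq : ∀ H : Subgroup (S : Subgroup G), Nat.card H = 2 →
      H = Subgroup.zpowers (⟨t, htS⟩ : (S : Subgroup G)) := by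
    intro H hH
    obtain ⟨x, hx⟩ := exists_prime_orderOf_dvd_card' (G := H) 2 (by rw [hH])
    rw [← Subgroup.orderOf_coe, ← Subgroup.orderOf_coe] at hx
    have h1 := invol_eq_of_pgroup ht hun S.2 htS (x : (S : Subgroup G)).2 hx
    have h2 : (⟨t, htS⟩ : (S : Subgroup G)) ∈ H := by
      have : (⟨t, htS⟩ : (S : Subgroup G)) = (x : (S : Subgroup G)) := Subtype.ext h1.symm
      rw [this]; exact x.2
    symm
    apply Subgroup.eq_of_le_of_card_ge (Subgroup.zpowers_le.mpr h2)
    rw [hH, Nat.card_zpowers, ← Subgroup.orderOf_coe]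
    exact ht.1.ge
  rcases Cfsg.Agent.S0016.result (G := (S : Subgroup G)) 2 S.2
    (fun H K hH hK => (huniq H hH).trans (huniq K hK).symm) with h | ⟨-, n, ⟨e⟩⟩
  · exact absurd h hcyc
  rcases n with _ | _ | k
  · exfalso
    apply hcyc
    have h1 : IsCyclic (QuaternionGroup (2 ^ 0)) := QuaternionGroup.quaternionGroup_one_isCyclic
    exact isCyclic_of_surjective e.symm e.symm.surjective
  · have hc : Nat.card (S : Subgroup G) = 8 := by
      rw [Nat.card_congr e.toEquiv, Nat.card_eq_fintype_card, QuaternionGroup.card]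
      norm_num
    exact q8_case ht IH (q8like_of_sylow ht hun S hc hcyc) S htS hperf g
  · have hm : 2 < 2 ^ (k + 1 + 1) := by
      have : 1 ≤ 2 ^ k := Nat.one_le_two_pow
      rw [pow_succ, pow_succ]; omega
    set α : (S : Subgroup G) := e.symm (QuaternionGroup.a 1) with hα
    have hαo : orderOf (α : G) = 2 ^ (k + 3) := by
      rw [Subgroup.orderOf_coe, hα, MulEquiv.orderOf_eq, QuaternionGroup.orderOf_a_one]
      ring
    refine q16_case ht hun IH S htS α.2 hαo ?_ g
    intro S' h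
    have e' : (S' : Subgroup G) ≃* QuaternionGroup (2 ^ (k + 1 + 1)) := (Sylow.equiv S' S).trans e
    apply qlike_of_equiv hm e'
    rw [← Subgroup.orderOf_coe]
    show orderOf (α : G) = _
    rw [hαo]; ring

/-- **Glauberman's Z\*-theorem**. -/
theorem zstar {G : Type u} [Group G] [Finite G] {t : G} (ht : IsIsolatedInvolution t) (g : G) :
    t * g * t⁻¹ * g⁻¹ ∈ pPrimeCore 2 G :=
  zstar_aux bs _ G rfl t ht g

end Cfsg.Agent.Lib.Helper7_ZStar
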