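import Mathlib
import Cfsg.Agent.Lib.Helper7_ZStar

set_option autoImplicit false

namespace Cfsg.Agent.Lib.Helper7_ZStar2

open Cfsg Cfsg.Agent.Lib.Helper2_Basic Cfsg.Agent.Lib.Helper7_ZS1 Cfsg.Agent.Lib.Helper7_ZS4
  Cfsg.Agent.Lib.Helper2_Isolated Cfsg.Agent.Lib.Helper3_Core
  Cfsg.Agent.Lib.Helper3_PComp Cfsg.Agent.Lib.Helper7_ZS6 Cfsg.Agent.Lib.Helper7_ZS7
  Cfsg.Agent.Lib.Helper7_ZS13 Cfsg.Agent.Lib.Helper7_ZStar
open scoped Pointwise

universe u

variable {G : Type u} [Group G]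

theorem core_odd [Finite G] : Odd (Nat.card (pPrimeCore 2 G)) :=
  Nat.coprime_two_right.mp (pPrimeCore_coprime 2 G)

theorem core_normal : (pPrimeCore 2 G).Normal := rad_normal (fitClass_coprime 2)

/-- two commuting `2`-elements lie in a common conjugate of a given Sylow `2`-subgroup. -/
theorem exists_conj_mem [Finite G] (P : Sylow 2 G) {u x : G} (hu : ∃ k : ℕ, orderOf u = 2 ^ k)
    (hx : ∃ k : ℕ, orderOf x = 2 ^ k) (hc : Commute u x) :
    ∃ h : G, h * u * h⁻¹ ∈ P ∧ h * x * h⁻¹ ∈ P := by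
  haveI : Fact (Nat.Prime 2) := ⟨Nat.prime_two⟩
  obtain ⟨k, hk⟩ := hu
  obtain ⟨l, hl⟩ := hx
  have h1 : IsPGroup 2 (Subgroup.zpowers u) := IsPGroup.of_card (n := k) (by rw [Nat.card_zpowers, hk])
  have h2 : IsPGroup 2 (Subgroup.zpowers x) := IsPGroup.of_card (n := l) (by rw [Nat.card_zpowers, hl])
  have h3 : Subgroup.zpowers u ≤ Subgroup.normalizer (Subgroup.zpowers x : Set G) := by
    rw [Subgroup.zpowers_le]
    apply mem_normalizer_zpowers
    · rw [hc.eq, mul_inv_cancel_right]; exact Subgroup.mem_zpowers x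
    · rw [mul_assoc, ← hc.eq, inv_mul_cancel_left]; exact Subgroup.mem_zpowers x
  obtain ⟨P', hP'⟩ := (h1.to_sup_of_normal_right' h2 h3).exists_le_sylow
  obtain ⟨h, hh⟩ := MulAction.exists_smul_eq G P' P
  refine ⟨h, ?_, ?_⟩
  · rw [← hh]
    have : u ∈ (P' : Subgroup G) := hP' (Subgroup.mem_sup_left (Subgroup.mem_zpowers u))
    show h * u * h⁻¹ ∈ ((h • P' : Sylow 2 G) : Subgroup G)
    rw [Sylow.coe_subgroup_smul]
    exact ⟨u, this, rfl⟩
  · rw [← hh]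
    have : x ∈ (P' : Subgroup G) := hP' (Subgroup.mem_sup_right (Subgroup.mem_zpowers x))
    show h * x * h⁻¹ ∈ ((h • P' : Sylow 2 G) : Subgroup G)
    rw [Sylow.coe_subgroup_smul]
    exact ⟨x, this, rfl⟩

theorem isolated_of_sylow [Finite G] (P : Sylow 2 G) {u : G} (hu : orderOf u = 2)
    (hiso : ∀ g : G, g * u * g⁻¹ ∈ P → g * u * g⁻¹ = u) : IsIsolatedInvolution u := by
  refine ⟨hu, ?_⟩
  intro g hc
  have hx : orderOf (g * u * g⁻¹) = 2 := by
    have : g * u * g⁻¹ = MulAut.conj g u := by simp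
    rw [this, MulEquiv.orderOf_eq]; exact hu
  obtain ⟨h, h1, h2⟩ := exists_conj_mem P ⟨1, by rw [hu, pow_one]⟩ ⟨1, by rw [hx, pow_one]⟩ hc
  have e1 := hiso h h1
  have e : h * (g * u * g⁻¹) * h⁻¹ = (h * g) * u * (h * g)⁻¹ := by group
  rw [e] at h2
  have e2 := hiso (h * g) h2
  have e3 : h * (g * u * g⁻¹) * h⁻¹ = h * u * h⁻¹ := by rw [e, e2, e1]
  have := mul_right_cancel e3
  exact mul_left_cancel this

end Cfsg.Agent.Lib.Helper7_ZStar2
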