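import Mathlib
import Cfsg.Prelude.Def_FusionSystem
import Cfsg.Prelude.Def_FusionComponents
import Cfsg.Agent.Lib.Helper9_HyperGroup

set_option autoImplicit false

namespace Cfsg.Agent.Lib.Helper9_PPower

open Cfsg Cfsg.FusionSystem Cfsg.Agent.Lib.Helper9_FusionBasic Cfsg.Agent.Lib.Helper9_FusionSat
  Cfsg.Agent.Lib.Helper9_FusionGroup Cfsg.Agent.Lib.Helper9_PResidual
  Cfsg.Agent.Lib.Helper9_PResidual2 Cfsg.Agent.Lib.Helper9_Focal Cfsg.Agent.Lib.Helper9_SubSat
  Cfsg.Agent.Lib.Helper9_HyperGroup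

/-- a saturated subsystem over `T` lies in every subsystem of `p`-power index over `T` -/
theorem le_of_pPowerIndex {Ω : Type*} [Group Ω] {S T : Subgroup Ω} [Finite T] (p : ℕ)
    [Fact p.Prime] (hT : IsPGroup p T) {F : FusionSystem S} {E₁ E₂ : FusionSystem T}
    (h1sat : E₁.IsSaturated p) (h1 : E₁.IsSubsystemOf F) (h2 : E₂.HasPPowerIndexIn F p) :
    E₁ ≤ E₂ := by
  apply alperin_pResidual p hT E₁ h1sat
  rintro P hP _ ⟨a, ha, rfl⟩
  apply h2.2.2 P hP.1
  exact ⟨Subgroup.inclusion (autGroup_le_of_subsystem h1 hP.1) a,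
    hom_mem_pResidual (Subgroup.inclusion (autGroup_le_of_subsystem h1 hP.1)) ha, rfl⟩

variable {G : Type*} [Group G] {p : ℕ}

theorem subgroup_pResidual_hasPPowerIndex [Finite G] [Fact p.Prime] (S : Sylow p G) :
    (fusionSystemOfSubgroup (pResidual p G) ((S : Subgroup G) ⊓ pResidual p G)
      inf_le_right).HasPPowerIndexIn (groupFusionSystem (S : Subgroup G)) p := by
  refine ⟨subgroup_isSubsystemOf_group _ _ _ _ inf_le_left, (hyperfocal_group S).le, ?_⟩
  rintro P hP _ ⟨α, hα, rfl⟩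
  obtain ⟨g, hg, hgx⟩ := exists_pResidual_conj_group (S : Subgroup G) (hP.trans inf_le_left) α hα
  rw [mem_autGroup_iff _ hP]
  exact ⟨hP, fun x => hP ((α : MulAut P) x).2, g, hg, hgx⟩

theorem pResidual_group_aux [Finite G] [Fact p.Prime] (S : Sylow p G) (T : Subgroup G)
    (hT : T = (S : Subgroup G) ⊓ pResidual p G) (E : FusionSystem T) (hsat : E.IsSaturated p)
    (hidx : E.HasPPowerIndexIn (groupFusionSystem (S : Subgroup G)) p) (P : Subgroup G) :
    E.Hom P = (fusionSystemOfSubgroup (pResidual p G) ((S : Subgroup G) ⊓ pResidual p G)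
      inf_le_right).Hom P := by
  subst hT
  have hnor := pResidual_normal p G
  have hU : IsPGroup p ↥((S : Subgroup G) ⊓ pResidual p G) := S.isPGroup'.to_le inf_le_left
  have hsat2 := subgroup_saturated _ _ inf_le_right (sylIn_inf_normal S (pResidual p G))
  exact Set.Subset.antisymm
    (le_of_pPowerIndex p hU hsat hidx.1 (subgroup_pResidual_hasPPowerIndex S) P)
    (le_of_pPowerIndex p hU hsat2 (subgroup_pResidual_hasPPowerIndex S).1 hidx P)

end Cfsg.Agent.Lib.Helper9_PPower
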