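import Mathlib
import Cfsg.Prelude.Def_FusionSystem
import Cfsg.Agent.Lib.Helper9_PPower

set_option autoImplicit false

namespace Cfsg.Agent.Lib.Helper9_Full

open Cfsg Cfsg.FusionSystem Cfsg.Agent.Lib.Helper9_FusionBasic Cfsg.Agent.Lib.Helper9_FusionSat
  Cfsg.Agent.Lib.Helper9_PResidual
  Cfsg.Agent.Lib.Helper9_PResidual2 Cfsg.Agent.Lib.Helper9_Focal
  Cfsg.Agent.Lib.Helper9_HyperGroup

variable {Ω : Type*} [Group Ω] {S : Subgroup Ω}

/-- the full subsystem of `F` on a subgroup `T ≤ S` -/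
def fullSub (F : FusionSystem S) (T : Subgroup Ω) (hT : T ≤ S) : FusionSystem T where
  Hom P := {φ | φ ∈ F.Hom P ∧ P ≤ T ∧ ∀ x : P, φ x ∈ T}
  le_of_mem h := h.2
  injective_of_mem h := F.injective_of_mem h.1
  conj_mem := by
    intro P g hP hg
    exact ⟨F.conj_mem (hP.trans hT) (hT hg), hP,
      fun x => T.mul_mem (T.mul_mem hg (hP x.2)) (T.inv_mem hg)⟩
  comp_mem := by
    intro P Q φ ψ hφ hψ h
    exact ⟨F.comp_mem hφ.1 hψ.1 h, hφ.2.1, fun x => hψ.2.2 _⟩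
  inv_mem := by
    intro P φ hφ
    obtain ⟨ψ, hψ, h⟩ := F.inv_mem hφ.1
    refine ⟨ψ, ⟨hψ, ?_, ?_⟩, h⟩
    · rintro _ ⟨x, rfl⟩
      exact hφ.2.2 x
    · rintro ⟨_, x, rfl⟩
      rw [h]
      exact hφ.2.1 x.2

theorem mem_fullSub_iff (F : FusionSystem S) (T : Subgroup Ω) (hT : T ≤ S) {P : Subgroup Ω}
    (φ : P →* Ω) : φ ∈ (fullSub F T hT).Hom P ↔ φ ∈ F.Hom P ∧ P ≤ T ∧ ∀ x : P, φ x ∈ T := Iff.rfl

/-- S5199 (saturation of `E` and the `p`-power index of `F₀` suffice) -/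
theorem subsystem_of_pPowerIndex {T U : Subgroup Ω} [Finite T] (p : ℕ) [Fact p.Prime]
    (hT : IsPGroup p T) {F : FusionSystem S} {E : FusionSystem T} {F₀ : FusionSystem U}
    (hTU : T ≤ U) (hsat : E.IsSaturated p) (hEF : E.IsSubsystemOf F)
    (hidx : F₀.HasPPowerIndexIn F p) : E.IsSubsystemOf F₀ := by
  have h : E ≤ fullSub F₀ T hTU := by
    apply alperin_pResidual p hT E hsat
    rintro P hP _ ⟨a, ha, rfl⟩
    have h1 : ((a : MulAut P)) ∈ F₀.autGroup P := by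
      apply hidx.2.2 P (hP.1.trans hTU)
      exact ⟨Subgroup.inclusion (autGroup_le_of_subsystem hEF hP.1) a,
        hom_mem_pResidual (Subgroup.inclusion (autGroup_le_of_subsystem hEF hP.1)) ha, rfl⟩
    rw [mem_autGroup_iff _ (hP.1.trans hTU)] at h1
    show (a : MulAut P) ∈ _
    rw [mem_autGroup_iff _ hP.1]
    exact ⟨h1, hP.1, fun x => hP.1 ((a : MulAut P) x).2⟩
  exact fun P φ hφ => (h P hφ).1

end Cfsg.Agent.Lib.Helper9_Full
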