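import Mathlib
import Cfsg.Agent.Lib.Helper1_PGroup
import Cfsg.Agent.Lib.Helper4_Cop

set_option autoImplicit false

namespace Cfsg.Agent.Lib.Helper9_Omega

open Cfsg.Agent.Lib.Helper1_PGroup Cfsg.Agent.Lib.Helper4_Cop

variable {P : Type*} [Group P]

/-- fixed points of an automorphism -/
def fixedSub (α : MulAut P) : Subgroup P where
  carrier := {x | α x = x}
  one_mem' := map_one α
  mul_mem' := by
    intro a b ha hb
    show α (a * b) = a * b
    rw [map_mul, ha, hb]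
  inv_mem' := by
    intro a ha
    show α a⁻¹ = a⁻¹
    rw [map_inv, ha]

theorem mem_fixedSub (α : MulAut P) (x : P) : x ∈ fixedSub α ↔ α x = x := Iff.rfl

theorem pow_apply_of_fix (α : MulAut P) {x c : P} (hx : α x = c * x) (hc : α c = c) (k : ℕ) :
    (α ^ k) x = c ^ k * x := by
  induction k with
  | zero => simp
  | succ k ih =>
    rw [pow_succ', MulAut.mul_apply, ih, map_mul, map_pow, hc, hx, pow_succ, mul_assoc]

/-- coprime step: trivial on `D` and modulo `D` implies trivial -/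
theorem fix_of_fix_mod {p : ℕ} (hP : IsPGroup p P) (α : MulAut P) (hα : (orderOf α).Coprime p)
    (D : Subgroup P) (hfix : ∀ d ∈ D, α d = d) (x : P) (hx : α x * x⁻¹ ∈ D) : α x = x := by
  have h1 : α x = (α x * x⁻¹) * x := by group
  have h2 := pow_apply_of_fix α h1 (hfix _ hx) (orderOf α)
  rw [pow_orderOf_eq_one, MulAut.one_apply] at h2
  have h3 : (α x * x⁻¹) ^ orderOf α = 1 := by
    have : (α x * x⁻¹) ^ orderOf α * x = 1 * x := by rw [← h2, one_mul]
    exact mul_right_cancel this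
  obtain ⟨k, hk⟩ := hP (α x * x⁻¹)
  have h4 := eq_one_of_coprime_pow h3 hk (Nat.Coprime.pow_right k hα)
  exact mul_inv_eq_one.mp h4

theorem pow_mul_comm_of_central {x y c : P} (hcx : Commute c x) (hcy : Commute c y)
    (hc : y * x = c * x * y) (n : ℕ) : y ^ n * x = c ^ n * x * y ^ n := by
  induction n with
  | zero => simp
  | succ n ih =>
    calc y ^ (n + 1) * x = y * (y ^ n * x) := by rw [pow_succ', mul_assoc]
      _ = y * (c ^ n * x * y ^ n) := by rw [ih]
      _ = c ^ n * (y * x) * y ^ n := by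
        rw [← mul_assoc, ← mul_assoc, ((hcy.pow_left n).eq).symm, mul_assoc (c ^ n)]
      _ = c ^ n * (c * x * y) * y ^ n := by rw [hc]
      _ = c ^ (n + 1) * x * y ^ (n + 1) := by
        rw [pow_succ, pow_succ']
        simp only [mul_assoc]

theorem mul_pow_of_central {x y c : P} (hcx : Commute c x) (hcy : Commute c y)
    (hc : y * x = c * x * y) (n : ℕ) : (x * y) ^ n = x ^ n * y ^ n * c ^ (n.choose 2) := by
  induction n with
  | zero => simp
  | succ n ih =>
    have h1 := pow_mul_comm_of_central hcx hcy hc n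
    have hcxn : Commute (c ^ n) (x ^ n) := (hcx.pow_left n).pow_right n
    have hc2 : ∀ m : ℕ, Commute (c ^ m) (x * y) := fun m => (hcx.mul_right hcy).pow_left m
    calc (x * y) ^ (n + 1) = x ^ n * y ^ n * c ^ (n.choose 2) * (x * y) := by rw [pow_succ, ih]
      _ = x ^ n * (y ^ n * x) * y * c ^ (n.choose 2) := by
        rw [mul_assoc (x ^ n * y ^ n), (hc2 _).eq]
        simp only [mul_assoc]
      _ = x ^ n * (c ^ n * x * y ^ n) * y * c ^ (n.choose 2) := by rw [h1]
      _ = x ^ (n + 1) * y ^ (n + 1) * (c ^ n * c ^ (n.choose 2)) := by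
        have e1 : x ^ n * (c ^ n * x * y ^ n) = c ^ n * (x ^ (n + 1) * y ^ n) := by
          rw [← mul_assoc, ← mul_assoc, ← hcxn.eq, pow_succ]
          simp only [mul_assoc]
        have hc3 : Commute (c ^ n) (x ^ (n + 1) * y ^ (n + 1)) :=
          ((hcx.pow_right (n + 1)).mul_right (hcy.pow_right (n + 1))).pow_left n
        rw [e1, mul_assoc (c ^ n), mul_assoc (x ^ (n + 1)), ← pow_succ, hc3.eq]
        simp only [mul_assoc]
      _ = x ^ (n + 1) * y ^ (n + 1) * c ^ ((n + 1).choose 2) := by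
        rw [← pow_add]
        congr 2
        rw [Nat.choose_succ_succ' n 1, Nat.choose_one_right]

open scoped commutatorElement in
theorem fix_aux [Finite P] {p : ℕ} [hp : Fact p.Prime] (hP : IsPGroup p P) (α : MulAut P)
    (hα : (orderOf α).Coprime p) :
    ∀ n : ℕ, ∀ Q : Subgroup P, Nat.card Q = n → (∀ x ∈ Q, α x ∈ Q) →
      (∀ x ∈ Q, x ^ p = 1 → α x = x) →
      (p = 2 → (∀ x ∈ Q, x ^ 4 = 1 → α x = x) ∨ (∀ x ∈ Q, ∀ y ∈ Q, x * y = y * x)) →
      ∀ x ∈ Q, α x = x := by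
  intro n
  induction n using Nat.strong_induction_on with
  | _ n ih =>
  intro Q hn hinv hfix h2
  set D : Subgroup P := Subgroup.closure {y | ∃ x ∈ Q, y = α x * x⁻¹} with hD
  have hDQ : D ≤ Q := by
    rw [hD, Subgroup.closure_le]
    rintro _ ⟨x, hx, rfl⟩
    exact Q.mul_mem (hinv x hx) (Q.inv_mem hx)
  suffices hDfix : ∀ d ∈ D, α d = d by
    intro x hx
    exact fix_of_fix_mod hP α hα D hDfix x (Subgroup.subset_closure ⟨x, hx, rfl⟩)
  have hsub : ∀ N : Subgroup P, N ≤ Q → N ≠ Q → (∀ x ∈ N, α x ∈ N) → ∀ x ∈ N, α x = x := by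
    intro N hNQ hne hNinv
    have hlt : Nat.card N < n := by
      rw [← hn]
      have hle := Subgroup.card_le_of_le hNQ
      rcases hle.lt_or_eq with h | h
      · exact h
      · exact absurd (Subgroup.eq_of_le_of_card_ge hNQ h.ge) hne
    exact ih _ hlt N rfl hNinv (fun x hx => hfix x (hNQ hx))
      (fun h => (h2 h).imp (fun a x hx => a x (hNQ hx)) (fun a x hx y hy => a x (hNQ hx) y (hNQ hy)))
  by_cases hDeq : D = Q
  swap
  · apply hsub D hDQ hDeq
    intro d hd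
    have hle : D ≤ D.comap α.toMonoidHom := by
      conv_lhs => rw [hD]
      rw [Subgroup.closure_le]
      rintro _ ⟨x, hx, rfl⟩
      show α (α x * x⁻¹) ∈ D
      rw [map_mul, map_inv]
      exact Subgroup.subset_closure ⟨α x, hinv x hx, rfl⟩
    exact hle hd
  by_cases hbot : Q = ⊥
  · intro d hd
    have h1 : d ∈ Q := hDQ hd
    rw [hbot, Subgroup.mem_bot] at h1
    rw [h1, map_one]
  set N : Subgroup P := Subgroup.closure ({y | ∃ x ∈ Q, y = x ^ p} ∪
    {y | ∃ a ∈ Q, ∃ b ∈ Q, y = a * b * a⁻¹ * b⁻¹}) with hN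
  have hNQ : N ≤ Q := by
    rw [hN, Subgroup.closure_le]
    rintro y (⟨x, hx, rfl⟩ | ⟨a, ha, b, hb, rfl⟩)
    · exact Q.pow_mem hx p
    · exact Q.mul_mem (Q.mul_mem (Q.mul_mem ha hb) (Q.inv_mem ha)) (Q.inv_mem hb)
  have hNne : N ≠ Q := by
    have hnt : Nontrivial Q := (Subgroup.nontrivial_iff_ne_bot _).mpr hbot
    obtain ⟨M, hM⟩ : ∃ M : Subgroup Q, IsCoatom M := by
      rcases eq_top_or_exists_le_coatom (⊥ : Subgroup Q) with h | ⟨M, hM, -⟩
      · exact absurd h bot_ne_top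
      · exact ⟨M, hM⟩
    obtain ⟨hMn, hMi⟩ := coatom_normal_index (hP.to_subgroup Q) hM
    have hle : N ≤ M.map Q.subtype := by
      rw [hN, Subgroup.closure_le]
      rintro y (⟨x, hx, rfl⟩ | ⟨a, ha, b, hb, rfl⟩)
      · exact ⟨⟨x, hx⟩ ^ p, pow_mem_of_index_eq hMi ⟨x, hx⟩, rfl⟩
      · exact ⟨⁅(⟨a, ha⟩ : Q), ⟨b, hb⟩⁆, commutator_le_of_index_prime hMi
          (Subgroup.commutator_mem_commutator (Subgroup.mem_top _) (Subgroup.mem_top _)), rfl⟩
    intro heq
    apply hM.1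
    rw [eq_top_iff]
    intro x _
    have h1 : (x : P) ∈ N := heq.ge x.2
    obtain ⟨y, hy, hyx⟩ := hle h1
    have : y = x := Subtype.ext hyx
    rwa [← this]
  have hNinv : ∀ x ∈ N, α x ∈ N := by
    have hle : N ≤ N.comap α.toMonoidHom := by
      conv_lhs => rw [hN]
      rw [Subgroup.closure_le]
      rintro y (⟨x, hx, rfl⟩ | ⟨a, ha, b, hb, rfl⟩)
      · show α (x ^ p) ∈ N
        rw [map_pow]
        exact Subgroup.subset_closure (Or.inl ⟨α x, hinv x hx, rfl⟩)
      · show α (a * b * a⁻¹ * b⁻¹) ∈ N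
        rw [map_mul, map_mul, map_mul, map_inv, map_inv]
        exact Subgroup.subset_closure (Or.inr ⟨α a, hinv a ha, α b, hinv b hb, rfl⟩)
    exact fun x hx => hle hx
  have hNfix := hsub N hNQ hNne hNinv
  have hconj : ∀ g ∈ Q, ∀ m ∈ N, g * m * g⁻¹ ∈ N := by
    intro g hg m hm
    have h1 : g * m * g⁻¹ * m⁻¹ ∈ N := Subgroup.subset_closure (Or.inr ⟨g, hg, m, hNQ hm, rfl⟩)
    have h2 := N.mul_mem h1 hm
    simpa using h2
  -- `N` is central in `Q`
  have hcent : ∀ x ∈ Q, ∀ m ∈ N, m * x = x * m := by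
    have hle : D ≤ Subgroup.centralizer (N : Set P) := by
      rw [hD, Subgroup.closure_le]
      rintro _ ⟨x, hx, rfl⟩
      refine Subgroup.mem_centralizer_iff.2 ?_
      intro m hm
      have h1 := hNfix _ (hconj x⁻¹ (Q.inv_mem hx) m hm)
      simp only [map_mul, map_inv, inv_inv] at h1
      rw [hNfix m hm] at h1
      calc m * (α x * x⁻¹) = α x * ((α x)⁻¹ * m * α x) * x⁻¹ := by group
        _ = α x * (x⁻¹ * m * x) * x⁻¹ := by rw [h1]
        _ = α x * x⁻¹ * m := by group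
    intro x hx m hm
    exact Subgroup.mem_centralizer_iff.mp (hle (hDeq.ge hx)) m hm
  -- the power map
  have key : ∃ q : ℕ, (∀ x ∈ Q, ∀ y ∈ Q, (x * y) ^ q = x ^ q * y ^ q) ∧ (∀ x ∈ Q, x ^ q ∈ N) ∧
      (∀ x ∈ Q, x ^ q = 1 → α x = x) := by
    have hcomm : ∀ x ∈ Q, ∀ y ∈ Q, ∀ k : ℕ, p ∣ k.choose 2 →
        (x * y) ^ k = x ^ k * y ^ k := by
      intro x hx y hy k hk
      have hcN : y * x * y⁻¹ * x⁻¹ ∈ N := Subgroup.subset_closure (Or.inr ⟨y, hy, x, hx, rfl⟩)
      have hcx : Commute (y * x * y⁻¹ * x⁻¹) x := hcent x hx _ hcN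
      have hcy : Commute (y * x * y⁻¹ * x⁻¹) y := hcent y hy _ hcN
      have hc : y * x = (y * x * y⁻¹ * x⁻¹) * x * y := by group
      have h1 := pow_mul_comm_of_central hcx hcy hc p
      have hyp : y ^ p ∈ N := Subgroup.subset_closure (Or.inl ⟨y, hy, rfl⟩)
      rw [hcent x hx _ hyp, mul_assoc] at h1
      have h3 : (y * x * y⁻¹ * x⁻¹) ^ p = 1 := by
        have : 1 * (x * y ^ p) = (y * x * y⁻¹ * x⁻¹) ^ p * (x * y ^ p) := by rw [one_mul]; exact h1
        exact (mul_right_cancel this).symm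
      rw [mul_pow_of_central hcx hcy hc k]
      obtain ⟨j, hj⟩ := hk
      rw [hj, pow_mul, h3, one_pow, mul_one]
    by_cases hp2 : p = 2
    · rcases h2 hp2 with h4 | hab
      · refine ⟨4, fun x hx y hy => hcomm x hx y hy 4 ?_, fun x hx => ?_, h4⟩
        · rw [hp2]; decide
        · have h5 : x ^ p ∈ N := Subgroup.subset_closure (Or.inl ⟨x, hx, rfl⟩)
          have h6 := N.pow_mem h5 2
          rw [← pow_mul, hp2] at h6
          exact h6
      · refine ⟨p, fun x hx y hy => ?_, fun x hx => Subgroup.subset_closure (Or.inl ⟨x, hx, rfl⟩),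
          hfix⟩
        exact (show Commute x y from hab x hx y hy).mul_pow p
    · refine ⟨p, fun x hx y hy => hcomm x hx y hy p ?_,
        fun x hx => Subgroup.subset_closure (Or.inl ⟨x, hx, rfl⟩), hfix⟩
      apply hp.out.dvd_choose_self (by norm_num)
      exact lt_of_le_of_ne hp.out.two_le (Ne.symm hp2)
  obtain ⟨q, hq1, hq2, hq3⟩ := key
  have hle : D ≤ fixedSub α := by
    rw [hD, Subgroup.closure_le]
    rintro _ ⟨x, hx, rfl⟩
    apply hq3 _ (Q.mul_mem (hinv x hx) (Q.inv_mem hx))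
    rw [hq1 _ (hinv x hx) _ (Q.inv_mem hx), ← map_pow, hNfix _ (hq2 x hx), inv_pow,
      mul_inv_cancel]
  exact fun d hd => hle hd

/-- a `p'`-automorphism of a finite `p`-group fixing the elements of order `p` (and `4`) of an
invariant subgroup `Q` fixes `Q` pointwise -/
theorem fix_of_fix_small [Finite P] {p : ℕ} [Fact p.Prime] (hP : IsPGroup p P) (α : MulAut P)
    (hα : (orderOf α).Coprime p) (Q : Subgroup P) (hinv : ∀ x ∈ Q, α x ∈ Q)
    (hfix : ∀ x ∈ Q, (x ^ p = 1 ∨ (p = 2 ∧ x ^ 4 = 1)) → α x = x) : ∀ x ∈ Q, α x = x :=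
  fix_aux hP α hα _ Q rfl hinv (fun x hx h => hfix x hx (Or.inl h))
    (fun h2 => Or.inl (fun x hx h => hfix x hx (Or.inr ⟨h2, h⟩)))

theorem fix_of_fix_small_abelian [Finite P] {p : ℕ} [Fact p.Prime] (hP : IsPGroup p P)
    (α : MulAut P) (hα : (orderOf α).Coprime p) (Q : Subgroup P) (hinv : ∀ x ∈ Q, α x ∈ Q)
    (hab : ∀ x ∈ Q, ∀ y ∈ Q, x * y = y * x)
    (hfix : ∀ x ∈ Q, x ^ p = 1 → α x = x) : ∀ x ∈ Q, α x = x :=
  fix_aux hP α hα _ Q rfl hinv hfix (fun _ => Or.inr hab)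

end Cfsg.Agent.Lib.Helper9_Omega
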