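import Mathlib
import Cfsg.Prelude.Def_OddOrderLocal
import Cfsg.Agent.Lib.Helper9_Omega
import Cfsg.Agent.Lib.Helper4_Cop

set_option autoImplicit false

namespace Cfsg.Agent.Lib.Helper9_Metacyclic

open Cfsg.Agent.Lib.Helper9_Omega

theorem nt_lemma {p : ℕ} [hp : Fact p.Prime] (hp2 : p ≠ 2) {k n : ℕ} (hk : 1 ≤ k)
    (h : p ^ n ∣ k ^ p - 1) : p ^ n ∣ p * (k - 1) := by
  rcases Nat.eq_zero_or_pos n with rfl | hn
  · simp
  rcases hk.eq_or_lt with rfl | hk1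
  · simp
  have hpd : p ∣ k ^ p - 1 := (dvd_pow_self p hn.ne').trans h
  have hkp : 1 ≤ k ^ p := Nat.one_le_pow _ _ hk
  have h1 : ((k : ZMod p)) = 1 := by
    have h2 : ((k ^ p - 1 : ℕ) : ZMod p) = 0 := (ZMod.natCast_eq_zero_iff _ _).2 hpd
    rw [Nat.cast_sub hkp, Nat.cast_pow, ZMod.pow_card, Nat.cast_one, sub_eq_zero] at h2
    exact h2
  have hd : p ∣ k - 1 := by
    rw [← ZMod.natCast_eq_zero_iff, Nat.cast_sub hk, h1]; simp
  have hnd : ¬ p ∣ k := by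
    intro hc
    have : (k : ZMod p) = 0 := (ZMod.natCast_eq_zero_iff _ _).2 hc
    rw [h1] at this
    exact one_ne_zero this
  have hodd : Odd p := hp.out.odd_of_ne_two hp2
  have hlte := padicValNat.pow_sub_pow hodd hk1 hd hnd (n := p) hp.out.ne_zero
  rw [one_pow, padicValNat_self] at hlte
  have hne : k ^ p - 1 ≠ 0 := by
    have : 1 < k ^ p := Nat.one_lt_pow hp.out.ne_zero hk1
    omega
  have h3 : n ≤ padicValNat p (k ^ p - 1) := (padicValNat_dvd_iff_le hne).1 h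
  rw [hlte] at h3
  calc p ^ n ∣ p ^ (padicValNat p (k - 1) + 1) := pow_dvd_pow p h3
    _ = p * p ^ padicValNat p (k-1) := by rw [pow_succ']
    _ ∣ p * (k - 1) := Nat.mul_dvd_mul_left p pow_padicValNat_dvd

variable {P : Type*} [Group P] [Finite P]

theorem exists_gen (N : Subgroup P) [hc : IsCyclic N] :
    ∃ a ∈ N, ∀ b ∈ N, ∃ i : ℕ, a ^ i = b := by
  obtain ⟨a, ha⟩ := hc.exists_generator
  refine ⟨a, a.2, fun b hb => ?_⟩
  have h1 := ha ⟨b, hb⟩
  rw [← mem_powers_iff_mem_zpowers] at h1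
  obtain ⟨i, hi⟩ := h1
  exact ⟨i, congrArg Subtype.val hi⟩

theorem conj_eq_pow (N : Subgroup P) [hN : N.Normal] {a : P} (haN : a ∈ N)
    (ha : ∀ b ∈ N, ∃ i : ℕ, a ^ i = b) (g : P) :
    ∃ k : ℕ, 1 ≤ k ∧ ∀ b ∈ N, g * b * g⁻¹ = b ^ k := by
  obtain ⟨k, hk⟩ := ha (g * a * g⁻¹) (hN.conj_mem a haN g)
  refine ⟨k + orderOf a, ?_, ?_⟩
  · have := orderOf_pos a
    omega
  · intro b hb
    obtain ⟨i, rfl⟩ := ha b hb
    rw [← conj_pow, ← hk, pow_add, ← pow_mul, ← pow_mul, ← pow_mul, mul_comm i (orderOf a),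
      pow_mul a (orderOf a), pow_orderOf_eq_one, one_pow, mul_one, mul_comm]

theorem conj_pow_iter {N : Subgroup P} {g : P} {k : ℕ} (h : ∀ b ∈ N, g * b * g⁻¹ = b ^ k) (j : ℕ) :
    ∀ b ∈ N, g ^ j * b * (g ^ j)⁻¹ = b ^ (k ^ j) := by
  induction j with
  | zero => intro b _; simp
  | succ j ih =>
    intro b hb
    have h1 : g ^ (j + 1) * b * (g ^ (j + 1))⁻¹ = g * (g ^ j * b * (g ^ j)⁻¹) * g⁻¹ := by
      rw [pow_succ']; group
    rw [h1, ih b hb, h _ (N.pow_mem hb _), ← pow_mul, pow_succ]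

theorem central_of_pow {p : ℕ} [hp : Fact p.Prime] (hP : IsPGroup p P) (N : Subgroup P)
    [hN : N.Normal] [hc : IsCyclic N] {b : P} (hb : b ∈ N) (hbp : b ^ p = 1) (g : P) :
    g * b * g⁻¹ = b := by
  obtain ⟨a, haN, ha⟩ := exists_gen N
  obtain ⟨k, -, hk⟩ := conj_eq_pow N haN ha g
  obtain ⟨m, hm⟩ := hP g
  have h1 := conj_pow_iter hk (p ^ m) b hb
  rw [hm] at h1
  have h2 : k ^ (p ^ m) ≡ k [MOD p] := by
    rw [← ZMod.natCast_eq_natCast_iff, Nat.cast_pow, ZMod.pow_card_pow]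
  have h3 : b ^ (k ^ (p ^ m)) = b ^ k :=
    pow_eq_pow_iff_modEq.2 (h2.of_dvd (orderOf_dvd_of_pow_eq_one hbp))
  rw [hk b hb, ← h3, ← h1]
  simp

theorem comm_pow_eq_one {p : ℕ} [hp : Fact p.Prime] (hp2 : p ≠ 2) (hP : IsPGroup p P)
    (N : Subgroup P) [hN : N.Normal] [hc : IsCyclic N] {y b : P} (hy : y ^ p ∈ N) (hb : b ∈ N) :
    (y * b * y⁻¹ * b⁻¹) ^ p = 1 := by
  obtain ⟨a, haN, ha⟩ := exists_gen N
  obtain ⟨k, hk1, hk⟩ := conj_eq_pow N haN ha y
  have h1 := conj_pow_iter hk p a haN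
  obtain ⟨i, hi⟩ := ha _ hy
  have h2 : y ^ p * a * (y ^ p)⁻¹ = a := by
    rw [← hi]
    have : Commute (a ^ i) a := (Commute.refl a).pow_left i
    rw [this.eq]; group
  rw [h2] at h1
  have hkp : 1 ≤ k ^ p := Nat.one_le_pow _ _ hk1
  have h3 : a ^ (k ^ p - 1) = 1 := by
    have h4 : a ^ (k ^ p) = a ^ (k ^ p - 1) * a := by
      rw [← pow_succ, Nat.sub_add_cancel hkp]
    rw [h4] at h1
    exact (mul_eq_right.1 h1.symm)
  obtain ⟨n, hn⟩ := (IsPGroup.iff_orderOf.1 hP) a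
  have h5 : p ^ n ∣ p * (k - 1) := nt_lemma hp2 hk1 (hn ▸ orderOf_dvd_of_pow_eq_one h3)
  have h6 : a ^ (p * (k - 1)) = 1 := orderOf_dvd_iff_pow_eq_one.1 (hn ▸ h5)
  obtain ⟨j, rfl⟩ := ha b hb
  have h7 : y * a ^ j * y⁻¹ * (a ^ j)⁻¹ = (a ^ j) ^ (k - 1) := by
    rw [hk _ hb]
    have : (a ^ j) ^ k = (a ^ j) ^ (k - 1) * a ^ j := by
      rw [← pow_succ, Nat.sub_add_cancel hk1]
    rw [this]; group
  rw [h7, ← pow_mul, ← pow_mul, mul_comm j, mul_comm (k - 1), pow_mul, h6, one_pow]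

theorem comm_mem (N : Subgroup P) [hN : N.Normal] [hc : IsCyclic (P ⧸ N)] (x y : P) :
    y * x * y⁻¹ * x⁻¹ ∈ N := by
  let _ := IsCyclic.commGroup (α := P ⧸ N)
  rw [← QuotientGroup.eq_one_iff]
  have h1 : (QuotientGroup.mk y : P ⧸ N) * QuotientGroup.mk x =
      QuotientGroup.mk x * QuotientGroup.mk y := mul_comm _ _
  rw [QuotientGroup.mk_mul, QuotientGroup.mk_mul, QuotientGroup.mk_mul, h1,
    QuotientGroup.mk_inv, QuotientGroup.mk_inv]
  group

theorem card_pow_ker_dvd {G : Type*} [Group G] [Finite G] [hc : IsCyclic G] (p : ℕ)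
    (K : Subgroup G) (hK : ∀ x ∈ K, x ^ p = 1) : Nat.card K ∣ p := by
  let _ := IsCyclic.commGroup (α := G)
  have h1 := IsCyclic.card_powMonoidHom_ker (G := G) p
  have h2 : K ≤ (powMonoidHom p : G →* G).ker := by
    intro x hx
    rw [MonoidHom.mem_ker]
    exact hK x hx
  exact (Subgroup.card_dvd_of_le h2).trans (h1 ▸ Nat.gcd_dvd_right _ _)

theorem mem_zpowers_of_pow {G : Type*} [Group G] [Finite G] [hc : IsCyclic G] {p : ℕ}
    [hp : Fact p.Prime] {x y : G} (hx : x ^ p = 1) (hy : y ^ p = 1) (hy1 : y ≠ 1) :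
    x ∈ Subgroup.zpowers y := by
  let _ := IsCyclic.commGroup (α := G)
  have h1 : Nat.card (powMonoidHom p : G →* G).ker ∣ p :=
    card_pow_ker_dvd p _ (fun x hx => hx)
  have h2 : Subgroup.zpowers y ≤ (powMonoidHom p : G →* G).ker := by
    rw [Subgroup.zpowers_le, MonoidHom.mem_ker]
    exact hy
  have h3 : Nat.card (Subgroup.zpowers y) = p := by
    rw [Nat.card_zpowers]
    exact orderOf_eq_prime hy hy1
  have h4 := Subgroup.eq_of_le_of_card_ge h2 (by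
    rw [h3]; exact Nat.le_of_dvd hp.out.pos h1)
  rw [h4, MonoidHom.mem_ker]
  exact hx

theorem comm_pow_eq_one' {p : ℕ} [hp : Fact p.Prime] (hp2 : p ≠ 2) (hP : IsPGroup p P)
    (N : Subgroup P) [hN : N.Normal] [hc : IsCyclic N] [hq : IsCyclic (P ⧸ N)] {x y : P}
    (hx : x ^ p = 1) (hy : y ^ p = 1) : (y * x * y⁻¹ * x⁻¹) ^ p = 1 := by
  by_cases hyN : y ∈ N
  · have h1 := comm_pow_eq_one hp2 hP N (y := x) (b := y⁻¹) (by rw [hx]; exact N.one_mem)
      (N.inv_mem hyN)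
    have h2 : y * x * y⁻¹ * x⁻¹ = y * (x * y⁻¹ * x⁻¹ * y⁻¹⁻¹) * y⁻¹ := by group
    rw [h2, conj_pow, h1]
    group
  · have hy1 : (QuotientGroup.mk y : P ⧸ N) ≠ 1 := by
      rwa [Ne, QuotientGroup.eq_one_iff]
    have h1 : (QuotientGroup.mk x : P ⧸ N) ∈ Subgroup.zpowers (QuotientGroup.mk y : P ⧸ N) := by
      apply mem_zpowers_of_pow (p := p) _ _ hy1
      · rw [← QuotientGroup.mk_pow, hx]; rfl
      · rw [← QuotientGroup.mk_pow, hy]; rfl
    obtain ⟨i, hi⟩ := Subgroup.mem_zpowers_iff.1 h1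
    have hb : (y ^ i)⁻¹ * x ∈ N := by
      rw [← QuotientGroup.eq, QuotientGroup.mk_zpow]
      exact hi
    have h2 := comm_pow_eq_one hp2 hP N (y := y) (b := (y ^ i)⁻¹ * x)
      (by rw [hy]; exact N.one_mem) hb
    have h3 : y * x * y⁻¹ * x⁻¹ =
        y ^ i * (y * ((y ^ i)⁻¹ * x) * y⁻¹ * ((y ^ i)⁻¹ * x)⁻¹) * (y ^ i)⁻¹ := by
      have : y ^ i * y = y * y ^ i := ((Commute.refl y).zpow_left i).eq
      calc y * x * y⁻¹ * x⁻¹ = (y * y ^ i) * ((y ^ i)⁻¹ * x) * y⁻¹ * x⁻¹ := by group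
        _ = (y ^ i * y) * ((y ^ i)⁻¹ * x) * y⁻¹ * x⁻¹ := by rw [this]
        _ = _ := by group
    rw [h3, conj_pow, h2]
    group

theorem mul_pow_eq_one {p : ℕ} [hp : Fact p.Prime] (hp2 : p ≠ 2) (hP : IsPGroup p P)
    (N : Subgroup P) [hN : N.Normal] [hc : IsCyclic N] [hq : IsCyclic (P ⧸ N)] {x y : P}
    (hx : x ^ p = 1) (hy : y ^ p = 1) : (x * y) ^ p = 1 := by
  have hcp := comm_pow_eq_one' hp2 hP N hx hy
  have hcN := comm_mem N x y
  have hcent := central_of_pow hP N hcN hcp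
  have hcomm : ∀ g : P, Commute (y * x * y⁻¹ * x⁻¹) g := by
    intro g
    have h1 := hcent g
    show _ * g = g * _
    calc (y * x * y⁻¹ * x⁻¹) * g = (g * (y * x * y⁻¹ * x⁻¹) * g⁻¹) * g := by rw [h1]
      _ = g * (y * x * y⁻¹ * x⁻¹) := by group
  have hc : y * x = (y * x * y⁻¹ * x⁻¹) * x * y := by group
  rw [mul_pow_of_central (hcomm x) (hcomm y) hc p, hx, hy]
  obtain ⟨j, hj⟩ : p ∣ p.choose 2 := hp.out.dvd_choose_self (by norm_num)
    (lt_of_le_of_ne hp.out.two_le (Ne.symm hp2))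
  rw [hj, pow_mul, hcp]
  simp

/-- in a metacyclic `p`-group, `p` odd, `Ω₁` has exponent `p` -/
theorem pow_eq_one_of_mem_omega {p : ℕ} [hp : Fact p.Prime] (hp2 : p ≠ 2) (hP : IsPGroup p P)
    (hm : Cfsg.IsMetacyclic P) :
    ∀ x ∈ Subgroup.closure {x : P | x ^ p = 1}, x ^ p = 1 := by
  obtain ⟨N, hN, hc, hq⟩ := hm
  intro x hx
  induction hx using Subgroup.closure_induction with
  | mem x hx => exact hx
  | one => simp
  | mul x y _ _ hx hy => exact mul_pow_eq_one hp2 hP N hx hy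
  | inv x _ hx => rw [inv_pow, hx, inv_one]

theorem card_omega_dvd {p : ℕ} [hp : Fact p.Prime] (hp2 : p ≠ 2) (hP : IsPGroup p P)
    (hm : Cfsg.IsMetacyclic P) :
    Nat.card (Subgroup.closure {x : P | x ^ p = 1}) ∣ p ^ 2 := by
  have hexp := pow_eq_one_of_mem_omega hp2 hP hm
  obtain ⟨N, hN, hc, hq⟩ := hm
  set E := Subgroup.closure {x : P | x ^ p = 1} with hE
  let f : E →* P ⧸ N := (QuotientGroup.mk' N).comp E.subtype
  have h1 : Nat.card f.ker * Nat.card f.range = Nat.card E := by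
    rw [← Subgroup.index_ker]
    exact Subgroup.card_mul_index _
  have h2 : Nat.card f.range ∣ p := by
    apply card_pow_ker_dvd
    rintro _ ⟨x, rfl⟩
    rw [← map_pow]
    have : x ^ p = 1 := Subtype.ext (hexp x x.2)
    rw [this, map_one]
  have h3 : Nat.card f.ker ∣ p := by
    let K : Subgroup N := (f.ker.map E.subtype).subgroupOf N
    have hle : f.ker.map E.subtype ≤ N := by
      rintro _ ⟨x, hx, rfl⟩
      have hx' : f x = 1 := hx
      exact (QuotientGroup.eq_one_iff _).1 hx'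
    have hK : Nat.card K ∣ p := by
      apply card_pow_ker_dvd
      intro x hx
      obtain ⟨y, -, hy⟩ := hx
      apply Subtype.ext
      have : (x : P) ^ p = 1 := by
        have h4 : ((y : E) : P) = (x : P) := hy
        rw [← h4]
        exact hexp y y.2
      exact this
    have e1 : Nat.card K = Nat.card (f.ker.map E.subtype) :=
      Nat.card_congr (Subgroup.subgroupOfEquivOfLe hle).toEquiv
    have e2 : Nat.card (f.ker.map E.subtype) = Nat.card f.ker :=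
      Subgroup.card_map_of_injective E.subtype_injective
    rw [← e2, ← e1]
    exact hK
  rw [← h1, pow_two]
  exact Nat.mul_dvd_mul h3 h2

/-- commutators of `Ω₁` with the group are central -/
theorem comm_central {p : ℕ} [hp : Fact p.Prime] (hp2 : p ≠ 2) (hP : IsPGroup p P)
    (hm : Cfsg.IsMetacyclic P) {x : P} (hx : x ^ p = 1) (g h : P) :
    h * (g * x * g⁻¹ * x⁻¹) * h⁻¹ = g * x * g⁻¹ * x⁻¹ := by
  obtain ⟨N, hN, hc, hq⟩ := hm
  apply central_of_pow hP N (comm_mem N x g)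
  have h1 : (g * x * g⁻¹) ^ p = 1 := by rw [conj_pow, hx]; group
  have h2 : (x⁻¹) ^ p = 1 := by rw [inv_pow, hx, inv_one]
  exact mul_pow_eq_one hp2 hP N h1 h2

/-! ### an automorphism inverting `Ω₁` -/

theorem pow_apply_of_inv (β : MulAut P) {x : P} (hx : β x = x⁻¹) (k : ℕ) :
    (β ^ (2 * k + 1)) x = x⁻¹ := by
  induction k with
  | zero => simpa using hx
  | succ k ih =>
    have : 2 * (k + 1) + 1 = 2 + (2 * k + 1) := by ring
    rw [this, pow_add, MulAut.mul_apply, ih, pow_two, MulAut.mul_apply, map_inv, map_inv, hx,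
      map_inv, hx, inv_inv]

theorem commutative_of_inverting {p : ℕ} [hp : Fact p.Prime] (hp2 : p ≠ 2) (hP : IsPGroup p P)
    (β : MulAut P) (hβ : ∀ x : P, x ^ p = 1 → β x = x⁻¹) : ∀ a b : P, a * b = b * a := by
  have : Finite (MulAut P) := Finite.of_injective (fun α : MulAut P => (α : P → P))
    (fun a b h => by ext x; exact congrFun h x)
  obtain ⟨a, ha⟩ := Cfsg.Agent.Lib.Helper4_Cop.exists_pprime_pow (p := p) β
  set γ := β ^ p ^ a with hγ
  have hodd : Odd (p ^ a) := (hp.out.odd_of_ne_two hp2).pow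
  obtain ⟨m, hm⟩ := hodd
  have hγx : ∀ x : P, x ^ p = 1 → γ x = x⁻¹ := by
    intro x hx
    rw [hγ, hm]
    exact pow_apply_of_inv β (hβ x hx) m
  have hcop2 : (orderOf (γ ^ 2)).Coprime p :=
    Nat.Coprime.coprime_dvd_left (orderOf_pow_dvd 2) ha
  have hfix : ∀ x ∈ (⊤ : Subgroup P), (γ ^ 2) x = x := by
    apply fix_of_fix_small hP (γ ^ 2) hcop2 ⊤ (fun _ _ => Subgroup.mem_top _)
    intro x _ hx
    rcases hx with hx | ⟨h, -⟩
    · rw [pow_two, MulAut.mul_apply, hγx x hx, map_inv, hγx x hx, inv_inv]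
    · exact absurd h hp2
  have hinv : Function.Involutive γ := by
    intro x
    have := hfix x (Subgroup.mem_top x)
    rwa [pow_two, MulAut.mul_apply] at this
  have hfpf : MonoidHom.FixedPointFree γ := by
    intro g hg
    by_contra hne
    obtain ⟨k, hk⟩ := (IsPGroup.iff_orderOf.1 hP) g
    have hk0 : k ≠ 0 := by
      rintro rfl
      rw [pow_zero, orderOf_eq_one_iff] at hk
      exact hne hk
    obtain ⟨j, rfl⟩ := Nat.exists_eq_succ_of_ne_zero hk0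
    have hx1 : (g ^ p ^ j) ^ p = 1 := by
      rw [← pow_mul, ← pow_succ, ← hk, pow_orderOf_eq_one]
    have hx2 : g ^ p ^ j ≠ 1 := by
      intro h
      have h1 := orderOf_dvd_of_pow_eq_one h
      rw [hk] at h1
      have h2 := Nat.le_of_dvd (pow_pos hp.out.pos _) h1
      exact absurd h2 (not_le.2 (Nat.pow_lt_pow_right hp.out.one_lt (Nat.lt_succ_self j)))
    have h3 := hγx _ hx1
    rw [map_pow, hg] at h3
    have h4 : (g ^ p ^ j) ^ 2 = 1 := by
      rw [pow_two]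
      nth_rewrite 1 [h3]
      exact inv_mul_cancel _
    have h5 : orderOf (g ^ p ^ j) ∣ Nat.gcd 2 p :=
      Nat.dvd_gcd (orderOf_dvd_of_pow_eq_one h4) (orderOf_dvd_of_pow_eq_one hx1)
    have h6 : Nat.gcd 2 p = 1 := by
      rw [Nat.gcd_comm]
      exact (Nat.coprime_primes hp.out Nat.prime_two).2 hp2
    rw [h6, Nat.dvd_one, orderOf_eq_one_iff] at h5
    exact hx2 h5
  exact fun a b => (hfpf.commute_all_of_involutive hinv a b).eq

theorem comm_of_card_dvd_sq {E : Type*} [Group E] [Finite E] {p : ℕ} [hp : Fact p.Prime]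
    (h : Nat.card E ∣ p ^ 2) : ∀ a b : E, a * b = b * a := by
  obtain ⟨k, hk, hkE⟩ := (Nat.dvd_prime_pow hp.out).1 h
  interval_cases k
  · have : Subsingleton E := (Nat.card_eq_one_iff_unique.1 (by simpa using hkE)).1
    intro a b
    exact Subsingleton.elim _ _
  · have hc : IsCyclic E := isCyclic_of_prime_card (p := p) (by simpa using hkE)
    let _ := IsCyclic.commGroup (α := E)
    intro a b
    exact mul_comm a b
  · exact (IsPGroup.isMulCommutative_of_card_eq_prime_sq hkE).is_comm.comm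

/-! ### two transvections generate `-1` -/

section T

variable {E : Type*} [Group E] [Finite E]

theorem card_cases {p : ℕ} [hp : Fact p.Prime] (hE : Nat.card E ∣ p ^ 2) (C : Subgroup E)
    (hb : C ≠ ⊥) (ht : C ≠ ⊤) : Nat.card C = p ∧ Nat.card E = p ^ 2 := by
  obtain ⟨k, hk, hkE⟩ := (Nat.dvd_prime_pow hp.out).1 hE
  obtain ⟨j, hj, hjC⟩ := (Nat.dvd_prime_pow hp.out).1 ((Subgroup.card_subgroup_dvd_card C).trans hE)
  have hj0 : j ≠ 0 := by
    rintro rfl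
    exact hb (Subgroup.card_eq_one.1 (by simpa using hjC))
  have hjk : j < k := by
    by_contra h
    apply ht
    apply Subgroup.eq_top_of_card_eq
    have h1 : Nat.card C ≤ Nat.card E := Subgroup.card_le_card_group C
    have h2 : p ^ k ≤ p ^ j := Nat.pow_le_pow_right hp.out.pos (not_lt.1 h)
    omega
  have h1 : j = 1 := by omega
  have h2 : k = 2 := by omega
  subst h1 h2
  exact ⟨by simpa using hjC, hkE⟩

theorem eq_of_le_card {p : ℕ} [hp : Fact p.Prime] (hE : Nat.card E ∣ p ^ 2) {C H : Subgroup E}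
    (hC : Nat.card C = p) (hH : H ≠ ⊤) (hle : C ≤ H) : H = C := by
  have hb : H ≠ ⊥ := by
    rintro rfl
    have : C = ⊥ := le_bot_iff.1 hle
    rw [this] at hC
    simp at hC
    exact hp.out.one_lt.ne hC
  obtain ⟨h1, -⟩ := card_cases hE H hb hH
  exact (Subgroup.eq_of_le_of_card_ge hle (by rw [h1, hC])).symm

theorem exists_inversion {p : ℕ} [hp : Fact p.Prime] (hE : Nat.card E ∣ p ^ 2)
    (hexp : ∀ y : E, y ^ p = 1) (hab : ∀ a b : E, a * b = b * a) (A : Subgroup (MulAut E))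
    {u α : MulAut E} (hu : u ∈ A) (hα : α ∈ A) (C : Subgroup E) (hu1 : ∀ c ∈ C, u c = c)
    (hu2 : ∀ y, u y * y⁻¹ ∈ C) {e₁ : E} (hx : e₁ ∈ C) (hne : u (α e₁) ≠ α e₁) :
    ∃ ι ∈ A, ∀ y, ι y = y⁻¹ := by
  obtain ⟨e₂, he₂⟩ : ∃ e₂, e₂ = α e₁ := ⟨_, rfl⟩
  rw [← he₂] at hne
  have he2C : e₂ ∉ C := fun h => hne (hu1 _ h)
  have he1 : e₁ ≠ 1 := by
    rintro rfl
    apply he2C
    rw [he₂, map_one]
    exact C.one_mem
  have he21 : e₂ ≠ 1 := fun h => he2C (h ▸ C.one_mem)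
  have hCb : C ≠ ⊥ := by
    intro h
    rw [h, Subgroup.mem_bot] at hx
    exact he1 hx
  have hCt : C ≠ ⊤ := by
    intro h
    exact he2C (h ▸ Subgroup.mem_top _)
  obtain ⟨hCp, hEp⟩ := card_cases hE C hCb hCt
  have hgen' : ∀ c : E, c ≠ 1 → ∀ d : E, d ≠ 1 → d ∈ Subgroup.zpowers c → ∀ f ∈ Subgroup.zpowers c,
      ∃ i : ℕ, d ^ i = f := by
    intro c hc1 d hd1 hd f hf
    have h1 : Subgroup.zpowers d = Subgroup.zpowers c :=
      Subgroup.eq_of_le_of_card_ge (Subgroup.zpowers_le.2 hd) (by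
        rw [Nat.card_zpowers, Nat.card_zpowers, orderOf_eq_prime (hexp c) hc1,
          orderOf_eq_prime (hexp d) hd1])
    have h2 : f ∈ Subgroup.zpowers d := h1.ge hf
    rw [← mem_powers_iff_mem_zpowers] at h2
    exact h2
  have hCz : Subgroup.zpowers e₁ = C :=
    Subgroup.eq_of_le_of_card_ge (Subgroup.zpowers_le.2 hx) (by
      rw [Nat.card_zpowers, orderOf_eq_prime (hexp e₁) he1, hCp])
  obtain ⟨z, hz⟩ : ∃ z, z = u e₂ * e₂⁻¹ := ⟨_, rfl⟩
  have hzC : z ∈ C := hz ▸ hu2 e₂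
  have hz1 : z ≠ 1 := by
    intro h
    rw [hz] at h
    exact hne (mul_inv_eq_one.1 h)
  obtain ⟨i, hi⟩ := hgen' e₁ he1 z hz1 (hCz.ge hzC) e₁ (Subgroup.mem_zpowers _)
  have hU2 : (u ^ i) e₂ = e₁ * e₂ := by
    have h := pow_apply_of_fix u (x := e₂) (c := z) (by rw [hz]; group) (hu1 z hzC) i
    rw [hi] at h
    exact h
  have hU1 : (u ^ i) e₁ = e₁ := by
    have h := pow_apply_of_fix u (x := e₁) (c := 1) (by rw [one_mul]; exact hu1 _ hx) (map_one u) i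
    simpa using h
  obtain ⟨v, hv⟩ : ∃ v, v = α * u * α⁻¹ := ⟨_, rfl⟩
  have hvA : v ∈ A := hv ▸ A.mul_mem (A.mul_mem hα hu) (A.inv_mem hα)
  have hv2 : v e₂ = e₂ := by
    rw [hv, he₂, MulAut.mul_apply, MulAut.mul_apply, MulAut.inv_apply_self, hu1 _ hx]
  have hfixC : ∀ y, u y = y → y ∈ C := by
    intro y hy
    have h1 : C ≤ fixedSub u := fun c hc => hu1 c hc
    have h2 : fixedSub u ≠ ⊤ := by
      intro h
      exact hne (h ▸ Subgroup.mem_top e₂ : e₂ ∈ fixedSub u)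
    have h3 : fixedSub u = C := eq_of_le_card hE hCp h2 h1
    exact h3.le hy
  obtain ⟨z', hz'⟩ : ∃ z', z' = v e₁ * e₁⁻¹ := ⟨_, rfl⟩
  have hz'a : z' = α (u (α⁻¹ e₁) * (α⁻¹ e₁)⁻¹) := by
    rw [hz', hv, MulAut.mul_apply, MulAut.mul_apply, map_mul, map_inv, MulAut.apply_inv_self]
  obtain ⟨m, hm⟩ : ∃ m : ℕ, e₁ ^ m = u (α⁻¹ e₁) * (α⁻¹ e₁)⁻¹ := by
    have h1 : u (α⁻¹ e₁) * (α⁻¹ e₁)⁻¹ ∈ Subgroup.zpowers e₁ := hCz.ge (hu2 _)
    rw [← mem_powers_iff_mem_zpowers] at h1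
    exact h1
  have hz'2 : z' = e₂ ^ m := by rw [hz'a, ← hm, map_pow, he₂]
  have hz'1 : z' ≠ 1 := by
    intro h
    have h1 : u (α⁻¹ e₁) = α⁻¹ e₁ := by
      rw [hz'a] at h
      exact mul_inv_eq_one.1 ((map_eq_one_iff α α.injective).1 h)
    have h1' : α⁻¹ e₁ ∈ Subgroup.zpowers e₁ := hCz.ge (hfixC _ h1)
    rw [← mem_powers_iff_mem_zpowers] at h1'
    obtain ⟨n, hn⟩ := h1'
    have h2 : e₂ ^ n = e₁ := by
      have h3 := congrArg α hn
      rw [map_pow, MulAut.apply_inv_self, ← he₂] at h3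
      exact h3
    have h3 : Subgroup.zpowers e₁ ≤ Subgroup.zpowers e₂ :=
      Subgroup.zpowers_le.2 (h2 ▸ Subgroup.pow_mem _ (Subgroup.mem_zpowers e₂) n)
    have h4 := Subgroup.eq_of_le_of_card_ge h3 (by
      rw [Nat.card_zpowers, Nat.card_zpowers, orderOf_eq_prime (hexp _) he1,
        orderOf_eq_prime (hexp _) he21])
    exact he2C (hCz.le (h4.ge (Subgroup.mem_zpowers e₂)))
  obtain ⟨j, hj⟩ := hgen' e₂ he21 z' hz'1
    (hz'2 ▸ Subgroup.pow_mem _ (Subgroup.mem_zpowers e₂) m) e₂⁻¹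
    (Subgroup.inv_mem _ (Subgroup.mem_zpowers e₂))
  have hvz : v z' = z' := by rw [hz'2, map_pow, hv2]
  have hV1 : (v ^ j) e₁ = e₂⁻¹ * e₁ := by
    have h := pow_apply_of_fix v (x := e₁) (c := z') (by rw [hz']; group) hvz j
    rw [hj] at h
    exact h
  have hV2 : (v ^ j) e₂ = e₂ := by
    have h := pow_apply_of_fix v (x := e₂) (c := 1) (by rw [one_mul]; exact hv2) (map_one v) j
    simpa using h
  obtain ⟨w, hw⟩ : ∃ w, w = u ^ i * v ^ j * u ^ i := ⟨_, rfl⟩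
  have hwA : w ∈ A := hw ▸ A.mul_mem (A.mul_mem (A.pow_mem hu i) (A.pow_mem hvA j)) (A.pow_mem hu i)
  have hw1 : w e₁ = e₂⁻¹ := by
    rw [hw, MulAut.mul_apply, MulAut.mul_apply, hU1, hV1, map_mul, map_inv, hU2, hU1]
    group
  have hw2 : w e₂ = e₁ := by
    rw [hw, MulAut.mul_apply, MulAut.mul_apply, hU2, map_mul, hV1, hV2, hab e₂⁻¹ e₁, mul_assoc,
      inv_mul_cancel, mul_one, hU1]
  refine ⟨w * w, A.mul_mem hwA hwA, ?_⟩
  let H : Subgroup E :=
    { carrier := {y | (w * w) y = y⁻¹}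
      one_mem' := by simp
      mul_mem' := by
        intro a b ha hb
        show (w * w) (a * b) = (a * b)⁻¹
        rw [map_mul, show (w * w) a = a⁻¹ from ha, show (w * w) b = b⁻¹ from hb, mul_inv_rev,
          hab]
      inv_mem' := by
        intro a ha
        show (w * w) a⁻¹ = a⁻¹⁻¹
        rw [map_inv, show (w * w) a = a⁻¹ from ha] }
  have h1H : e₁ ∈ H := by
    show (w * w) e₁ = e₁⁻¹
    rw [MulAut.mul_apply, hw1, map_inv, hw2]
  have h2H : e₂ ∈ H := by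
    show (w * w) e₂ = e₂⁻¹
    rw [MulAut.mul_apply, hw2, hw1]
  have hHt : H = ⊤ := by
    by_contra hne'
    have h3 : H = C := eq_of_le_card hE hCp hne' (hCz ▸ Subgroup.zpowers_le.2 h1H)
    exact he2C (h3.le h2H)
  intro y
  exact (hHt ▸ Subgroup.mem_top y : y ∈ H)

end T

end Cfsg.Agent.Lib.Helper9_Metacyclic
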