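import Mathlib
import Cfsg.Prelude.Def_FusionSystem
import Cfsg.Prelude.Def_PLocal
import Cfsg.Agent.Lib.Helper9_AlperinCor
import Cfsg.Agent.Lib.Helper9_Omega

set_option autoImplicit false

namespace Cfsg.Agent.Lib.Helper9_OmegaChain

open Cfsg Cfsg.FusionSystem Cfsg.Agent.Lib.Helper9_FusionBasic Cfsg.Agent.Lib.Helper9_FusionSat
open Cfsg.Agent.Lib.Helper9_FusionNormal Cfsg.Agent.Lib.Helper9_Alperin
open Cfsg.Agent.Lib.Helper9_AlperinCor Cfsg.Agent.Lib.Helper9_Omega Cfsg.Agent.Lib.Helper4_Cop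
open scoped commutatorElement

variable {Ω : Type*} [Group Ω] {S : Subgroup Ω}

/-- general principle: a strongly closed subgroup `Q` lies in the centric radical subgroup `R` as soon
as `N_Q(R)` induces on `R` automorphisms lying in a normal `p`-subgroup of `Aut_F(R)`. -/
theorem le_of_normal_pgroup [Finite S] {p : ℕ} [Fact p.Prime] (hS : IsPGroup p S)
    {F : FusionSystem S} {R : Subgroup Ω} (hc : F.IsCentric R) (hrad : F.IsRadical p R)
    (Q : Subgroup Ω) (hQ : F.StronglyClosed Q) (K : Subgroup (MulAut R)) (hKA : K ≤ F.autGroup R)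
    (hKp : IsPGroup p K) (hKn : ∀ α ∈ F.autGroup R, ∀ k ∈ K, α * k * α⁻¹ ∈ K)
    (hg : ∀ g (hgQ : g ∈ Q) (hgN : g ∈ Subgroup.normalizer (R : Set Ω)),
      conjAut S R ⟨g, hQ.1 hgQ, hgN⟩ ∈ K) : Q ≤ R := by
  have hP := hc.1
  have hQS := hQ.1
  have hC : centralizerIn S R ≤ R := hc.2 R (isConj_refl F hP)
  have hK : K ≤ Inn R := le_inn_of_normal_pgroup hrad K hKA hKp hKn
  have hT : R ⊔ Q ≤ S := sup_le hP hQS
  have h := le_of_normalizer_le hS (le_sup_left : R ≤ R ⊔ Q) hT (by
    intro x hxT hxN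
    have h1 : x ∈ ((R ⊔ Q : Subgroup Ω) : Set Ω) := hxT
    rw [Subgroup.coe_mul_of_left_le_normalizer_right R Q
      (hP.trans (stronglyClosed_le_normalizer hQ))] at h1
    obtain ⟨a, ha, g, hg', rfl⟩ := h1
    have hgN : g ∈ Subgroup.normalizer (R : Set Ω) := by
      have : g = a⁻¹ * (a * g) := by group
      rw [this]
      exact Subgroup.mul_mem _ (Subgroup.inv_mem _ (Subgroup.le_normalizer ha)) hxN
    exact R.mul_mem ha ((conjAut_mem_inn_iff hP hC ⟨g, hQS hg', hgN⟩).mp (hK (hg g hg' hgN))))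
  exact le_sup_right.trans h

theorem chainStab_conj_mem {F : FusionSystem S} {R : Subgroup Ω} (hR : R ≤ S)
    (D : ℕ → Subgroup Ω) (hsc : ∀ j, F.StronglyClosed (D j))
    (hCm : ∀ j, (D j).subgroupOf R ≤ (D (j + 1)).subgroupOf R)
    {α k : MulAut R} (hα : α ∈ F.autGroup R)
    (hk : k ∈ chainStab (fun j => (D j).subgroupOf R) hCm) :
    α * k * α⁻¹ ∈ chainStab (fun j => (D j).subgroupOf R) hCm := by
  intro j x hx
  have hy : α⁻¹ x ∈ (D (j + 1)).subgroupOf R :=
    stronglyClosed_aut_mem (hsc (j + 1)) hR (Subgroup.inv_mem _ hα) x hx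
  have h1 := hk j _ hy
  constructor
  · have h2 : x⁻¹ * (α * k * α⁻¹) x = α ((α⁻¹ x)⁻¹ * k (α⁻¹ x)) := by
      simp [MulAut.mul_apply]
    rw [h2]
    exact stronglyClosed_aut_mem (hsc j) hR hα _ h1.1
  · have h2 : x⁻¹ * (α * k * α⁻¹)⁻¹ x = α ((α⁻¹ x)⁻¹ * k⁻¹ (α⁻¹ x)) := by
      simp [MulAut.mul_apply, mul_assoc]
    rw [h2]
    exact stronglyClosed_aut_mem (hsc j) hR hα _ h1.2

/-- a `p'`-automorphism stabilising a chain fixes it pointwise -/
theorem fix_of_chainStab {R : Type*} [Group R] {p : ℕ} (hR : IsPGroup p R)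
    (C : ℕ → Subgroup R) (hC : ∀ j, C j ≤ C (j + 1)) (h0 : C 0 = ⊥) (γ : MulAut R)
    (hγ : γ ∈ chainStab C hC) (hcop : (orderOf γ).Coprime p) : ∀ j, ∀ x ∈ C j, γ x = x := by
  intro j
  induction j with
  | zero =>
    intro x hx
    rw [h0, Subgroup.mem_bot] at hx
    rw [hx, map_one]
  | succ j ih =>
    intro x hx
    apply fix_of_fix_mod hR γ hcop (C j) ih
    have h1 := (hγ j x⁻¹ (Subgroup.inv_mem _ hx)).1
    have h2 : γ x * x⁻¹ = (x⁻¹⁻¹ * γ x⁻¹)⁻¹ := by
      rw [map_inv]; group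
    rw [h2]
    exact Subgroup.inv_mem _ h1

/-- key step of S5236 -/
theorem le_of_omega_chain [Finite S] {p : ℕ} [Fact p.Prime] (hS : IsPGroup p S)
    {F : FusionSystem S} {R : Subgroup Ω} (hc : F.IsCentric R) (hrad : F.IsRadical p R)
    (P : Subgroup Ω) (hP : F.StronglyClosed P)
    (D : ℕ → Subgroup Ω) (hD0 : D 0 = ⊥) (hmono : ∀ j, D j ≤ D (j + 1)) (m : ℕ)
    (hDm : ∀ x ∈ P, (x ^ p = 1 ∨ (p = 2 ∧ x ^ 4 = 1)) → x ∈ D m)
    (hsc : ∀ j, F.StronglyClosed (D j))
    (hcomm : ∀ j, ∀ g ∈ P, ∀ x ∈ D (j + 1), x⁻¹ * (g * x * g⁻¹) ∈ D j) : P ≤ R := by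
  have hR := hc.1
  have : Finite R := finite_of_le hR
  have hRp : IsPGroup p R := isPGroup_of_le hS hR
  have hCm : ∀ j, (D j).subgroupOf R ≤ (D (j + 1)).subgroupOf R :=
    fun j => Subgroup.subgroupOf_mono _ (hmono j)
  let D2 : ℕ → Subgroup Ω := fun j => if j = 0 then P else S
  have hD20 : D2 0 = P := if_pos rfl
  have hD2s : ∀ j, D2 (j + 1) = S := fun j => if_neg (Nat.succ_ne_zero j)
  have hsc2 : ∀ j, F.StronglyClosed (D2 j) := by
    intro j
    cases j with
    | zero => rw [hD20]; exact hP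
    | succ j => rw [hD2s]; exact stronglyClosed_self F
  have hCm2 : ∀ j, (D2 j).subgroupOf R ≤ (D2 (j + 1)).subgroupOf R := by
    intro j
    apply Subgroup.subgroupOf_mono
    rw [hD2s]
    exact (hsc2 j).1
  apply le_of_normal_pgroup hS hc hrad P hP
    (chainStab (fun j => (D j).subgroupOf R) hCm ⊓ chainStab (fun j => (D2 j).subgroupOf R) hCm2 ⊓
      F.autGroup R) inf_le_right
  · have : Finite (MulAut R) := Finite.of_injective (fun α : MulAut R => (α : R → R))
      (fun a b h => by ext x; exact congrArg Subtype.val (congrFun h x))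
    apply isPGroup_of_pprime_trivial
    rintro γ ⟨⟨h1, h2⟩, h3⟩ hcop
    have hfix1 := fix_of_chainStab hRp _ hCm (by
      show (D 0).subgroupOf R = ⊥
      rw [hD0]; exact Subgroup.bot_subgroupOf _) γ h1 hcop m
    have hfix2 : ∀ x ∈ P.subgroupOf R, γ x = x := by
      apply fix_of_fix_small hRp γ hcop
      · intro x hx
        exact stronglyClosed_aut_mem hP hR h3 x hx
      · intro x hx hsmall
        apply hfix1
        apply hDm _ hx
        rcases hsmall with h | ⟨h, h'⟩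
        · left
          exact congrArg Subtype.val h
        · right
          exact ⟨h, congrArg Subtype.val h'⟩
    ext x
    have h4 : γ x = x := by
      apply fix_of_fix_mod hRp γ hcop (P.subgroupOf R) hfix2
      have h5 := (h2 0 x⁻¹ (by
        show ((x⁻¹ : R) : Ω) ∈ D2 (0 + 1)
        rw [hD2s]; exact hR (x⁻¹).2)).1
      have h6 : γ x * x⁻¹ = (x⁻¹⁻¹ * γ x⁻¹)⁻¹ := by
        rw [map_inv]; group
      rw [h6]
      apply Subgroup.inv_mem
      have h7 : ((x⁻¹⁻¹ * γ x⁻¹ : R) : Ω) ∈ D2 0 := h5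
      rw [hD20] at h7
      exact h7
    rw [h4]
    rfl
  · rintro α hα k ⟨⟨h1, h2⟩, h3⟩
    exact ⟨⟨chainStab_conj_mem hR D hsc hCm hα h1, chainStab_conj_mem hR D2 hsc2 hCm2 hα h2⟩,
      Subgroup.mul_mem _ (Subgroup.mul_mem _ hα h3) (Subgroup.inv_mem _ hα)⟩
  · intro g hgP hgN
    have hcomm2 : ∀ j, ∀ g ∈ P, ∀ x ∈ D2 (j + 1), x⁻¹ * (g * x * g⁻¹) ∈ D2 j := by
      intro j g hg x hx
      rw [hD2s] at hx
      cases j with
      | zero =>
        rw [hD20]
        have h1 := stronglyClosed_conj_mem hP (S.inv_mem hx) hg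
        have h3 : x⁻¹ * (g * x * g⁻¹) = (x⁻¹ * g * x⁻¹⁻¹) * g⁻¹ := by group
        rw [h3]
        exact P.mul_mem h1 (P.inv_mem hg)
      | succ j =>
        rw [hD2s]
        have hgS := hP.1 hg
        exact S.mul_mem (S.inv_mem hx) (S.mul_mem (S.mul_mem hgS hx) (S.inv_mem hgS))
    refine ⟨⟨?_, ?_⟩, autInducedBy_le_autGroup F hR (conjAut_mem_autInducedBy S R _)⟩
    · intro j y hy
      constructor
      · exact hcomm j g hgP y hy
      · rw [← map_inv]
        exact hcomm j g⁻¹ (P.inv_mem hgP) y hy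
    · intro j y hy
      constructor
      · exact hcomm2 j g hgP y hy
      · rw [← map_inv]
        exact hcomm2 j g⁻¹ (P.inv_mem hgP) y hy

/-- `Ω₁` inside the group -/
def omegaIn (p : ℕ) (P : Type*) [Group P] : Subgroup P := Subgroup.closure {x : P | x ^ p = 1}

instance omegaIn_characteristic (p : ℕ) (P : Type*) [Group P] : (omegaIn p P).Characteristic := by
  rw [Subgroup.characteristic_iff_le_comap]
  intro φ
  unfold omegaIn
  rw [Subgroup.closure_le]
  intro x hx
  apply Subgroup.subset_closure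
  show (φ x) ^ p = 1
  rw [← map_pow, show x ^ p = 1 from hx, map_one]

theorem omegaOne_eq_map (p : ℕ) (P : Subgroup Ω) :
    omegaOne p P = (omegaIn p P).map P.subtype := by
  unfold omegaOne omegaIn
  rw [MonoidHom.map_closure]
  congr 1
  ext x
  constructor
  · rintro ⟨hx, hxp⟩
    exact ⟨⟨x, hx⟩, Subtype.ext hxp, rfl⟩
  · rintro ⟨y, hy, rfl⟩
    exact ⟨y.2, congrArg Subtype.val hy⟩

theorem inf_characteristic {P : Type*} [Group P] (A B : Subgroup P) [hA : A.Characteristic]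
    [hB : B.Characteristic] : (A ⊓ B).Characteristic := by
  rw [Subgroup.characteristic_iff_le_comap]
  intro φ x hx
  exact ⟨(Subgroup.characteristic_iff_le_comap.1 hA φ) hx.1,
    (Subgroup.characteristic_iff_le_comap.1 hB φ) hx.2⟩

/-- S5236 -/
theorem isNormal_iff_omega_chain [Finite S] (p : ℕ) [Fact p.Prime] (hS : IsPGroup p S)
    (F : FusionSystem S) (hF : F.IsSaturated p) (hp : p ≠ 2) (P : Subgroup Ω)
    (hP : F.StronglyClosed P) :
    F.IsNormal P ↔ ∃ (n : ℕ) (Q : Fin (n + 1) → Subgroup Ω), Q 0 = ⊥ ∧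
      Q (Fin.last n) = omegaOne p P ∧ Monotone Q ∧ (∀ i : Fin (n + 1), F.StronglyClosed (Q i)) ∧
      ∀ i : Fin n, ⁅Q i.succ, P⁆ ≤ Q i.castSucc := by
  constructor
  · intro hN
    have hPS := hP.1
    have : Finite P := finite_of_le hPS
    have hnil : Group.IsNilpotent P := (isPGroup_of_le hS hPS).isNilpotent
    obtain ⟨n, hn⟩ := hnil.nilpotent
    refine ⟨n, fun i => (omegaIn p P ⊓ Subgroup.upperCentralSeries P i).map P.subtype,
      ?_, ?_, ?_, ?_, ?_⟩
    · simp
    · simp only [Fin.val_last, hn, inf_top_eq]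
      exact (omegaOne_eq_map p P).symm
    · intro i j hij
      exact Subgroup.map_mono (inf_le_inf_left _ (Subgroup.upperCentralSeries_mono P hij))
    · intro i
      apply stronglyClosed_of_isNormal
      apply isNormal_of_characteristic F hN (Subgroup.map_subtype_le _)
      have : ((omegaIn p P ⊓ Subgroup.upperCentralSeries P i).map P.subtype).subgroupOf P =
          omegaIn p P ⊓ Subgroup.upperCentralSeries P i :=
        Subgroup.comap_map_eq_self_of_injective P.subtype_injective _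
      rw [this]
      exact inf_characteristic _ _
    · intro i
      rw [Subgroup.commutator_le]
      rintro _ ⟨z, hz, rfl⟩ g hg
      have hz' : z ∈ Subgroup.upperCentralSeries P ((i : ℕ) + 1) := by simpa using hz.2
      rw [Subgroup.mem_upperCentralSeries_succ_iff] at hz'
      have h1 := hz' ⟨g, hg⟩
      refine ⟨z * ⟨g, hg⟩ * z⁻¹ * ⟨g, hg⟩⁻¹, ⟨?_, h1⟩, ?_⟩
      · have hn : (omegaIn p P).Normal := inferInstance
        have h2 := hn.conj_mem z⁻¹ (Subgroup.inv_mem _ hz.1) ⟨g, hg⟩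
        have h3 : z * ⟨g, hg⟩ * z⁻¹ * ⟨g, hg⟩⁻¹ = z * (⟨g, hg⟩ * z⁻¹ * ⟨g, hg⟩⁻¹) := by group
        rw [h3]
        exact Subgroup.mul_mem _ hz.1 h2
      · simp [commutatorElement_def]
  · rintro ⟨n, Q, h0, hlast, hmono, hsc, hcomm⟩
    let D : ℕ → Subgroup Ω := fun j => if h : j < n + 1 then Q ⟨j, h⟩ else omegaOne p P
    have hD_lt : ∀ j (h : j < n + 1), D j = Q ⟨j, h⟩ := fun j h => dif_pos h
    have hD_ge : ∀ j, ¬ j < n + 1 → D j = omegaOne p P := fun j h => dif_neg h
    have hDn : D n = omegaOne p P := by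
      rw [hD_lt n (by omega), ← hlast]
      rfl
    have hD_ge' : ∀ j, n ≤ j → D j = omegaOne p P := by
      intro j hj
      rcases hj.eq_or_lt with rfl | h
      · exact hDn
      · exact hD_ge j (by omega)
    have hscO : F.StronglyClosed (omegaOne p P) := hlast ▸ hsc (Fin.last n)
    have hscD : ∀ j, F.StronglyClosed (D j) := by
      intro j
      by_cases h : j < n + 1
      · rw [hD_lt j h]; exact hsc _
      · rw [hD_ge j h]; exact hscO
    apply isNormal_of_stronglyClosed p hS F hF P hP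
    intro R hc hrad
    apply le_of_omega_chain hS hc hrad P hP D ?_ ?_ n ?_ hscD ?_
    · rw [hD_lt 0 (by omega)]
      exact h0
    · intro j
      by_cases h : j + 1 < n + 1
      · rw [hD_lt j (by omega), hD_lt (j + 1) h]
        apply hmono
        show j ≤ j + 1
        omega
      · rw [hD_ge (j + 1) h, hD_ge' j (by omega)]
    · intro x hx hsmall
      rw [hDn]
      rcases hsmall with h | ⟨h, -⟩
      · exact Subgroup.subset_closure ⟨hx, h⟩
      · exact absurd h hp
    · intro j g hg x hx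
      by_cases h : j + 1 < n + 1
      · rw [hD_lt (j + 1) h] at hx
        rw [hD_lt j (by omega)]
        have h1 := hcomm ⟨j, by omega⟩
        rw [Subgroup.commutator_le] at h1
        have h2 := h1 x⁻¹ (Subgroup.inv_mem _ hx) g hg
        have h3 : x⁻¹ * (g * x * g⁻¹) = ⁅x⁻¹, g⁆ := by
          rw [commutatorElement_def]; group
        rw [h3]
        exact h2
      · rw [hD_ge (j + 1) h] at hx
        rw [hD_ge' j (by omega)]
        exact Subgroup.mul_mem _ (Subgroup.inv_mem _ hx)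
          (stronglyClosed_conj_mem hscO (hP.1 hg) hx)

end Cfsg.Agent.Lib.Helper9_OmegaChain
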