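import Mathlib
import Cfsg.Prelude.Def_LocalEven
import Cfsg.Agent.Lib.Helper9_KNorm
import Cfsg.Agent.Lib.Helper9_Involves
import Cfsg.Agent.Lib.Helper9_EmbedQ

set_option autoImplicit false

namespace Cfsg.Agent.Lib.Helper9_QdLemma

open Cfsg Cfsg.Agent.Lib.Helper9_FusionGroup Cfsg.Agent.Lib.Helper9_GroupNormal
  Cfsg.Agent.Lib.Helper9_FusionSat Cfsg.Agent.Lib.Helper9_KNorm Cfsg.Agent.Lib.Helper9_Alperin

variable {Γ W : Type*} [Group Γ] [Group W]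

def Act (E₀ : Subgroup Γ) (f : Γ → W) (x : Γ) (w : W) : Prop :=
  ∀ u ∈ E₀, f (x * u * x⁻¹) = w * f u * w⁻¹

def Sgn (E₀ : Subgroup Γ) (f : Γ → W) (x : Γ) (k : ℤˣ) : Prop :=
  ∀ u ∈ E₀, f (x * u * x⁻¹) = (f u) ^ (k : ℤ)

structure FData (E₀ : Subgroup Γ) (V : Subgroup W) (f : Γ → W) : Prop where
  mul : ∀ u ∈ E₀, ∀ u' ∈ E₀, f (u * u') = f u * f u'
  mem : ∀ u ∈ E₀, f u ∈ V
  surj : ∀ v ∈ V, ∃ u ∈ E₀, f u = v

structure QData (p : ℕ) (V : Subgroup W) (t : W) : Prop where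
  normal : V.Normal
  comm : ∀ a ∈ V, ∀ b ∈ V, a * b = b * a
  pgroup : IsPGroup p V
  cent : Subgroup.centralizer (V : Set W) ≤ V
  inv : ∀ v ∈ V, t * v * t⁻¹ = v⁻¹

variable {E₀ : Subgroup Γ} {f : Γ → W}

theorem inv_conj_mem {x u : Γ} (hx : x ∈ Subgroup.normalizer (E₀ : Set Γ)) (hu : u ∈ E₀) :
    x⁻¹ * u * x ∈ E₀ := by
  have := conj_mem_of_mem_normalizer (Subgroup.inv_mem _ hx) hu
  rwa [inv_inv] at this

theorem Act.mul {x x' : Γ} {w w' : W} (h : Act E₀ f x w) (h' : Act E₀ f x' w')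
    (hx' : x' ∈ Subgroup.normalizer (E₀ : Set Γ)) : Act E₀ f (x * x') (w * w') := by
  intro u hu
  have e : x * x' * u * (x * x')⁻¹ = x * (x' * u * x'⁻¹) * x⁻¹ := by group
  rw [e, h _ (conj_mem_of_mem_normalizer hx' hu), h' u hu]
  group

theorem Act.inv {x : Γ} {w : W} (h : Act E₀ f x w)
    (hx : x ∈ Subgroup.normalizer (E₀ : Set Γ)) : Act E₀ f x⁻¹ w⁻¹ := by
  intro u hu
  have h1 := h _ (inv_conj_mem hx hu)
  have e : x * (x⁻¹ * u * x) * x⁻¹ = u := by group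
  rw [e] at h1
  rw [inv_inv, h1]
  group

theorem act_one : Act E₀ f 1 1 := by
  intro u _
  simp

theorem Sgn.mul {x x' : Γ} {k k' : ℤˣ} (h : Sgn E₀ f x k) (h' : Sgn E₀ f x' k')
    (hx' : x' ∈ Subgroup.normalizer (E₀ : Set Γ)) : Sgn E₀ f (x * x') (k * k') := by
  intro u hu
  have e : x * x' * u * (x * x')⁻¹ = x * (x' * u * x'⁻¹) * x⁻¹ := by group
  rw [e, h _ (conj_mem_of_mem_normalizer hx' hu), h' u hu, ← zpow_mul, Units.val_mul, mul_comm]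

theorem Sgn.inv {x : Γ} {k : ℤˣ} (h : Sgn E₀ f x k)
    (hx : x ∈ Subgroup.normalizer (E₀ : Set Γ)) : Sgn E₀ f x⁻¹ k := by
  intro u hu
  have h1 := h _ (inv_conj_mem hx hu)
  have e : x * (x⁻¹ * u * x) * x⁻¹ = u := by group
  rw [e] at h1
  rw [inv_inv, h1, ← zpow_mul, Int.units_coe_mul_self, zpow_one]

theorem sgn_one : Sgn E₀ f 1 1 := by
  intro u _
  simp

theorem Sgn.conj {g y : Γ} {w : W} {k : ℤˣ} (hg : Act E₀ f g w)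
    (hgN : g ∈ Subgroup.normalizer (E₀ : Set Γ)) (hy : Sgn E₀ f y k)
    (hyN : y ∈ Subgroup.normalizer (E₀ : Set Γ)) : Sgn E₀ f (g * y * g⁻¹) k := by
  intro u hu
  have hu₁ := inv_conj_mem hgN hu
  have hu₂ := conj_mem_of_mem_normalizer hyN hu₁
  have e : g * y * g⁻¹ * u * (g * y * g⁻¹)⁻¹ = g * (y * (g⁻¹ * u * g) * y⁻¹) * g⁻¹ := by group
  rw [e, hg _ hu₂, hy _ hu₁, ← conj_zpow, ← hg _ hu₁]
  congr 2
  group

theorem Sgn.pow {x : Γ} {k : ℤˣ} (h : Sgn E₀ f x k)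
    (hx : x ∈ Subgroup.normalizer (E₀ : Set Γ)) (m : ℕ) : Sgn E₀ f (x ^ m) (k ^ m) := by
  induction m with
  | zero => simpa using sgn_one
  | succ m ih =>
    rw [pow_succ, pow_succ]
    exact ih.mul h hx

theorem Sgn.act {a x : Γ} {w : W} (ha : Sgn E₀ f a 1) (hx : Act E₀ f x w)
    (hxN : x ∈ Subgroup.normalizer (E₀ : Set Γ)) : Act E₀ f (a * x) w := by
  intro u hu
  have e : a * x * u * (a * x)⁻¹ = a * (x * u * x⁻¹) * a⁻¹ := by group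
  rw [e, ha _ (conj_mem_of_mem_normalizer hxN hu), hx u hu]
  simp

/-- relative Frattini argument -/
theorem frattini_rel [Finite Γ] {q : ℕ} [Fact q.Prime] {T Y : Subgroup Γ} (hTq : IsPGroup q T)
    (hT : SylIn q T Y) (hTY : T ≤ Y) {x : Γ} (hx : ∀ y ∈ Y, x * y * x⁻¹ ∈ Y) :
    ∃ a ∈ Y, a * x ∈ Subgroup.normalizer (T : Set Γ) := by
  have hK : T.map (MulAut.conj x).toMonoidHom ≤ Y := by
    rintro _ ⟨t, ht, rfl⟩
    exact hx t (hTY ht)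
  obtain ⟨a, ha, h⟩ := hT.exists_conj hK (hTq.map _)
  refine ⟨a, ha, mem_normalizer_of_finite ?_⟩
  intro t ht
  have := h _ (⟨t, ht, rfl⟩ : x * t * x⁻¹ ∈ T.map (MulAut.conj x).toMonoidHom)
  have e : a * x * t * (a * x)⁻¹ = a * (x * t * x⁻¹) * a⁻¹ := by group
  rw [e]; exact this

theorem eq_one_of_two_pow {X : Type*} [Group X] {p a b : ℕ} [Fact p.Prime] (hp : p ≠ 2) {c : X}
    (h2 : c ^ (2 ^ a) = 1) (hpb : c ^ (p ^ b) = 1) : c = 1 := by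
  have h1 : orderOf c ∣ 2 ^ a := orderOf_dvd_of_pow_eq_one h2
  have h3 : orderOf c ∣ p ^ b := orderOf_dvd_of_pow_eq_one hpb
  have hcop : Nat.Coprime (2 ^ a) (p ^ b) := by
    apply Nat.Coprime.pow
    exact (Nat.coprime_primes Nat.prime_two Fact.out).2 (Ne.symm hp)
  have h4 : orderOf c ∣ 1 := by
    rw [← hcop.gcd_eq_one]; exact Nat.dvd_gcd h1 h3
  exact orderOf_eq_one_iff.1 (Nat.dvd_one.1 h4)

def Good (E₀ : Subgroup Γ) (f : Γ → W) (Γ₁ X₀ : Subgroup Γ) : Prop :=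
  X₀ ≤ Γ₁ ∧ X₀ ≤ Subgroup.normalizer (E₀ : Set Γ) ∧ (∀ x ∈ X₀, ∃ w, Act E₀ f x w) ∧
    ∀ w, ∃ x ∈ X₀, Act E₀ f x w

def xmax (E₀ : Subgroup Γ) (f : Γ → W) (Γ₁ : Subgroup Γ) : Subgroup Γ where
  carrier := {x | x ∈ Γ₁ ∧ x ∈ Subgroup.normalizer (E₀ : Set Γ) ∧ ∃ w, Act E₀ f x w}
  one_mem' := ⟨Γ₁.one_mem, Subgroup.one_mem _, 1, act_one⟩
  mul_mem' := by
    rintro x y ⟨h1, h2, w, h3⟩ ⟨k1, k2, w', k3⟩
    exact ⟨Γ₁.mul_mem h1 k1, Subgroup.mul_mem _ h2 k2, _, h3.mul k3 k2⟩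
  inv_mem' := by
    rintro x ⟨h1, h2, w, h3⟩
    exact ⟨Γ₁.inv_mem h1, Subgroup.inv_mem _ h2, _, h3.inv h2⟩

def ysub (E₀ : Subgroup Γ) (f : Γ → W) (X₀ : Subgroup Γ)
    (hX₀ : X₀ ≤ Subgroup.normalizer (E₀ : Set Γ)) : Subgroup Γ where
  carrier := {x | x ∈ X₀ ∧ ∃ k, Sgn E₀ f x k}
  one_mem' := ⟨X₀.one_mem, 1, sgn_one⟩
  mul_mem' := by
    rintro x y ⟨h1, k, h3⟩ ⟨k1, k', k3⟩
    exact ⟨X₀.mul_mem h1 k1, _, h3.mul k3 (hX₀ k1)⟩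
  inv_mem' := by
    rintro x ⟨h1, k, h3⟩
    exact ⟨X₀.inv_mem h1, _, h3.inv (hX₀ h1)⟩

theorem exists_good_min [Finite Γ] {p : ℕ} [Fact p.Prime] (hp : p ≠ 2) {V : Subgroup W} {t : W}
    (hQ : QData p V t) (hE₀ : IsPGroup p E₀) (hf : FData E₀ V f) (Γ₁ : Subgroup Γ)
    (h0 : ∀ w, ∃ x ∈ Γ₁, x ∈ Subgroup.normalizer (E₀ : Set Γ) ∧ Act E₀ f x w) :
    ∃ X₀ : Subgroup Γ, Good E₀ f Γ₁ X₀ ∧ ∀ u ∈ E₀, u ∈ X₀ → f u = 1 := by
  have hne : Good E₀ f Γ₁ (xmax E₀ f Γ₁) := by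
    refine ⟨fun x hx => hx.1, fun x hx => hx.2.1, fun x hx => hx.2.2, fun w => ?_⟩
    obtain ⟨x, h1, h2, h3⟩ := h0 w
    exact ⟨x, ⟨h1, h2, w, h3⟩, h3⟩
  obtain ⟨X₀, hX₀, hmin⟩ := WellFounded.has_min
    (measure (fun X : Subgroup Γ => Nat.card X)).wf {X | Good E₀ f Γ₁ X} ⟨_, hne⟩
  refine ⟨X₀, hX₀, ?_⟩
  obtain ⟨hXΓ, hXN, hi, hii⟩ := hX₀
  obtain ⟨Y₁, hY₁⟩ : ∃ Y₁, Y₁ = ysub E₀ f X₀ hXN := ⟨_, rfl⟩
  have hmemY : ∀ x, x ∈ Y₁ ↔ x ∈ X₀ ∧ ∃ k, Sgn E₀ f x k := fun x => by rw [hY₁]; rfl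
  obtain ⟨T₂, hT₂Y, hT₂p, hT₂⟩ := exists_sylIn 2 Y₁
  have hT₂X : T₂ ≤ X₀ := fun x hx => ((hmemY x).1 (hT₂Y hx)).1
  -- an element of `T₂` inverting
  obtain ⟨τ, hτT, hτ⟩ : ∃ τ ∈ T₂, Sgn E₀ f τ (-1) := by
    obtain ⟨τ₀, hτ₀X, hτ₀⟩ := hii t
    have hs₀ : Sgn E₀ f τ₀ (-1) := by
      intro u hu
      rw [hτ₀ u hu, hQ.inv _ (hf.mem u hu)]
      simp
    obtain ⟨a, m, hm, hn⟩ := Nat.exists_eq_two_pow_mul_odd (orderOf_pos τ₀).ne'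
    have hs₁ : Sgn E₀ f (τ₀ ^ m) (-1) := by
      have := hs₀.pow (hXN hτ₀X) m
      rwa [hm.neg_one_pow] at this
    have h2 : (τ₀ ^ m) ^ (2 ^ a) = 1 := by
      rw [← pow_mul, mul_comm, ← hn, pow_orderOf_eq_one]
    have hK : Subgroup.zpowers (τ₀ ^ m) ≤ Y₁ := by
      rw [Subgroup.zpowers_le, hmemY]
      exact ⟨X₀.pow_mem hτ₀X m, _, hs₁⟩
    obtain ⟨y, hy, hconj⟩ := hT₂.exists_conj hK
      (Cfsg.Agent.Lib.Helper9_Centric.isPGroup_zpowers_of_pow h2)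
    refine ⟨_, hconj _ (Subgroup.mem_zpowers _), ?_⟩
    obtain ⟨hyX, -⟩ := (hmemY y).1 hy
    obtain ⟨w, hw⟩ := hi y hyX
    exact Sgn.conj hw (hXN hyX) hs₁ (hXN (X₀.pow_mem hτ₀X m))
  -- `X₀` normalizes `Y₁`
  have hnorm : ∀ x ∈ X₀, ∀ y ∈ Y₁, x * y * x⁻¹ ∈ Y₁ := by
    intro x hx y hy
    obtain ⟨hyX, k, hk⟩ := (hmemY y).1 hy
    obtain ⟨w, hw⟩ := hi x hx
    rw [hmemY]
    exact ⟨X₀.mul_mem (X₀.mul_mem hx hyX) (X₀.inv_mem hx), k, Sgn.conj hw (hXN hx) hk (hXN hyX)⟩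
  have hM : Good E₀ f Γ₁ (X₀ ⊓ Subgroup.normalizer (T₂ : Set Γ)) := by
    refine ⟨inf_le_left.trans hXΓ, inf_le_left.trans hXN, fun x hx => hi x hx.1, fun w => ?_⟩
    obtain ⟨x, hx, hxw⟩ := hii w
    obtain ⟨a, ha, hax⟩ := frattini_rel hT₂p hT₂ hT₂Y (hnorm x hx)
    obtain ⟨haX, k, hk⟩ := (hmemY a).1 ha
    rcases Int.units_eq_one_or k with rfl | rfl
    · exact ⟨a * x, ⟨X₀.mul_mem haX hx, hax⟩, hk.act hxw (hXN hx)⟩
    · refine ⟨τ * (a * x), ⟨X₀.mul_mem (hT₂X hτT) (X₀.mul_mem haX hx),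
        Subgroup.mul_mem _ (Subgroup.le_normalizer hτT) hax⟩, ?_⟩
      rw [← mul_assoc]
      have h1 := hτ.mul hk (hXN haX)
      rw [show (-1 : ℤˣ) * -1 = 1 by simp] at h1
      exact h1.act hxw (hXN hx)
  have hEq : X₀ ⊓ Subgroup.normalizer (T₂ : Set Γ) = X₀ := by
    by_contra hne'
    exact hmin _ hM (card_lt_of_lt (lt_of_le_of_ne inf_le_left hne'))
  have hXT : X₀ ≤ Subgroup.normalizer (T₂ : Set Γ) := by
    rw [← hEq]; exact inf_le_right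
  intro u hu huX
  have hc1 : τ * u * τ⁻¹ * u⁻¹ ∈ E₀ :=
    E₀.mul_mem (conj_mem_of_mem_normalizer (hXN (hT₂X hτT)) hu) (E₀.inv_mem hu)
  have hc2 : τ * u * τ⁻¹ * u⁻¹ ∈ T₂ := by
    have := conj_mem_of_mem_normalizer (hXT huX) (T₂.inv_mem hτT)
    have e : τ * u * τ⁻¹ * u⁻¹ = τ * (u * τ⁻¹ * u⁻¹) := by group
    rw [e]
    exact T₂.mul_mem hτT this
  obtain ⟨a, ha⟩ := hT₂p ⟨_, hc2⟩
  obtain ⟨b, hb⟩ := hE₀ ⟨_, hc1⟩
  have hc : τ * u * τ⁻¹ * u⁻¹ = 1 := eq_one_of_two_pow hp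
    (congrArg (fun z : T₂ => (z : Γ)) ha) (congrArg (fun z : E₀ => (z : Γ)) hb)
  have h1 : τ * u * τ⁻¹ = u := by
    calc τ * u * τ⁻¹ = (τ * u * τ⁻¹ * u⁻¹) * u := by group
      _ = u := by rw [hc, one_mul]
  have h2 := hτ u hu
  rw [h1] at h2
  have h3 : (f u) ^ (2 ^ 1) = 1 := by
    have h4 : f u = (f u)⁻¹ := by simpa using h2
    rw [pow_one, pow_two]
    nth_rewrite 1 [h4]
    exact inv_mul_cancel _
  obtain ⟨b', hb'⟩ := hQ.pgroup ⟨f u, hf.mem u hu⟩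
  exact eq_one_of_two_pow hp h3 (congrArg (fun z : V => (z : W)) hb')

theorem FData.map_one {V : Subgroup W} (hf : FData E₀ V f) : f 1 = 1 := by
  have := hf.mul 1 E₀.one_mem 1 E₀.one_mem
  rw [mul_one] at this
  exact (mul_eq_left.1 this.symm)

theorem FData.map_inv {V : Subgroup W} (hf : FData E₀ V f) {u : Γ} (hu : u ∈ E₀) :
    f u⁻¹ = (f u)⁻¹ := by
  have := hf.mul u hu u⁻¹ (E₀.inv_mem hu)
  rw [mul_inv_cancel, hf.map_one] at this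
  exact (inv_eq_of_mul_eq_one_right this.symm).symm

def graph (E₀ : Subgroup Γ) (f : Γ → W) {V : Subgroup W} (hf : FData E₀ V f) (X₀ : Subgroup Γ)
    (hX₀ : X₀ ≤ Subgroup.normalizer (E₀ : Set Γ)) (W₀ : Subgroup W) : Subgroup (Γ × W) where
  carrier := {z | ∃ u ∈ E₀, ∃ x ∈ X₀, ∃ w₀ ∈ W₀, z.1 = u * x ∧ z.2 = f u * w₀ ∧ Act E₀ f x w₀}
  one_mem' := ⟨1, E₀.one_mem, 1, X₀.one_mem, 1, W₀.one_mem, by simp, by simp [hf.map_one], act_one⟩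
  mul_mem' := by
    rintro ⟨g, w⟩ ⟨g', w'⟩ ⟨u, hu, x, hx, w₀, hw₀, h1, h2, h3⟩ ⟨u', hu', x', hx', w₀', hw₀', h1', h2', h3'⟩
    have hc := conj_mem_of_mem_normalizer (hX₀ hx) hu'
    refine ⟨u * (x * u' * x⁻¹), E₀.mul_mem hu hc, x * x', X₀.mul_mem hx hx', w₀ * w₀',
      W₀.mul_mem hw₀ hw₀', ?_, ?_, h3.mul h3' (hX₀ hx')⟩
    · show g * g' = _
      have e1 : g = u * x := h1
      have e2 : g' = u' * x' := h1'
      rw [e1, e2]; group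
    · show w * w' = _
      have e1 : w = f u * w₀ := h2
      have e2 : w' = f u' * w₀' := h2'
      rw [e1, e2, hf.mul u hu _ hc, h3 u' hu']; group
  inv_mem' := by
    rintro ⟨g, w⟩ ⟨u, hu, x, hx, w₀, hw₀, h1, h2, h3⟩
    have hc := inv_conj_mem (hX₀ hx) (E₀.inv_mem hu)
    refine ⟨x⁻¹ * u⁻¹ * x, hc, x⁻¹, X₀.inv_mem hx, w₀⁻¹, W₀.inv_mem hw₀, ?_, ?_, h3.inv (hX₀ hx)⟩
    · show g⁻¹ = _
      have e1 : g = u * x := h1
      rw [e1]; group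
    · show w⁻¹ = _
      have e1 : w = f u * w₀ := h2
      have e2 := (h3.inv (hX₀ hx)) u⁻¹ (E₀.inv_mem hu)
      rw [inv_inv] at e2
      rw [e1, e2, hf.map_inv hu]; group

/-- Lemma Q'': the group `W` is involved in `Γ₁` -/
theorem involves_of_data [Finite Γ] [Finite W] {p : ℕ} [Fact p.Prime] (hp : p ≠ 2)
    {V : Subgroup W} {t : W} (hQ : QData p V t) (hE₀ : IsPGroup p E₀) (hf : FData E₀ V f)
    (Γ₁ : Subgroup Γ) (hE₀Γ : E₀ ≤ Γ₁)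
    (h0 : ∀ w, ∃ x ∈ Γ₁, x ∈ Subgroup.normalizer (E₀ : Set Γ) ∧ Act E₀ f x w) :
    Involves W Γ₁ := by
  obtain ⟨X₀, ⟨hXΓ, hXN, hi, hii⟩, hker⟩ := exists_good_min hp hQ hE₀ hf Γ₁ h0
  have hVn := hQ.normal
  have hfW : FData V V (id : W → W) :=
    ⟨fun _ _ _ _ => rfl, fun _ h => h, fun v hv => ⟨v, hv, rfl⟩⟩
  obtain ⟨W₀, ⟨-, -, -, hiiW⟩, hkerW⟩ := exists_good_min hp hQ hQ.pgroup hfW ⊤ (fun w =>
    ⟨w, Subgroup.mem_top w, by rw [Subgroup.normalizer_eq_top]; exact Subgroup.mem_top w,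
      fun _ _ => rfl⟩)
  obtain ⟨𝔊, h𝔊⟩ : ∃ 𝔊, 𝔊 = graph E₀ f hf X₀ hXN W₀ := ⟨_, rfl⟩
  have hmem : ∀ z, z ∈ 𝔊 ↔ ∃ u ∈ E₀, ∃ x ∈ X₀, ∃ w₀ ∈ W₀, z.1 = u * x ∧ z.2 = f u * w₀ ∧
      Act E₀ f x w₀ := fun z => by rw [h𝔊]; rfl
  have hfst : ∀ z : 𝔊, ((MonoidHom.fst Γ W).comp 𝔊.subtype) z ∈ Γ₁ := by
    intro z
    obtain ⟨u, hu, x, hx, -, -, h1, -, -⟩ := (hmem z).1 z.2
    show (z : Γ × W).1 ∈ Γ₁
    rw [h1]
    exact Γ₁.mul_mem (hE₀Γ hu) (hXΓ hx)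
  have hinj : Function.Injective (((MonoidHom.fst Γ W).comp 𝔊.subtype).codRestrict Γ₁ hfst) := by
    rw [injective_iff_map_eq_one]
    intro z hz
    have hz1 : (z : Γ × W).1 = 1 := congrArg Subtype.val hz
    obtain ⟨u, hu, x, hx, w₀, hw₀, h1, h2, h3⟩ := (hmem z).1 z.2
    rw [hz1] at h1
    have hxu : x = u⁻¹ := (inv_eq_of_mul_eq_one_right h1.symm).symm
    have hxE : x ∈ E₀ := hxu ▸ E₀.inv_mem hu
    have hfx : f x = 1 := hker x hxE hx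
    have hfu : f u = 1 := by
      have := hf.map_inv hu
      rw [← hxu, hfx] at this
      exact inv_eq_one.1 this.symm
    have hw₀V : w₀ ∈ V := by
      apply hQ.cent
      rw [Subgroup.mem_centralizer_iff]
      intro v hv
      obtain ⟨u', hu', rfl⟩ := hf.surj v hv
      have h4 := h3 u' hu'
      rw [hf.mul _ (E₀.mul_mem hxE hu') _ (E₀.inv_mem hxE), hf.mul _ hxE _ hu',
        hf.map_inv hxE, hfx] at h4
      simp only [one_mul, inv_one, mul_one] at h4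
      calc f u' * w₀ = (w₀ * f u' * w₀⁻¹) * w₀ := by rw [← h4]
        _ = w₀ * f u' := by group
    have hw₀1 : w₀ = 1 := hkerW w₀ hw₀V hw₀
    apply Subtype.ext
    apply Prod.ext hz1
    rw [h2, hfu, hw₀1]
    simp
  have hsurj : Function.Surjective ((MonoidHom.snd Γ W).comp 𝔊.subtype) := by
    intro w
    obtain ⟨w₀, hw₀, hact⟩ := hiiW w
    have hv₀ : w * w₀⁻¹ ∈ V := by
      apply hQ.cent
      rw [Subgroup.mem_centralizer_iff]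
      intro v hv
      have hv' : w₀⁻¹ * v * w₀ ∈ V := by
        have := hVn.conj_mem v hv w₀⁻¹
        rwa [inv_inv] at this
      have h4 : w₀ * (w₀⁻¹ * v * w₀) * w₀⁻¹ = w * (w₀⁻¹ * v * w₀) * w⁻¹ := hact _ hv'
      have h5 : v = w * (w₀⁻¹ * v * w₀) * w⁻¹ := by
        rw [← h4]; group
      calc v * (w * w₀⁻¹) = (w * (w₀⁻¹ * v * w₀) * w⁻¹) * (w * w₀⁻¹) := by rw [← h5]
        _ = w * w₀⁻¹ * v := by group
    obtain ⟨u, hu, hfu⟩ := hf.surj _ hv₀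
    obtain ⟨x, hx, hxa⟩ := hii w₀
    refine ⟨⟨(u * x, w), (hmem _).2 ⟨u, hu, x, hx, w₀, hw₀, rfl, ?_, hxa⟩⟩, rfl⟩
    show w = f u * w₀
    rw [hfu]; group
  exact Cfsg.Agent.Lib.Helper9_Involves.involves_of_injective _ hinj
    (Cfsg.Agent.Lib.Helper9_Involves.involves_of_hom ⊤
      (((MonoidHom.snd Γ W).comp 𝔊.subtype).comp (⊤ : Subgroup 𝔊).subtype)
      (fun w => by
        obtain ⟨z, hz⟩ := hsurj w
        exact ⟨⟨z, Subgroup.mem_top z⟩, hz⟩))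

theorem eq_one_of_coprime_pow {X : Type*} [Group X] {a b : ℕ} (hab : Nat.Coprime a b) {x : X}
    (ha : x ^ a = 1) (hb : x ^ b = 1) : x = 1 := by
  have h4 : orderOf x ∣ 1 := by
    rw [← hab.gcd_eq_one]
    exact Nat.dvd_gcd (orderOf_dvd_of_pow_eq_one ha) (orderOf_dvd_of_pow_eq_one hb)
  exact orderOf_eq_one_iff.1 (Nat.dvd_one.1 h4)

/-- Lemma P: passing to the quotient by a normal `p'`-subgroup -/
theorem involves_quot [Finite Γ] {p : ℕ} {V : Subgroup W} {t : W} (hQ : QData p V t)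
    (O : Subgroup Γ) [O.Normal] (hO : (Nat.card O).Coprime p) (h : Involves W Γ) :
    Involves W (Γ ⧸ O) := by
  obtain ⟨K, π, hπ⟩ := Cfsg.Agent.Lib.Helper9_Involves.exists_hom_of_involves h
  have hVn := hQ.normal
  have hMn : ((O.subgroupOf K).map π).Normal :=
    Subgroup.Normal.map inferInstance π hπ
  have hMV : ∀ m ∈ (O.subgroupOf K).map π, m ∈ V → m = 1 := by
    rintro _ ⟨o, ho, rfl⟩ hv
    obtain ⟨k, hk⟩ := hQ.pgroup ⟨π o, hv⟩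
    have h1 : (π o) ^ (p ^ k) = 1 := congrArg (fun z : V => (z : W)) hk
    have h2 : (π o) ^ (Nat.card O) = 1 := by
      have h3 := pow_card_eq_one' (G := O) (x := ⟨(o : Γ), ho⟩)
      have h4 : o ^ (Nat.card O) = 1 := by
        apply Subtype.ext
        exact congrArg (fun z : O => (z : Γ)) h3
      rw [← map_pow, h4, map_one]
    exact eq_one_of_coprime_pow (Nat.Coprime.pow_right k hO) h2 h1
  have hM1 : ∀ m ∈ (O.subgroupOf K).map π, m = 1 := by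
    intro m hm
    apply hMV m hm
    apply hQ.cent
    rw [Subgroup.mem_centralizer_iff]
    intro v hv
    have h1 : m * v * m⁻¹ * v⁻¹ = 1 := by
      apply hMV
      · have := hMn.conj_mem _ (Subgroup.inv_mem _ hm) v
        have e : m * v * m⁻¹ * v⁻¹ = m * (v * m⁻¹ * v⁻¹) := by group
        rw [e]
        exact Subgroup.mul_mem _ hm this
      · exact V.mul_mem (hVn.conj_mem v hv m) (V.inv_mem hv)
    calc v * m = (m * v * m⁻¹ * v⁻¹)⁻¹ * (m * v) := by group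
      _ = m * v := by rw [h1]; group
  have hsurj := (QuotientGroup.mk' O).subgroupMap_surjective K
  have hker : ((QuotientGroup.mk' O).subgroupMap K).ker ≤ π.ker := by
    intro k hk
    rw [MonoidHom.mem_ker] at hk ⊢
    have h1 : QuotientGroup.mk' O (k : Γ) = 1 := congrArg Subtype.val hk
    have h2 : (k : Γ) ∈ O := (QuotientGroup.eq_one_iff _).1 h1
    exact hM1 _ ⟨k, h2, rfl⟩
  refine Cfsg.Agent.Lib.Helper9_Involves.involves_of_hom (K.map (QuotientGroup.mk' O))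
    (((QuotientGroup.mk' O).subgroupMap K).liftOfSurjective hsurj ⟨π, hker⟩) ?_
  intro w
  obtain ⟨k, rfl⟩ := hπ w
  exact ⟨(QuotientGroup.mk' O).subgroupMap K k,
    ((QuotientGroup.mk' O).subgroupMap K).liftOfRightInverse_comp_apply _
      (Function.rightInverse_surjInv hsurj) ⟨π, hker⟩ k⟩

end Cfsg.Agent.Lib.Helper9_QdLemma
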