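import Mathlib
import Cfsg.Prelude.Def_PLocal
import Cfsg.Agent.Lib.Helper9_QdLemma

set_option autoImplicit false

namespace Cfsg.Agent.Lib.Helper9_QdFacts

open Cfsg Cfsg.Agent.Lib.Helper9_QdLemma Matrix

variable {p : ℕ}

abbrev SL3 (p : ℕ) := Matrix.SpecialLinearGroup (Fin 3) (ZMod p)

def qdSub (p : ℕ) : Subgroup (SL3 p) where
  carrier := {M | (M : Matrix (Fin 3) (Fin 3) (ZMod p)) 2 0 = 0 ∧
    (M : Matrix (Fin 3) (Fin 3) (ZMod p)) 2 1 = 0 ∧ (M : Matrix (Fin 3) (Fin 3) (ZMod p)) 2 2 = 1}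
  one_mem' := by simp
  mul_mem' := by
    rintro A B ⟨a0, a1, a2⟩ ⟨b0, b1, b2⟩
    refine ⟨?_, ?_, ?_⟩ <;>
      simp [Matrix.SpecialLinearGroup.coe_mul, Matrix.mul_apply, Fin.sum_univ_three, *]
  inv_mem' := by
    rintro A ⟨a0, a1, a2⟩
    have h : (A * A⁻¹ : SL3 p) = 1 := mul_inv_cancel A
    have h' := congrArg (fun M : SL3 p => (M : Matrix (Fin 3) (Fin 3) (ZMod p))) h
    simp only [Matrix.SpecialLinearGroup.coe_mul, Matrix.SpecialLinearGroup.coe_one] at h'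
    have e0 := congrFun (congrFun h' 2) 0
    have e1 := congrFun (congrFun h' 2) 1
    have e2 := congrFun (congrFun h' 2) 2
    simp [Matrix.mul_apply, Fin.sum_univ_three, a0, a1, a2] at e0 e1 e2
    exact ⟨e0, e1, e2⟩

theorem qd_eq (p : ℕ) : qd p = qdSub p := Subgroup.closure_eq (qdSub p)

theorem mem_qd (M : SL3 p) : M ∈ qd p ↔ (M : Matrix (Fin 3) (Fin 3) (ZMod p)) 2 0 = 0 ∧
    (M : Matrix (Fin 3) (Fin 3) (ZMod p)) 2 1 = 0 ∧
    (M : Matrix (Fin 3) (Fin 3) (ZMod p)) 2 2 = 1 := by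
  rw [qd_eq]; rfl

/-- the linear part -/
def rho (p : ℕ) : ↥(qd p) →* Matrix (Fin 2) (Fin 2) (ZMod p) where
  toFun M := !![M.1.1 0 0, M.1.1 0 1; M.1.1 1 0, M.1.1 1 1]
  map_one' := by
    ext i j
    fin_cases i <;> fin_cases j <;> simp
  map_mul' := by
    rintro ⟨A, hA⟩ ⟨B, hB⟩
    obtain ⟨b0, b1, b2⟩ := (mem_qd B).1 hB
    ext i j
    fin_cases i <;> fin_cases j <;>
      simp [Matrix.mul_apply, Fin.sum_univ_three, Fin.sum_univ_two, b0, b1]

theorem mem_ker_iff (M : ↥(qd p)) : M ∈ (rho p).ker ↔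
    M.1.1 0 0 = 1 ∧ M.1.1 0 1 = 0 ∧ M.1.1 1 0 = 0 ∧ M.1.1 1 1 = 1 := by
  rw [MonoidHom.mem_ker]
  constructor
  · intro h
    have e00 := congrFun (congrFun h 0) 0
    have e01 := congrFun (congrFun h 0) 1
    have e10 := congrFun (congrFun h 1) 0
    have e11 := congrFun (congrFun h 1) 1
    simp [rho] at e00 e01 e10 e11
    exact ⟨e00, e01, e10, e11⟩
  · rintro ⟨e00, e01, e10, e11⟩
    ext i j
    fin_cases i <;> fin_cases j <;> simp [rho, e00, e01, e10, e11]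

theorem ext_qd {A B : ↥(qd p)} (h : ∀ i j, A.1.1 i j = B.1.1 i j) : A = B := by
  apply Subtype.ext
  apply Matrix.SpecialLinearGroup.ext
  exact h

theorem mul_entry (A B : ↥(qd p)) (i j : Fin 3) :
    (A * B).1.1 i j = A.1.1 i 0 * B.1.1 0 j + A.1.1 i 1 * B.1.1 1 j + A.1.1 i 2 * B.1.1 2 j := by
  show ((A.1 * B.1 : SL3 p) : Matrix (Fin 3) (Fin 3) (ZMod p)) i j = _
  rw [Matrix.SpecialLinearGroup.coe_mul, Matrix.mul_apply, Fin.sum_univ_three]

theorem one_entry (i j : Fin 3) : (1 : ↥(qd p)).1.1 i j = if i = j then 1 else 0 := by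
  show ((1 : SL3 p) : Matrix (Fin 3) (Fin 3) (ZMod p)) i j = _
  rw [Matrix.SpecialLinearGroup.coe_one, Matrix.one_apply]

theorem row2 (A : ↥(qd p)) : A.1.1 2 0 = 0 ∧ A.1.1 2 1 = 0 ∧ A.1.1 2 2 = 1 := (mem_qd A.1).1 A.2

/-- translations -/
def trS (p : ℕ) (a b : ZMod p) : SL3 p :=
  ⟨!![1, 0, a; 0, 1, b; 0, 0, 1], by simp [Matrix.det_fin_three]⟩

def tr (p : ℕ) (a b : ZMod p) : ↥(qd p) :=
  ⟨trS p a b, (mem_qd _).2 (by simp [trS])⟩

/-- the central involution of the linear part -/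
def ttS (p : ℕ) : SL3 p :=
  ⟨!![-1, 0, 0; 0, -1, 0; 0, 0, 1], by simp [Matrix.det_fin_three]⟩

def tt (p : ℕ) : ↥(qd p) :=
  ⟨ttS p, (mem_qd _).2 (by simp [ttS])⟩

theorem tr_mem (a b : ZMod p) : tr p a b ∈ (rho p).ker := by
  rw [mem_ker_iff]; simp [tr, trS]

theorem comm_ker {a b : ↥(qd p)} (ha : a ∈ (rho p).ker) (hb : b ∈ (rho p).ker) :
    a * b = b * a := by
  obtain ⟨a00, a01, a10, a11⟩ := (mem_ker_iff a).1 ha
  obtain ⟨b00, b01, b10, b11⟩ := (mem_ker_iff b).1 hb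
  obtain ⟨a20, a21, a22⟩ := row2 a
  obtain ⟨b20, b21, b22⟩ := row2 b
  apply ext_qd
  intro i j
  rw [mul_entry, mul_entry]
  fin_cases i <;> fin_cases j <;> simp [*] <;> ring

theorem pow_ker {a : ↥(qd p)} (ha : a ∈ (rho p).ker) (n : ℕ) :
    (a ^ n).1.1 0 2 = n * a.1.1 0 2 ∧ (a ^ n).1.1 1 2 = n * a.1.1 1 2 := by
  obtain ⟨a00, a01, a10, a11⟩ := (mem_ker_iff a).1 ha
  obtain ⟨a20, a21, a22⟩ := row2 a
  induction n with
  | zero => simp
  | succ n ih =>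
    have hn := (mem_ker_iff _).1 ((rho p).ker.pow_mem ha n)
    obtain ⟨n00, n01, n10, n11⟩ := hn
    rw [pow_succ, mul_entry, mul_entry, ih.1, ih.2, n00, n01, n10, n11, a22]
    push_cast
    constructor <;> ring

theorem qdata (p : ℕ) [Fact p.Prime] : QData p (rho p).ker (tt p) where
  normal := inferInstance
  comm := fun a ha b hb => comm_ker ha hb
  pgroup := by
    rintro ⟨a, ha⟩
    refine ⟨1, Subtype.ext ?_⟩
    show a ^ (p ^ 1) = 1
    rw [pow_one]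
    obtain ⟨h1, h2⟩ := pow_ker ha p
    obtain ⟨n00, n01, n10, n11⟩ := (mem_ker_iff _).1 ((rho p).ker.pow_mem ha p)
    obtain ⟨n20, n21, n22⟩ := row2 (a ^ p)
    simp only [CharP.cast_eq_zero, zero_mul] at h1 h2
    obtain ⟨b, hb⟩ : ∃ b, b = a ^ p := ⟨_, rfl⟩
    rw [← hb] at h1 h2 n00 n01 n10 n11 n20 n21 n22 ⊢
    clear hb
    apply ext_qd
    intro i j
    rw [one_entry]
    fin_cases i <;> fin_cases j <;> simp [*]
  cent := by
    intro w hw
    rw [Subgroup.mem_centralizer_iff] at hw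
    have h1 := hw _ (tr_mem (p := p) 1 0)
    have h2 := hw _ (tr_mem (p := p) 0 1)
    obtain ⟨w20, w21, w22⟩ := row2 w
    have e1 := fun i => congrArg (fun M : ↥(qd p) => M.1.1 i 2) h1
    have e2 := fun i => congrArg (fun M : ↥(qd p) => M.1.1 i 2) h2
    simp only [mul_entry] at e1 e2
    have a0 := e1 0
    have a1 := e1 1
    have b0 := e2 0
    have b1 := e2 1
    simp [tr, trS, w22] at a0 a1 b0 b1
    rw [mem_ker_iff]
    refine ⟨?_, b0, a1, ?_⟩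
    · linear_combination -a0
    · linear_combination -b1
  inv := by
    intro v hv
    obtain ⟨a00, a01, a10, a11⟩ := (mem_ker_iff v).1 hv
    obtain ⟨a20, a21, a22⟩ := row2 v
    have ht : tt p * tt p = 1 := by
      apply ext_qd
      intro i j
      rw [mul_entry, one_entry]
      fin_cases i <;> fin_cases j <;> simp [tt, ttS]
    have ht' : (tt p)⁻¹ = tt p := inv_eq_of_mul_eq_one_right ht
    rw [ht']
    apply eq_inv_of_mul_eq_one_left
    apply ext_qd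
    intro i j
    rw [mul_entry, one_entry]
    simp only [mul_entry]
    fin_cases i <;> fin_cases j <;> simp [tt, ttS, *]

end Cfsg.Agent.Lib.Helper9_QdFacts
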