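import Mathlib
import Cfsg.Prelude.Def_FusionSystem
import Cfsg.Prelude.Def_FusionReduction
import Cfsg.Agent.Lib.Helper9_SecFree3
import Cfsg.Agent.Lib.Helper9_QdFacts

set_option autoImplicit false

namespace Cfsg.Agent.Lib.Helper9_QdGroup

open Cfsg Cfsg.FusionSystem Cfsg.Agent.Lib.Helper9_FusionBasic Cfsg.Agent.Lib.Helper9_FusionSat
  Cfsg.Agent.Lib.Helper9_FusionNormal Cfsg.Agent.Lib.Helper9_AlperinCor
  Cfsg.Agent.Lib.Helper9_Alperin Cfsg.Agent.Lib.Helper9_Realized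
  Cfsg.Agent.Lib.Helper9_NormCR Cfsg.Agent.Lib.Helper9_Embed Cfsg.Agent.Lib.Helper9_ModelU
  Cfsg.Agent.Lib.Helper9_Chain3 Cfsg.Agent.Lib.Helper9_GroupNormal Cfsg.Agent.Lib.Helper9_Centric
  Cfsg.Agent.Lib.Helper9_ModelE Cfsg.Agent.Lib.Helper9_SecFree Cfsg.Agent.Lib.Helper9_EmbedQ
  Cfsg.Agent.Lib.Helper9_QdLemma Cfsg.Agent.Lib.Helper9_FusionGroup Cfsg.Agent.Lib.Helper9_KNorm

universe u

variable {G : Type u} [Group G] [Finite G] {p : ℕ} [Fact p.Prime]

/-- the models of `N_F(Q)` for `F = F_P(G)` are `N_G(Q)/O_{p'}(N_G(Q))` -/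
theorem model_iso_normalizer (P : Sylow p G) {Q : Subgroup G}
    (hfn : (groupFusionSystem (P : Subgroup G)).IsFullyNormalized Q)
    (hcen : (groupFusionSystem (P : Subgroup G)).IsCentric Q)
    (N : FusionSystem (normalizerIn (P : Subgroup G) Q))
    (hN : (groupFusionSystem (P : Subgroup G)).IsNormalizerSystem Q N)
    {L : Type*} [Group L] (ι : normalizerIn (P : Subgroup G) Q →* L) (hL : N.IsModel p L ι) :
    ∃ Φ : L →* (↥(Subgroup.normalizer (Q : Set G)) ⧸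
      pPrimeCore p ↥(Subgroup.normalizer (Q : Set G))), Function.Bijective Φ := by
  have hQP : Q ≤ P := hfn.1
  have hfinQ : Finite Q := inferInstance
  have hle0 : normalizerIn (P : Subgroup G) Q ≤ P := inf_le_left
  have hleN : normalizerIn (P : Subgroup G) Q ≤ Subgroup.normalizer (Q : Set G) := inf_le_right
  have hTp : IsPGroup p (normalizerIn (P : Subgroup G) Q) := P.isPGroup'.to_le hle0
  have hQT : Q ≤ normalizerIn (P : Subgroup G) Q := le_normalizerIn hQP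
  have hnor : N.IsNormal Q := normalizer_isNormal hQP hN
  have hc' : centralizerIn (normalizerIn (P : Subgroup G) Q) Q ≤ Q := fun c hc =>
    hcen.2 Q (isConj_refl _ hQP) ⟨hc.1.1, hc.2⟩
  have hRG := model_normal_map hL hnor
  have hCG := model_centralizer_le hL hnor hc'
  obtain ⟨hfinL, hreal, ⟨PL, hPL⟩, hc⟩ := hL
  obtain ⟨R₀, hR₀⟩ := (group_fullyNormalized_iff P hQP).1 hfn
  have hP₀ : (R₀ : Subgroup ↥(Subgroup.normalizer (Q : Set G))) =
      (Subgroup.inclusion hleN).range := by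
    rw [hR₀, Subgroup.inclusion_range]
  have hRG₀ : ((Q.subgroupOf (normalizerIn (P : Subgroup G) Q)).map
      (Subgroup.inclusion hleN)).Normal := by
    constructor
    rintro _ ⟨x, hx, rfl⟩ g
    have h1 : (g : G) * x * (g : G)⁻¹ ∈ Q := conj_mem_of_mem_normalizer g.2 hx
    exact ⟨⟨_, hQT h1⟩, h1, rfl⟩
  have hCT : ∀ t : normalizerIn (P : Subgroup G) Q,
      (∀ x ∈ Q.subgroupOf (normalizerIn (P : Subgroup G) Q), x * t = t * x) →
      t ∈ Q.subgroupOf (normalizerIn (P : Subgroup G) Q) := by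
    intro t ht
    have h1 : (t : G) ∈ Subgroup.centralizer (Q : Set G) := by
      rw [Subgroup.mem_centralizer_iff]
      intro y hy
      exact congrArg Subtype.val (ht ⟨y, hQT hy⟩ hy)
    exact hc' ⟨t.2, h1⟩
  have hfus : ∀ g : L, ∃ h : ↥(Subgroup.normalizer (Q : Set G)),
      ∀ u s : normalizerIn (P : Subgroup G) Q,
      ι u * g = g * ι s → Subgroup.inclusion hleN u * h = h * Subgroup.inclusion hleN s := by
    intro g
    obtain ⟨D, ψ, hψ, H⟩ := exists_fusion_hom hreal g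
    rw [hN] at hψ
    obtain ⟨ψh, hψh, a1, a2, a3⟩ := normalizerHom_extend hψ
    obtain ⟨-, -, x, hx⟩ := hψh
    have hxN : x ∈ Subgroup.normalizer (Q : Set G) := by
      apply mem_normalizer_of_finite
      intro q hq
      have := a2 ⟨q, hq⟩
      rw [hx] at this
      exact this
    refine ⟨⟨x, hxN⟩⁻¹, fun u s hus => ?_⟩
    obtain ⟨hu, hs⟩ := H u s hus
    have h1 := a1 ⟨u, hu⟩
    rw [hx, hs] at h1
    apply Subtype.ext
    show (u : G) * x⁻¹ = x⁻¹ * (s : G)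
    rw [← h1]
    show (u : G) * x⁻¹ = x⁻¹ * (x * (u : G) * x⁻¹)
    group
  obtain ⟨Φ, hΦ, -, hsurj⟩ := exists_embedding_quot p hTp ι (Subgroup.inclusion hleN)
    (Subgroup.inclusion_injective hleN) (Q.subgroupOf (normalizerIn (P : Subgroup G) Q)) hRG hCG
    (by rw [← hPL]; exact PL.not_dvd_index) hRG₀ R₀ hP₀ hCT hfus
  refine ⟨Φ, hΦ, hsurj ?_⟩
  intro h
  have hval : ∀ x ∈ Q, (h : G)⁻¹ * x * (h : G)⁻¹⁻¹ ∈ Q := fun x hx =>
    conj_mem_of_mem_normalizer (Subgroup.inv_mem _ h.2) hx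
  have hφ : conjHom Q (h : G)⁻¹ ∈ (groupFusionSystem (P : Subgroup G)).Hom Q :=
    conjHom_mem_group _ hQP _ (fun x hx => hQP (hval x hx))
  have hφN : conjHom Q (h : G)⁻¹ ∈ N.Hom Q := by
    rw [hN]
    refine mem_normalizerHom_of _ hφ hQT (fun x => hQT (hval x x.2)) Q le_rfl le_rfl _ hφ
      (fun x => rfl) (fun x => hval x x.2) (fun y hy => ?_)
    refine ⟨⟨(h : G) * y * (h : G)⁻¹, conj_mem_of_mem_normalizer h.2 hy⟩, ?_⟩
    show (h : G)⁻¹ * ((h : G) * y * (h : G)⁻¹) * (h : G)⁻¹⁻¹ = y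
    group
  obtain ⟨l, hl⟩ := exists_elt_of_hom hreal hφN
  refine ⟨l⁻¹, fun x hx x' hxx' => ?_⟩
  have h1 := hl ⟨x, hx⟩
  have h2 : (x : G) * (h : G) = (h : G) * (x' : G) := congrArg Subtype.val hxx'
  have h3 : (⟨conjHom Q (h : G)⁻¹ ⟨x, hx⟩, (N.le_of_mem hφN).2 _⟩ :
      normalizerIn (P : Subgroup G) Q) = x' := by
    apply Subtype.ext
    show (h : G)⁻¹ * (x : G) * (h : G)⁻¹⁻¹ = x'
    rw [inv_inv, mul_assoc, h2]; group
  rw [h3] at h1
  have h4 : ι x' = l * ι x * l⁻¹ := h1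
  rw [h4]; group

variable {W : Type*} [Group W]

theorem stepA {V : Subgroup W} {t : W} (hQ : QData p V t) (h : Involves W G) :
    ∃ (E₀ : Subgroup G) (f : G → W), IsPGroup p E₀ ∧ FData E₀ V f ∧
      ∀ w, ∃ x, x ∈ Subgroup.normalizer (E₀ : Set G) ∧ Act E₀ f x w := by
  classical
  obtain ⟨K, π, hπ⟩ := Cfsg.Agent.Lib.Helper9_Involves.exists_hom_of_involves h
  have hVn := hQ.normal
  obtain ⟨X₁, hX₁⟩ : ∃ X₁ : Subgroup G, X₁ = (V.comap π).map K.subtype := ⟨_, rfl⟩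
  have hX₁K : X₁ ≤ K := by rw [hX₁]; exact Subgroup.map_subtype_le _
  have hmemX : ∀ k : K, (k : G) ∈ X₁ ↔ π k ∈ V := by
    intro k
    rw [hX₁]
    constructor
    · rintro ⟨y, hy, hyk⟩
      have : y = k := Subtype.ext hyk
      rw [← this]; exact hy
    · intro hk
      exact ⟨k, hk, rfl⟩
  obtain ⟨E₀, hE₀X, hE₀p, hE₀⟩ := exists_sylIn p X₁
  have hE₀K : E₀ ≤ K := hE₀X.trans hX₁K
  obtain ⟨f, hf⟩ : ∃ f : G → W, f = fun g => if h : g ∈ K then π ⟨g, h⟩ else 1 := ⟨_, rfl⟩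
  have hfK : ∀ k : K, f k = π k := by
    intro k
    rw [hf]
    simp
  have hfK' : ∀ g (hg : g ∈ K), f g = π ⟨g, hg⟩ := fun g hg => hfK ⟨g, hg⟩
  have hfd : FData E₀ V f := by
    refine ⟨fun u hu u' hu' => ?_, fun u hu => ?_, fun v hv => ?_⟩
    · rw [hfK' _ (K.mul_mem (hE₀K hu) (hE₀K hu')), hfK' _ (hE₀K hu), hfK' _ (hE₀K hu'), ← map_mul]
      rfl
    · rw [hfK' _ (hE₀K hu)]
      exact (hmemX ⟨u, hE₀K hu⟩).1 (hE₀X hu)
    · obtain ⟨R, hR⟩ := hE₀
      have hcod : ∀ x : X₁, (π.comp (Subgroup.inclusion hX₁K)) x ∈ V := fun x =>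
        (hmemX ⟨x, hX₁K x.2⟩).1 x.2
      have hsurj : Function.Surjective ((π.comp (Subgroup.inclusion hX₁K)).codRestrict V hcod) := by
        rintro ⟨v', hv'⟩
        obtain ⟨k, rfl⟩ := hπ v'
        exact ⟨⟨k, (hmemX k).2 hv'⟩, rfl⟩
      have htop : (⊤ : Subgroup V) = (R.mapSurjective hsurj : Sylow p V) := by
        apply (R.mapSurjective hsurj).is_maximal' _ le_top
        exact hQ.pgroup.to_subgroup _
      have hv1 : (⟨v, hv⟩ : V) ∈ ((R.mapSurjective hsurj : Sylow p V) : Subgroup V) := by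
        rw [← htop]; exact Subgroup.mem_top _
      rw [Sylow.coe_mapSurjective] at hv1
      obtain ⟨r, hr, hrv⟩ := hv1
      have hr' : r ∈ (R : Subgroup X₁) := hr
      rw [hR] at hr'
      refine ⟨r, hr', ?_⟩
      rw [hfK' _ (hX₁K r.2)]
      exact congrArg Subtype.val hrv
  refine ⟨E₀, f, hE₀p, hfd, fun w => ?_⟩
  obtain ⟨k, rfl⟩ := hπ w
  have hnorm : ∀ y ∈ X₁, (k : G) * y * (k : G)⁻¹ ∈ X₁ := by
    intro y hy
    have h1 := (hmemX ⟨y, hX₁K hy⟩).1 hy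
    have h2 : ((k * ⟨y, hX₁K hy⟩ * k⁻¹ : K) : G) ∈ X₁ := by
      rw [hmemX, map_mul, map_mul, map_inv]
      exact hVn.conj_mem _ h1 _
    exact h2
  obtain ⟨a, ha, hak⟩ := frattini_rel hE₀p hE₀ hE₀X hnorm
  refine ⟨a * k, hak, fun u hu => ?_⟩
  have haK : a ∈ K := hX₁K ha
  have hav : π ⟨a, haK⟩ ∈ V := (hmemX ⟨a, haK⟩).1 ha
  have huK := hE₀K hu
  have e1 : a * (k : G) * u * (a * (k : G))⁻¹ =
      ((⟨a, haK⟩ * k * ⟨u, huK⟩ * (⟨a, haK⟩ * k)⁻¹ : K) : G) := rfl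
  rw [e1, hfK, hfK' u huK, map_mul, map_mul, map_inv, map_mul]
  have hv2 : π k * π ⟨u, huK⟩ * (π k)⁻¹ ∈ V :=
    hVn.conj_mem _ ((hmemX ⟨u, huK⟩).1 (hE₀X hu)) _
  have hcomm := hQ.comm _ hav _ hv2
  calc π ⟨a, haK⟩ * π k * π ⟨u, huK⟩ * (π ⟨a, haK⟩ * π k)⁻¹
      = (π ⟨a, haK⟩ * (π k * π ⟨u, huK⟩ * (π k)⁻¹)) * (π ⟨a, haK⟩)⁻¹ := by group
    _ = π k * π ⟨u, huK⟩ * (π k)⁻¹ := by rw [hcomm]; group

def zsub (E₀ : Subgroup G) (f : G → W) : Subgroup G where
  carrier := {y | y ∈ Subgroup.normalizer (E₀ : Set G) ∧ Sgn E₀ f y 1}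
  one_mem' := ⟨Subgroup.one_mem _, sgn_one⟩
  mul_mem' := by
    rintro x y ⟨h1, h2⟩ ⟨k1, k2⟩
    refine ⟨Subgroup.mul_mem _ h1 k1, ?_⟩
    have := h2.mul k2 k1
    rwa [one_mul] at this
  inv_mem' := by
    rintro x ⟨h1, h2⟩
    exact ⟨Subgroup.inv_mem _ h1, h2.inv h1⟩

theorem stepB {V : Subgroup W} {t : W} (hQ : QData p V t) {E₀ : Subgroup G} {f : G → W}
    (hE₀ : IsPGroup p E₀) (hf : FData E₀ V f)
    (h0 : ∀ w, ∃ x, x ∈ Subgroup.normalizer (E₀ : Set G) ∧ Act E₀ f x w) :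
    ∃ Q : Subgroup G, IsPGroup p Q ∧ E₀ ≤ Q ∧
      (∀ w, ∃ x ∈ Subgroup.normalizer (Q : Set G),
        x ∈ Subgroup.normalizer (E₀ : Set G) ∧ Act E₀ f x w) ∧
      (∀ c ∈ Subgroup.centralizer (Q : Set G), IsPGroup p ↥(Q ⊔ Subgroup.zpowers c) → c ∈ Q) := by
  obtain ⟨Y, hY⟩ : ∃ Y : Subgroup G, Y = E₀ ⊔ Subgroup.centralizer (E₀ : Set G) := ⟨_, rfl⟩
  obtain ⟨Q, hQY, hQp, hQs⟩ := exists_sylIn p Y
  have hE₀Y : E₀ ≤ Y := hY ▸ le_sup_left
  have hCY : Subgroup.centralizer (E₀ : Set G) ≤ Y := hY ▸ le_sup_right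
  have hYZ : Y ≤ zsub E₀ f := by
    rw [hY]
    apply sup_le
    · intro e he
      refine ⟨Subgroup.le_normalizer he, fun u hu => ?_⟩
      rw [hf.mul _ (E₀.mul_mem he hu) _ (E₀.inv_mem he), hf.mul _ he _ hu, hf.map_inv he,
        hQ.comm _ (hf.mem e he) _ (hf.mem u hu)]
      simp
    · intro c hc
      refine ⟨Subgroup.centralizer_le_normalizer _ hc, fun u hu => ?_⟩
      have h1 := Subgroup.mem_centralizer_iff.1 hc u hu
      have e : c * u * c⁻¹ = u := by rw [← h1]; group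
      rw [e]; simp
  have hE₀Q : E₀ ≤ Q := by
    obtain ⟨a, ha, h⟩ := hQs.exists_conj hE₀Y hE₀
    intro u hu
    have h1 := h _ (inv_conj_mem (hYZ ha).1 hu)
    have e : a * (a⁻¹ * u * a) * a⁻¹ = u := by group
    rwa [e] at h1
  refine ⟨Q, hQp, hE₀Q, fun w => ?_, fun c hc hD => ?_⟩
  · obtain ⟨x, hxN, hxw⟩ := h0 w
    have hnorm : ∀ y ∈ Y, x * y * x⁻¹ ∈ Y := by
      have hle : Y ≤ Y.comap (MulAut.conj x).toMonoidHom := by
        conv_lhs => rw [hY]
        apply sup_le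
        · intro e he
          exact hE₀Y (conj_mem_of_mem_normalizer hxN he)
        · intro c hc
          apply hCY
          rw [Subgroup.mem_centralizer_iff]
          intro e he
          have h1 := Subgroup.mem_centralizer_iff.1 hc _ (inv_conj_mem hxN he)
          show e * (x * c * x⁻¹) = x * c * x⁻¹ * e
          calc e * (x * c * x⁻¹) = x * ((x⁻¹ * e * x) * c) * x⁻¹ := by group
            _ = x * c * x⁻¹ * e := by rw [h1]; group
      intro y hy
      exact hle hy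
    obtain ⟨a, ha, hax⟩ := frattini_rel hQp hQs hQY hnorm
    exact ⟨a * x, hax, Subgroup.mul_mem _ (hYZ ha).1 hxN, (hYZ ha).2.act hxw hxN⟩
  · have hDY : Q ⊔ Subgroup.zpowers c ≤ Y := by
      apply sup_le hQY
      rw [Subgroup.zpowers_le]
      exact hCY (Subgroup.centralizer_le hE₀Q hc)
    have := hQs.max _ hDY hD (inf_le_left.trans le_sup_left)
    exact this (Subgroup.mem_sup_right (Subgroup.mem_zpowers c))

omit [Finite G] in
theorem map_conj_conj (Q : Subgroup G) (a g : G) :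
    (Q.map (MulAut.conj a).toMonoidHom).map (MulAut.conj g).toMonoidHom =
      Q.map (MulAut.conj (g * a)).toMonoidHom := by
  rw [Subgroup.map_map]
  congr 1
  ext x
  simp [mul_assoc]

omit [Finite G] in
theorem involves_normalizer_conj (Q : Subgroup G) (c : G)
    (h : Involves W ↥(Subgroup.normalizer (Q : Set G))) :
    Involves W ↥(Subgroup.normalizer ((Q.map (MulAut.conj c).toMonoidHom : Subgroup G) : Set G)) := by
  refine Cfsg.Agent.Lib.Helper9_Involves.involves_of_injective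
    (((MulAut.conj c).toMonoidHom.comp (Subgroup.normalizer (Q : Set G)).subtype).codRestrict _
      (fun x => conj_mem_normalizer_map x.2)) ?_ h
  intro x y hxy
  have h1 : c * (x : G) * c⁻¹ = c * (y : G) * c⁻¹ := congrArg Subtype.val hxy
  exact Subtype.ext (mul_left_cancel (mul_right_cancel h1))

/-- S5206 for a general group `W` with the structure of `Qd(p)` -/
theorem sectionFree_iff (hp : p ≠ 2) [Finite W] {V : Subgroup W} {t : W} (hQd : QData p V t)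
    (P : Sylow p G) :
    (groupFusionSystem (P : Subgroup G)).IsSectionFree p W ↔ ¬ Involves W G := by
  have hS : IsPGroup p (P : Subgroup G) := P.isPGroup'
  have hF := group_saturated P
  constructor
  · intro hfree hinv
    obtain ⟨E₀, f, hE₀p, hfd, h0⟩ := stepA hQd hinv
    obtain ⟨Q, hQp, hE₀Q, h1, hC⟩ := stepB hQd hE₀p hfd h0
    have hI : Involves W ↥(Subgroup.normalizer (Q : Set G)) :=
      involves_of_data hp hQd hE₀p hfd _ (hE₀Q.trans Subgroup.le_normalizer) h1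
    obtain ⟨a, ha⟩ := sylow_exists_conj P hQp
    have hQ₁P : Q.map (MulAut.conj a).toMonoidHom ≤ P := by
      rintro _ ⟨k, hk, rfl⟩
      exact ha k hk
    obtain ⟨Q₂, hconj, hfn⟩ := exists_fullyNormalized_conj (groupFusionSystem (P : Subgroup G)) hQ₁P
    obtain ⟨-, hQ₂P, g, hg⟩ := (group_isConj_iff _).1 hconj
    rw [map_conj_conj] at hg
    have hcen : (groupFusionSystem (P : Subgroup G)).IsCentric Q₂ := by
      refine ⟨hQ₂P, fun Q₃ h3 => ?_⟩
      obtain ⟨-, hQ₃P, g', hg'⟩ := (group_isConj_iff _).1 h3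
      rw [← hg, map_conj_conj] at hg'
      obtain ⟨d, hd⟩ : ∃ d, d = g' * (g * a) := ⟨_, rfl⟩
      rw [← hd] at hg'
      have hmem : ∀ k ∈ Q, d * k * d⁻¹ ∈ Q₃ := fun k hk => hg' ▸ ⟨k, hk, rfl⟩
      intro x hx
      have hc1 : d⁻¹ * x * d ∈ Subgroup.centralizer (Q : Set G) := by
        rw [Subgroup.mem_centralizer_iff]
        intro k hk
        have h4 := Subgroup.mem_centralizer_iff.1 hx.2 _ (hmem k hk)
        calc k * (d⁻¹ * x * d) = d⁻¹ * ((d * k * d⁻¹) * x) * d := by group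
          _ = d⁻¹ * x * d * k := by rw [h4]; group
      have hle : Q ⊔ Subgroup.zpowers (d⁻¹ * x * d) ≤
          (P : Subgroup G).map (MulAut.conj d⁻¹).toMonoidHom := by
        apply sup_le
        · intro k hk
          refine ⟨d * k * d⁻¹, hQ₃P (hmem k hk), ?_⟩
          show d⁻¹ * (d * k * d⁻¹) * d⁻¹⁻¹ = k
          group
        · rw [Subgroup.zpowers_le]
          refine ⟨x, hx.1, ?_⟩
          show d⁻¹ * x * d⁻¹⁻¹ = _
          rw [inv_inv]
      have h5 := hC _ hc1 ((hS.map _).to_le hle)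
      have h6 := hmem _ h5
      have e : d * (d⁻¹ * x * d) * d⁻¹ = x := by group
      rwa [e] at h6
    have hI₂ : Involves W ↥(Subgroup.normalizer (Q₂ : Set G)) :=
      hg ▸ involves_normalizer_conj Q (g * a) hI
    have hI₃ := involves_quot hQd (pPrimeCore p ↥(Subgroup.normalizer (Q₂ : Set G)))
      (Cfsg.Agent.Lib.Helper4_Core.pPrimeCore_coprime p) hI₂
    obtain ⟨N, hN⟩ := exists_normalizerSystem (groupFusionSystem (P : Subgroup G)) Q₂ hQ₂P
    have hle0 : normalizerIn (P : Subgroup G) Q₂ ≤ P := inf_le_left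
    obtain ⟨L, _, ι, hL⟩ := Cfsg.Agent.Lib.Helper9_ModelF.exists_model p (hS.to_le hle0) N
      (normalizer_constrained' p hS _ hF hfn hcen N hN)
    obtain ⟨Φ, hΦ⟩ := model_iso_normalizer P hfn hcen N hN ι hL
    exact hfree Q₂ hfn hcen N hN L ι hL
      (Cfsg.Agent.Lib.Helper9_Involves.involves_of_injective
        (MulEquiv.ofBijective Φ hΦ).symm.toMonoidHom (MulEquiv.ofBijective Φ hΦ).symm.injective hI₃)
  · intro hG Q hfn hcen N hN L _ ι hL hinv
    obtain ⟨Φ, hΦ⟩ := model_iso_normalizer P hfn hcen N hN ι hL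
    apply hG
    exact Cfsg.Agent.Lib.Helper9_Involves.involves_of_injective _
      (Subgroup.subtype_injective (Subgroup.normalizer (Q : Set G)))
      (Cfsg.Agent.Lib.Helper9_Involves.involves_of_surjective _ (QuotientGroup.mk'_surjective _)
        (Cfsg.Agent.Lib.Helper9_Involves.involves_of_injective Φ hΦ.1 hinv))

end Cfsg.Agent.Lib.Helper9_QdGroup
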