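import Mathlib
import Cfsg.Prelude.Def_Blocks
import Cfsg.Prelude.Def_Local
import Cfsg.Agent.Lib.BlockFongMain
import Cfsg.Agent.Lib.Helper2_BlockQuot
import Cfsg.Agent.Lib.Helper4_Core
import Cfsg.Agent.Lib.Helper1_MinNormal

set_option autoImplicit false

namespace Cfsg.Agent.Lib.PSolvBasic

open Cfsg

universe u

variable {p : ℕ}

theorem isPSolvable_of_quotient {G : Type*} [Group G] (N : Subgroup G) [N.Normal]
    (hN : (∃ m : ℕ, Nat.card N = p ^ m) ∨ (Nat.card N).Coprime p)
    (h : IsPSolvable p (G ⧸ N)) : IsPSolvable p G := by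
  obtain ⟨n, H, h0, hlast, hmono, hnorm, hstep⟩ := h
  refine ⟨n + 1, Fin.cons ⊥ (fun i => (H i).comap (QuotientGroup.mk' N)), ?_, ?_, ?_, ?_, ?_⟩
  · rfl
  · rw [← Fin.succ_last, Fin.cons_succ, hlast, Subgroup.comap_top]
  · intro a b hab
    induction a using Fin.cases with
    | zero => simp
    | succ a =>
      induction b using Fin.cases with
      | zero => exact absurd hab (by simp)
      | succ b =>
        simp only [Fin.cons_succ]
        exact Subgroup.comap_mono (hmono (Fin.succ_le_succ_iff.1 hab))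
  · intro i
    induction i using Fin.cases with
    | zero => simp only [Fin.cons_zero]; infer_instance
    | succ a =>
      simp only [Fin.cons_succ]
      haveI := hnorm a
      infer_instance
  · intro i
    induction i using Fin.cases with
    | zero =>
      simp only [Fin.castSucc_zero, Fin.cons_zero, Fin.cons_succ, h0, MonoidHom.comap_bot,
        QuotientGroup.ker_mk', Subgroup.relIndex_bot_left]
      exact hN
    | succ a =>
      have e1 : (Fin.cons ⊥ (fun i => (H i).comap (QuotientGroup.mk' N)) :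
          Fin (n + 1 + 1) → Subgroup G) a.succ.castSucc = (H a.castSucc).comap (QuotientGroup.mk' N) := by
        rw [← Fin.succ_castSucc, Fin.cons_succ]
      rw [e1, Fin.cons_succ, Subgroup.relIndex_comap,
        Subgroup.map_comap_eq_self_of_surjective (QuotientGroup.mk'_surjective N)]
      exact hstep a

theorem isPSolvable_of_subsingleton {G : Type*} [Group G] [Subsingleton G] : IsPSolvable p G := by
  refine ⟨0, fun _ => ⊥, rfl, ?_, fun _ _ _ => le_rfl, fun _ => inferInstance, fun i => i.elim0⟩
  exact Subsingleton.elim _ _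

theorem isPSolvable_aux (hp : p.Prime) : ∀ (n : ℕ) (G : Type u) [Group G] [Finite G]
    [Group.IsSolvable G], Nat.card G = n → IsPSolvable p G := by
  intro n
  induction n using Nat.strong_induction_on with
  | _ n ih =>
    intro G _ _ _ hn
    rcases subsingleton_or_nontrivial G with hs | hs
    · exact isPSolvable_of_subsingleton
    · obtain ⟨q, N, hq, hNn, hN1, -, hpow, -⟩ :=
        Cfsg.Agent.Lib.Helper1_MinNormal.exists_normal_elementary_abelian (G := G)
      haveI := hNn
      haveI : Fact q.Prime := ⟨hq⟩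
      have hNq : IsPGroup q N := by
        intro x
        refine ⟨1, ?_⟩
        rw [pow_one]
        exact Subtype.ext (hpow x x.2)
      obtain ⟨k, hk⟩ := IsPGroup.iff_card.1 hNq
      apply isPSolvable_of_quotient N
      · by_cases hqp : q = p
        · left; exact ⟨k, by rw [hk, hqp]⟩
        · right
          rw [hk]
          exact Nat.Coprime.pow_left k ((Nat.coprime_primes hq hp).2 hqp)
      · apply ih (Nat.card (G ⧸ N)) _ (G ⧸ N) rfl
        rw [← hn, ← Subgroup.index_eq_card, ← Subgroup.index_mul_card N]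
        have h1 : 1 < Nat.card N := by
          rw [Subgroup.one_lt_card_iff_ne_bot]
          exact hN1
        have h2 : 0 < N.index := Nat.pos_of_ne_zero Subgroup.index_ne_zero_of_finite
        nlinarith

theorem isPSolvable_of_isSolvable (hp : p.Prime) (G : Type u) [Group G] [Finite G]
    [Group.IsSolvable G] : IsPSolvable p G :=
  isPSolvable_aux hp _ G rfl

/-- the principal block of a `p`-solvable group consists of the characters with `O_{p'}(G)`
in the kernel -/
theorem mem_principalBlock_iff {G : Type u} [Group G] [Finite G] [Fact p.Prime]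
    {M : Ideal AlgInt} (hM : IsPModular p M) (hsolv : IsPSolvable p G) (χ : IrrCharacter G) :
    χ ∈ principalBlock M G ↔ ∀ n ∈ pPrimeCore p G, (χ : G → ℂ) n = (χ : G → ℂ) 1 := by
  classical
  cases nonempty_fintype G
  have hp : p.Prime := Fact.out
  have hPr := Cfsg.Agent.Lib.Helper2_BlockLocal.isPrime_of_modular hM
  set N := Cfsg.pPrimeCore p G with hNdef
  have hN : N.Normal := inferInstance
  have hcop : (Nat.card N).Coprime p := Cfsg.Agent.Lib.Helper4_Core.pPrimeCore_coprime p
  have hNp : ¬ p ∣ Nat.card N := fun h => by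
    have := Nat.Coprime.eq_one_of_dvd hcop.symm h
    exact hp.one_lt.ne' this
  have hsol' : Cfsg.IsPSolvable p (G ⧸ N) :=
    Cfsg.Agent.Lib.BlockFongMain.isPSolvable_quotient hp N hsolv
  have hbot : Cfsg.pPrimeCore p (G ⧸ N) = ⊥ :=
    Cfsg.Agent.Lib.Helper3_PComp.pPrimeCore_quotient_eq_bot p G
  have hHH := Cfsg.Agent.Lib.Helper4_PSol.hall_higman hsol' hbot
  obtain ⟨B, hB, hmem, -, -⟩ := Cfsg.Agent.Lib.BlockFongMain.fong_block hM N hNp
    (Cfsg.Agent.Lib.Helper2_BlockQuot.oneIrr N) (fun g => rfl) (Cfsg.pCore p (G ⧸ N))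
    (Cfsg.Agent.Lib.Helper4_Core.pCore_isPGroup p _) hHH
  have hone : Cfsg.Agent.Lib.Helper2_BlockQuot.oneIrr G ∈ B := by
    rw [hmem, Cfsg.Agent.Lib.Helper2_BlockQuot.over_one_iff N hN]
    intro n _
    rfl
  have hBp : B = Cfsg.principalBlock M G := by
    obtain ⟨χ0, rfl⟩ := hB
    exact Cfsg.Agent.Lib.Helper2_BlockOm.blockOf_eq_of_sameBlock hPr hone
  rw [← hBp, hmem, Cfsg.Agent.Lib.Helper2_BlockQuot.over_one_iff N hN]

end Cfsg.Agent.Lib.PSolvBasic
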