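import Mathlib
import Cfsg.Prelude.Def_FusionSystem
import Cfsg.Prelude.Def_Local
import Cfsg.Agent.Lib.Helper9_QdGroup
import Cfsg.Agent.Lib.Helper9_GroupQuot
import Cfsg.Agent.Lib.Helper9_ModelF
import Cfsg.Agent.Lib.Helper4_PSol
import Cfsg.Agent.Lib.Helper4_PSol2
import Cfsg.Agent.Lib.PSolvBasic
import Cfsg.Agent.Lib.Helper3_PComp

set_option autoImplicit false

namespace Cfsg.Agent.Lib.Helper9_PSolReal

open Cfsg Cfsg.FusionSystem Cfsg.Agent.Lib.Helper9_FusionBasic Cfsg.Agent.Lib.Helper9_FusionSat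
  Cfsg.Agent.Lib.Helper9_FusionNormal Cfsg.Agent.Lib.Helper9_AlperinCor
  Cfsg.Agent.Lib.Helper9_Alperin Cfsg.Agent.Lib.Helper9_Realized
  Cfsg.Agent.Lib.Helper9_NormCR Cfsg.Agent.Lib.Helper9_ModelE Cfsg.Agent.Lib.Helper9_SecFree
  Cfsg.Agent.Lib.Helper9_EmbedQ Cfsg.Agent.Lib.Helper9_GroupQuot

universe u

variable {Ω : Type u} [Group Ω] {S : Subgroup Ω}

/-- the conjugation action of a realizing group on a subgroup with normal image -/
theorem exists_action {G : Type*} [Group G] {F : FusionSystem S} {ι : S →* G}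
    (hreal : F.IsRealizedBy ι) {Q : Subgroup Ω} (hQS : Q ≤ S)
    (hn : ((Q.subgroupOf S).map ι).Normal) :
    ∃ π : G →* F.autGroup Q, Function.Surjective π ∧
      ∀ g, π g = 1 ↔ g ∈ Subgroup.centralizer (((Q.subgroupOf S).map ι : Subgroup G) : Set G) := by
  have hinj := hreal.1
  let i : Q →* G := ι.comp (Subgroup.inclusion hQS)
  have hi : Function.Injective i := hinj.comp (Subgroup.inclusion_injective hQS)
  have hr : i.range = (Q.subgroupOf S).map ι := by
    ext y
    constructor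
    · rintro ⟨x, rfl⟩
      exact ⟨Subgroup.inclusion hQS x, x.2, rfl⟩
    · rintro ⟨s, hs, rfl⟩
      exact ⟨⟨s, hs⟩, rfl⟩
  have hn' : i.range.Normal := hr ▸ hn
  obtain ⟨π, hπ⟩ := exists_conj_action i hi hn'
  have hmem : ∀ g, π g ∈ F.autGroup Q := by
    intro g
    rw [mem_autGroup_iff F hQS]
    exact (hreal.2 Q hQS _ (fun x => hQS (π g x).2)).2 ⟨g, fun x => hπ g x⟩
  refine ⟨π.codRestrict _ hmem, ?_, ?_⟩
  · rintro ⟨α, hα⟩
    rw [mem_autGroup_iff F hQS] at hα
    obtain ⟨g, hg⟩ := (hreal.2 Q hQS _ (fun x => hQS (α x).2)).1 hα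
    refine ⟨g, Subtype.ext ?_⟩
    ext x
    have h1 : i (π g x) = i (α x) := by
      rw [hπ]
      exact (hg x).symm
    exact congrArg Subtype.val (hi h1)
  · intro g
    constructor
    · intro h
      have h1 : π g = 1 := congrArg Subtype.val h
      rw [Subgroup.mem_centralizer_iff]
      intro y hy
      rw [SetLike.mem_coe, ← hr] at hy
      obtain ⟨x, rfl⟩ := hy
      have h2 := hπ g x
      rw [h1] at h2
      have h3 : i x = g * i x * g⁻¹ := h2
      calc i x * g = (g * i x * g⁻¹) * g := by rw [← h3]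
        _ = g * i x := by group
    · intro h
      apply Subtype.ext
      show π g = 1
      ext x
      have h2 := hπ g x
      have h3 := Subgroup.mem_centralizer_iff.1 h (i x) (by rw [SetLike.mem_coe, ← hr]; exact ⟨x, rfl⟩)
      have h4 : i (π g x) = i x := by
        rw [h2, ← h3]
        group
      exact congrArg Subtype.val (hi h4)

/-- passing to `G / O_{p'}(G)` -/
theorem realized_quot {G : Type u} [Group G] [Finite G] {p : ℕ} [Fact p.Prime]
    (hS : IsPGroup p S) {F : FusionSystem S}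
    {ι : S →* G} (hreal : F.IsRealizedBy ι) (T : Sylow p G) (hT : (T : Subgroup G) = ι.range) :
    F.IsRealizedBy ((QuotientGroup.mk' (pPrimeCore p G)).comp ι) ∧
      ∃ T' : Sylow p (G ⧸ pPrimeCore p G),
        (T' : Subgroup (G ⧸ pPrimeCore p G)) = ((QuotientGroup.mk' (pPrimeCore p G)).comp ι).range := by
  have hinj := hreal.1
  have hcop := Cfsg.Agent.Lib.Helper4_Core.pPrimeCore_coprime (G := G) p
  have hinj' : Function.Injective ((QuotientGroup.mk' (pPrimeCore p G)).comp ι) := by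
    rw [injective_iff_map_eq_one]
    intro s hs
    have h1 : ι s ∈ pPrimeCore p G := (QuotientGroup.eq_one_iff _).1 hs
    obtain ⟨k, hk⟩ := hS s
    have h2 : (ι s) ^ (p ^ k) = 1 := by rw [← map_pow, hk, map_one]
    have h3 := eq_one_of_pow_of_coprime hcop h1 h2
    exact (injective_iff_map_eq_one ι).1 hinj s h3
  refine ⟨⟨hinj', fun P hP φ hφ => ?_⟩, ?_⟩
  · rw [hreal.2 P hP φ hφ]
    constructor
    · rintro ⟨g, hg⟩
      refine ⟨QuotientGroup.mk' _ g, fun x => ?_⟩
      show QuotientGroup.mk' _ (ι _) = _ * QuotientGroup.mk' _ (ι _) * _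
      rw [hg x, map_mul, map_mul, map_inv]
    · rintro ⟨γ, hγ⟩
      have hPT : (P.subgroupOf S).map ι ≤ (T : Subgroup G) := by
        rw [hT]
        rintro _ ⟨s, -, rfl⟩
        exact ⟨s, rfl⟩
      obtain ⟨g, hg, hgx⟩ := exists_lift_conj T (pPrimeCore p G) hPT γ (by
        rintro _ ⟨s, hs, rfl⟩
        have h1 := hγ ⟨s, hs⟩
        have h2 : γ * QuotientGroup.mk (ι s) * γ⁻¹ =
            QuotientGroup.mk' (pPrimeCore p G) (ι ⟨φ ⟨s, hs⟩, hφ _⟩) := h1.symm
        rw [h2]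
        refine ⟨_, ?_, rfl⟩
        rw [SetLike.mem_coe, hT]
        exact ⟨_, rfl⟩)
      refine ⟨g, fun x => ?_⟩
      have h1 := hgx (ι ⟨x, hP x.2⟩) ⟨⟨x, hP x.2⟩, x.2, rfl⟩
      have h1' : g * ι ⟨x, hP x.2⟩ * g⁻¹ ∈ (T : Subgroup G) := h1
      rw [hT] at h1'
      obtain ⟨s, hs⟩ := h1'
      have h2 : ((QuotientGroup.mk' (pPrimeCore p G)).comp ι) s =
          ((QuotientGroup.mk' (pPrimeCore p G)).comp ι) ⟨φ x, hφ x⟩ := by
        rw [hγ x]
        show QuotientGroup.mk' _ (ι s) = _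
        rw [hs, map_mul, map_mul, map_inv]
        show QuotientGroup.mk g * _ * (QuotientGroup.mk g)⁻¹ = _
        rw [hg]
        rfl
      rw [← hinj' h2, hs]
  · refine ⟨T.mapSurjective (QuotientGroup.mk'_surjective _), ?_⟩
    rw [Sylow.coe_mapSurjective, hT, MonoidHom.range_comp]

theorem main [Finite S] (p : ℕ) [Fact p.Prime] (hS : IsPGroup p S)
    (F : FusionSystem S) :
    (∃ (G : Type u) (_ : Group G) (_ : Finite G) (ι : S →* G), IsPSolvable p G ∧ F.IsRealizedBy ι ∧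
        ∃ T : Sylow p G, (T : Subgroup G) = ι.range) ↔
      (F.IsConstrained p ∧ IsPSolvable p ↥(F.autGroup F.core)) := by
  have hp : p.Prime := Fact.out
  have hQ : F.IsNormal F.core := isNormal_core F
  constructor
  · rintro ⟨G, _, _, ι, hps, hreal, T, hT⟩
    obtain ⟨hreal', T', hT'⟩ := realized_quot hS hreal T hT
    have hps' : IsPSolvable p (G ⧸ pPrimeCore p G) :=
      Cfsg.Agent.Lib.Helper4_PSol2.isPSolvable_of_surjective hp (QuotientGroup.mk' _)
        (QuotientGroup.mk'_surjective _) hps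
    have hmodel : F.IsModel p (G ⧸ pPrimeCore p G) ((QuotientGroup.mk' (pPrimeCore p G)).comp ι) :=
      ⟨inferInstance, hreal', ⟨T', hT'⟩, Cfsg.Agent.Lib.Helper4_PSol.hall_higman hps'
        (Cfsg.Agent.Lib.Helper3_PComp.pPrimeCore_quotient_eq_bot p G)⟩
    refine ⟨model_constrained hmodel, ?_⟩
    obtain ⟨π, hπ, -⟩ := exists_action hreal' hQ.1 (model_normal_map hmodel hQ)
    exact Cfsg.Agent.Lib.Helper4_PSol2.isPSolvable_of_surjective hp π hπ hps'
  · rintro ⟨hcon, hps⟩
    obtain ⟨G, _, ι, hG⟩ := Cfsg.Agent.Lib.Helper9_ModelF.exists_model p hS F hcon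
    have hG' := hG
    obtain ⟨hfin, hreal, ⟨T, hT⟩, hc⟩ := hG
    refine ⟨G, _, hfin, ι, ?_, hreal, T, hT⟩
    obtain ⟨π, hπ, hker⟩ := exists_action hreal hQ.1 (model_normal_map hG' hQ)
    have hN : (pCore p G).Normal := pCore_normal p G
    have hle : pCore p G ≤ ι.range := hT ▸ normal_pGroup_le_sylow T hN (pCore_isPGroup p G)
    have hQ0 := realized_isNormal hreal (pCore p G) hle
    have hQ0le : ((pCore p G).comap ι).map S.subtype ≤ F.core := le_sSup hQ0
    have hcle : pCore p G ≤ (F.core.subgroupOf S).map ι := by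
      intro y hy
      obtain ⟨s, rfl⟩ := hle hy
      exact ⟨s, hQ0le ⟨s, hy, rfl⟩, rfl⟩
    have hkerle : π.ker ≤ pCore p G := by
      intro g hg
      have h1 := (hker g).1 hg
      exact hc (Subgroup.centralizer_le hcle h1)
    have hkp : IsPGroup p π.ker := (pCore_isPGroup p G).to_le hkerle
    have h2 : IsPSolvable p (G ⧸ π.ker) :=
      Cfsg.Agent.Lib.Helper4_PSol2.isPSolvable_equiv hp
        (QuotientGroup.quotientKerEquivOfSurjective π hπ).symm hps
    obtain ⟨m, hm⟩ := hkp.exists_card_eq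
    exact Cfsg.Agent.Lib.PSolvBasic.isPSolvable_of_quotient π.ker (Or.inl ⟨m, hm⟩) h2

end Cfsg.Agent.Lib.Helper9_PSolReal
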