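import Mathlib
import Cfsg.Prelude.Def_FusionSystem
import Cfsg.Agent.Lib.Helper9_GroupNormal
import Cfsg.Agent.Lib.Helper9_Realized
import Cfsg.Agent.Lib.Helper9_Full
import Cfsg.Agent.Lib.Helper9_PStable

set_option autoImplicit false

namespace Cfsg.Agent.Lib.Helper9_RealNormal

open Cfsg Cfsg.FusionSystem Cfsg.Agent.Lib.Helper9_FusionBasic Cfsg.Agent.Lib.Helper9_FusionSat
  Cfsg.Agent.Lib.Helper9_FusionGroup Cfsg.Agent.Lib.Helper9_FusionNormal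
  Cfsg.Agent.Lib.Helper9_HyperGroup Cfsg.Agent.Lib.Helper9_GroupNormal
  Cfsg.Agent.Lib.Helper9_Realized Cfsg.Agent.Lib.Helper9_Full
open Cfsg.Agent.Lib.Helper9_Focal (subSystem)
open Cfsg.Agent.Lib.Helper9_PStable (exists_aut_of_maps_into)

variable {Ω : Type*} [Group Ω] {S : Subgroup Ω} {G : Type*} [Group G]

def pre (ι : S →* G) (N : Subgroup G) : Subgroup Ω := (N.comap ι).map S.subtype

theorem mem_pre {ι : S →* G} {N : Subgroup G} {x : Ω} :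
    x ∈ pre ι N ↔ ∃ hx : x ∈ S, ι ⟨x, hx⟩ ∈ N := by
  constructor
  · rintro ⟨y, hy, rfl⟩
    exact ⟨y.2, hy⟩
  · rintro ⟨hx, h⟩
    exact ⟨⟨x, hx⟩, h, rfl⟩

theorem pre_le (ι : S →* G) (N : Subgroup G) : pre ι N ≤ S := Subgroup.map_subtype_le _

theorem apply_mem_of_pre {ι : S →* G} {N : Subgroup G} {x : Ω} (hx : x ∈ pre ι N) (hxS : x ∈ S) :
    ι ⟨x, hxS⟩ ∈ N := (mem_pre.1 hx).2

def goodN (ι : S →* G) (N : Subgroup G) (P : Subgroup Ω) (φ : P →* Ω) : Prop :=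
  ∃ n ∈ N, ∀ (x : P) (hx : (x : Ω) ∈ S) (hy : φ x ∈ S), ι ⟨φ x, hy⟩ = n * ι ⟨x, hx⟩ * n⁻¹

def subN (F : FusionSystem S) (ι : S →* G) (N : Subgroup G) : FusionSystem (pre ι N) :=
  subSystem (fullSub F (pre ι N) (pre_le ι N)) (goodN ι N)
    (fun P g _ hg => by
      have hgS := pre_le ι N hg
      refine ⟨ι ⟨g, hgS⟩, apply_mem_of_pre hg hgS, fun x hx hy => ?_⟩
      have e : (⟨conjHom P g x, hy⟩ : S) = ⟨g, hgS⟩ * ⟨x, hx⟩ * ⟨g, hgS⟩⁻¹ := rfl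
      rw [e, map_mul, map_mul, map_inv])
    (fun P Q φ ψ hφ _ h1 h2 h => by
      obtain ⟨n₁, hn₁, H1⟩ := h1
      obtain ⟨n₂, hn₂, H2⟩ := h2
      refine ⟨n₂ * n₁, N.mul_mem hn₂ hn₁, fun x hx hy => ?_⟩
      have hφS : φ x ∈ S := pre_le ι N (hφ.2.2 x)
      have e1 := H2 ⟨φ x, h x⟩ hφS hy
      have e2 := H1 x hx hφS
      show ι ⟨ψ ⟨φ x, h x⟩, hy⟩ = _
      rw [e1, e2]
      group)
    (fun P φ ψ hφ h1 _ h => by
      obtain ⟨n, hn, H⟩ := h1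
      refine ⟨n⁻¹, N.inv_mem hn, ?_⟩
      rintro ⟨_, x, rfl⟩ hx hy
      have hxS : (x : Ω) ∈ S := pre_le ι N (hφ.2.1 x.2)
      have e1 := H x hxS hx
      have e2 : (⟨ψ ⟨φ x, ⟨x, rfl⟩⟩, hy⟩ : S) = ⟨x, hxS⟩ := Subtype.ext (h x)
      rw [e2, e1]
      group)

theorem mem_subN {F : FusionSystem S} {ι : S →* G} {N : Subgroup G} {P : Subgroup Ω}
    {φ : P →* Ω} : φ ∈ (subN F ι N).Hom P ↔
      (φ ∈ F.Hom P ∧ P ≤ pre ι N ∧ ∀ x : P, φ x ∈ pre ι N) ∧ goodN ι N P φ := Iff.rfl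

/-- the restriction of `ι` -/
def ιN (ι : S →* G) (N : Subgroup G) : ↥(pre ι N) →* ↥N :=
  (ι.comp (Subgroup.inclusion (pre_le ι N))).codRestrict N
    (fun x => apply_mem_of_pre x.2 (pre_le ι N x.2))

theorem ιN_apply (ι : S →* G) (N : Subgroup G) (x : pre ι N) :
    ((ιN ι N x : N) : G) = ι ⟨x, pre_le ι N x.2⟩ := rfl

theorem subN_realized {F : FusionSystem S} {ι : S →* G} (hreal : F.IsRealizedBy ι)
    (N : Subgroup G) : (subN F ι N).IsRealizedBy (ιN ι N) := by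
  refine ⟨?_, fun P hP φ hφ => ?_⟩
  · intro a b hab
    have h1 : ι ⟨a, pre_le ι N a.2⟩ = ι ⟨b, pre_le ι N b.2⟩ := congrArg (fun t : N => (t : G)) hab
    have h2 := hreal.1 h1
    exact Subtype.ext (congrArg (fun t : S => (t : Ω)) h2)
  · constructor
    · rintro ⟨-, n, hn, H⟩
      exact ⟨⟨n, hn⟩, fun x => Subtype.ext (H x _ _)⟩
    · rintro ⟨g, H⟩
      have H' : ∀ x : P, ι ⟨φ x, pre_le ι N (hφ x)⟩ =
          (g : G) * ι ⟨x, pre_le ι N (hP x.2)⟩ * (g : G)⁻¹ :=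
        fun x => congrArg (fun t : N => (t : G)) (H x)
      refine ⟨⟨(hreal.2 P (hP.trans (pre_le ι N)) φ (fun x => pre_le ι N (hφ x))).2 ⟨g, H'⟩, hP,
        hφ⟩, g, g.2, fun x _ _ => H' x⟩

theorem range_ιN {ι : S →* G} {N P : Subgroup G} (hP : P = ι.range) :
    (P ⊓ N).subgroupOf N = (ιN ι N).range := by
  ext ⟨y, hy⟩
  constructor
  · intro h
    have h1 : y ∈ P := h.1
    rw [hP] at h1
    obtain ⟨s, rfl⟩ := h1
    exact ⟨⟨s, mem_pre.2 ⟨s.2, hy⟩⟩, Subtype.ext rfl⟩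
  · rintro ⟨x, hx⟩
    have h1 : ι ⟨x, pre_le ι N x.2⟩ = y := congrArg (fun t : N => (t : G)) hx
    refine ⟨?_, hy⟩
    rw [hP]
    exact ⟨_, h1⟩

theorem mem_inf_iff {ι : S →* G} {N P : Subgroup G} (hP : P = ι.range) (y : G) :
    y ∈ P ⊓ N ↔ ∃ x : pre ι N, ι ⟨x, pre_le ι N x.2⟩ = y := by
  constructor
  · rintro ⟨h1, h2⟩
    rw [hP] at h1
    obtain ⟨s, rfl⟩ := h1
    exact ⟨⟨s, mem_pre.2 ⟨s.2, h2⟩⟩, rfl⟩
  · rintro ⟨x, rfl⟩
    refine ⟨?_, apply_mem_of_pre x.2 _⟩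
    rw [hP]
    exact ⟨_, rfl⟩

theorem subN_normalIn [Finite G] [Finite S] {p : ℕ} [Fact p.Prime] {F : FusionSystem S}
    {ι : S →* G} (hreal : F.IsRealizedBy ι) (T : Sylow p G) (hT : (T : Subgroup G) = ι.range)
    (N : Subgroup G) [hN : N.Normal] : (subN F ι N).IsNormalIn F p := by
  have hinj := hreal.1
  have hrealN := subN_realized hreal N
  have hsyl : SylIn p ((T : Subgroup G) ⊓ N) N := sylIn_inf_normal T N
  have hTp : IsPGroup p ↥((T : Subgroup G) ⊓ N) := T.isPGroup'.to_le inf_le_left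
  have hle := pre_le ι N
  have hsc : F.StronglyClosed (pre ι N) := by
    refine ⟨hle, fun R hR φ hφ x => ?_⟩
    obtain ⟨g, hg⟩ := exists_elt_of_hom hreal hφ
    rw [mem_pre]
    refine ⟨(F.le_of_mem hφ).2 x, ?_⟩
    rw [hg]
    exact hN.conj_mem _ (apply_mem_of_pre (hR x.2) _) g
  have hEsat : (subN F ι N).IsSaturated p := by
    obtain ⟨R, hR⟩ := hsyl
    exact realized_saturated hrealN R (hR.trans (range_ιN hT))
  have hFsat : F.IsSaturated p := realized_saturated hreal T hT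
  -- automorphisms of `pre ι N` induced by elements normalizing `T ⊓ N`
  have haut : ∀ m ∈ Subgroup.normalizer (((T : Subgroup G) ⊓ N : Subgroup G) : Set G),
      ∃ α ∈ F.autGroup (pre ι N), ∀ y : pre ι N,
        ι ⟨(α y : pre ι N), hle (α y).2⟩ = m * ι ⟨y, hle y.2⟩ * m⁻¹ := by
    intro m hm
    have hmem : ∀ y : pre ι N, m * ι ⟨y, hle y.2⟩ * m⁻¹ ∈ (T : Subgroup G) ⊓ N :=
      fun y => conj_mem_of_mem_normalizer hm ((mem_inf_iff hT _).2 ⟨y, rfl⟩)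
    obtain ⟨ψ, hψ, hψS, hψy⟩ := exists_hom_of_realized hreal hle m
      (fun y => hT ▸ (hmem y).1)
    have hval : ∀ y : pre ι N, ψ y ∈ pre ι N := fun y => by
      rw [mem_pre]
      refine ⟨hψS y, ?_⟩
      rw [hψy]
      exact (hmem y).2
    obtain ⟨α, hα, hαy⟩ := exists_aut_of_maps_into F hψ hval
    refine ⟨α, hα, fun y => ?_⟩
    rw [← hψy y]
    congr 1
    exact Subtype.ext (hαy y)
  refine ⟨⟨hEsat, hFsat, fun P φ h => h.1.1, hsc, ?_, ?_⟩, ?_⟩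
  · -- invariance
    rintro P hPT φ ⟨⟨hφF, -, hφT⟩, n, hn, H⟩ α hα
    obtain ⟨g, hg⟩ := exists_elt_of_hom hreal ((mem_autGroup_iff F hle α).1 hα)
    have hg' : ∀ y : pre ι N, ι ⟨(α y : pre ι N), hle (α y).2⟩ = g * ι ⟨y, hle y.2⟩ * g⁻¹ := hg
    have key : ∀ x : P, (g * n * g⁻¹) * ι ⟨(α ⟨x, hPT x.2⟩ : pre ι N), hle (α _).2⟩ *
        (g * n * g⁻¹)⁻¹ = ι ⟨(α ⟨φ x, hφT x⟩ : pre ι N), hle (α _).2⟩ := by
      intro x
      rw [hg', hg']
      have e1 := H x (hle (hPT x.2)) (hle (hφT x))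
      rw [e1]
      group
    have hR : (P.subgroupOf (pre ι N)).map ((pre ι N).subtype.comp α.toMonoidHom) ≤ pre ι N := by
      rintro _ ⟨y, -, rfl⟩
      exact (α y).2
    obtain ⟨χ, hχ, hχT, hχy⟩ := exists_hom_of_realized hrealN hR
      (⟨g * n * g⁻¹, hN.conj_mem n hn g⟩ : N) (by
        rintro ⟨_, y, hy, rfl⟩
        refine ⟨α ⟨φ ⟨y, hy⟩, hφT _⟩, Subtype.ext ?_⟩
        exact (key ⟨y, hy⟩).symm)
    refine ⟨χ, hχ, fun x hφx hαx => ?_⟩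
    have h1 := congrArg (fun t : N => (t : G)) (hχy ⟨(α ⟨x, hPT x.2⟩ : pre ι N), hαx⟩)
    have h2 : ι ⟨χ ⟨(α ⟨x, hPT x.2⟩ : pre ι N), hαx⟩, hle (hχT _)⟩ =
        ι ⟨(α ⟨φ x, hφT x⟩ : pre ι N), hle (α _).2⟩ := h1.trans (key x)
    exact congrArg (fun t : S => (t : Ω)) (hinj h2)
  · -- Frattini
    intro P hPT φ hφ
    obtain ⟨g, hg⟩ := exists_elt_of_hom hreal hφ
    obtain ⟨m, hm, a, ha, rfl⟩ := exists_frattini inf_le_right hTp hsyl g
    have hPS : P ≤ S := hPT.trans hle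
    have hφT : ∀ x : P, φ x ∈ pre ι N := fun x => hsc.2 P hPT φ hφ x
    have hg' : ∀ x : P, ι ⟨φ x, hle (hφT x)⟩ = m * a * ι ⟨x, hPS x.2⟩ * (m * a)⁻¹ := hg
    have haT : ∀ x : P, a * ι ⟨x, hPS x.2⟩ * a⁻¹ ∈ (T : Subgroup G) ⊓ N := by
      intro x
      have h1 := conj_mem_of_mem_normalizer (Subgroup.inv_mem _ hm)
        ((mem_inf_iff hT _).2 ⟨⟨φ x, hφT x⟩, rfl⟩)
      rw [hg'] at h1
      have e : m⁻¹ * (m * a * ι ⟨x, hPS x.2⟩ * (m * a)⁻¹) * m⁻¹⁻¹ = a * ι ⟨x, hPS x.2⟩ * a⁻¹ := by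
        group
      rwa [e] at h1
    obtain ⟨α, hα, hαy⟩ := haut m hm
    obtain ⟨φ₀, hφ₀, hφ₀T, hφ₀y⟩ := exists_hom_of_realized hrealN hPT (⟨a, ha⟩ : N) (by
      intro x
      obtain ⟨y, hy⟩ := (mem_inf_iff hT _).1 (haT x)
      exact ⟨y, Subtype.ext hy⟩)
    refine ⟨α, hα, φ₀, hφ₀, fun x hx => ?_⟩
    have h1 : ι ⟨φ₀ x, hle hx⟩ = a * ι ⟨x, hPS x.2⟩ * a⁻¹ :=
      congrArg (fun t : N => (t : G)) (hφ₀y x)
    have h2 : ι ⟨φ x, hle (hφT x)⟩ = ι ⟨(α ⟨φ₀ x, hx⟩ : pre ι N), hle (α _).2⟩ := by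
      rw [hαy, hg']
      show _ = m * ι ⟨φ₀ x, hle hx⟩ * m⁻¹
      rw [h1]
      group
    exact congrArg (fun t : S => (t : Ω)) (hinj h2)
  · -- extension condition
    intro α hα
    obtain ⟨-, h, hh, H⟩ := (mem_autGroup_iff _ le_rfl α).1 hα
    have H' : ∀ y : pre ι N, ι ⟨(α y : pre ι N), hle (α y).2⟩ = h * ι ⟨y, hle y.2⟩ * h⁻¹ :=
      fun y => H y _ _
    have hhT : h ∈ Subgroup.normalizer (((T : Subgroup G) ⊓ N : Subgroup G) : Set G) := by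
      apply mem_normalizer_of_finite
      intro x hx
      obtain ⟨y, rfl⟩ := (mem_inf_iff hT _).1 hx
      rw [← H']
      exact (mem_inf_iff hT _).2 ⟨α y, rfl⟩
    obtain ⟨g, hg, hgT, hgD⟩ := exists_extension_elt T N hh hhT
    have hcen1 : ∀ d (hd : d ∈ centralizerIn S (pre ι N)),
        ι ⟨d, hd.1⟩ ∈ centralizerIn (T : Subgroup G) ((T : Subgroup G) ⊓ N) := by
      intro d hd
      refine ⟨hT ▸ ⟨_, rfl⟩, ?_⟩
      show _ ∈ Subgroup.centralizer _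
      rw [Subgroup.mem_centralizer_iff]
      intro y hy
      obtain ⟨t, rfl⟩ := (mem_inf_iff hT _).1 hy
      rw [← map_mul, ← map_mul]
      congr 1
      exact Subtype.ext ((Subgroup.mem_centralizer_iff.1 hd.2) t t.2)
    have hcen2 : ∀ s : S, ι s ∈ centralizerIn (T : Subgroup G) ((T : Subgroup G) ⊓ N) →
        (s : Ω) ∈ centralizerIn S (pre ι N) := by
      intro s hs
      refine ⟨s.2, ?_⟩
      show _ ∈ Subgroup.centralizer _
      rw [Subgroup.mem_centralizer_iff]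
      intro t ht
      have h1 := (Subgroup.mem_centralizer_iff.1 hs.2) _ ((mem_inf_iff hT _).2 ⟨⟨t, ht⟩, rfl⟩)
      rw [← map_mul, ← map_mul] at h1
      exact congrArg (fun t : S => (t : Ω)) (hinj h1)
    have hRS : pre ι N ⊔ centralizerIn S (pre ι N) ≤ S := sup_le hle inf_le_left
    have hRK : pre ι N ⊔ centralizerIn S (pre ι N) ≤
        ((ι.range.comap (MulAut.conj g).toMonoidHom).comap ι).map S.subtype := by
      apply sup_le
      · intro x hx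
        refine ⟨⟨x, hle hx⟩, ?_, rfl⟩
        show g * ι ⟨x, hle hx⟩ * g⁻¹ ∈ ι.range
        rw [hgT _ ((mem_inf_iff hT _).2 ⟨⟨x, hx⟩, rfl⟩), ← H' ⟨x, hx⟩]
        exact ⟨_, rfl⟩
      · intro x hx
        refine ⟨⟨x, hx.1⟩, ?_, rfl⟩
        show g * ι ⟨x, hx.1⟩ * g⁻¹ ∈ ι.range
        rw [← hT]
        exact (hgD _ (hcen1 x hx)).1
    obtain ⟨ψ, hψ, hψS, hψy⟩ := exists_hom_of_realized hreal hRS g (by
      intro y
      obtain ⟨s, hs, hsy⟩ := hRK y.2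
      have e : (⟨y, hRS y.2⟩ : S) = s := Subtype.ext hsy.symm
      rw [e]
      exact hs)
    have hψT : ∀ x : pre ι N, ψ (Subgroup.inclusion le_sup_left x) = ((α x : pre ι N) : Ω) := by
      intro x
      have h1 := hψy (Subgroup.inclusion le_sup_left x)
      have h2 : ι ⟨ψ (Subgroup.inclusion le_sup_left x), hψS _⟩ =
          ι ⟨(α x : pre ι N), hle (α x).2⟩ := by
        rw [h1, H' x]
        exact hgT _ ((mem_inf_iff hT _).2 ⟨x, rfl⟩)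
      exact congrArg (fun t : S => (t : Ω)) (hinj h2)
    have hψC : ∀ x : centralizerIn S (pre ι N),
        ψ (Subgroup.inclusion le_sup_right x) ∈ centralizerIn S (pre ι N) := by
      intro x
      have h1 := hψy (Subgroup.inclusion le_sup_right x)
      have h2 := hgD _ (hcen1 x x.2)
      have h3 := hcen2 ⟨ψ (Subgroup.inclusion le_sup_right x), hψS _⟩ (by rw [h1]; exact h2)
      exact h3
    have hmaps : ∀ z : ↥(pre ι N ⊔ centralizerIn S (pre ι N)),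
        ψ z ∈ pre ι N ⊔ centralizerIn S (pre ι N) := by
      have := map_sup_mem (C := pre ι N ⊔ centralizerIn S (pre ι N)) ψ
        (le_sup_left : pre ι N ≤ pre ι N ⊔ centralizerIn S (pre ι N)) le_sup_right
        (fun x => by rw [hψT]; exact Subgroup.mem_sup_left (α x).2)
        (fun x => Subgroup.mem_sup_right (hψC x))
      intro z
      exact this z
    obtain ⟨β, hβ, hβy⟩ := exists_aut_of_maps_into F hψ hmaps
    refine ⟨β, hβ, fun x => ?_, fun c hc => ?_⟩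
    · rw [hβy, hψT]
    · rw [hβy]
      have hc2 : ψ c ∈ centralizerIn S (pre ι N) := hψC ⟨c, hc⟩
      refine ⟨?_, Subgroup.mul_mem _ (Subgroup.inv_mem _ hc.2) hc2.2⟩
      show (c : Ω)⁻¹ * ψ c ∈ pre ι N
      rw [mem_pre]
      refine ⟨S.mul_mem (S.inv_mem hc.1) hc2.1, ?_⟩
      have e1 : (⟨(c : Ω)⁻¹ * ψ c, S.mul_mem (S.inv_mem hc.1) hc2.1⟩ : S) =
          (⟨c, hc.1⟩ : S)⁻¹ * ⟨ψ c, hψS c⟩ := rfl
      rw [e1, map_mul, map_inv, hψy c]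
      have e2 : (ι ⟨c, hc.1⟩)⁻¹ * (g * ι ⟨c, hRS c.2⟩ * g⁻¹) =
          ((ι ⟨c, hc.1⟩)⁻¹ * g * (ι ⟨c, hc.1⟩)⁻¹⁻¹) * g⁻¹ := by group
      rw [e2]
      exact N.mul_mem (hN.conj_mem g hg _) (N.inv_mem hg)

end Cfsg.Agent.Lib.Helper9_RealNormal
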