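import Mathlib
import Cfsg.Prelude.Def_FusionSystem
import Cfsg.Agent.Lib.Helper9_RealNormal
import Cfsg.Agent.Lib.Helper9_PSolReal

set_option autoImplicit false

namespace Cfsg.Agent.Lib.Helper9_RealSimple

open Cfsg Cfsg.FusionSystem Cfsg.Agent.Lib.Helper9_FusionBasic Cfsg.Agent.Lib.Helper9_FusionSat
  Cfsg.Agent.Lib.Helper9_FusionGroup Cfsg.Agent.Lib.Helper9_FusionNormal
  Cfsg.Agent.Lib.Helper9_HyperGroup Cfsg.Agent.Lib.Helper9_GroupNormal
  Cfsg.Agent.Lib.Helper9_Realized Cfsg.Agent.Lib.Helper9_RealNormal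
open Cfsg.Agent.Lib.Helper9_PSolReal (realized_quot)
open Cfsg.Agent.Lib.Helper9_Alperin (card_lt_of_lt)

universe u

variable {Ω : Type u} [Group Ω] {S : Subgroup Ω}

theorem exists_simple [Finite S] (p : ℕ) [Fact p.Prime] (hS : IsPGroup p S)
    (F : FusionSystem S) (hsimple : F.IsSimple p) :
    ∀ n : ℕ, ∀ (G : Type u) [Group G] [Finite G] (ι : S →* G), F.IsRealizedBy ι →
      (∃ T : Sylow p G, (T : Subgroup G) = ι.range) → Nat.card G = n →
      ∃ (G' : Type u) (_ : Group G') (_ : Finite G') (_ : IsSimpleGroup G') (ι' : S →* G'),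
        F.IsRealizedBy ι' ∧ ∃ T : Sylow p G', (T : Subgroup G') = ι'.range := by
  intro n
  induction n using Nat.strong_induction_on with
  | _ n IH =>
  intro G _ _ ι hreal hsyl hn
  obtain ⟨T, hT⟩ := hsyl
  by_cases hs : IsSimpleGroup G
  · exact ⟨G, inferInstance, inferInstance, hs, ι, hreal, T, hT⟩
  have hnt : Nontrivial G := by
    by_contra hcon
    rw [not_nontrivial_iff_subsingleton] at hcon
    apply hsimple.2.1
    rw [Subgroup.eq_bot_iff_forall]
    intro x hx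
    have h1 : ι ⟨x, hx⟩ = ι 1 := Subsingleton.elim _ _
    exact congrArg (fun t : S => (t : Ω)) (hreal.1 h1)
  obtain ⟨N, hN, hNbot, hNtop⟩ : ∃ N : Subgroup G, N.Normal ∧ N ≠ ⊥ ∧ N ≠ ⊤ := by
    by_contra hcon
    apply hs
    refine ⟨fun N hN => ?_⟩
    by_contra h
    push Not at h
    exact hcon ⟨N, hN, h.1, h.2⟩
  rcases hsimple.2.2 _ (subN F ι N) (subN_normalIn hreal T hT N) with h | ⟨h, hhom⟩
  · -- `N` is a `p'`-group
    have hTN : (T : Subgroup G) ⊓ N = ⊥ := by
      rw [Subgroup.eq_bot_iff_forall]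
      intro y hy
      obtain ⟨x, rfl⟩ := (mem_inf_iff hT _).1 hy
      have hx : (x : Ω) = 1 := by
        have h0 : (x : Ω) ∈ (⊥ : Subgroup Ω) := h.le x.2
        exact Subgroup.mem_bot.1 h0
      have e : (⟨x, pre_le ι N x.2⟩ : S) = 1 := Subtype.ext hx
      rw [e, map_one]
    obtain ⟨R, hR⟩ := sylIn_inf_normal T N
    rw [hTN] at hR
    have hRbot : (R : Subgroup N) = ⊥ := by
      rw [hR]
      ext x
      simp [Subgroup.mem_subgroupOf]
    have hnd : ¬ p ∣ Nat.card N := fun hd => R.ne_bot_of_dvd_card hd hRbot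
    have hle : N ≤ Cfsg.pPrimeCore p G :=
      le_sSup ⟨hN, ((Nat.Prime.coprime_iff_not_dvd Fact.out).2 hnd).symm⟩
    have hKne : Cfsg.pPrimeCore p G ≠ ⊥ := fun h0 => hNbot (le_bot_iff.1 (h0 ▸ hle))
    obtain ⟨hq1, hq2⟩ := realized_quot hS hreal T hT
    have hc := Subgroup.card_eq_card_quotient_mul_card_subgroup (Cfsg.pPrimeCore p G)
    have h1 : 1 < Nat.card (Cfsg.pPrimeCore p G) := (Subgroup.one_lt_card_iff_ne_bot _).2 hKne
    have hpos : 0 < Nat.card (G ⧸ Cfsg.pPrimeCore p G) := Nat.card_pos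
    have hlt : Nat.card (G ⧸ Cfsg.pPrimeCore p G) < n := by
      rw [← hn, hc]
      nlinarith
    exact IH _ hlt (G ⧸ Cfsg.pPrimeCore p G) _ hq1 hq2 rfl
  · -- `N` realizes `F`
    have hmem : ∀ s : S, ι s ∈ N := fun s => by
      have hs' : (s : Ω) ∈ pre ι N := by rw [h]; exact s.2
      exact apply_mem_of_pre hs' s.2
    have hreal' : F.IsRealizedBy (ι.codRestrict N hmem) := by
      refine ⟨fun a b hab => hreal.1 (congrArg (fun t : N => (t : G)) hab), fun P hP φ hφ => ?_⟩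
      constructor
      · intro hφF
        rw [← hhom P] at hφF
        obtain ⟨-, m, hm, H⟩ := hφF
        exact ⟨⟨m, hm⟩, fun x => Subtype.ext (H x _ _)⟩
      · rintro ⟨g, H⟩
        exact (hreal.2 P hP φ hφ).2 ⟨g, fun x => congrArg (fun t : N => (t : G)) (H x)⟩
    obtain ⟨R, hR⟩ := sylIn_inf_normal T N
    have hrange : ((T : Subgroup G) ⊓ N).subgroupOf N = (ι.codRestrict N hmem).range := by
      ext ⟨y, hy⟩
      constructor
      · intro h1
        have h2 : y ∈ (T : Subgroup G) := h1.1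
        rw [hT] at h2
        obtain ⟨s, rfl⟩ := h2
        exact ⟨s, Subtype.ext rfl⟩
      · rintro ⟨s, hs'⟩
        have h1 : ι s = y := congrArg (fun t : N => (t : G)) hs'
        refine ⟨?_, hy⟩
        rw [hT]
        exact ⟨s, h1⟩
    have hlt : Nat.card N < n := by
      rw [← hn, ← Subgroup.card_top (G := G)]
      exact card_lt_of_lt (lt_top_iff_ne_top.2 hNtop)
    exact IH _ hlt N _ hreal' ⟨R, hR.trans hrange⟩ rfl

end Cfsg.Agent.Lib.Helper9_RealSimple
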