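import Mathlib
import Cfsg.Prelude.Def_FusionSystem
import Cfsg.Prelude.Def_FusionReduction
import Cfsg.Agent.Lib.Helper9_Involves
import Cfsg.Agent.Lib.Helper9_FusionGroup

set_option autoImplicit false

namespace Cfsg.Agent.Lib.Helper9_SecP

open Cfsg Cfsg.FusionSystem Cfsg.Agent.Lib.Helper9_Involves Cfsg.Agent.Lib.Helper9_FusionGroup
  Cfsg.Agent.Lib.Helper9_FusionSat

/-- a `p`-subgroup of a group involved in `L` is involved in a Sylow `p`-subgroup of `L` -/
theorem involves_sylow {H L A : Type*} [Group H] [Group L] [Group A] [Finite L] {p : ℕ}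
    [Fact p.Prime] (Q : Subgroup H) (hQ : IsPGroup p Q) (h : Involves H L)
    (ι : A →* L) (hι : Function.Injective ι) (T : Sylow p L) (hT : (T : Subgroup L) = ι.range) :
    Involves Q A := by
  obtain ⟨K, π, hπ⟩ := exists_hom_of_involves h
  let π₁ : ↥(Q.comap π) →* Q := π.subgroupComap Q
  have hπ₁ : Function.Surjective π₁ := π.subgroupComap_surjective_of_surjective Q hπ
  obtain ⟨P₁⟩ : Nonempty (Sylow p ↥(Q.comap π)) := inferInstance
  have himg : ((P₁.mapSurjective hπ₁ : Sylow p Q) : Subgroup Q) = ⊤ := by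
    have h1 := (P₁.mapSurjective hπ₁).is_maximal' (Q := ⊤)
      (hQ.of_equiv Subgroup.topEquiv.symm) le_top
    exact h1.symm
  have hsurj : Function.Surjective (π₁.comp (P₁ : Subgroup ↥(Q.comap π)).subtype) := by
    intro y
    have h1 : y ∈ ((P₁.mapSurjective hπ₁ : Sylow p Q) : Subgroup Q) := by
      rw [himg]; exact Subgroup.mem_top y
    rw [Sylow.coe_mapSurjective] at h1
    obtain ⟨x, hx, hxy⟩ := h1
    exact ⟨⟨x, hx⟩, hxy⟩
  have hinv1 : Involves Q ↥(P₁ : Subgroup ↥(Q.comap π)) :=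
    involves_of_hom ⊤ ((π₁.comp (P₁ : Subgroup ↥(Q.comap π)).subtype).comp
      (⊤ : Subgroup ↥(P₁ : Subgroup ↥(Q.comap π))).subtype)
      (hsurj.comp (fun x => ⟨⟨x, Subgroup.mem_top x⟩, rfl⟩))
  let f₀ : ↥(P₁ : Subgroup ↥(Q.comap π)) →* L :=
    K.subtype.comp ((Q.comap π).subtype.comp (P₁ : Subgroup ↥(Q.comap π)).subtype)
  have hf₀ : Function.Injective f₀ :=
    (Subgroup.subtype_injective K).comp ((Subgroup.subtype_injective _).comp
      (Subgroup.subtype_injective _))
  obtain ⟨a, ha⟩ := exists_conj_range_le_sylow P₁.isPGroup' f₀ T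
  have ha' : ∀ x, (MulAut.conj a).toMonoidHom.comp f₀ x ∈ ι.range := by
    intro x
    rw [← hT]
    exact ha x
  let f₂ : ↥(P₁ : Subgroup ↥(Q.comap π)) →* ι.range :=
    ((MulAut.conj a).toMonoidHom.comp f₀).codRestrict ι.range ha'
  have hf₂ : Function.Injective f₂ := by
    intro x y hxy
    have h1 : a * f₀ x * a⁻¹ = a * f₀ y * a⁻¹ := congrArg Subtype.val hxy
    apply hf₀
    simpa using h1
  exact involves_of_injective ((MonoidHom.ofInjective hι).symm.toMonoidHom.comp f₂)
    ((MonoidHom.ofInjective hι).symm.injective.comp hf₂) hinv1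

universe u

theorem main {Ω : Type u} [Group Ω] {S : Subgroup Ω} (p : ℕ) [Fact p.Prime]
    (F : FusionSystem S) (H : Type*) [Group H] (Q : Subgroup H)
    (hQ : IsPGroup p Q) (hfree : ¬ Involves (↥Q) (↥S)) : F.IsSectionFree p H := by
  intro A _ _ N _ L _ ι hL hinv
  obtain ⟨hfin, hreal, ⟨T, hT⟩, -⟩ := hL
  apply hfree
  have h1 := involves_sylow Q hQ hinv ι hreal.1 T hT
  have hle0 : normalizerIn S A ≤ S := inf_le_left
  exact involves_of_injective (Subgroup.inclusion hle0) (Subgroup.inclusion_injective hle0) h1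

end Cfsg.Agent.Lib.Helper9_SecP
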