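import Mathlib

/-!
# Suzuki: a `p`-group with a self-centralizing subgroup of order `p ^ 2` has maximal class
-/

set_option autoImplicit false

namespace Cfsg.Agent.Lib.helper6_MaxClass
open Subgroup

universe u

/-- order of the image of a subgroup containing the kernel. -/
theorem card_map_mk {X : Type*} [Group X] (Z : Subgroup X) [Z.Normal] (A : Subgroup X)
    (hZA : Z ≤ A) : Nat.card Z * Nat.card (A.map (QuotientGroup.mk' Z)) = Nat.card A := by
  have e1 : Z.relIndex A = Nat.card (A.map (QuotientGroup.mk' Z)) := by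
    have h5 := relIndex_comap (⊥ : Subgroup (X ⧸ Z)) (QuotientGroup.mk' Z) A
    rw [relIndex_bot_left] at h5
    have h6 : comap (QuotientGroup.mk' Z) (⊥ : Subgroup (X ⧸ Z)) = Z := by
      ext x
      rw [mem_comap, mem_bot]
      exact QuotientGroup.eq_one_iff x
    rw [h6] at h5
    exact h5
  rw [← e1, ← Subgroup.relIndex_bot_left, ← Subgroup.relIndex_bot_left,
    Subgroup.relIndex_mul_relIndex _ _ _ bot_le hZA]

theorem suzuki {p : ℕ} [hp : Fact p.Prime] : ∀ (n : ℕ) (X : Type u) [Group X] [Finite X],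
    Nat.card X = p ^ n → ∀ A : Subgroup X, Nat.card A = p ^ 2 →
    Subgroup.centralizer (A : Set X) = A → Group.nilpotencyClass X = n - 1 := by
  intro n
  induction n with
  | zero =>
    intro X _ _ hX A hA _
    exfalso
    have h1 := card_le_card_group A
    rw [hA, hX, pow_zero] at h1
    have := hp.out.one_lt
    nlinarith
  | succ n ih =>
  intro X _ _ hX A hA hC
  have hpp := hp.out
  have hPX : IsPGroup p X := IsPGroup.of_card hX
  haveI : Group.IsNilpotent X := hPX.isNilpotent
  haveI : Nontrivial X := by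
    rw [← Finite.one_lt_card_iff_nontrivial, hX]
    exact Nat.one_lt_pow (Nat.succ_ne_zero n) hpp.one_lt
  rw [Group.nilpotencyClass_eq_quotient_center_plus_one]
  set Z := center X with hZ
  have hZA : Z ≤ A := by
    rw [← hC]; exact center_le_centralizer _
  have hAcomm : ∀ a ∈ A, ∀ b ∈ A, a * b = b * a := by
    intro a ha b hb
    rw [← hC] at hb
    exact (mem_centralizer_iff.1 hb) a ha
  by_cases hAtop : A = ⊤
  · -- abelian case
    have hZtop : Z = ⊤ := by
      rw [eq_top_iff]
      intro x _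
      rw [hZ, mem_center_iff]
      intro g
      exact hAcomm g (by rw [hAtop]; trivial) x (by rw [hAtop]; trivial)
    have hn : n + 1 = 2 := by
      have h1 : Nat.card A = Nat.card X := by rw [hAtop, card_top]
      rw [hA, hX] at h1
      exact (Nat.pow_right_injective hpp.two_le h1).symm
    haveI : Subsingleton (X ⧸ Z) := by
      rw [hZtop]; exact QuotientGroup.subsingleton_quotient_top
    have h0 : Group.nilpotencyClass (X ⧸ Z) = 0 := Group.nilpotencyClass_zero_iff_subsingleton.2 this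
    rw [h0]
    omega
  have hZbot : Z ≠ ⊥ := by
    haveI := hPX.center_nontrivial
    exact (nontrivial_iff_ne_bot _).1 this
  have hZneA : Z ≠ A := by
    intro h0
    apply hAtop
    rw [← hC, ← h0]
    exact centralizer_eq_top_iff_subset.2 (fun x hx => hx)
  have hZcard : Nat.card Z = p := by
    have h1 : Nat.card Z ∣ p ^ 2 := hA ▸ card_dvd_of_le hZA
    obtain ⟨j, hj, hj'⟩ := (Nat.dvd_prime_pow hpp).1 h1
    interval_cases j
    · rw [pow_zero] at hj'
      exact absurd (eq_bot_of_card_eq _ hj') hZbot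
    · rw [hj', pow_one]
    · exact absurd (eq_of_le_of_card_ge hZA (by rw [hA, hj'])) hZneA
  set π := QuotientGroup.mk' Z with hπ
  have hπs : Function.Surjective π := QuotientGroup.mk'_surjective Z
  have hπ1 : ∀ x, π x = 1 ↔ x ∈ Z := fun x => QuotientGroup.eq_one_iff x
  have hZc : ∀ c ∈ Z, ∀ g : X, g * c = c * g := fun c hc g => mem_center_iff.1 hc g
  have hXbar : Nat.card (X ⧸ Z) = p ^ n := by
    have h2 := card_eq_card_quotient_mul_card_subgroup Z
    rw [hX, hZcard, pow_succ] at h2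
    exact (Nat.eq_of_mul_eq_mul_right hpp.pos h2).symm
  set Ab := A.map π with hAb
  have hAbcard : Nat.card Ab = p := by
    have h1 := card_map_mk Z A hZA
    rw [hZcard, hA, pow_two] at h1
    exact Nat.eq_of_mul_eq_mul_left hpp.pos h1
  set Bb := centralizer (Ab : Set (X ⧸ Z)) with hBb
  have hAbBb : Ab ≤ Bb := by
    rintro _ ⟨a, ha, rfl⟩
    rw [hBb, mem_centralizer_iff]
    rintro _ ⟨b, hb, rfl⟩
    rw [← map_mul, ← map_mul, hAcomm b hb a ha]
  set B := Bb.comap π with hB
  have hZB : Z ≤ B := by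
    intro c hc
    rw [hB, mem_comap, (hπ1 c).2 hc]
    exact one_mem _
  have hBmem : ∀ x ∈ B, ∀ a ∈ A, x * a * x⁻¹ * a⁻¹ ∈ Z := by
    intro x hx a ha
    have h1 := (mem_centralizer_iff.1 (mem_comap.1 hx)) (π a) ⟨a, ha, rfl⟩
    rw [← hπ1, map_mul, map_mul, map_mul, map_inv, map_inv, ← h1]
    group
  have hAB : A ≤ B := fun a ha => mem_comap.2 (hAbBb ⟨a, ha, rfl⟩)
  obtain ⟨a, haA, haZ⟩ := SetLike.exists_of_lt (lt_of_le_of_ne hZA hZneA)
  have hgen : ∀ b ∈ A, ∃ i : ℤ, ∃ c ∈ Z, b = a ^ i * c := by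
    intro b hb
    have h1 : (⟨π a, a, haA, rfl⟩ : Ab) ≠ 1 := by
      intro h0
      exact haZ ((hπ1 a).1 (congrArg Subtype.val h0))
    obtain ⟨i, hi⟩ := mem_zpowers_of_prime_card hAbcard h1 (g' := ⟨π b, b, hb, rfl⟩)
    have h2 : π a ^ i = π b := by
      have := congrArg Subtype.val hi
      simpa using this
    refine ⟨i, (a ^ i)⁻¹ * b, ?_, by group⟩
    rw [← hπ1, map_mul, map_inv, map_zpow, h2, inv_mul_cancel]
  let f : B →* Z := MonoidHom.mk' (fun x => ⟨(x : X) * a * (x : X)⁻¹ * a⁻¹, hBmem x x.2 a haA⟩) (by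
    intro x y
    apply Subtype.ext
    show (x : X) * y * a * ((x : X) * y)⁻¹ * a⁻¹ =
      ((x : X) * a * (x : X)⁻¹ * a⁻¹) * ((y : X) * a * (y : X)⁻¹ * a⁻¹)
    have h1 := hZc _ (hBmem y y.2 a haA) (a * (x : X)⁻¹ * a⁻¹)
    calc (x : X) * y * a * ((x : X) * y)⁻¹ * a⁻¹
        = x * (((y : X) * a * (y : X)⁻¹ * a⁻¹) * (a * (x : X)⁻¹ * a⁻¹)) := by group
      _ = x * ((a * (x : X)⁻¹ * a⁻¹) * ((y : X) * a * (y : X)⁻¹ * a⁻¹)) := by rw [h1]
      _ = _ := by group)
  have hker : f.ker ≤ A.subgroupOf B := by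
    intro x hx
    rw [mem_subgroupOf, ← hC, mem_centralizer_iff]
    have h1 : (x : X) * a * (x : X)⁻¹ * a⁻¹ = 1 := congrArg Subtype.val (MonoidHom.mem_ker.1 hx)
    have h2 : Commute a (x : X) := by
      have h5 : a * (x : X) = x * a := by
        have := congrArg (fun t => t * a * x) h1
        simpa using this.symm
      exact h5
    intro b hb
    obtain ⟨i, c, hc, rfl⟩ := hgen b hb
    have h3 : Commute (a ^ i) (x : X) := h2.zpow_left i
    have h4 : Commute c (x : X) := (hZc c hc x).symm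
    exact (h3.mul_left h4).eq
  have hBcard : Nat.card B ≤ p ^ 2 * p := by
    have c3 := f.ker.card_mul_index
    have c4 : f.ker.index ≤ p := by
      rw [index_ker, ← hZcard]
      exact card_le_card_group _
    have c5 : Nat.card f.ker ≤ p ^ 2 := by
      rw [← hA]
      calc Nat.card f.ker ≤ Nat.card (A.subgroupOf B) :=
            Nat.le_of_dvd Nat.card_pos (card_dvd_of_le hker)
        _ = Nat.card A := Nat.card_congr (subgroupOfEquivOfLe hAB).toEquiv
    rw [← c3]
    exact Nat.mul_le_mul c5 c4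
  have hBbcard' : Nat.card Bb ≤ p ^ 2 := by
    have h1 := card_map_mk Z B hZB
    rw [hB, map_comap_eq_self_of_surjective hπs, ← hB, hZcard] at h1
    have : p * Nat.card Bb ≤ p * p ^ 2 := by rw [h1, mul_comm p]; exact hBcard
    exact Nat.le_of_mul_le_mul_left this hpp.pos
  have hPXb : IsPGroup p (X ⧸ Z) := IsPGroup.of_card hXbar
  have hBbne : Nat.card Bb ≠ p := by
    intro h0
    have e1 : Ab = Bb := eq_of_le_of_card_ge hAbBb (by rw [h0, hAbcard])
    haveI : Nontrivial (X ⧸ Z) := by
      rw [← Finite.one_lt_card_iff_nontrivial]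
      calc 1 < p := hpp.one_lt
        _ = Nat.card Ab := hAbcard.symm
        _ ≤ _ := card_le_card_group _
    have hcn := hPXb.center_nontrivial
    have hcb : center (X ⧸ Z) ≠ ⊥ := (nontrivial_iff_ne_bot _).1 hcn
    have hcle : center (X ⧸ Z) ≤ Ab := by rw [e1]; exact center_le_centralizer _
    have hceq : center (X ⧸ Z) = Ab := by
      apply eq_of_le_of_card_ge hcle
      rw [hAbcard]
      have h1 : Nat.card (center (X ⧸ Z)) ∣ p := hAbcard ▸ card_dvd_of_le hcle
      rcases (Nat.dvd_prime hpp).1 h1 with h | h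
      · exact absurd (eq_bot_of_card_eq _ h) hcb
      · exact h.ge
    have htop : Bb = ⊤ := by
      rw [hBb, ← hceq]
      exact centralizer_eq_top_iff_subset.2 (fun x hx => hx)
    have h3 : Nat.card (X ⧸ Z) = p := by rw [← h0, htop, card_top]
    apply hAtop
    apply eq_top_of_card_eq
    rw [hA, card_eq_card_quotient_mul_card_subgroup Z, h3, hZcard, pow_two]
  have hBbcard : Nat.card Bb = p ^ 2 := by
    obtain ⟨j, hj⟩ := IsPGroup.iff_card.1 (hPXb.to_subgroup Bb)
    have h1 : p ≤ Nat.card Bb := hAbcard ▸ Nat.le_of_dvd Nat.card_pos (card_dvd_of_le hAbBb)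
    rw [hj] at h1 hBbcard' hBbne ⊢
    have hj2 : j ≤ 2 := (Nat.pow_le_pow_iff_right hpp.one_lt).1 hBbcard'
    interval_cases j
    · rw [pow_zero] at h1
      exact absurd h1 (not_le.2 hpp.one_lt)
    · exact absurd (pow_one p) hBbne
    · rfl
  have hBbC : centralizer (Bb : Set (X ⧸ Z)) = Bb := by
    apply le_antisymm
    · exact centralizer_le hAbBb
    · have hc := IsPGroup.isMulCommutative_of_card_eq_prime_sq hBbcard
      intro x hx
      rw [mem_centralizer_iff]
      intro y hy
      exact congrArg Subtype.val (hc.is_comm.comm ⟨y, hy⟩ ⟨x, hx⟩)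
  rw [ih (X ⧸ Z) hXbar Bb hBbcard hBbC]
  have hn2 : 2 ≤ n := by
    have h1 := card_le_card_group Bb
    rw [hBbcard, hXbar] at h1
    exact (Nat.pow_le_pow_iff_right hpp.one_lt).1 h1
  omega

end Cfsg.Agent.Lib.helper6_MaxClass
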