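import Mathlib

set_option autoImplicit false

namespace Cfsg.Agent.Lib.helper6_MinNormalPower

/-- the internal direct product of two commuting disjoint subgroups -/
theorem nonempty_supEquiv {G : Type*} [Group G] (A B : Subgroup G)
    (hc : ∀ a ∈ A, ∀ b ∈ B, Commute a b) (hd : A ⊓ B = ⊥) :
    Nonempty ((A ⊔ B : Subgroup G) ≃* (B × A)) := by
  have hcomm : ∀ (b : B) (a : A), Commute (B.subtype b) (A.subtype a) :=
    fun b a => (hc a a.2 b b.2).symm
  obtain ⟨f, hf⟩ : ∃ f : B × A →* G, f =
    MonoidHom.noncommCoprod B.subtype A.subtype hcomm := ⟨_, rfl⟩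
  have hinj : Function.Injective f := by
    rw [hf, MonoidHom.noncommCoprod_injective]
    refine ⟨B.subtype_injective, A.subtype_injective, ?_⟩
    rw [Subgroup.range_subtype, Subgroup.range_subtype, disjoint_iff, inf_comm]
    exact hd
  have hrange : f.range = A ⊔ B := by
    rw [hf, MonoidHom.noncommCoprod_range, Subgroup.range_subtype, Subgroup.range_subtype, sup_comm]
  exact ⟨((MonoidHom.ofInjective hinj).trans (MulEquiv.subgroupCongr hrange)).symm⟩

/-- `T × T^m ≃* T^(m+1)` -/
def consMulEquiv (T : Type*) [Group T] (m : ℕ) : (T × (Fin m → T)) ≃* (Fin (m + 1) → T) :=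
  { Fin.consEquiv (fun _ => T) with
    map_mul' := by
      intro x y
      funext i
      refine Fin.cases ?_ (fun j => ?_) i <;> simp [Fin.consEquiv] }

theorem power_of_simple {G : Type*} [Group G] [Finite G] [Nontrivial G] (A : Subgroup (MulAut G))
    (hmin : ∀ K : Subgroup G, (∀ α ∈ A, ∀ k ∈ K, α k ∈ K) → K = ⊥ ∨ K = ⊤) :
    ∃ (T : Subgroup G) (m : ℕ), IsSimpleGroup T ∧ 0 < m ∧ Nonempty (G ≃* (Fin m → T)) := by
  classical
  -- a minimal normal subgroup
  let S : Set (Subgroup G) := {K | K.Normal ∧ K ≠ ⊥}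
  obtain ⟨T, hT⟩ := (Set.toFinite S).exists_minimal ⟨⊤, inferInstance, top_ne_bot⟩
  have hTn : T.Normal := hT.prop.1
  have hT1 : T ≠ ⊥ := hT.prop.2
  have hTmin : ∀ K : Subgroup G, K.Normal → K ≤ T → K = ⊥ ∨ K = T := by
    intro K hK hKT
    by_cases h : K = ⊥
    · left; exact h
    · right; exact le_antisymm hKT (hT.le_of_le ⟨hK, h⟩ hKT)
  have hmapn : ∀ α : MulAut G, (T.map α.toMonoidHom).Normal := by
    intro α
    exact hTn.map _ α.surjective
  have lemA : ∀ K : Subgroup G, K.Normal → ∀ α : MulAut G,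
      T.map α.toMonoidHom ≤ K ∨ K ⊓ T.map α.toMonoidHom = ⊥ := by
    intro K hK α
    have h1 : (K.comap α.toMonoidHom).Normal := hK.comap _
    rcases hTmin (T ⊓ K.comap α.toMonoidHom) inferInstance inf_le_left with h | h
    · right
      rw [eq_bot_iff]
      rintro x ⟨hxK, t, ht, rfl⟩
      have : t ∈ T ⊓ K.comap α.toMonoidHom := ⟨ht, hxK⟩
      rw [h, Subgroup.mem_bot] at this
      rw [this, map_one]
      exact Subgroup.one_mem _
    · left
      rw [Subgroup.map_le_iff_le_comap]
      exact inf_eq_left.1 h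
  -- maximal direct product
  let P : Set (Subgroup G) := {M | M.Normal ∧ ∃ m : ℕ, Nonempty (M ≃* (Fin m → T))}
  obtain ⟨M, hM⟩ := (Set.toFinite P).exists_maximal
    ⟨⊥, inferInstance, 0, ⟨MulEquiv.ofUnique⟩⟩
  have hMn : M.Normal := hM.prop.1
  obtain ⟨m, ⟨e⟩⟩ := hM.prop.2
  have step2 : ∀ α : MulAut G, T.map α.toMonoidHom ≤ M := by
    intro α
    rcases lemA M hMn α with h | h
    · exact h
    · exfalso
      have hn := hmapn α
      have hc : ∀ a ∈ M, ∀ b ∈ T.map α.toMonoidHom, Commute a b := fun a ha b hb =>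
        Subgroup.commute_of_normal_of_disjoint M _ hMn hn (disjoint_iff.2 h) a b ha hb
      obtain ⟨e1⟩ := nonempty_supEquiv M (T.map α.toMonoidHom) hc h
      have e2 : (T.map α.toMonoidHom) ≃* T := (T.equivMapOfInjective _ α.injective).symm
      have hmem : M ⊔ T.map α.toMonoidHom ∈ P :=
        ⟨inferInstance, m + 1, ⟨(e1.trans (e2.prodCongr e)).trans (consMulEquiv T m)⟩⟩
      have hle := hM.le_of_ge hmem le_sup_left
      have h2 : T.map α.toMonoidHom ≤ M := le_sup_right.trans hle
      have h3 : T.map α.toMonoidHom = ⊥ := by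
        rw [eq_bot_iff, ← h]
        exact le_inf h2 le_rfl
      apply hT1
      rw [Subgroup.map_eq_bot_iff_of_injective _ α.injective] at h3
      exact h3
  -- the A-closure of T is everything
  let X : Set G := {x | ∃ α ∈ A, ∃ t ∈ T, x = α t}
  have hXtop : Subgroup.closure X = ⊤ := by
    have hinv : ∀ β ∈ A, ∀ k ∈ Subgroup.closure X, β k ∈ Subgroup.closure X := by
      intro β hβ k hk
      induction hk using Subgroup.closure_induction with
      | mem x hx =>
        obtain ⟨α, hα, t, ht, rfl⟩ := hx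
        exact Subgroup.subset_closure ⟨β * α, A.mul_mem hβ hα, t, ht, rfl⟩
      | one => rw [map_one]; exact Subgroup.one_mem _
      | mul x y _ _ hx hy => rw [map_mul]; exact Subgroup.mul_mem _ hx hy
      | inv x _ hx => rw [map_inv]; exact Subgroup.inv_mem _ hx
    rcases hmin _ hinv with h | h
    · exfalso
      apply hT1
      rw [eq_bot_iff, ← h]
      intro t ht
      exact Subgroup.subset_closure ⟨1, A.one_mem, t, ht, rfl⟩
    · exact h
  have hMtop : M = ⊤ := by
    rw [eq_top_iff, ← hXtop, Subgroup.closure_le]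
    rintro x ⟨α, _, t, ht, rfl⟩
    exact step2 α ⟨t, ht, rfl⟩
  have hsimple : IsSimpleGroup T := by
    have hnt : Nontrivial T := (Subgroup.nontrivial_iff_ne_bot T).2 hT1
    refine ⟨fun K hK => ?_⟩
    have hKn : (K.map T.subtype).Normal := by
      rw [← Subgroup.normalizer_eq_top_iff, eq_top_iff, ← hXtop, Subgroup.closure_le]
      rintro x ⟨α, _, t, ht, rfl⟩
      have hx : α t ∈ T.map α.toMonoidHom := ⟨t, ht, rfl⟩
      rcases lemA T hTn α with h | h
      · -- α t ∈ T normalizes K
        have hxT : α t ∈ T := h hx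
        show α t ∈ Subgroup.normalizer _
        rw [Subgroup.mem_normalizer_iff]
        intro y
        constructor
        · rintro ⟨k, hk, rfl⟩
          exact ⟨⟨α t, hxT⟩ * k * ⟨α t, hxT⟩⁻¹, hK.conj_mem k hk _, rfl⟩
        · rintro ⟨k, hk, hky⟩
          refine ⟨⟨α t, hxT⟩⁻¹ * k * ⟨α t, hxT⟩, ?_, ?_⟩
          · have := hK.conj_mem k hk (⟨α t, hxT⟩⁻¹)
            simpa using this
          · show (α t)⁻¹ * (k : G) * α t = y
            have : (k : G) = α t * y * (α t)⁻¹ := hky
            rw [this]
            group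
      · have hc : ∀ a ∈ T, Commute a (α t) := fun a ha =>
          Subgroup.commute_of_normal_of_disjoint T _ hTn (hmapn α) (disjoint_iff.2 h) a _ ha hx
        show α t ∈ Subgroup.normalizer _
        rw [Subgroup.mem_normalizer_iff]
        intro y
        constructor
        · rintro ⟨k, hk, rfl⟩
          refine ⟨k, hk, ?_⟩
          have := (hc k k.2).eq
          show (k : G) = α t * k * (α t)⁻¹
          rw [← this]
          group
        · rintro ⟨k, hk, hky⟩
          refine ⟨k, hk, ?_⟩
          have h1 := (hc k k.2).eq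
          have h2 : (k : G) = α t * y * (α t)⁻¹ := hky
          show (k : G) = y
          have h3 : y = (α t)⁻¹ * (k : G) * α t := by rw [h2]; group
          rw [h3, mul_assoc, h1]
          group
    rcases hTmin _ hKn (Subgroup.map_subtype_le K) with h | h
    · left
      rwa [Subgroup.map_eq_bot_iff_of_injective _ T.subtype_injective] at h
    · right
      rw [eq_top_iff]
      intro x _
      have : (x : G) ∈ K.map T.subtype := by rw [h]; exact x.2
      obtain ⟨k, hk, hkx⟩ := this
      have : k = x := Subtype.ext hkx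
      exact this ▸ hk
  refine ⟨T, m, hsimple, ?_, ⟨(Subgroup.topEquiv.symm.trans (MulEquiv.subgroupCongr hMtop.symm)).trans e⟩⟩
  rcases Nat.eq_zero_or_pos m with rfl | hm
  · exfalso
    have e' : G ≃* (Fin 0 → T) :=
      (Subgroup.topEquiv.symm.trans (MulEquiv.subgroupCongr hMtop.symm)).trans e
    have : Subsingleton G := e'.toEquiv.subsingleton
    exact not_subsingleton G this
  · exact hm

end Cfsg.Agent.Lib.helper6_MinNormalPower
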