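import Cfsg.Agent.Lib.Helper2_BlockOrtho2
import Cfsg.Agent.Lib.helper8_ModP
import Cfsg.Agent.Lib.helper8_Defect

set_option autoImplicit false
open Cfsg Cfsg.Agent.Lib.Helper2_BlockLocal Cfsg.Agent.Lib.Helper2_BlockOm Cfsg.Agent.Lib.CharBasic
  Cfsg.Agent.Lib.Helper2_BlockOrtho2 Cfsg.Agent.Lib.helper8_ModP Cfsg.Agent.Lib.helper8_Defect
open scoped ComplexConjugate Classical

namespace Cfsg.Agent.Lib.helper8_BlockCount

variable {G : Type*} [Group G] {p : ℕ} {M : Ideal AlgInt}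

/-- If `p` divides the group order, the sum of the squares of the degrees of a block is divisible
by `p`. -/
theorem dvd_sum_sq [Fintype G] (hM : IsPModular p M) {B : Set (IrrCharacter G)}
    (hB : IsPBlock M B) (hp : p ∣ Nat.card G) :
    p ∣ ∑ χ ∈ Finset.univ.filter (fun χ : IrrCharacter G => χ ∈ B),
      charDegree (χ : G → ℂ) ^ 2 := by
  have hP := isPrime_of_modular hM
  haveI : Fact p.Prime := ⟨hM.1⟩
  obtain ⟨x, hx⟩ := exists_prime_orderOf_dvd_card' p hp
  have h1reg : ¬ p ∣ orderOf (1 : G) := by rw [orderOf_one]; exact hM.1.one_lt.ne' ∘ Nat.dvd_one.mp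
  have h1 := block_orthogonality hM (g := 1) (x := 1) (h := x) (y := x)
    ⟨1, mul_one 1, Commute.one_right 1, ⟨0, by simp⟩, h1reg⟩
    ⟨1, mul_one x, Commute.one_right x, ⟨1, by rw [hx, pow_one]⟩, h1reg⟩
    (by
      intro hc
      have : x = 1 := isConj_one_right.mp hc
      rw [this, orderOf_one] at hx
      exact hM.1.one_lt.ne hx) hB
  rw [← ideal_natCast_iff hM]
  have e : ((∑ χ ∈ Finset.univ.filter (fun χ : IrrCharacter G => χ ∈ B),
      charDegree (χ : G → ℂ) ^ 2 : ℕ) : ℂ) =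
      ∑ χ : IrrCharacter G, (if χ ∈ B then (χ : G → ℂ) 1 else 0) *
        ((χ : G → ℂ) 1 - (χ : G → ℂ) x⁻¹) := by
    have e2 : ∀ χ : IrrCharacter G, (if χ ∈ B then (χ : G → ℂ) 1 else 0) *
        ((χ : G → ℂ) 1 - (χ : G → ℂ) x⁻¹) =
        (if χ ∈ B then ((charDegree (χ : G → ℂ) ^ 2 : ℕ) : ℂ) else 0) -
        (if χ ∈ B then (χ : G → ℂ) 1 else 0) * conj ((χ : G → ℂ) x) := by
      intro χ
      obtain ⟨-, hd1, -⟩ := irr_charDegree χ.2
      rw [inv_of_isCharacter (isCharacter_of_isIrr χ.2), hd1]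
      split_ifs
      · push_cast; ring
      · simp
    rw [Finset.sum_congr rfl fun χ _ => e2 χ, Finset.sum_sub_distrib, h1, sub_zero,
      Finset.sum_filter, Nat.cast_sum]
    refine Finset.sum_congr rfl fun χ _ => ?_
    split_ifs <;> simp
  rw [e]
  refine ideal_sum hP _ _ fun χ _ => ?_
  apply ideal_mul_left hP
  · split_ifs
    · exact ring_of_isIntegral hP (isIntegral_of_isCharacter (isCharacter_of_isIrr χ.2) 1)
    · exact ring_zero hP
  · apply char_congr_one hM (isCharacter_of_isIrr χ.2) x⁻¹ (j := 1)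
    rw [pow_one, inv_pow, ← hx, pow_orderOf_eq_one, inv_one]

end Cfsg.Agent.Lib.helper8_BlockCount
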