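import Mathlib
import Cfsg.Prelude.Def_Blocks
import Cfsg.Agent.Lib.helper8_Center
import Cfsg.Agent.Lib.CharGalois

/-!
# Counting zeros of characters through the Galois action
-/

set_option autoImplicit false

namespace Cfsg.Agent.Lib.helper8_Zeros

open Cfsg Module Cfsg.Agent.Lib.CharBasic Cfsg.Agent.Lib.CharOrtho Cfsg.Agent.Lib.CharComplete
  Cfsg.Agent.Lib.CharMore Cfsg.Agent.Lib.CharIntegral Cfsg.Agent.Lib.CharGalois
  Cfsg.Agent.Lib.helper8_Char Cfsg.Agent.Lib.helper8_Defect Cfsg.Agent.Lib.helper8_Kernel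
  Cfsg.Agent.Lib.helper8_Codegree
open scoped ComplexConjugate

universe u

variable {G : Type u} [Group G]

/-- Summation over a set closed under a coprime power map is invariant under that map. -/
theorem sum_pow_coprime [Finite G] [DecidableEq G] (S : Finset G) {k : ℕ}
    (hk : k.Coprime (Nat.card G)) (hS : ∀ g ∈ S, g ^ k ∈ S) (f : G → ℝ) :
    ∑ g ∈ S, f (g ^ k) = ∑ g ∈ S, f g := by
  have hinj : Function.Injective (fun g : G => g ^ k) := (powCoprime hk.symm).injective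
  have himg : S.image (fun g : G => g ^ k) = S := by
    apply Finset.eq_of_subset_of_card_le
    · intro x hx
      obtain ⟨g, hg, rfl⟩ := Finset.mem_image.1 hx
      exact hS g hg
    · rw [Finset.card_image_of_injective _ hinj]
  conv_rhs => rw [← himg]
  rw [Finset.sum_image (fun a _ b _ h => hinj h)]

open scoped Classical in
/-- On a set closed under coprime powers, the sum of `|χ|²` is at least the number of
non-zeros. -/
theorem card_nonzero_le_sum [Finite G] {χ : G → ℂ} (hχ : IsCharacter G χ) (S : Finset G)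
    (hS : ∀ g ∈ S, ∀ k : ℕ, k.Coprime (Nat.card G) → g ^ k ∈ S) :
    ((S.filter (fun g => χ g ≠ 0)).card : ℝ) ≤ ∑ g ∈ S, ‖χ g‖ ^ 2 := by
  set Γ := K (Nat.card G) ≃ₐ[ℚ] K (Nat.card G) with hΓ
  have hΓpos : (0 : ℝ) < Fintype.card Γ := by exact_mod_cast Fintype.card_pos
  have e1 : ∑ g ∈ S, ∑ τ : Γ, ‖χ (g ^ expo (Nat.card G) τ)‖ ^ 2 =
      (Fintype.card Γ : ℝ) * ∑ g ∈ S, ‖χ g‖ ^ 2 := by
    rw [Finset.sum_comm]
    have : ∀ τ : Γ, ∑ g ∈ S, ‖χ (g ^ expo (Nat.card G) τ)‖ ^ 2 = ∑ g ∈ S, ‖χ g‖ ^ 2 := by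
      intro τ
      exact sum_pow_coprime S (expo_coprime (Nat.card G) τ)
        (fun g hg => hS g hg _ (expo_coprime (Nat.card G) τ)) (fun g => ‖χ g‖ ^ 2)
    simp only [this, Finset.sum_const, Finset.card_univ, nsmul_eq_mul]
  have e2 : (Fintype.card Γ : ℝ) * ((S.filter (fun g => χ g ≠ 0)).card : ℝ) ≤
      ∑ g ∈ S, ∑ τ : Γ, ‖χ (g ^ expo (Nat.card G) τ)‖ ^ 2 := by
    have h3 : ∀ g ∈ S.filter (fun g => χ g ≠ 0), (Fintype.card Γ : ℝ) ≤
        ∑ τ : Γ, ‖χ (g ^ expo (Nat.card G) τ)‖ ^ 2 :=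
      fun g hg => card_le_sum_normSq hχ g (Finset.mem_filter.1 hg).2
    have h4 := Finset.card_nsmul_le_sum _ _ _ h3
    rw [nsmul_eq_mul, mul_comm] at h4
    refine h4.trans (Finset.sum_le_sum_of_subset_of_nonneg (Finset.filter_subset _ _) ?_)
    intro g _ _
    exact Finset.sum_nonneg fun τ _ => by positivity
  rw [e1] at e2
  exact le_of_mul_le_mul_left e2 hΓpos

end Cfsg.Agent.Lib.helper8_Zeros
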